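import Cfsg.Agent.H110.Fpr.Small
import Cfsg.Agent.H221.PPMain
import Cfsg.Agent.H398.FPR.PairMap_m3
import Mathlib
import Cfsg.Agent.H79.SimpleGen
import Cfsg.Agent.TitsThree.KExcBase
import Cfsg.Agent.LieClassical.SLGen
import Cfsg.Agent.S1027
import Cfsg.Agent.H452.FprCyc
import Cfsg.Agent.S1053
import Cfsg.Agent.H401.Final
import Cfsg.Agent.TitsThree.KSideU
import Cfsg.Agent.TitsThree.SpGen
import Cfsg.Agent.LieClassical.OrthFinite
import Cfsg.Agent.TitsThree.KSideO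
import Cfsg.Agent.H452.FprPsl2
import Cfsg.Agent.H162.GaussExcMain
import Cfsg.Agent.H956.FreeElt
import Cfsg.Agent.Lib.CoprimeCommutator
import Cfsg.Agent.S2540
import Cfsg.Agent.ChevalleyStructure.BruhatSplit
import Cfsg.Agent.Lib.FinFast
import Cfsg.Agent.S1024
import Cfsg.Agent.FastGrp
import Cfsg.Agent.Prune
set_option linter.all false

section
prune_inst 0x7ff0ecf90bb80ddfdfbf7e75a6d0cdfc38901fffa4dff94bffe061ff0bdf030009c5238509e010fc1e96401410a87803f97eeeffe26bdc7ffffd5ff41ffbee0fe5f6b508519488340f3c0ff603f0678e7f3fffffffffffffffffffffffffffaeffbfffffffff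

-- part: H110/Fpr/Lin
section
prune_inst 0x10000000000000
set_option linter.all false
open scoped Cfsg.Agent.FastGrp

/-!
# Linear groups: two opposite radicals
-/

set_option autoImplicit false

namespace Cfsg.Agent.H110.Fpr

open Cfsg.Agent.H398.FPR Cfsg.Agent.H409 Cfsg.Agent.H221.PP
open Module (Dual finrank)

/-- Abelian radicals. -/
theorem commFull_abel {G : Type*} [Group G] {R : Subgroup G} [Finite R] {y : G}
    (hcomm : ∀ a ∈ R, ∀ b ∈ R, a * b = b * a) (hn : ∀ a ∈ R, y * a * y⁻¹ ∈ R)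
    (hC : ∀ a ∈ R, y * a = a * y → a = 1) : CommFull R y := by
  intro R1 hR1 h
  let f : R → R := fun r => ⟨y * r * y⁻¹ * (r : G)⁻¹, R.mul_mem (hn r r.2) (R.inv_mem r.2)⟩
  have hf : Function.Injective f := by
    intro a b hab
    have h1 : y * a * y⁻¹ * (a : G)⁻¹ = y * b * y⁻¹ * (b : G)⁻¹ := congrArg Subtype.val hab
    have h2 := hC ((a : G) * (b : G)⁻¹) (R.mul_mem a.2 (R.inv_mem b.2)) ?_
    · exact Subtype.ext (mul_inv_eq_one.1 h2)
    · have h3 : y * (a : G) * y⁻¹ = y * b * y⁻¹ * (b : G)⁻¹ * a := by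
        rw [← h1]; group
      have h4 : (b : G)⁻¹ * a = a * (b : G)⁻¹ := hcomm _ (R.inv_mem b.2) _ a.2
      have h5 : y * b * y⁻¹ * (a * (b : G)⁻¹) = (a * (b : G)⁻¹) * (y * b * y⁻¹) :=
        hcomm _ (hn b b.2) _ (R.mul_mem a.2 (R.inv_mem b.2))
      calc y * ((a : G) * (b : G)⁻¹) = (y * a * y⁻¹) * (y * b * y⁻¹)⁻¹ * y := by group
        _ = y * b * y⁻¹ * ((b : G)⁻¹ * a) * (y * b * y⁻¹)⁻¹ * y := by rw [h3]; group
        _ = (a * (b : G)⁻¹) * (y * b * y⁻¹) * (y * b * y⁻¹)⁻¹ * y := by rw [h4, h5]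
        _ = _ := by group
  have hs := Finite.injective_iff_surjective.1 hf
  refine absurd hR1.le ?_
  intro _
  apply hR1.not_ge
  intro r hr
  obtain ⟨s, hs⟩ := hs ⟨r, hr⟩
  have h2 : y * s * y⁻¹ * (s : G)⁻¹ = r := congrArg Subtype.val hs
  rw [← h2]
  exact h s s.2

section

variable {F : Type*} [Field F] {V : Type*} [AddCommGroup V] [Module F V]

/-- The radical of the stabiliser of `A`. -/
def radL (A : Submodule F V) : Subgroup (SpecialLinearGroup F V) where
  carrier := {g | (∀ v ∈ A, g v = v) ∧ ∀ v, g v - v ∈ A}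
  mul_mem' := by
    rintro g h ⟨g1, g2⟩ ⟨h1, h2⟩
    refine ⟨fun v hv => ?_, fun v => ?_⟩
    · rw [mul_app, h1 v hv, g1 v hv]
    · rw [mul_app]
      have h3 : h v = v + (h v - v) := by abel
      rw [h3, app_add, g1 _ (h2 v)]
      have h4 : g v + (h v - v) - v = (g v - v) + (h v - v) := by abel
      rw [h4]
      exact A.add_mem (g2 v) (h2 v)
  one_mem' := ⟨fun v _ => rfl, fun v => by rw [one_app, sub_self]; exact A.zero_mem⟩
  inv_mem' := by
    rintro g ⟨g1, g2⟩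
    refine ⟨fun v hv => ?_, fun v => ?_⟩
    · apply app_inj g
      rw [app_inv_app, g1 v hv]
    · have h1 := g2 (g⁻¹ v)
      rw [app_inv_app] at h1
      have h2 := A.neg_mem h1
      rwa [neg_sub] at h2

theorem mem_radL {A : Submodule F V} {g : SpecialLinearGroup F V} :
    g ∈ radL A ↔ (∀ v ∈ A, g v = v) ∧ ∀ v, g v - v ∈ A := Iff.rfl

theorem radL_comm {A : Submodule F V} : ∀ a ∈ radL A, ∀ b ∈ radL A, a * b = b * a := by
  rintro g ⟨g1, g2⟩ h ⟨h1, h2⟩
  apply ext'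
  intro v
  rw [mul_app, mul_app]
  have h3 : h v = v + (h v - v) := by abel
  have h4 : g v = v + (g v - v) := by abel
  rw [h3, h4, app_add, app_add, g1 _ (h2 v), h1 _ (g2 v)]
  abel

theorem radL_conj {A : Submodule F V} {x : SpecialLinearGroup F V} (hx : ∀ v ∈ A, x v ∈ A)
    (hx' : ∀ v ∈ A, x⁻¹ v ∈ A) : ∀ a ∈ radL A, x * a * x⁻¹ ∈ radL A := by
  rintro g ⟨g1, g2⟩
  refine ⟨fun v hv => ?_, fun v => ?_⟩
  · rw [mul_app, mul_app, g1 _ (hx' v hv), app_inv_app]
  · rw [mul_app, mul_app]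
    have h1 : x (g (x⁻¹ v)) - v = x (g (x⁻¹ v) - x⁻¹ v) := by
      rw [app_sub, app_inv_app]
    rw [h1]
    exact hx _ (g2 _)

theorem tv_mem_radL {A : Submodule F V} {φ : Dual F V} {w : V} (hw : w ∈ A)
    (hφ : ∀ v ∈ A, φ v = 0) (h : φ w = 0) : tv φ w h ∈ radL A := by
  refine ⟨fun v hv => ?_, fun v => ?_⟩
  · rw [tv_apply, hφ v hv, zero_smul, add_zero]
  · rw [tv_apply, add_sub_cancel_left]
    exact A.smul_mem _ hw

theorem tv_add_left {φ ψ : Dual F V} {w : V} (h1 : φ w = 0) (h2 : ψ w = 0)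
    (h3 : (φ + ψ) w = 0) : tv (φ + ψ) w h3 = tv φ w h1 * tv ψ w h2 := by
  apply ext'
  intro v
  rw [mul_app, tv_apply, tv_apply, tv_apply, map_add, map_smul, h1, LinearMap.add_apply,
    smul_zero, add_zero]
  module

theorem tv_add_right {φ : Dual F V} {w w' : V} (h1 : φ w = 0) (h2 : φ w' = 0)
    (h3 : φ (w + w') = 0) : tv φ (w + w') h3 = tv φ w h1 * tv φ w' h2 := by
  apply ext'
  intro v
  rw [mul_app, tv_apply, tv_apply, tv_apply, map_add, map_smul, h2, smul_zero, add_zero]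
  module

/-- **Two opposite radicals generate.** -/
theorem lin_gen [FiniteDimensional F V] {A B : Submodule F V} (hAB : IsCompl A B) (hA0 : A ≠ ⊥)
    (hB0 : B ≠ ⊥) {H : Subgroup (SpecialLinearGroup F V)} (hA : radL A ≤ H) (hB : radL B ≤ H) :
    H = ⊤ := by
  -- vectors in one of the two
  have key : ∀ (A B : Submodule F V), IsCompl A B → B ≠ ⊥ → radL A ≤ H → radL B ≤ H →
      ∀ (φ : Dual F V) (u : V) (hu : φ u = 0), u ∈ A → tv φ u hu ∈ H := by
    intro A B hAB hB0 hA hB φ u hu huA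
    have hdec : ∀ v : V, ∃ a ∈ A, ∃ b ∈ B, v = a + b := by
      intro v
      have hv : v ∈ A ⊔ B := by rw [hAB.sup_eq_top]; trivial
      obtain ⟨a, ha, b, hb, h⟩ := Submodule.mem_sup.1 hv
      exact ⟨a, ha, b, hb, h.symm⟩
    -- step one
    have step : ∀ (ψ : Dual F V) (hψu : ψ u = 0), (∀ b ∈ B, ψ b = 0) → tv ψ u hψu ∈ H := by
      intro ψ hψu hψB
      obtain ⟨w, hwB, hw0⟩ := (Submodule.ne_bot_iff B).1 hB0
      have hwA : w ∉ A := fun h => hw0 (Submodule.disjoint_def.1 hAB.disjoint w h hwB)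
      obtain ⟨θ, hθw, hθA⟩ := exists_fun hwA
      have m1 : tv θ u (hθA u huA) ∈ H := hA (tv_mem_radL huA hθA _)
      have m2 : tv ψ w (hψB w hwB) ∈ H := hB (tv_mem_radL hwB hψB _)
      have e : tv ψ u hψu = (tv ψ w (hψB w hwB))⁻¹ * (tv θ u (hθA u huA) * tv ψ w (hψB w hwB) *
          (tv θ u (hθA u huA))⁻¹) := by
        have e' : tv ψ w (hψB w hwB) * (tv ψ u hψu * tv θ u (hθA u huA)) =
            tv θ u (hθA u huA) * tv ψ w (hψB w hwB) := by
          apply ext'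
          intro v
          simp only [mul_app, tv_apply, map_add, map_smul, hψu, hθw]
          module
        rw [← e']
        group
      rw [e]
      exact H.mul_mem (H.inv_mem m2) (H.mul_mem (H.mul_mem m1 m2) (H.inv_mem m1))
    -- decompose `φ`
    let φ1 : Dual F V := φ ∘ₗ A.projection B hAB
    let φ2 : Dual F V := φ ∘ₗ B.projection A hAB.symm
    have h1 : φ = φ1 + φ2 := by
      ext v
      obtain ⟨a, ha, b, hb, rfl⟩ := hdec v
      simp only [φ1, φ2, LinearMap.add_apply, LinearMap.comp_apply, map_add,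
        Submodule.projection_apply_of_mem_left hAB ha,
        Submodule.projection_apply_of_mem_left hAB.symm hb,
        Submodule.projection_apply_of_mem_right hAB hb,
        Submodule.projection_apply_of_mem_right hAB.symm ha, map_zero, add_zero, zero_add]
    have hφ1 : φ1 u = 0 := by
      simp only [φ1, LinearMap.comp_apply, Submodule.projection_apply_of_mem_left hAB huA, hu]
    have hφ2 : φ2 u = 0 := by
      simp only [φ2, LinearMap.comp_apply, Submodule.projection_apply_of_mem_right hAB.symm huA,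
        map_zero]
    have h12 : (φ1 + φ2) u = 0 := by rw [← h1]; exact hu
    have e : tv φ u hu = tv (φ1 + φ2) u h12 := tv_congr h1 rfl
    rw [e, tv_add_left hφ1 hφ2]
    refine H.mul_mem (step φ1 hφ1 fun b hb => ?_) (hA (tv_mem_radL huA (fun a ha => ?_) _))
    · simp only [φ1, LinearMap.comp_apply, Submodule.projection_apply_of_mem_right hAB hb,
        map_zero]
    · simp only [φ2, LinearMap.comp_apply, Submodule.projection_apply_of_mem_right hAB.symm ha,
        map_zero]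
  apply eq_top_of_tv
  intro φ w hw
  have hwm : w ∈ A ⊔ B := by rw [hAB.sup_eq_top]; trivial
  obtain ⟨a, ha, b, hb, rfl⟩ := Submodule.mem_sup.1 hwm
  by_cases ha0 : a = 0
  · have h1 : φ b = 0 := by rw [ha0, zero_add] at hw; exact hw
    have e : tv φ (a + b) hw = tv φ b h1 := tv_congr rfl (by rw [ha0, zero_add])
    rw [e]
    exact key B A hAB.symm hA0 hB hA φ b h1 hb
  · -- move `a + b` to `a`
    have haB : a ∉ B := fun h => ha0 (Submodule.disjoint_def.1 hAB.disjoint a ha h)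
    obtain ⟨θ, hθa, hθB⟩ := exists_fun haB
    have hθb : θ (-b) = 0 := by rw [map_neg, hθB b hb, neg_zero]
    have m1 : tv θ (-b) hθb ∈ H := hB (tv_mem_radL (B.neg_mem hb) hθB _)
    obtain ⟨g, hg⟩ : ∃ g, g = tv θ (-b) hθb := ⟨_, rfl⟩
    rw [← hg] at m1
    have hgw : g (a + b) = a := by
      rw [hg, tv_apply, map_add, hθa, hθB b hb]
      module
    have hginv : g⁻¹ a = a + b := by
      apply app_inj g
      rw [app_inv_app, hgw]
    let φ' : Dual F V := φ ∘ₗ ((g⁻¹ : SpecialLinearGroup F V).1 : V →ₗ[F] V)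
    have hφ' : ∀ v, φ' v = φ (g⁻¹ v) := fun v => rfl
    have h1 : φ' a = 0 := by rw [hφ', hginv, hw]
    have h2 := key A B hAB hB0 hA hB φ' a h1 ha
    have e : tv φ (a + b) hw = g⁻¹ * tv φ' a h1 * g := by
      apply ext'
      intro v
      rw [mul_app, mul_app, tv_apply, tv_apply, hφ', inv_app_app, app_add, inv_app_app, app_smul,
        hginv]
    rw [e]
    exact H.mul_mem (H.mul_mem (H.inv_mem m1) h2) m1

/-- **The row for the linear groups**, from an element. -/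
theorem row_lin [Finite V] [FiniteDimensional F V] {p j k : ℕ} (hp : p.Prime)
    {x : SpecialLinearGroup F V} (hx : x ^ p ^ k = 1) {A B : Submodule F V} (hAB : IsCompl A B)
    (hA0 : A ≠ ⊥) (hB0 : B ≠ ⊥) (hxA : ∀ v ∈ A, x v ∈ A) (hxB : ∀ v ∈ B, x v = v)
    (hsurj : ∀ v ∈ A, ∃ v' ∈ A, (x ^ p ^ j) v' - v' = v) (hpj : 2 ≤ (p - 1) * p ^ j) :
    FprRow (2 * p - 1) (p - 1) p (SpecialLinearGroup F V) := by
  classical
  have hfin0 : Finite (V ≃ₗ[F] V) := instFin
  have hfin : Finite (SpecialLinearGroup F V) := inferInstance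
  obtain ⟨y, hy⟩ : ∃ y, y = x ^ p ^ j := ⟨_, rfl⟩
  have hxn : ∀ n : ℕ, ∀ v ∈ A, (x ^ n) v ∈ A := by
    intro n
    induction n with
    | zero => intro v hv; exact hv
    | succ n ih => intro v hv; rw [pow_succ, mul_app]; exact ih _ (hxA v hv)
  have hxnB : ∀ n : ℕ, ∀ v ∈ B, (x ^ n) v = v := by
    intro n
    induction n with
    | zero => intro v hv; rfl
    | succ n ih => intro v hv; rw [pow_succ, mul_app, hxB v hv, ih v hv]
  have hinv : ∃ n : ℕ, x⁻¹ = x ^ n := by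
    refine ⟨p ^ k - 1, ?_⟩
    rw [inv_eq_iff_mul_eq_one, ← pow_succ', Nat.sub_add_cancel (Nat.one_le_pow _ _ hp.pos), hx]
  obtain ⟨n, hn⟩ := hinv
  have hAinv : ∀ v ∈ A, x⁻¹ v ∈ A := by rw [hn]; exact hxn n
  have hBinv : ∀ v ∈ B, x⁻¹ v ∈ B := by
    intro v hv
    rw [hn, hxnB n v hv]
    exact hv
  have hxB' : ∀ v ∈ B, x v ∈ B := fun v hv => by rw [hxB v hv]; exact hv
  have hyB : ∀ v ∈ B, y v = v := by rw [hy]; exact hxnB _
  have hyA : ∀ v ∈ A, y v ∈ A := by rw [hy]; exact hxn _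
  rw [← hy] at hsurj
  -- no fixed points on `A`
  have hfpf : ∀ v ∈ A, y v = v → v = 0 := by
    let f : A → A := fun v => ⟨y v - v, A.sub_mem (hyA v v.2) v.2⟩
    have hf : Function.Surjective f := by
      intro v
      obtain ⟨v', hv', h⟩ := hsurj v v.2
      exact ⟨⟨v', hv'⟩, Subtype.ext h⟩
    have hfi := Finite.injective_iff_surjective.2 hf
    intro v hv hyv
    have h1 : f ⟨v, hv⟩ = f 0 := by
      apply Subtype.ext
      change y v - v = y (0 : V) - 0
      rw [hyv, app_zero, sub_self, sub_zero]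
    exact congrArg Subtype.val (hfi h1)
  have hdec : ∀ v : V, ∃ a ∈ A, ∃ b ∈ B, v = a + b := by
    intro v
    have hv : v ∈ A ⊔ B := by rw [hAB.sup_eq_top]; trivial
    obtain ⟨a, ha, b, hb, h⟩ := Submodule.mem_sup.1 hv
    exact ⟨a, ha, b, hb, h.symm⟩
  have hnilp : ∀ A : Submodule F V, Group.IsNilpotent (radL A) := by
    intro A
    letI : CommGroup (radL A) := { (inferInstance : Group (radL A)) with
      mul_comm := fun a b => Subtype.ext
        (show (a : SpecialLinearGroup F V) * b = b * a from radL_comm _ a.2 _ b.2) }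
    exact CommGroup.isNilpotent
  have conjA : ∀ a ∈ radL A, x * a * x⁻¹ ∈ radL A := radL_conj hxA hAinv
  have conjB : ∀ a ∈ radL B, x * a * x⁻¹ ∈ radL B := radL_conj hxB' hBinv
  have nA : x ∈ Subgroup.normalizer (radL A : Set (SpecialLinearGroup F V)) :=
    mem_normalizer_of_conj conjA
  have nB : x ∈ Subgroup.normalizer (radL B : Set (SpecialLinearGroup F V)) :=
    mem_normalizer_of_conj conjB
  have nyA : y ∈ Subgroup.normalizer (radL A : Set (SpecialLinearGroup F V)) := by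
    rw [hy]; exact Subgroup.pow_mem _ nA _
  have nyB : y ∈ Subgroup.normalizer (radL B : Set (SpecialLinearGroup F V)) := by
    rw [hy]; exact Subgroup.pow_mem _ nB _
  have pA : Pair p j x (radL A) := by
    refine ⟨hnilp A, nA, ?_⟩
    rw [← hy]
    refine commFull_abel radL_comm
      (fun a ha => (Subgroup.mem_normalizer_iff.1 nyA a).1 ha) ?_
    rintro g ⟨g1, g2⟩ hc
    have hgB : ∀ b ∈ B, g b = b := by
      intro b hb
      have h1 : y (g b) = g b := by
        rw [← mul_app, hc, mul_app, hyB b hb]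
      have h2 := hfpf (g b - b) (g2 b) (by rw [app_sub, h1, hyB b hb])
      exact sub_eq_zero.1 h2
    apply ext'
    intro v
    obtain ⟨a, ha, b, hb, rfl⟩ := hdec v
    rw [app_add, g1 a ha, hgB b hb]
    rfl
  have pB : Pair p j x (radL B) := by
    refine ⟨hnilp B, nB, ?_⟩
    rw [← hy]
    refine commFull_abel radL_comm
      (fun a ha => (Subgroup.mem_normalizer_iff.1 nyB a).1 ha) ?_
    rintro g ⟨g1, g2⟩ hc
    have hgA : ∀ a ∈ A, g a = a := by
      intro a ha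
      obtain ⟨a', ha', h⟩ := hsurj a ha
      rw [← h, app_sub]
      have h1 : g (y a') = y (g a') := by rw [← mul_app, ← hc, mul_app]
      have h2 : g a' = a' + (g a' - a') := by abel
      have h3 : y (g a') = y a' + (g a' - a') := by
        conv_lhs => rw [h2]
        rw [app_add, hyB _ (g2 a')]
      rw [h1, h3]
      abel
    apply ext'
    intro v
    obtain ⟨a, ha, b, hb, rfl⟩ := hdec v
    rw [app_add, hgA a ha, g1 b hb]
    rfl
  have hrow := row_of_gen (K := (⊤ : Subgroup (SpecialLinearGroup F V))) hp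
    (Subgroup.mem_top x) hx (fun i : Bool => if i then radL A else radL B) (fun i => le_top)
    (by
      intro i
      cases i
      · simpa using pB
      · simpa using pA) 1 one_pos (by
      intro J hJ
      have hJu : J = Set.univ := by
        rw [Set.eq_univ_iff_ncard, Nat.card_eq_fintype_card]
        have h1 : J.ncard ≤ Nat.card Bool := Set.ncard_le_card J
        rw [Nat.card_eq_fintype_card] at h1
        omega
      subst hJu
      rw [top_le_iff]
      apply lin_gen hAB hA0 hB0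
      · intro g hg
        apply Subgroup.subset_closure
        right
        exact Set.mem_iUnion₂.2 ⟨true, trivial, by simpa using hg⟩
      · intro g hg
        apply Subgroup.subset_closure
        right
        exact Set.mem_iUnion₂.2 ⟨false, trivial, by simpa using hg⟩)
    (by rw [Fintype.card_bool, mul_one]; exact hpj)
  exact hrow.of_mulEquiv hp Subgroup.topEquiv

end

end Cfsg.Agent.H110.Fpr

private theorem dce_39805aef1160 : _root_.True := by
  try have : _root_.True := by simp only [_root_.Cfsg.Agent.H221.PP.tv.congr_simp]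
  exact _root_.True.intro
end

-- part: H110/Fpr/Master
section
prune_inst 0xf0304b007f00000000188010f0001c76fe0000020048000028a00f020f898c428d028060be302414008080c44034004810100000000000000000040001180180108112048048a108000080000000000000000000000000000000000000010000000000000
set_option linter.all false
open scoped Cfsg.Agent.FastGrp

-- part: H110/Fpr/Data
section
/-!
# Radical data and the two ratios
-/

set_option autoImplicit false
open Subgroup MulAction

namespace Cfsg.Agent.H110.Fpr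

open Cfsg.Agent.H398.FPR Cfsg.Agent.H409 Cfsg.Agent.H435.Fpr
open Cfsg.Agent.TitsThree.Siegel Cfsg.Agent.TitsThree.SiegelGen

section Abs

variable {A : Type*} [Group A]

/-- `m` radicals (`r`-groups `R i` with `[R i, x ^ p ^ j] = R i`) which generate `K` with the
`p`-element `x`. -/
def RadData (r p j m : ℕ) (K : Subgroup A) : Prop :=
  ∃ (x : A) (k : ℕ) (ι : Type) (_ : Fintype ι) (R : ι → Subgroup A), x ∈ K ∧ x ^ p ^ k = 1 ∧
    (∀ i, R i ≤ K) ∧ (∀ i, Pair p j x (R i)) ∧ (∀ i, IsPGroup r (R i)) ∧ Fintype.card ι ≤ m ∧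
    K ≤ closure ({x} ∪ ⋃ i, (R i : Set A))

theorem RadData.mono {r p j m m' : ℕ} {K : Subgroup A} (h : RadData r p j m K) (hm : m ≤ m') :
    RadData r p j m' K := by
  obtain ⟨x, k, ι, i1, R, h1, h2, h3, h4, h5, h6, h7⟩ := h
  exact ⟨x, k, ι, i1, R, h1, h2, h3, h4, h5, h6.trans hm, h7⟩

/-- The ratio of S3569. -/
theorem RadData.row {r p j m : ℕ} {K : Subgroup A} [Finite K] (hp : p.Prime)
    (h : RadData r p j m K) (hm : m ≤ (p - 1) * p ^ j) : FprRow (2 * p - 1) (p - 1) p K := by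
  obtain ⟨x, k, ι, i1, R, h1, h2, h3, h4, h5, h6, h7⟩ := h
  refine row_of_gen hp h1 h2 R h3 h4 1 one_pos ?_ (by rw [mul_one]; exact h6.trans hm)
  intro J hJ
  have hJu : J = Set.univ := by
    refine Set.eq_of_subset_of_ncard_le (Set.subset_univ J) ?_ (Set.toFinite _)
    rw [Set.ncard_univ, Nat.card_eq_fintype_card]
    omega
  subst hJu
  refine h7.trans (closure_mono ?_)
  apply Set.union_subset_union_right
  intro z hz
  rw [Set.mem_iUnion] at hz
  obtain ⟨i, hi⟩ := hz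
  exact Set.mem_iUnion₂.2 ⟨i, trivial, hi⟩

theorem closure_subgroupOf_eq_top {K : Subgroup A} {x : A} (hx : x ∈ K) {ι : Type*}
    {R : ι → Subgroup A} (hR : ∀ i, R i ≤ K) (h : K ≤ closure ({x} ∪ ⋃ i, (R i : Set A))) :
    closure ({(⟨x, hx⟩ : K)} ∪ ⋃ i, ((R i).subgroupOf K : Set K)) = ⊤ := by
  rw [eq_top_iff]
  intro g _
  have h1 : ({x} ∪ ⋃ i, (R i : Set A)) =
      K.subtype '' ({(⟨x, hx⟩ : K)} ∪ ⋃ i, ((R i).subgroupOf K : Set K)) := by
    ext a
    constructor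
    · rintro (ha | ha)
      · rw [Set.mem_singleton_iff] at ha
        subst ha
        exact ⟨⟨a, hx⟩, Or.inl rfl, rfl⟩
      · rw [Set.mem_iUnion] at ha
        obtain ⟨i, hi⟩ := ha
        exact ⟨⟨a, hR i hi⟩, Or.inr (Set.mem_iUnion.2 ⟨i, hi⟩), rfl⟩
    · rintro ⟨b, hb | hb, rfl⟩
      · rw [Set.mem_singleton_iff] at hb
        left
        rw [hb]
        rfl
      · rw [Set.mem_iUnion] at hb
        obtain ⟨i, hi⟩ := hb
        exact Or.inr (Set.mem_iUnion.2 ⟨i, hi⟩)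
  rw [h1, ← MonoidHom.map_closure] at h
  obtain ⟨b, hb, hbg⟩ := h g.2
  have h2 : b = g := Subtype.ext hbg
  rwa [h2] at hb

/-- The ratio of S3578. -/
theorem RadData.sharp {r p m : ℕ} {K : Subgroup A} [Finite K] (hp : p.Prime) (hr : r.Prime)
    (h : RadData r p 0 m K) (hm : 0 < m)
    (hM : ∀ t : ℕ, t ≠ 0 → r ^ t ≡ 1 [MOD p] → m * p + 1 ≤ r ^ t) : FprRow (p + 1) 1 p K := by
  obtain ⟨x, k, ι, i1, R, h1, h2, h3, h4, h5, h6, h7⟩ := h
  obtain ⟨x', hx'⟩ : ∃ x' : K, x' = ⟨x, h1⟩ := ⟨_, rfl⟩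
  have hx'p : x' ^ p ^ k = 1 := by rw [hx']; exact Subtype.ext h2
  have hG := T3M_uGood (M := m * p + 1) (by omega) (x := x') (fun i => (R i).subgroupOf K)
    (fun i => by
      have h8 : IsPGroup r ((R i).subgroupOf K) :=
        (h5 i).of_injective (subgroupOfEquivOfLe (h3 i)).toMonoidHom
          (subgroupOfEquivOfLe (h3 i)).injective
      refine PairM.of_pair hp hr hx'p h8 ?_ hM
      rw [hx']
      exact pair_subgroupOf (h3 i) h1 (h4 i))
    (by rw [hx']; exact closure_subgroupOf_eq_top h1 h3 h7)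
  obtain ⟨n, -, hn⟩ := (Nat.dvd_prime_pow hp).1 (orderOf_dvd_of_pow_eq_one hx'p)
  intro H hH
  refine ⟨x', ⟨n, hn⟩, ?_⟩
  have h9 := hG H hH
  obtain ⟨f, hf⟩ : ∃ f, f = Nat.card (fixedBy (K ⧸ H) x') := ⟨_, rfl⟩
  obtain ⟨N, hN⟩ : ∃ N, N = Nat.card (K ⧸ H) := ⟨_, rfl⟩
  obtain ⟨c, hc⟩ : ∃ c, c = Fintype.card ι := ⟨_, rfl⟩
  rw [← hf, ← hN, ← hc] at h9
  rw [← hc] at h6
  rw [← hf, ← hN, one_mul]
  have e1 : m * p + 1 + c - 1 = m * p + c := by omega
  rw [e1] at h9
  have h10 : 0 < m * p := Nat.mul_pos hm hp.pos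
  rcases Nat.eq_zero_or_pos c with h0 | h0
  · rw [h0, zero_mul, add_zero] at h9
    have : f = 0 := by
      rcases Nat.eq_zero_or_pos f with h | h
      · exact h
      · exact absurd (Nat.mul_pos h10 h) (by omega)
    rw [this, mul_zero]
    exact Nat.zero_le _
  · apply Nat.le_of_mul_le_mul_left _ h0
    calc c * ((p + 1) * f) = (c * p + c) * f := by ring
      _ ≤ (m * p + c) * f := by
          apply Nat.mul_le_mul_right
          exact Nat.add_le_add_right (Nat.mul_le_mul_right _ h6) _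
      _ ≤ c * N := h9

end Abs

section

variable {F : Type*} [Field F] {V : Type*} [AddCommGroup V] [Module F V]
variable {H : HForm F V} {P P₁ : PQ H}

theorem isPGroup_of_le_flagU {r : ℕ} [hr : Fact r.Prime] [CharP F r]
    {A B : Submodule F V} (hAB : A ≤ B) {R : Subgroup (V ≃ₗ[F] V)}
    (hR : R ≤ flagU A B hAB) : IsPGroup r R := by
  rintro ⟨g, hg⟩
  obtain ⟨k, hk⟩ := flagU_isPGroup (r := r) A B hAB ⟨g, hR hg⟩
  have hk' : g ^ r ^ k = 1 := congrArg Subtype.val hk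
  exact ⟨k, Subtype.ext hk'⟩

/-- **Type IV**: several radicals `[U_T, x]`. -/
theorem data_IV [Finite V] {r : ℕ} [Fact r.Prime] [CharP F r] {p j k : ℕ}
    {x : V ≃ₗ[F] V} (hxK : x ∈ SG P) (hx : x ^ p ^ k = 1)
    (hx₁ : ∀ w c, P₁.ok w c → P₁.ok (x w) c) (hPP : ∀ w c, P₁.ok w c → P.ok w c)
    {V1 V2 : Submodule F V} (htop : V1 ⊔ V2 = ⊤) (h12 : ∀ m ∈ V1, ∀ v ∈ V2, H.h m v = 0)
    (hx1 : ∀ w ∈ V1, x w ∈ V1) (hx2 : ∀ w ∈ V2, x w = w)
    (hsurj : ∀ w ∈ V1, ∃ w' ∈ V1, (x ^ p ^ j) w' - w' = w)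
    (hlam : ∀ c, P₁.ok 0 c → ∃ m, c = m - H.ε⁻¹ * H.σ m)
    {ι : Type} [Fintype ι] (T : ι → Submodule F V)
    (hT2 : ∀ i, T i ≤ V2) (hTs : ∀ i, ∀ u ∈ T i, P.ok u 0)
    (hTT : ∀ i, ∀ u ∈ T i, ∀ u' ∈ T i, H.h u u' = 0) (hspan : V2 ≤ ⨆ i, T i)
    (hpair : ∃ i, ∃ u ∈ T i, ∃ i', ∃ u' ∈ T i', H.h u u' ≠ 0)
    {a a' : V} (ha : a ∈ V1) (has : P₁.ok a 0) (ha' : a' ∈ V1) (has' : P₁.ok a' 0)
    (haa' : H.h a' a ≠ 0)
    (h4 : ∀ D : Subgroup (V ≃ₗ[F] V), (∀ i, rad P₁ (T i) V1 ≤ D) →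
      Zt P D {0} a ∧ Zt P D {0} a')
    (hVnd : ∀ v : V, P.ok v 0 → v ≠ 0 → ∃ w, H.h v w ≠ 0) :
    RadData r p j (Fintype.card ι) (SG P) := by
  obtain ⟨hxi, hxok, -⟩ := SG_iso hxK
  have hT1 : ∀ i, ∀ u ∈ T i, ∀ w ∈ V1, H.h u w = 0 := fun i u hu w hw =>
    H.orth_symm (h12 w hw u (hT2 i hu))
  refine ⟨x, k, ι, inferInstance, fun i => rad P₁ (T i) V1, hxK, hx, ?_, ?_, ?_, le_rfl, ?_⟩
  · intro i
    apply rad_le
    intro u w c hu hw huT hwW hwc
    exact sie_mem_SG P hu hw (hTs i u huT) (hPP w c hwc)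
  · intro i
    obtain ⟨A, B, hAB, hle⟩ := rad_le_flagU (P₁ := P₁) (hTT i) (hT1 i)
    refine ⟨nilpotent_of_le_flagU (r := r) hAB hle, ?_, ?_⟩
    · apply mem_normalizer_of_conj
      exact rad_conj hxi hx₁ (fun u hu => by rw [hx2 u (hT2 i hu)]; exact hu) hx1
    · refine rad_commFull (isIso_pow hxi _) (pow_ok hx₁ _) ?_ (pow_mem_sub hx1 _) hsurj (hT1 i)
        hlam ⟨a', ha', a, ha, haa'⟩
      intro u hu
      exact pow_fix hx2 _ u (hT2 i hu)
  · intro i
    obtain ⟨A, B, hAB, hle⟩ := rad_le_flagU (P₁ := P₁) (hTT i) (hT1 i)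
    exact isPGroup_of_le_flagU (r := r) hAB hle
  · obtain ⟨D, hD⟩ : ∃ D, D = Subgroup.closure
      ({x} ∪ ⋃ i, ((rad P₁ (T i) V1 : Subgroup (V ≃ₗ[F] V)) : Set (V ≃ₗ[F] V))) := ⟨_, rfl⟩
    rw [← hD]
    have hDi : ∀ i, rad P₁ (T i) V1 ≤ D := by
      intro i g hg
      rw [hD]
      apply Subgroup.subset_closure
      right
      rw [Set.mem_iUnion]
      exact ⟨i, hg⟩
    obtain ⟨i, u, hu, i', u', hu', huu'⟩ := hpair
    have hRt : ∀ b ∈ V1, P₁.ok b 0 → ∀ u ∈ ⋃ i, (T i : Set V), Rt H D u b := by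
      intro b hb hbs u hu s huu hub
      rw [Set.mem_iUnion] at hu
      obtain ⟨i, hu⟩ := hu
      exact hDi i (sie_mem_rad huu hub hu (V1.smul_mem _ hb) (P₁.sing_smul hbs s))
    refine radIV_gen (V1 := V1) (V2 := V2) (S := ⋃ i, (T i : Set V)) htop h12 ?_ ?_ ?_ ha
      (hPP _ _ has) ha' (hPP _ _ has') haa' (hRt a ha has) (hRt a' ha' has') ?_ (h4 D hDi).1
      (h4 D hDi).2 ?_ hVnd
    · intro u hu
      rw [Set.mem_iUnion] at hu
      obtain ⟨i, hu⟩ := hu
      exact hTs i u hu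
    · intro u hu
      rw [Set.mem_iUnion] at hu
      obtain ⟨i, hu⟩ := hu
      exact hT2 i hu
    · refine hspan.trans (iSup_le fun i => ?_)
      intro u hu
      exact Submodule.subset_span (Set.mem_iUnion.2 ⟨i, hu⟩)
    · intro u hu m hm
      rw [Set.mem_iUnion] at hu
      obtain ⟨i, hu⟩ := hu
      obtain ⟨c, hc⟩ := P₁.ex m
      exact ⟨c, hTT i u hu u hu, hT1 i u hu m hm, hPP _ _ hc,
        hDi i (sie_mem_rad _ _ hu hm hc)⟩
    · exact ⟨u, Set.mem_iUnion.2 ⟨i, hu⟩, u', Set.mem_iUnion.2 ⟨i', hu'⟩, huu'⟩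

/-- **Type IV** when `Λ` is minimal. -/
theorem data_IV_min [Finite V] {r : ℕ} [Fact r.Prime] [CharP F r] {p j k : ℕ}
    {x : V ≃ₗ[F] V} (hxK : x ∈ SG P) (hx : x ^ p ^ k = 1)
    {V1 V2 : Submodule F V} (htop : V1 ⊔ V2 = ⊤) (h12 : ∀ m ∈ V1, ∀ v ∈ V2, H.h m v = 0)
    (hx1 : ∀ w ∈ V1, x w ∈ V1) (hx2 : ∀ w ∈ V2, x w = w)
    (hsurj : ∀ w ∈ V1, ∃ w' ∈ V1, (x ^ p ^ j) w' - w' = w)
    (hlam : ∀ c, P.ok 0 c → ∃ m, c = m - H.ε⁻¹ * H.σ m)
    {ι : Type} [Fintype ι] (T : ι → Submodule F V)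
    (hT2 : ∀ i, T i ≤ V2) (hTs : ∀ i, ∀ u ∈ T i, P.ok u 0)
    (hTT : ∀ i, ∀ u ∈ T i, ∀ u' ∈ T i, H.h u u' = 0) (hspan : V2 ≤ ⨆ i, T i)
    (hpair : ∃ i, ∃ u ∈ T i, ∃ i', ∃ u' ∈ T i', H.h u u' ≠ 0)
    {a a' : V} (ha : a ∈ V1) (has : P.ok a 0) (ha' : a' ∈ V1) (has' : P.ok a' 0)
    (haa' : H.h a' a ≠ 0)
    (hVnd : ∀ v : V, P.ok v 0 → v ≠ 0 → ∃ w, H.h v w ≠ 0) :
    RadData r p j (Fintype.card ι) (SG P) := by
  obtain ⟨hxi, hxok, -⟩ := SG_iso hxK
  refine data_IV hxK hx hxok (fun _ _ h => h) htop h12 hx1 hx2 hsurj hlam T hT2 hTs hTT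
    hspan hpair ha has ha' has' haa' ?_ hVnd
  intro D hD
  obtain ⟨i, u, hu, i', u', hu', huu'⟩ := hpair
  have hRt : ∀ b ∈ V1, P.ok b 0 → ∀ i, ∀ u ∈ T i, Rt H D b u := by
    intro b hb hbs i u hu
    have hub : H.h u b = 0 := H.orth_symm (h12 b hb u (hT2 i hu))
    refine Rt.symm (hTT i u hu u hu) (P.iso hbs) hub ?_
    intro s huu hub'
    exact hD i (sie_mem_rad huu hub' hu (V1.smul_mem _ hb) (P.sing_smul hbs s))
  exact ⟨zt_zero_of_comm (h12 a ha u (hT2 i hu)) (h12 a ha u' (hT2 i' hu')) huu'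
      (hRt a ha has i u hu) (hRt a ha has i' u' hu') hlam,
    zt_zero_of_comm (h12 a' ha' u (hT2 i hu)) (h12 a' ha' u' (hT2 i' hu')) huu'
      (hRt a' ha' has' i u hu) (hRt a' ha' has' i' u' hu') hlam⟩

/-- **Type I.** -/
theorem data_I [Finite V] {r : ℕ} [Fact r.Prime] [CharP F r] {p j k : ℕ}
    {x : V ≃ₗ[F] V} (hxK : x ∈ SG P) (hx : x ^ p ^ k = 1)
    {T T' M : Submodule F V} (htop : T ⊔ M ⊔ T' = ⊤)
    (hxT : ∀ w ∈ T, x w ∈ T) (hxT' : ∀ w ∈ T', x w ∈ T') (hxM : ∀ w ∈ M, x w = w)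
    (hsurj : ∀ w ∈ T, ∃ w' ∈ T, (x ^ p ^ j) w' - w' = w)
    (hsurj' : ∀ w ∈ T', ∃ w' ∈ T', (x ^ p ^ j) w' - w' = w)
    (hTs : ∀ u ∈ T, P.ok u 0) (hTT : ∀ u ∈ T, ∀ u' ∈ T, H.h u u' = 0)
    (hTs' : ∀ u ∈ T', P.ok u 0) (hTT' : ∀ u ∈ T', ∀ u' ∈ T', H.h u u' = 0)
    (hTM : ∀ u ∈ T, ∀ w ∈ M, H.h u w = 0) (hTM' : ∀ u ∈ T', ∀ w ∈ M, H.h u w = 0)
    (hnd : ∃ m ∈ M, ∃ m' ∈ M, H.h m m' ≠ 0)
    (hpair : ∃ p ∈ T, ∃ r ∈ T', H.h r p ≠ 0)
    (hVnd : ∀ v : V, P.ok v 0 → v ≠ 0 → ∃ w, H.h v w ≠ 0) :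
    RadData r p j 2 (SG P) := by
  obtain ⟨hxi, hxok, -⟩ := SG_iso hxK
  have aux : ∀ T : Submodule F V, (∀ w ∈ T, x w ∈ T) →
      (∀ w ∈ T, ∃ w' ∈ T, (x ^ p ^ j) w' - w' = w) → (∀ u ∈ T, P.ok u 0) →
      (∀ u ∈ T, ∀ u' ∈ T, H.h u u' = 0) → (∀ u ∈ T, ∀ w ∈ M, H.h u w = 0) →
      rad P T (T ⊔ M) ≤ SG P ∧ Pair p j x (rad P T (T ⊔ M)) ∧
        IsPGroup r (rad P T (T ⊔ M)) := by
    intro T hxT hsurj hTs hTT hTM
    have hTW : ∀ u ∈ T, ∀ w ∈ T ⊔ M, H.h u w = 0 := by
      intro u hu w hw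
      obtain ⟨t, ht, m, hm, rfl⟩ := Submodule.mem_sup.1 hw
      rw [H.add_right, hTT u hu t ht, hTM u hu m hm, add_zero]
    obtain ⟨A, B, hAB, hle⟩ := rad_le_flagU (P₁ := P) hTT hTW
    refine ⟨?_, ⟨nilpotent_of_le_flagU (r := r) hAB hle, ?_, ?_⟩,
      isPGroup_of_le_flagU (r := r) hAB hle⟩
    · apply rad_le
      intro u w c hu hw huT hwW hwc
      exact sie_mem_SG P hu hw (hTs u huT) hwc
    · apply mem_normalizer_of_conj
      refine rad_conj hxi hxok hxT ?_
      intro w hw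
      obtain ⟨t, ht, m, hm, rfl⟩ := Submodule.mem_sup.1 hw
      rw [map_add, hxM m hm]
      exact Submodule.add_mem_sup (hxT t ht) hm
    · exact radI_commFull (isIso_pow hxi _) (pow_ok hxok _) (pow_mem_sub hxT _)
        (pow_fix hxM _) hsurj hTs hTT hTM hnd
  obtain ⟨a1, a2, a3⟩ := aux T hxT hsurj hTs hTT hTM
  obtain ⟨b1, b2, b3⟩ := aux T' hxT' hsurj' hTs' hTT' hTM'
  refine ⟨x, k, Bool, inferInstance, fun b : Bool => cond b (rad P T (T ⊔ M))
    (rad P T' (T' ⊔ M)), hxK, hx, ?_, ?_, ?_, by rw [Fintype.card_bool], ?_⟩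
  · rintro (_ | _)
    · exact b1
    · exact a1
  · rintro (_ | _)
    · exact b2
    · exact a2
  · rintro (_ | _)
    · exact b3
    · exact a3
  · refine radI_gen (T := T) (T' := T') (M := M) ?_ ?_ htop hTs hTT hTs' hTT' hTM hTM' hnd
      hpair hVnd
    · intro g hg
      apply Subgroup.subset_closure
      right
      rw [Set.mem_iUnion]
      exact ⟨true, hg⟩
    · intro g hg
      apply Subgroup.subset_closure
      right
      rw [Set.mem_iUnion]
      exact ⟨false, hg⟩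

end

end Cfsg.Agent.H110.Fpr
end

-- part: H110/Fpr/Irr
section
/-!
# Minimal invariant subspaces of an element of prime order
-/

set_option autoImplicit false

namespace Cfsg.Agent.H110.Fpr

open Cfsg.Agent.TitsThree.Siegel Cfsg.Agent.TitsThree.SiegelGen

variable {F : Type*} [Field F] {V : Type*} [AddCommGroup V] [Module F V]

/-- invariant subspaces -/
def Inv (x : V ≃ₗ[F] V) (W : Submodule F V) : Prop := ∀ w ∈ W, x w ∈ W

/-- minimal invariant subspaces -/
structure IsMin (x : V ≃ₗ[F] V) (T : Submodule F V) : Prop where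
  inv : Inv x T
  ne : T ≠ ⊥
  min : ∀ S : Submodule F V, S ≤ T → Inv x S → S ≠ ⊥ → S = T

theorem Inv.inf {x : V ≃ₗ[F] V} {W W' : Submodule F V} (h : Inv x W) (h' : Inv x W') :
    Inv x (W ⊓ W') := fun w hw => ⟨h w hw.1, h' w hw.2⟩

theorem Inv.sup {x : V ≃ₗ[F] V} {W W' : Submodule F V} (h : Inv x W) (h' : Inv x W') :
    Inv x (W ⊔ W') := by
  intro w hw
  obtain ⟨a, ha, b, hb, rfl⟩ := Submodule.mem_sup.1 hw
  rw [map_add]
  exact Submodule.add_mem_sup (h a ha) (h' b hb)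

theorem Inv.pow {x : V ≃ₗ[F] V} {W : Submodule F V} (h : Inv x W) (n : ℕ) : Inv (x ^ n) W := by
  induction n with
  | zero => intro w hw; exact hw
  | succ n ih => intro w hw; rw [pow_succ]; exact ih _ (h w hw)

theorem Inv.symm_mem [Finite V] {x : V ≃ₗ[F] V} {W : Submodule F V} (h : Inv x W) :
    ∀ w ∈ W, ∃ w' ∈ W, x w' = w := by
  intro w hw
  let f : W → W := fun v => ⟨x v, h v v.2⟩
  have hf : Function.Injective f := fun a b hab => Subtype.ext (x.injective (congrArg Subtype.val hab))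
  obtain ⟨v, hv⟩ := (Finite.injective_iff_surjective.1 hf) ⟨w, hw⟩
  exact ⟨v, v.2, congrArg Subtype.val hv⟩

theorem exists_isMin [Finite V] {x : V ≃ₗ[F] V} {W : Submodule F V} (hW : Inv x W)
    (h0 : W ≠ ⊥) : ∃ T ≤ W, IsMin x T := by
  have : Finite (Submodule F V) := Finite.of_injective (fun S : Submodule F V => (S : Set V))
    SetLike.coe_injective
  obtain ⟨T, hT, hmin⟩ := Set.Finite.exists_minimal
    (s := {S : Submodule F V | S ≤ W ∧ Inv x S ∧ S ≠ ⊥}) (Set.toFinite _) ⟨W, le_rfl, hW, h0⟩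
  refine ⟨T, hT.1, hT.2.1, hT.2.2, fun S hS hSi hS0 => ?_⟩
  exact le_antisymm hS (hmin ⟨hS.trans hT.1, hSi, hS0⟩ hS)

open Polynomial in
theorem exists_compl [Finite V] {p : ℕ} (hp : p.Prime) (hpF : (p : F) ≠ 0) {x : V ≃ₗ[F] V}
    (hx : x ^ p = 1) {W1 W : Submodule F V} (h1 : Inv x W1) (h : Inv x W) (hle : W1 ≤ W) :
    ∃ C ≤ W, Inv x C ∧ W1 ⊓ C = ⊥ ∧ W1 ⊔ C = W := by
  have hsep : (X ^ p - 1 : F[X]).Separable := (X_pow_sub_one_separable_iff).2 hpF
  have hpow : ∀ n : ℕ, ((x : V →ₗ[F] V) : Module.End F V) ^ n =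
      ((x ^ n : V ≃ₗ[F] V) : V →ₗ[F] V) := by
    intro n
    induction n with
    | zero => rfl
    | succ n ih => rw [pow_succ, ih, pow_succ]; rfl
  have hss : Module.End.IsSemisimple ((x : V →ₗ[F] V) : Module.End F V) := by
    apply Module.End.isSemisimple_of_squarefree_aeval_eq_zero hsep.squarefree
    rw [map_sub, map_pow, aeval_X, map_one, hpow, hx]
    ext v
    simp
  rw [Module.End.isSemisimple_iff] at hss
  obtain ⟨C0, hC0, hcompl⟩ := hss W1 h1
  refine ⟨C0 ⊓ W, inf_le_right, Inv.inf hC0 h, ?_, ?_⟩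
  · rw [← inf_assoc, hcompl.inf_eq_bot, bot_inf_eq]
  · rw [← sup_inf_assoc_of_le _ hle, hcompl.sup_eq_top, top_inf_eq]

theorem IsMin.inf_eq {x : V ≃ₗ[F] V} {T S : Submodule F V} (hT : IsMin x T) (hS : Inv x S) :
    T ⊓ S = ⊥ ∨ T ≤ S := by
  by_cases h : T ⊓ S = ⊥
  · exact Or.inl h
  · right
    have := hT.min _ inf_le_left (hT.inv.inf hS) h
    rw [← this]
    exact inf_le_right

variable {H : HForm F V}

theorem perp_inv {x : V ≃ₗ[F] V} (hxi : H.IsIso x) [Finite V] {W : Submodule F V}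
    (hW : Inv x W) : Inv x (perp H (W : Set V)) := by
  intro v hv u hu
  obtain ⟨u', hu', rfl⟩ := hW.symm_mem u hu
  rw [hxi]
  exact hv u' hu'

/-- Orthogonal decomposition for nondegenerate subspaces. -/
theorem perp_sup [Finite V] {W : Submodule F V}
    (hnd : ∀ v ∈ W, v ≠ 0 → ∃ w ∈ W, H.h v w ≠ 0) : W ⊔ perp H (W : Set V) = ⊤ := by
  have : Module.Finite F V := Module.Finite.of_finite
  let b := Module.finBasis F W
  let L : V →ₗ[F] (Fin (Module.finrank F W) → F) :=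
    { toFun := fun v i => H.h v (b i)
      map_add' := fun v w => by funext i; exact H.add_left _ _ _
      map_smul' := fun c v => by funext i; exact H.smul_left _ _ _ }
  have hL : ∀ v i, L v i = H.h v (b i) := fun _ _ => rfl
  have hker : ∀ v, L v = 0 → ∀ w ∈ W, H.h v w = 0 := by
    intro v hv w hw
    have h1 : (⟨w, hw⟩ : W) ∈ Submodule.span F (Set.range b) := by rw [b.span_eq]; trivial
    have key : ∀ w' : W, w' ∈ Submodule.span F (Set.range b) → H.h v w' = 0 := by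
      intro w' hw'
      induction hw' using Submodule.span_induction with
      | mem y hy =>
        obtain ⟨i, rfl⟩ := hy
        rw [← hL, hv]
        rfl
      | zero => exact H.zero_right _
      | add y z _ _ hy hz =>
        rw [Submodule.coe_add, H.add_right, hy, hz, add_zero]
      | smul c y _ hy =>
        rw [Submodule.coe_smul, H.smul_right, hy, mul_zero]
    exact key _ h1
  have hinj : Function.Injective (L ∘ₗ W.subtype) := by
    rw [← LinearMap.ker_eq_bot, LinearMap.ker_eq_bot']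
    intro w hw
    by_contra h0
    obtain ⟨w', hw', h1⟩ := hnd w w.2 (fun h => h0 (Subtype.ext h))
    exact h1 (hker _ hw w' hw')
  have hsurj : Function.Surjective (L ∘ₗ W.subtype) := by
    rw [← LinearMap.injective_iff_surjective_of_finrank_eq_finrank]
    · exact hinj
    · rw [Module.finrank_fin_fun]
  rw [eq_top_iff]
  intro v _
  obtain ⟨w, hw⟩ := hsurj (L v)
  have h1 : v = (w : V) + (v - w) := by abel
  rw [h1]
  refine Submodule.add_mem_sup w.2 ?_
  intro u hu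
  apply hker _ _ u hu
  rw [map_sub, sub_eq_zero]
  exact hw.symm

theorem perp_inf {W : Submodule F V}
    (hnd : ∀ v ∈ W, v ≠ 0 → ∃ w ∈ W, H.h v w ≠ 0) : W ⊓ perp H (W : Set V) = ⊥ := by
  rw [eq_bot_iff]
  rintro v ⟨hv, hv'⟩
  by_contra h0
  obtain ⟨w, hw, h1⟩ := hnd v hv h0
  exact h1 (hv' w hw)

end Cfsg.Agent.H110.Fpr
end

-- part: H110/Fpr/IrrField
section
/-!
# The field of a minimal invariant subspace
-/

set_option autoImplicit false

namespace Cfsg.Agent.H110.Fpr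

open Cfsg.Agent.TitsThree.Siegel Cfsg.Agent.TitsThree.SiegelGen
open Polynomial

section Alg

variable {K : Type*} [Field K]

theorem card_le_of_pow {K : Type*} [CommRing K] [IsDomain K] [Finite K] {N : ℕ} (hN : 1 < N)
    (h : ∀ k : K, k ^ N = k) : Nat.card K ≤ N := by
  classical
  have := Fintype.ofFinite K
  rw [Nat.card_eq_fintype_card]
  obtain ⟨P, hPdef⟩ : ∃ P : K[X], P = X ^ N - X := ⟨_, rfl⟩
  have hP : P.natDegree = N := by
    rw [hPdef]
    have h1 : (X : K[X]).degree < (X ^ N : K[X]).degree := by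
      rw [degree_X, degree_X_pow]
      exact_mod_cast hN
    rw [natDegree_sub_eq_left_of_natDegree_lt, natDegree_X_pow]
    rw [natDegree_X, natDegree_X_pow]
    exact hN
  have hP0 : P ≠ 0 := by
    intro h
    rw [h, natDegree_zero] at hP
    omega
  have h1 : (Finset.univ : Finset K).val ⊆ P.roots := by
    intro k _
    rw [mem_roots hP0, IsRoot, hPdef, eval_sub, eval_pow, eval_X, h, sub_self]
  have h2 := card_le_degree_of_subset_roots (Z := Finset.univ) h1
  rw [hP] at h2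
  exact h2

end Alg

section Mod

variable {F : Type*} [Field F] {V : Type*} [AddCommGroup V] [Module F V]

/-- polynomials in `x` -/
noncomputable def op (x : V ≃ₗ[F] V) (g : F[X]) : V →ₗ[F] V :=
  Polynomial.aeval ((x : V →ₗ[F] V) : Module.End F V) g

theorem op_mul (x : V ≃ₗ[F] V) (g g' : F[X]) (v : V) : op x (g * g') v = op x g (op x g' v) := by
  unfold op
  rw [map_mul]
  rfl

theorem op_add (x : V ≃ₗ[F] V) (g g' : F[X]) (v : V) : op x (g + g') v = op x g v + op x g' v := by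
  unfold op
  rw [map_add]
  rfl

theorem op_sub (x : V ≃ₗ[F] V) (g g' : F[X]) (v : V) : op x (g - g') v = op x g v - op x g' v := by
  unfold op
  rw [map_sub]
  rfl

theorem op_X (x : V ≃ₗ[F] V) (v : V) : op x X v = x v := by
  unfold op
  rw [aeval_X]
  rfl

theorem op_C (x : V ≃ₗ[F] V) (c : F) (v : V) : op x (C c) v = c • v := by
  unfold op
  rw [aeval_C]
  rfl

theorem op_one (x : V ≃ₗ[F] V) (v : V) : op x 1 v = v := by
  unfold op
  rw [map_one]
  rfl

theorem op_zero (x : V ≃ₗ[F] V) (v : V) : op x 0 v = 0 := by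
  unfold op
  rw [map_zero]
  rfl

theorem op_X_pow (x : V ≃ₗ[F] V) (n : ℕ) (v : V) : op x (X ^ n) v = (x ^ n) v := by
  induction n with
  | zero => rw [pow_zero, pow_zero, op_one]; rfl
  | succ n ih =>
    rw [pow_succ', op_mul, ih, op_X, pow_succ']
    rfl

theorem Inv.op {x : V ≃ₗ[F] V} {W : Submodule F V} (h : Inv x W) (g : F[X]) :
    ∀ w ∈ W, op x g w ∈ W := by
  intro w hw
  induction g using Polynomial.induction_on' with
  | add p q hp hq => rw [op_add]; exact W.add_mem hp hq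
  | monomial n c =>
    rw [← C_mul_X_pow_eq_monomial, op_mul, op_C, op_X_pow]
    exact W.smul_mem _ (h.pow n w hw)

theorem op_comm (x : V ≃ₗ[F] V) (g : F[X]) (v : V) : op x g (x v) = x (op x g v) := by
  rw [← op_X x v, ← op_X x (op x g v), ← op_mul, ← op_mul, mul_comm]

/-- the annihilator -/
noncomputable def ann (x : V ≃ₗ[F] V) (T : Submodule F V) : Ideal F[X] where
  carrier := {g | ∀ v ∈ T, op x g v = 0}
  add_mem' := fun {a b} ha hb v hv => by rw [op_add, ha v hv, hb v hv, add_zero]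
  zero_mem' := fun v _ => op_zero x v
  smul_mem' := fun c g hg v hv => by
    rw [smul_eq_mul, op_mul, hg v hv, map_zero]

/-- kernel dichotomy -/
theorem IsMin.mem_ann {x : V ≃ₗ[F] V} {T : Submodule F V} (hT : IsMin x T) {g : F[X]} {v : V}
    (hv : v ∈ T) (hv0 : v ≠ 0) (h : op x g v = 0) : g ∈ ann x T := by
  have hS : Inv x (T ⊓ LinearMap.ker (op x g)) := by
    intro w hw
    refine ⟨hT.inv w hw.1, ?_⟩
    change op x g (x w) = 0
    rw [op_comm, LinearMap.mem_ker.1 hw.2, map_zero]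
  have h1 := hT.min _ inf_le_left hS (by
    intro h0
    have : v ∈ T ⊓ LinearMap.ker (op x g) := ⟨hv, LinearMap.mem_ker.2 h⟩
    rw [h0, Submodule.mem_bot] at this
    exact hv0 this)
  intro w hw
  have h2 : w ∈ T ⊓ LinearMap.ker (op x g) := by rw [h1]; exact hw
  exact LinearMap.mem_ker.1 h2.2

theorem IsMin.ann_isPrime {x : V ≃ₗ[F] V} {T : Submodule F V} (hT : IsMin x T) :
    (ann x T).IsPrime := by
  obtain ⟨v, hv, hv0⟩ := (Submodule.ne_bot_iff T).1 hT.ne
  refine ⟨?_, ?_⟩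
  · intro h
    have h1 : (1 : F[X]) ∈ ann x T := by rw [h]; trivial
    have := h1 v hv
    rw [op_one] at this
    exact hv0 this
  · intro g g' h
    by_contra hcon
    push Not at hcon
    obtain ⟨hg, hg'⟩ := hcon
    have h1 : op x g' v ≠ 0 := fun h0 => hg' (hT.mem_ann hv hv0 h0)
    apply hg
    refine hT.mem_ann (hT.inv.op g' v hv) h1 ?_
    rw [← op_mul]
    exact h v hv

/-- every vector of `T` is a polynomial image of a given one -/
theorem IsMin.exists_op {x : V ≃ₗ[F] V} {T : Submodule F V} (hT : IsMin x T) {v w : V}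
    (hv : v ∈ T) (hv0 : v ≠ 0) (hw : w ∈ T) : ∃ g : F[X], op x g v = w := by
  let S : Submodule F V :=
    { carrier := {u | ∃ g : F[X], op x g v = u}
      add_mem' := by
        rintro _ _ ⟨g, rfl⟩ ⟨g', rfl⟩
        exact ⟨g + g', op_add _ _ _ _⟩
      zero_mem' := ⟨0, op_zero _ _⟩
      smul_mem' := by
        rintro c _ ⟨g, rfl⟩
        exact ⟨C c * g, by rw [op_mul, op_C]⟩ }
  have hS : Inv x S := by
    rintro _ ⟨g, rfl⟩
    exact ⟨X * g, by rw [op_mul, op_X]⟩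
  have hST : S ≤ T := by
    rintro _ ⟨g, rfl⟩
    exact hT.inv.op g v hv
  have h1 := hT.min S hST hS (by
    intro h0
    have : v ∈ S := ⟨1, op_one _ _⟩
    rw [h0, Submodule.mem_bot] at this
    exact hv0 this)
  rw [← h1] at hw
  exact hw

/-- The field `F[x]` has the same order as `T`. -/
theorem IsMin.card_quot [Finite V] {x : V ≃ₗ[F] V} {T : Submodule F V} (hT : IsMin x T) :
    Finite (F[X] ⧸ ann x T) ∧ Nat.card (F[X] ⧸ ann x T) = Nat.card T := by
  obtain ⟨v, hv, hv0⟩ := (Submodule.ne_bot_iff T).1 hT.ne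
  let f : (F[X] ⧸ ann x T) → T := fun k => ⟨op x (Quotient.out k) v, hT.inv.op _ v hv⟩
  have hout : ∀ k : F[X] ⧸ ann x T, Ideal.Quotient.mk (ann x T) (Quotient.out k) = k :=
    fun k => Quotient.out_eq k
  have hf : Function.Injective f := by
    intro k k' h
    have h1 : op x (Quotient.out k) v = op x (Quotient.out k') v := congrArg Subtype.val h
    rw [← hout k, ← hout k', Ideal.Quotient.eq]
    apply hT.mem_ann hv hv0
    rw [op_sub, h1, sub_self]
  have hs : Function.Surjective f := by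
    intro t
    obtain ⟨g, hg⟩ := hT.exists_op hv hv0 t.2
    refine ⟨Ideal.Quotient.mk _ g, Subtype.ext ?_⟩
    change op x (Quotient.out (Ideal.Quotient.mk (ann x T) g)) v = t
    have h1 : Quotient.out (Ideal.Quotient.mk (ann x T) g) - g ∈ ann x T := by
      rw [← Ideal.Quotient.eq, hout]
    have h2 := h1 v hv
    rw [op_sub, hg, sub_eq_zero] at h2
    exact h2
  exact ⟨Finite.of_injective f hf, Nat.card_congr (Equiv.ofBijective f ⟨hf, hs⟩)⟩

/-- the `q ^ i`-th power map is trivial on the field -/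
theorem pow_card_sub_mem [Finite F] {p : ℕ} {x : V ≃ₗ[F] V} (hx : x ^ p = 1) {i : ℕ}
    (hi : p ∣ (Nat.card F) ^ i - 1) (T : Submodule F V) (g : F[X]) :
    g ^ (Nat.card F) ^ i - g ∈ ann x T := by
  have := Fintype.ofFinite F
  have hexp : ∀ i : ℕ, expand F ((Nat.card F) ^ i) g = g ^ (Nat.card F) ^ i := by
    intro i
    induction i with
    | zero => simp
    | succ i ih =>
      rw [pow_succ', expand_mul, ih, map_pow, Nat.card_eq_fintype_card, FiniteField.expand_card,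
        ← pow_mul]
  have hxq : x ^ (Nat.card F) ^ i = x := by
    have h1 : 1 ≤ (Nat.card F) ^ i := Nat.one_le_pow _ _ Nat.card_pos
    obtain ⟨c, hc⟩ := hi
    have h2 : (Nat.card F) ^ i = p * c + 1 := by omega
    rw [h2, pow_succ, pow_mul, hx, one_pow, one_mul]
  intro v _
  rw [op_sub, sub_eq_zero, ← hexp]
  unfold op
  rw [expand_aeval]
  congr 2
  have hpow : ∀ n : ℕ, ((x : V →ₗ[F] V) : Module.End F V) ^ n =
      ((x ^ n : V ≃ₗ[F] V) : V →ₗ[F] V) := by
    intro n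
    induction n with
    | zero => rfl
    | succ n ih => rw [pow_succ, ih, pow_succ]; rfl
  rw [hpow, hxq]

/-- **The dimension of a minimal subspace.** -/
theorem IsMin.card_le [Finite F] [Finite V] {p : ℕ} {x : V ≃ₗ[F] V} (hx : x ^ p = 1)
    {T : Submodule F V} (hT : IsMin x T) {i : ℕ} (hi0 : 0 < i)
    (hi : p ∣ (Nat.card F) ^ i - 1) : Nat.card T ≤ (Nat.card F) ^ i := by
  obtain ⟨hfin, hcard⟩ := hT.card_quot
  have hprime := hT.ann_isPrime
  have hdom : IsDomain (F[X] ⧸ ann x T) := Ideal.Quotient.isDomain _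
  rw [← hcard]
  obtain ⟨N, hN⟩ : ∃ N, N = (Nat.card F) ^ i := ⟨_, rfl⟩
  have hN1 : 1 < N := by
    rw [hN]
    exact Nat.one_lt_pow hi0.ne' Finite.one_lt_card
  rw [← hN]
  have hroots : ∀ k : F[X] ⧸ ann x T, k ^ N = k := by
    intro k
    obtain ⟨g, rfl⟩ := Ideal.Quotient.mk_surjective k
    rw [← map_pow, Ideal.Quotient.eq, hN]
    exact pow_card_sub_mem hx hi T g
  exact card_le_of_pow hN1 hroots

variable {H : HForm F V}

theorem isIso_symm {x : V ≃ₗ[F] V} (hxi : H.IsIso x) {p : ℕ} (hp : 0 < p) (hx : x ^ p = 1)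
    (v w : V) : H.h (x v) w = H.h v ((x ^ (p - 1)) w) := by
  have h1 : w = x ((x ^ (p - 1)) w) := by
    have h2 : x * x ^ (p - 1) = 1 := by
      rw [← pow_succ', Nat.sub_add_cancel hp, hx]
    exact (congrArg (fun g : V ≃ₗ[F] V => g w) h2).symm
  conv_lhs => rw [h1]
  rw [hxi]

/-- the adjoint of a polynomial in `x` -/
theorem op_adj {x : V ≃ₗ[F] V} (hxi : H.IsIso x) {p : ℕ} (hp : 0 < p) (hx : x ^ p = 1)
    (g : F[X]) (v w : V) :
    H.h (op x g v) w = H.h v (op x ((g.map (H.σ : F →+* F)).comp (X ^ (p - 1))) w) := by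
  induction g using Polynomial.induction_on' generalizing v w with
  | add g g' h h' =>
    rw [op_add, H.add_left, h, h', Polynomial.map_add, add_comp, op_add, H.add_right]
  | monomial n c =>
    have key : ∀ n : ℕ, ∀ v w, H.h ((x ^ n) v) w = H.h v ((x ^ ((p - 1) * n)) w) := by
      intro n
      induction n with
      | zero => intro v w; rw [mul_zero]; rfl
      | succ n ih =>
        intro v w
        rw [pow_succ', LinearEquiv.mul_apply, isIso_symm hxi hp hx, ih, mul_add, mul_one,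
          pow_add, LinearEquiv.mul_apply]
    rw [← C_mul_X_pow_eq_monomial, op_mul, op_C, op_X_pow, Polynomial.map_mul, map_C,
      Polynomial.map_pow, map_X, mul_comp, C_comp, pow_comp, X_comp, op_mul, op_C, ← pow_mul,
      op_X_pow, H.smul_left, H.smul_right, key]
    congr 1
    exact (H.σσ c).symm

theorem IsMin.nondeg [Finite V] {x : V ≃ₗ[F] V} (hxi : H.IsIso x) {T : Submodule F V}
    (hT : IsMin x T) (hnd : ∃ v ∈ T, ∃ w ∈ T, H.h v w ≠ 0) :
    ∀ v ∈ T, v ≠ 0 → ∃ w ∈ T, H.h v w ≠ 0 := by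
  intro v hv hv0
  by_contra hcon
  push Not at hcon
  rcases hT.inf_eq (perp_inv hxi hT.inv) with h | h
  · have h1 : v ∈ T ⊓ perp H (T : Set V) := ⟨hv, fun w hw => hcon w hw⟩
    rw [h, Submodule.mem_bot] at h1
    exact hv0 h1
  · obtain ⟨v', hv', w, hw, h1⟩ := hnd
    exact h1 (h hv' w hw)

end Mod

end Cfsg.Agent.H110.Fpr
end

-- part: H110/Fpr/LinZero
section
/-!
# Elements of linear type with `V = T ⊕ T'`
-/

set_option autoImplicit false

namespace Cfsg.Agent.H110.Fpr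

open Cfsg.Agent.TitsThree.Siegel Cfsg.Agent.TitsThree.SiegelGen Cfsg.Agent.H398.FPR
open Cfsg.Agent.H409

variable {F : Type*} [Field F] {V : Type*} [AddCommGroup V] [Module F V]
variable {H : HForm F V} {P : PQ H}

/-- all isometries -/
def isoG (H : HForm F V) : Subgroup (V ≃ₗ[F] V) where
  carrier := {g | H.IsIso g}
  mul_mem' hg hg' := HForm.IsIso.mul H hg hg'
  one_mem' _ _ := rfl
  inv_mem' hg := HForm.IsIso.inv H hg

/-- the radical `1 + Hom(V / T, T)` -/
def radA (T : Submodule F V) : Subgroup (V ≃ₗ[F] V) where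
  carrier := {g | (∀ v ∈ T, g v = v) ∧ ∀ v, g v - v ∈ T}
  mul_mem' := by
    rintro g h ⟨g1, g2⟩ ⟨h1, h2⟩
    refine ⟨fun v hv => ?_, fun v => ?_⟩
    · rw [LinearEquiv.mul_apply, h1 v hv, g1 v hv]
    · rw [LinearEquiv.mul_apply]
      have h3 : h v = v + (h v - v) := by abel
      rw [h3, map_add, g1 _ (h2 v)]
      have h4 : g v + (h v - v) - v = (g v - v) + (h v - v) := by abel
      rw [h4]
      exact T.add_mem (g2 v) (h2 v)
  one_mem' := ⟨fun v _ => rfl, fun v => by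
    change v - v ∈ T
    rw [sub_self]; exact T.zero_mem⟩
  inv_mem' := by
    rintro g ⟨g1, g2⟩
    refine ⟨fun v hv => ?_, fun v => ?_⟩
    · apply g.injective
      rw [g1 v hv]
      exact g.apply_symm_apply v
    · have h1 := g2 (g⁻¹ v)
      have h3 : g (g⁻¹ v) = v := g.apply_symm_apply v
      rw [h3] at h1
      have h2 := T.neg_mem h1
      rwa [neg_sub] at h2

theorem radA_comm {T : Submodule F V} : ∀ a ∈ radA T, ∀ b ∈ radA T, a * b = b * a := by
  rintro g ⟨g1, g2⟩ h ⟨h1, h2⟩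
  ext v
  rw [LinearEquiv.mul_apply, LinearEquiv.mul_apply]
  have h3 : h v = v + (h v - v) := by abel
  have h4 : g v = v + (g v - v) := by abel
  rw [h3, h4, map_add, map_add, g1 _ (h2 v), h1 _ (g2 v)]
  abel

theorem rad_le_radA {T : Submodule F V} (hTT : ∀ u ∈ T, ∀ u' ∈ T, H.h u u' = 0) :
    rad P T T ≤ radA T := by
  apply rad_le
  intro u w c hu hw huT hwT _
  refine ⟨fun v hv => ?_, fun v => ?_⟩
  · rw [H.sie_apply, hTT v hv u huT, hTT v hv w hwT]
    simp
  · rw [H.sie_apply]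
    have h1 : v + H.h v u • w - (H.ε⁻¹ * H.h v w) • u + (c * H.h v u) • u - v =
      H.h v u • w - (H.ε⁻¹ * H.h v w) • u + (c * H.h v u) • u := by abel
    rw [h1]
    exact T.add_mem (T.sub_mem (T.smul_mem _ hwT) (T.smul_mem _ huT)) (T.smul_mem _ huT)

/-- generation -/
theorem zero_key [Finite V] {D : Subgroup (V ≃ₗ[F] V)} {T T' : Submodule F V}
    (h1 : rad P T T ≤ D) (h2 : rad P T' T' ≤ D) (htop : T ⊔ T' = ⊤)
    (hTs : ∀ u ∈ T, P.ok u 0) (hTT : ∀ u ∈ T, ∀ u' ∈ T, H.h u u' = 0)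
    (hTs' : ∀ u ∈ T', P.ok u 0) (hTT' : ∀ u ∈ T', ∀ u' ∈ T', H.h u u' = 0)
    (hnd : ∀ u ∈ T, u ≠ 0 → ∃ u' ∈ T', H.h u' u ≠ 0)
    (hnd' : ∀ u ∈ T', u ≠ 0 → ∃ u' ∈ T, H.h u' u ≠ 0)
    (hdim : 3 ≤ Module.finrank F T ∨ ∃ c, c ≠ 0 ∧ P.ok 0 c) :
    ∀ p ∈ T, Zt P D Set.univ p := by
  have : Module.Finite F V := Module.Finite.of_finite
  intro p hp w c hpp hpw _ hwc
  have hw : w ∈ T ⊔ T' := by rw [htop]; trivial
  obtain ⟨t, ht, t', ht', rfl⟩ := Submodule.mem_sup.1 hw
  have hpt := hTT p hp t ht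
  have hpt' : H.h p t' = 0 := by rw [H.add_right, hpt, zero_add] at hpw; exact hpw
  have k1 : H.sie p t 0 hpp hpt ∈ D := h1 (sie_mem_rad _ _ hp ht (hTs t ht))
  -- the new root elements
  have k2 : H.sie p t' 0 hpp hpt' ∈ D := by
    by_cases ht0 : t' = 0
    · rw [H.sie_congr _ _ hpp (H.zero_right p) rfl ht0 rfl, H.sie_zero]
      exact D.one_mem
    by_cases hp0 : p = 0
    · have : H.sie p t' 0 hpp hpt' = 1 := by
        ext v
        rw [H.sie_apply, hp0, H.zero_right]; simp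
      rw [this]; exact D.one_mem
    rcases hdim with hdim | ⟨c, hc0, hcok⟩
    swap
    · obtain ⟨a, haT, hat⟩ := hnd' t' ht' ht0
      obtain ⟨s, hs⟩ : ∃ s, c * (s * H.h a t') = 1 :=
        ⟨(c * H.h a t')⁻¹, by field_simp⟩
      have htt := hTT' t' ht' t' ht'
      have hsaT : s • a ∈ T := T.smul_mem _ haT
      have hpa := hTT p hp _ hsaT
      have hg : H.sie t' 0 c htt (H.zero_right t') ∈ D :=
        h2 (sie_mem_rad _ _ ht' T'.zero_mem hcok)
      have hn : H.sie p (s • a) 0 hpp hpa ∈ D := h1 (sie_mem_rad _ _ hp hsaT (hTs _ hsaT))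
      have hgi : H.IsIso (H.sie t' 0 c htt (H.zero_right t')) := P.isIso_sie _ _ hcok
      have e1 : H.sie t' 0 c htt (H.zero_right t') p = p := by
        rw [H.sie_apply, hpt', H.zero_right]; simp
      have e2 : H.sie t' 0 c htt (H.zero_right t') (s • a) = s • a + t' := by
        rw [H.sie_apply, H.zero_right, H.smul_left, hs]; simp
      have hoksum := P.ok_sie htt (H.zero_right t') (hTs' t' ht') hcok (hTs _ hsaT)
      rw [e2] at hoksum
      have h3 := D.mul_mem (D.mul_mem hg hn) (D.inv_mem hg)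
      rw [H.conj_sie hgi] at h3
      have hpsum : H.h p (s • a + t') = 0 := by rw [H.add_right, hpa, hpt', add_zero]
      rw [H.sie_congr _ _ hpp hpsum e1 e2 rfl] at h3
      have h4 := D.mul_mem h3 (D.inv_mem hn)
      rw [H.sie_inv, H.sie_mul] at h4
      obtain ⟨c', hc'⟩ : ∃ c', c' = 0 + (-0 - H.ε⁻¹ * H.h (s • a) (s • a)) -
        H.ε⁻¹ * H.h (-(s • a)) (s • a + t') := ⟨_, rfl⟩
      have hc'ok : P.ok t' c' := by
        have h5 := P.add hoksum (P.inv (hTs _ hsaT))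
        have h6 : s • a + t' + -(s • a) = t' := by abel
        rw [h6] at h5
        refine P.congr h5 rfl ?_
        rw [hc']
      rw [H.sie_congr _ _ hpp hpt' rfl (by abel : s • a + t' + -(s • a) = t') hc'.symm] at h4
      have h5 := P.sub (hTs' t' ht') hc'ok
      have h6 : H.sie p 0 (0 - c') hpp (H.zero_right p) ∈ D :=
        h1 (sie_mem_rad _ _ hp T.zero_mem h5)
      have h7 := D.mul_mem h4 h6
      rw [H.sie_mul] at h7
      rwa [H.sie_congr _ _ hpp hpt' rfl (add_zero t') (c' := 0) (by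
        rw [H.zero_left]; ring)] at h7
    -- a vector `a`
    obtain ⟨a, haT, hat', hap⟩ : ∃ a ∈ T, H.h a t' = 0 ∧ a ∉ Submodule.span F {p} := by
      by_contra hcon
      push Not at hcon
      let L : T →ₗ[F] F :=
        { toFun := fun v => H.h v t'
          map_add' := fun v w => H.add_left _ _ _
          map_smul' := fun c v => H.smul_left _ _ _ }
      have h3 := LinearMap.finrank_range_add_finrank_ker L
      have h4 : Module.finrank F (LinearMap.range L) ≤ 1 := by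
        refine (Submodule.finrank_le _).trans ?_
        rw [Module.finrank_self]
      have h5 : (LinearMap.ker L).map T.subtype ≤ Submodule.span F {p} := by
        rintro _ ⟨v, hv, rfl⟩
        exact hcon v v.2 (LinearMap.mem_ker.1 hv)
      have h6 := Submodule.finrank_mono h5
      rw [finrank_span_singleton hp0, Submodule.finrank_map_subtype_eq] at h6
      omega
    obtain ⟨b0, hb0, hb0p⟩ := hnd p hp hp0
    obtain ⟨b, hbT, hbp, hab⟩ : ∃ b ∈ T', H.h b p = 0 ∧ H.h b a ≠ 0 := by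
      by_contra hcon
      push Not at hcon
      apply hap
      obtain ⟨e, he⟩ : ∃ e, e = H.h b0 a / H.h b0 p := ⟨_, rfl⟩
      have h3 : a - H.σ e • p = 0 := by
        by_contra h0
        obtain ⟨b, hb, hb1⟩ := hnd _ (T.sub_mem haT (T.smul_mem (H.σ e) hp)) h0
        apply hb1
        have h4 := hcon (b - (H.h b p / H.h b0 p) • b0)
          (T'.sub_mem hb (T'.smul_mem _ hb0)) (by
            rw [H.sub_left, H.smul_left, div_mul_cancel₀ _ hb0p, sub_self])
        rw [H.sub_left, H.smul_left, sub_eq_zero] at h4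
        rw [H.sub_right, H.smul_right, H.σσ, h4, he]
        ring
      rw [sub_eq_zero] at h3
      rw [h3]
      exact Submodule.smul_mem _ _ (Submodule.mem_span_singleton_self p)
    have hab' : H.h a b ≠ 0 := fun h => hab (H.orth_symm h)
    have hpb : H.h p b = 0 := H.orth_symm hbp
    -- scale
    obtain ⟨s, hs⟩ : ∃ s, s * H.h a b = 1 := ⟨(H.h a b)⁻¹, inv_mul_cancel₀ hab'⟩
    have hsaT : s • a ∈ T := T.smul_mem _ haT
    have hbb := hTT' b hbT b hbT
    have hbt := hTT' b hbT t' ht'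
    have hpa := hTT p hp _ hsaT
    have hg : H.sie b t' 0 hbb hbt ∈ D := h2 (sie_mem_rad _ _ hbT ht' (hTs' t' ht'))
    have hn : H.sie p (s • a) 0 hpp hpa ∈ D := h1 (sie_mem_rad _ _ hp hsaT (hTs _ hsaT))
    have hgi : H.IsIso (H.sie b t' 0 hbb hbt) := P.isIso_sie _ _ (hTs' t' ht')
    have e1 : H.sie b t' 0 hbb hbt p = p := by
      rw [H.sie_apply, hpb, hpt']; simp
    have e2 : H.sie b t' 0 hbb hbt (s • a) = s • a + t' := by
      rw [H.sie_apply, H.smul_left, H.smul_left, hs, hat']; simp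
    have h3 := comm_eq hgi (c := 0) hpp hpa hpt' e1 e2 (by rw [H.smul_left, hat', mul_zero])
    have h4 := D.mul_mem (D.mul_mem (D.mul_mem hg hn) (D.inv_mem hg)) (D.inv_mem hn)
    rwa [h3] at h4
  -- the remaining part
  have hok : P.ok (t + t') (0 + 0 - H.ε⁻¹ * H.h t' t) := P.add (hTs t ht) (hTs' t' ht')
  have hlam := P.sub hwc hok
  have k3 : H.sie p 0 (c - (0 + 0 - H.ε⁻¹ * H.h t' t)) hpp (H.zero_right p) ∈ D :=
    h1 (sie_mem_rad _ _ hp T.zero_mem hlam)
  have k4 := D.mul_mem (D.mul_mem k1 k2) k3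
  rw [H.sie_mul, H.sie_mul] at k4
  rwa [H.sie_congr _ _ hpp hpw rfl (by abel : t + t' + 0 = t + t') (c' := c) (by
    rw [H.zero_left]; ring)] at k4

/-- **`[R_T, x] = R_T`** in the case `V = T ⊕ T'`. -/
theorem zero_commFull [Finite V] {p : ℕ} (hp : p.Prime) (hp2 : p ≠ 2) {x : V ≃ₗ[F] V}
    (hxi : H.IsIso x) (hxok : ∀ w c, P.ok w c → P.ok (x w) c) (hx : x ^ p = 1)
    {T T' : Submodule F V} (hT : IsMin x T) (hT' : IsMin x T') (htop : T ⊔ T' = ⊤)
    (hTT : ∀ u ∈ T, ∀ u' ∈ T, H.h u u' = 0)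
    (hnd : ∀ u ∈ T, u ≠ 0 → ∃ u' ∈ T', H.h u' u ≠ 0)
    (hfpf : ∀ v ∈ T, x v = v → v = 0)
    (hall : ∀ S : Submodule F V, IsMin x S → ∀ u ∈ S, ∀ v ∈ S, H.h u v = 0) :
    CommFull (rad P T T) x := by
  have hinf : T ⊓ T' = ⊥ := by
    rcases hT.inf_eq hT'.inv with h | h
    · exact h
    · exfalso
      obtain ⟨v, hv, hv0⟩ := (Submodule.ne_bot_iff T).1 hT.ne
      obtain ⟨u, hu, hu1⟩ := hnd v hv hv0
      exact hu1 (hall T' hT' u hu v (h hv))
  have hconj : ∀ a ∈ rad P T T, x * a * x⁻¹ ∈ rad P T T :=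
    rad_conj hxi hxok hT.inv hT.inv
  refine commFull_abel (fun a ha b hb => radA_comm a (rad_le_radA hTT ha) b
    (rad_le_radA hTT hb)) hconj ?_
  intro g hg hcomm
  have hgA := rad_le_radA hTT hg
  -- `g` is an isometry
  have hgi : H.IsIso g := by
    have h1 : rad P T T ≤ isoG H := by
      apply rad_le
      intro u w c hu hw _ _ hc
      exact P.isIso_sie hu hw hc
    exact h1 hg
  -- the map `δ`
  let δ : V →ₗ[F] V := (g : V →ₗ[F] V) - LinearMap.id
  have hδ : ∀ v, δ v = g v - v := fun v => rfl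
  have hδT : ∀ v, δ v ∈ T := hgA.2
  have hδx : ∀ v, δ (x v) = x (δ v) := by
    intro v
    have h1 : g (x v) = x (g v) := (congrArg (fun f : V ≃ₗ[F] V => f v) hcomm).symm
    rw [hδ, hδ, h1, map_sub]
  have hgv : ∀ v, g v = v + δ v := fun v => by rw [hδ]; abel
  -- relation 0
  have rel0 : ∀ v ∈ T', ∀ w ∈ T', H.h v (δ w) = -H.h (δ v) w := by
    intro v _ w _
    have h1 := hgi v w
    rw [hgv, hgv, H.add_left, H.add_right, H.add_right, hTT _ (hδT v) _ (hδT w)] at h1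
    linear_combination h1
  have hδ0 : ∀ v ∈ T', δ v = 0 := by
    by_contra hcon
    push Not at hcon
    obtain ⟨v1, hv1, hδv1⟩ := hcon
    -- the diagonal subspace
    let f : V →ₗ[F] V := LinearMap.id + (x : V →ₗ[F] V) ∘ₗ δ
    have hf : ∀ v, f v = v + x (δ v) := fun v => rfl
    have hfinj : ∀ v ∈ T', f v = 0 → v = 0 := by
      intro v hv h0
      rw [hf] at h0
      have h1 : v = -(x (δ v)) := eq_neg_of_add_eq_zero_left h0
      have h2 : v ∈ T ⊓ T' := ⟨by rw [h1]; exact T.neg_mem (hT.inv _ (hδT v)), hv⟩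
      rw [hinf, Submodule.mem_bot] at h2
      exact h2
    have hfx : ∀ v, f (x v) = x (f v) := by
      intro v
      rw [hf, hf, hδx, map_add]
    have hDmin : IsMin x (T'.map f) := by
      refine ⟨?_, ?_, ?_⟩
      · rintro _ ⟨v, hv, rfl⟩
        exact ⟨x v, hT'.inv v hv, hfx v⟩
      · obtain ⟨v, hv, hv0⟩ := (Submodule.ne_bot_iff T').1 hT'.ne
        intro h
        have h1 : f v ∈ T'.map f := ⟨v, hv, rfl⟩
        rw [h, Submodule.mem_bot] at h1
        exact hv0 (hfinj v hv h1)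
      · intro S hS hSi hS0
        have hS' : Inv x (T' ⊓ S.comap f) := by
          rintro v ⟨hv, hv'⟩
          refine ⟨hT'.inv v hv, ?_⟩
          change f (x v) ∈ S
          rw [hfx]
          exact hSi _ hv'
        obtain ⟨s, hs, hs0⟩ := (Submodule.ne_bot_iff S).1 hS0
        obtain ⟨v, hv, hvs⟩ := hS hs
        have h1 := hT'.min _ inf_le_left hS' (by
          intro h
          have h2 : v ∈ T' ⊓ S.comap f := ⟨hv, by
            change f v ∈ S
            rw [hvs]; exact hs⟩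
          rw [h, Submodule.mem_bot] at h2
          apply hs0
          rw [← hvs, h2, map_zero])
        apply le_antisymm hS
        rintro _ ⟨w, hw, rfl⟩
        have h2 : w ∈ T' ⊓ S.comap f := by rw [h1]; exact hw
        exact h2.2
    have rel1 : ∀ v ∈ T', ∀ w ∈ T', H.h v (x (δ w)) = -H.h (x (δ v)) w := by
      intro v hv w hw
      have h1 := hall _ hDmin (f v) ⟨v, hv, rfl⟩ (f w) ⟨w, hw, rfl⟩
      rw [hf, hf, H.add_left, H.add_right, H.add_right,
        hTT _ (hT.inv _ (hδT v)) _ (hT.inv _ (hδT w)), hall T' hT' v hv w hw] at h1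
      linear_combination h1
    -- combine
    apply hδv1
    have hx2 : ∀ w ∈ T', x (x (δ w)) = δ w := by
      intro w hw
      obtain ⟨w', hw', hww⟩ := hT'.inv.symm_mem w hw
      -- `w = x w'`
      have h3 : x (δ w) - δ w' = 0 := by
        by_contra h0
        obtain ⟨u, hu, hu1⟩ := hnd _ (T.sub_mem (hT.inv _ (hδT w)) (hδT w')) h0
        apply hu1
        rw [H.sub_right, rel1 u hu w hw, rel0 u hu w' hw', ← hww, hxi]
        ring
      have h4 : x (δ w) = δ w' := sub_eq_zero.1 h3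
      rw [h4, ← hδx, hww]
    have h5 : x (δ v1) = δ v1 := by
      obtain ⟨m, hm⟩ := hp.odd_of_ne_two hp2
      have h6 : ∀ n : ℕ, (x ^ (2 * n)) (δ v1) = δ v1 := by
        intro n
        induction n with
        | zero => rfl
        | succ n ih =>
          have e : 2 * (n + 1) = 2 * n + 2 := by ring
          rw [e, pow_add, LinearEquiv.mul_apply, pow_two, LinearEquiv.mul_apply, hx2 v1 hv1, ih]
      have h7 : (x ^ p) (δ v1) = x (δ v1) := by
        rw [hm, pow_succ', LinearEquiv.mul_apply, h6]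
      rw [hx] at h7
      exact h7.symm
    exact hfpf _ (hδT v1) h5
  ext v
  have hv : v ∈ T ⊔ T' := by rw [htop]; trivial
  obtain ⟨a, ha, b, hb, rfl⟩ := Submodule.mem_sup.1 hv
  rw [map_add, hgA.1 a ha, hgv b, hδ0 b hb, add_zero]
  rfl

/-- **The data in the case `V = T ⊕ T'`.** -/
theorem data_zero [Finite V] {r : ℕ} [Fact r.Prime] [CharP F r] {p : ℕ} (hp : p.Prime)
    (hp2 : p ≠ 2) {x : V ≃ₗ[F] V} (hxK : x ∈ SG P) (hx : x ^ p = 1)
    {T T' : Submodule F V} (hT : IsMin x T) (hT' : IsMin x T') (htop : T ⊔ T' = ⊤)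
    (hTs : ∀ u ∈ T, P.ok u 0) (hTs' : ∀ u ∈ T', P.ok u 0)
    (hnd : ∀ u ∈ T, u ≠ 0 → ∃ u' ∈ T', H.h u' u ≠ 0)
    (hnd' : ∀ u ∈ T', u ≠ 0 → ∃ u' ∈ T, H.h u' u ≠ 0)
    (hfpf : ∀ v ∈ T, x v = v → v = 0) (hfpf' : ∀ v ∈ T', x v = v → v = 0)
    (hall : ∀ S : Submodule F V, IsMin x S → ∀ u ∈ S, ∀ v ∈ S, H.h u v = 0)
    (hdim : 3 ≤ Module.finrank F T ∨ ∃ c, c ≠ 0 ∧ P.ok 0 c)
    (hdim' : 3 ≤ Module.finrank F T' ∨ ∃ c, c ≠ 0 ∧ P.ok 0 c)
    (hVnd : ∀ v : V, P.ok v 0 → v ≠ 0 → ∃ w, H.h v w ≠ 0) :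
    RadData r p 0 2 (SG P) := by
  obtain ⟨hxi, hxok, -⟩ := SG_iso hxK
  have hTT := hall T hT
  have hTT' := hall T' hT'
  have aux : ∀ T : Submodule F V, IsMin x T → (∀ u ∈ T, P.ok u 0) →
      (∀ u ∈ T, ∀ u' ∈ T, H.h u u' = 0) → CommFull (rad P T T) x →
      rad P T T ≤ SG P ∧ Pair p 0 x (rad P T T) ∧ IsPGroup r (rad P T T) := by
    intro T hT hTs hTT hc
    obtain ⟨A, B, hAB, hle⟩ := rad_le_flagU (P₁ := P) hTT hTT
    refine ⟨?_, ⟨nilpotent_of_le_flagU (r := r) hAB hle, ?_, ?_⟩,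
      isPGroup_of_le_flagU (r := r) hAB hle⟩
    · apply rad_le
      intro u w c hu hw huT hwW hwc
      exact sie_mem_SG P hu hw (hTs u huT) hwc
    · apply mem_normalizer_of_conj
      exact rad_conj hxi hxok hT.inv hT.inv
    · rw [pow_zero, pow_one]
      exact hc
  obtain ⟨a1, a2, a3⟩ := aux T hT hTs hTT
    (zero_commFull hp hp2 hxi hxok hx hT hT' htop hTT hnd hfpf hall)
  obtain ⟨b1, b2, b3⟩ := aux T' hT' hTs' hTT'
    (zero_commFull hp hp2 hxi hxok hx hT' hT (by rw [sup_comm]; exact htop) hTT' hnd' hfpf' hall)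
  refine ⟨x, 1, Bool, inferInstance, fun b : Bool => cond b (rad P T T)
    (rad P T' T'), hxK, by rw [pow_one]; exact hx, ?_, ?_, ?_, by rw [Fintype.card_bool], ?_⟩
  · rintro (_ | _)
    · exact b1
    · exact a1
  · rintro (_ | _)
    · exact b2
    · exact a2
  · rintro (_ | _)
    · exact b3
    · exact a3
  · obtain ⟨D, hD⟩ : ∃ D, D = Subgroup.closure ({x} ∪ ⋃ b : Bool, ((cond b (rad P T T)
      (rad P T' T') : Subgroup (V ≃ₗ[F] V)) : Set (V ≃ₗ[F] V))) := ⟨_, rfl⟩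
    rw [← hD]
    have h1 : rad P T T ≤ D := by
      intro g hg
      rw [hD]
      apply Subgroup.subset_closure
      right
      rw [Set.mem_iUnion]
      exact ⟨true, hg⟩
    have h2 : rad P T' T' ≤ D := by
      intro g hg
      rw [hD]
      apply Subgroup.subset_closure
      right
      rw [Set.mem_iUnion]
      exact ⟨false, hg⟩
    obtain ⟨v, hv, hv0⟩ := (Submodule.ne_bot_iff T).1 hT.ne
    obtain ⟨u, hu, huv⟩ := hnd v hv hv0
    exact all_of_pair (zero_key h1 h2 htop hTs hTT hTs' hTT' hnd hnd' hdim v hv)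
      (zero_key h2 h1 (by rw [sup_comm]; exact htop) hTs' hTT' hTs hTT hnd' hnd hdim' u hu)
      (hTs v hv) (hTs' u hu) huv hVnd

end Cfsg.Agent.H110.Fpr
end

-- part: H110/Fpr/Master
section
/-!
# Radical data from an element of order `p`
-/

set_option autoImplicit false

namespace Cfsg.Agent.H110.Fpr

open Cfsg.Agent.TitsThree.Siegel Cfsg.Agent.TitsThree.SiegelGen Cfsg.Agent.H398.FPR
open Cfsg.Agent.H409

variable {F : Type*} [Field F] {V : Type*} [AddCommGroup V] [Module F V]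
variable {H : HForm F V} {P : PQ H}

/-- truncation of `x` -/
theorem exists_trunc [Finite V] (x : V ≃ₗ[F] V) {W M : Submodule F V} (hc : IsCompl W M)
    (hW : Inv x W) : ∃ y : V ≃ₗ[F] V, (∀ w ∈ W, y w = x w) ∧ ∀ m ∈ M, y m = m := by
  have : Module.Finite F V := Module.Finite.of_finite
  let f : V →ₗ[F] V := LinearMap.id + ((x : V →ₗ[F] V) - LinearMap.id) ∘ₗ W.projection M hc
  have hfW : ∀ w ∈ W, f w = x w := by
    intro w hw
    change w + (x (W.projection M hc w) - W.projection M hc w) = x w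
    rw [Submodule.projection_apply_of_mem_left hc hw]
    abel
  have hfM : ∀ m ∈ M, f m = m := by
    intro m hm
    change m + (x (W.projection M hc m) - W.projection M hc m) = m
    rw [Submodule.projection_apply_of_mem_right hc hm, map_zero, sub_zero, add_zero]
  have hinj : Function.Injective f := by
    rw [← LinearMap.ker_eq_bot, LinearMap.ker_eq_bot']
    intro v hv
    have hv' : v ∈ W ⊔ M := by rw [hc.sup_eq_top]; trivial
    obtain ⟨w, hw, m, hm, rfl⟩ := Submodule.mem_sup.1 hv'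
    rw [map_add, hfW w hw, hfM m hm] at hv
    have h1 : x w = -m := eq_neg_of_add_eq_zero_left hv
    have h2 : x w ∈ W ⊓ M := ⟨hW w hw, by rw [h1]; exact M.neg_mem hm⟩
    rw [hc.inf_eq_bot, Submodule.mem_bot] at h2
    have h3 : w = 0 := by
      apply x.injective
      rw [h2, map_zero]
    rw [h2] at h1
    rw [h3, zero_add]
    exact (neg_eq_zero.1 h1.symm)
  refine ⟨LinearEquiv.ofInjectiveEndo f hinj, ?_, ?_⟩
  · intro w hw
    exact hfW w hw
  · intro m hm
    exact hfM m hm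

theorem trunc_iso {x y : V ≃ₗ[F] V} (hxi : H.IsIso x) {W M : Submodule F V}
    (htop : W ⊔ M = ⊤) (horth : ∀ w ∈ W, ∀ m ∈ M, H.h w m = 0) (hW : Inv x W)
    (h1 : ∀ w ∈ W, y w = x w) (h2 : ∀ m ∈ M, y m = m) : H.IsIso y := by
  intro v v'
  have hv : v ∈ W ⊔ M := by rw [htop]; trivial
  have hv' : v' ∈ W ⊔ M := by rw [htop]; trivial
  obtain ⟨w, hw, m, hm, rfl⟩ := Submodule.mem_sup.1 hv
  obtain ⟨w', hw', m', hm', rfl⟩ := Submodule.mem_sup.1 hv'
  simp only [map_add, h1 w hw, h1 w' hw', h2 m hm, h2 m' hm', H.add_left, H.add_right,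
    horth _ (hW w hw) m' hm', horth w hw m' hm', H.orth_symm (horth _ (hW w' hw') m hm),
    H.orth_symm (horth w' hw' m hm), hxi w w']

theorem trunc_ok {x y : V ≃ₗ[F] V} (hxok : ∀ w c, P.ok w c → P.ok (x w) c)
    {W M : Submodule F V} (htop : W ⊔ M = ⊤) (horth : ∀ w ∈ W, ∀ m ∈ M, H.h w m = 0)
    (hW : Inv x W) (h1 : ∀ w ∈ W, y w = x w) (h2 : ∀ m ∈ M, y m = m) :
    ∀ w c, P.ok w c → P.ok (y w) c := by
  intro v c hvc
  have hv : v ∈ W ⊔ M := by rw [htop]; trivial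
  obtain ⟨w, hw, m, hm, rfl⟩ := Submodule.mem_sup.1 hv
  obtain ⟨c1, hc1⟩ := P.ex w
  obtain ⟨c2, hc2⟩ := P.ex m
  have h3 := P.add hc1 hc2
  have h4 := P.sub hvc h3
  have h5 := P.add (P.add (hxok w c1 hc1) hc2) h4
  refine P.congr h5 ?_ ?_
  · rw [map_add, h1 w hw, h2 m hm, add_zero]
  · rw [H.orth_symm (horth _ (hW w hw) m hm), H.orth_symm (horth w hw m hm), H.zero_left]
    ring

theorem trunc_pow {x y : V ≃ₗ[F] V} {W M : Submodule F V} (hW : Inv x W)
    (h1 : ∀ w ∈ W, y w = x w) (n : ℕ) : ∀ w ∈ W, (y ^ n) w = (x ^ n) w := by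
  induction n with
  | zero => intro w _; rfl
  | succ n ih =>
    intro w hw
    rw [pow_succ, pow_succ, LinearEquiv.mul_apply, LinearEquiv.mul_apply, h1 w hw]
    exact ih _ (hW w hw)

theorem trunc_pow_eq_one {x y : V ≃ₗ[F] V} {p : ℕ} (hx : x ^ p = 1) {W M : Submodule F V}
    (htop : W ⊔ M = ⊤) (hW : Inv x W) (h1 : ∀ w ∈ W, y w = x w) (h2 : ∀ m ∈ M, y m = m) :
    y ^ p = 1 := by
  ext v
  have hv : v ∈ W ⊔ M := by rw [htop]; trivial
  obtain ⟨w, hw, m, hm, rfl⟩ := Submodule.mem_sup.1 hv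
  rw [map_add, trunc_pow (M := M) hW h1 p w hw, hx, pow_fix h2 p m hm]
  rfl

/-- moved isotropic invariant subspaces are singular -/
theorem sing_of_moved {x : V ≃ₗ[F] V} (hxok : ∀ w c, P.ok w c → P.ok (x w) c)
    {T : Submodule F V} (hT : Inv x T) (hTT : ∀ u ∈ T, ∀ v ∈ T, H.h u v = 0)
    (hsurj : ∀ v ∈ T, ∃ w ∈ T, x w - w = v) : ∀ u ∈ T, P.ok u 0 := by
  intro u hu
  obtain ⟨w, hw, rfl⟩ := hsurj u hu
  obtain ⟨c, hc⟩ := P.ex w
  refine P.congr (P.add (hxok w c hc) (P.inv hc)) (by abel) ?_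
  rw [hTT w hw w hw, H.neg_left, hTT w hw (x w) (hT w hw)]
  ring

theorem surj_of_fpf [Finite V] {x : V ≃ₗ[F] V} {T : Submodule F V} (hT : Inv x T)
    (hfpf : ∀ v ∈ T, x v = v → v = 0) : ∀ v ∈ T, ∃ w ∈ T, x w - w = v := by
  intro v hv
  let f : T → T := fun w => ⟨x w - w, T.sub_mem (hT w w.2) w.2⟩
  have hf : Function.Injective f := by
    intro a b hab
    have h1 : x a - a = x b - b := congrArg Subtype.val hab
    have h2 : x ((a : V) - b) = (a : V) - b := by
      rw [map_sub]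
      have h3 : x a = x b - b + a := by rw [← h1]; abel
      rw [h3]; abel
    exact Subtype.ext (sub_eq_zero.1 (hfpf _ (T.sub_mem a.2 b.2) h2))
  obtain ⟨w, hw⟩ := (Finite.injective_iff_surjective.1 hf) ⟨v, hv⟩
  exact ⟨w, w.2, congrArg Subtype.val hw⟩

/-- nondegenerate pieces -/
theorem nd_perp [Finite V] {W : Submodule F V} (hnd : ∀ v ∈ W, v ≠ 0 → ∃ w ∈ W, H.h v w ≠ 0)
    (hND : ∀ v : V, v ≠ 0 → ∃ w, H.h v w ≠ 0) :
    ∀ v ∈ perp H (W : Set V), v ≠ 0 → ∃ w ∈ perp H (W : Set V), H.h v w ≠ 0 := by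
  intro v hv hv0
  obtain ⟨w, hw⟩ := hND v hv0
  have hw' : w ∈ W ⊔ perp H (W : Set V) := by rw [perp_sup hnd]; trivial
  obtain ⟨a, ha, m, hm, rfl⟩ := Submodule.mem_sup.1 hw'
  refine ⟨m, hm, ?_⟩
  rwa [H.add_right, hv a ha, zero_add] at hw

/-- **Linear type.** -/
theorem master_L [Finite V] {r : ℕ} [Fact r.Prime] [CharP F r] {p : ℕ} (hp : p.Prime)
    (hp2 : p ≠ 2) (hpF : (p : F) ≠ 0) {x : V ≃ₗ[F] V} (hxi : H.IsIso x)
    (hxok : ∀ w c, P.ok w c → P.ok (x w) c) (hx : x ^ p = 1) (hx1 : x ≠ 1)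
    (hK : ∀ y : V ≃ₗ[F] V, H.IsIso y → (∀ w c, P.ok w c → P.ok (y w) c) → y ^ p = 1 →
      y ∈ SG P) (hND : ∀ v : V, v ≠ 0 → ∃ w, H.h v w ≠ 0)
    (hdim : (∀ T : Submodule F V, IsMin x T → T ≤ movS p x → 3 ≤ Module.finrank F T) ∨
      ∃ c, c ≠ 0 ∧ P.ok 0 c)
    (hall : ∀ T : Submodule F V, IsMin x T → T ≤ movS p x → ∀ u ∈ T, ∀ v ∈ T, H.h u v = 0) :
    RadData r p 0 2 (SG P) := by
  obtain ⟨nd1, nd2⟩ := nd_pieces hpF hxi hx hND
  have hU : Inv x (movS p x) := movS_inv rfl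
  have hU0 : movS p x ≠ ⊥ := by
    intro h
    apply hx1
    have h1 := fixS_sup_movS hx hpF
    rw [h, bot_sup_eq] at h1
    ext v
    have hv : v ∈ fixS x := by rw [h1]; trivial
    exact hv
  obtain ⟨T, hTU, hT⟩ := exists_isMin hU hU0
  have hTT := hall T hT hTU
  -- the complement
  obtain ⟨t, ht, ht0⟩ := (Submodule.ne_bot_iff T).1 hT.ne
  obtain ⟨C, hCU, hCi, hC1, hC2⟩ := exists_compl hp hpF hx (Inv.inf hU (perp_inv hxi hT.inv)) hU
    inf_le_left
  have hC0 : C ≠ ⊥ := by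
    intro h
    rw [h, sup_bot_eq] at hC2
    obtain ⟨w, hw, hw1⟩ := nd1 t (hTU ht) ht0
    have hw2 : w ∈ movS p x ⊓ perp H (T : Set V) := by rw [hC2]; exact hw
    exact hw1 (H.orth_symm (hw2.2 t ht))
  obtain ⟨T', hTC', hT'⟩ := exists_isMin hCi hC0
  have hTU' := hTC'.trans hCU
  have hTT' := hall T' hT' hTU'
  have hnd' : ∀ u ∈ T', u ≠ 0 → ∃ u' ∈ T, H.h u' u ≠ 0 := by
    intro u hu hu0
    by_contra hcon
    push Not at hcon
    have h1 : u ∈ movS p x ⊓ perp H (T : Set V) ⊓ C :=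
      ⟨⟨hTU' hu, fun v hv => H.orth_symm (hcon v hv)⟩, hTC' hu⟩
    rw [hC1, Submodule.mem_bot] at h1
    exact hu0 h1
  have hnd : ∀ u ∈ T, u ≠ 0 → ∃ u' ∈ T', H.h u' u ≠ 0 := by
    intro u hu hu0
    by_contra hcon
    push Not at hcon
    rcases hT.inf_eq (perp_inv hxi hT'.inv) with h | h
    · have h1 : u ∈ T ⊓ perp H (T' : Set V) := ⟨hu, fun v hv => H.orth_symm (hcon v hv)⟩
      rw [h, Submodule.mem_bot] at h1
      exact hu0 h1
    · obtain ⟨t', ht', ht0'⟩ := (Submodule.ne_bot_iff T').1 hT'.ne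
      obtain ⟨v, hv, hv1⟩ := hnd' t' ht' ht0'
      exact hv1 (h hv t' ht')
  have hfpf : ∀ v ∈ T, x v = v → v = 0 := fun v hv h => eq_zero_of_mem hpF (hTU hv) h
  have hfpf' : ∀ v ∈ T', x v = v → v = 0 := fun v hv h => eq_zero_of_mem hpF (hTU' hv) h
  have hTs := sing_of_moved hxok hT.inv hTT (surj_of_fpf hT.inv hfpf)
  have hTs' := sing_of_moved hxok hT'.inv hTT' (surj_of_fpf hT'.inv hfpf')
  have hWi : Inv x (T ⊔ T') := hT.inv.sup hT'.inv
  have hWnd : ∀ v ∈ T ⊔ T', v ≠ 0 → ∃ w ∈ T ⊔ T', H.h v w ≠ 0 := by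
    intro v hv hv0
    obtain ⟨a, ha, b, hb, rfl⟩ := Submodule.mem_sup.1 hv
    by_cases ha0 : a = 0
    · subst ha0
      rw [zero_add] at hv0
      obtain ⟨u, hu, hu1⟩ := hnd' b hb hv0
      refine ⟨u, Submodule.mem_sup_left hu, ?_⟩
      rw [zero_add]
      exact fun h => hu1 (H.orth_symm h)
    · obtain ⟨u, hu, hu1⟩ := hnd a ha ha0
      refine ⟨u, Submodule.mem_sup_right hu, ?_⟩
      rw [H.add_left, hTT' b hb u hu, add_zero]
      exact fun h => hu1 (H.orth_symm h)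
  have hsup := perp_sup hWnd
  have hinf := perp_inf hWnd
  have hVnd : ∀ v : V, P.ok v 0 → v ≠ 0 → ∃ w, H.h v w ≠ 0 := fun v _ hv => hND v hv
  by_cases hM : perp H ((T ⊔ T' : Submodule F V) : Set V) = ⊥
  · rw [hM, sup_bot_eq] at hsup
    have hUtop : movS p x = ⊤ := by
      rw [eq_top_iff, ← hsup]
      exact sup_le hTU hTU'
    exact data_zero hp hp2 (hK x hxi hxok hx) hx hT hT' hsup hTs hTs' hnd hnd' hfpf hfpf'
      (fun S hS => hall S hS (by rw [hUtop]; exact le_top)) 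
      (hdim.imp_left fun h => h T hT hTU) (hdim.imp_left fun h => h T' hT' hTU')
      hVnd
  · obtain ⟨y, hy1, hy2⟩ := exists_trunc x (W := T ⊔ T')
      (M := perp H ((T ⊔ T' : Submodule F V) : Set V))
      ⟨disjoint_iff.2 hinf, codisjoint_iff.2 hsup⟩ hWi
    have horth : ∀ w ∈ T ⊔ T', ∀ m ∈ perp H ((T ⊔ T' : Submodule F V) : Set V),
        H.h w m = 0 := fun w hw m hm => H.orth_symm (hm w hw)
    have hyi := trunc_iso hxi hsup horth hWi hy1 hy2
    have hyok := trunc_ok hxok hsup horth hWi hy1 hy2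
    have hyp := trunc_pow_eq_one hx hsup hWi hy1 hy2
    have hyT : ∀ w ∈ T, y w = x w := fun w hw => hy1 w (Submodule.mem_sup_left hw)
    have hyT' : ∀ w ∈ T', y w = x w := fun w hw => hy1 w (Submodule.mem_sup_right hw)
    obtain ⟨m, hm, hm0⟩ := (Submodule.ne_bot_iff _).1 hM
    obtain ⟨m', hm', hmm⟩ := nd_perp hWnd hND m hm hm0
    obtain ⟨u, hu, hu1⟩ := hnd t ht ht0
    refine data_I (T := T) (T' := T') (M := perp H ((T ⊔ T' : Submodule F V) : Set V)) (j := 0)
      (k := 1) (hK y hyi hyok hyp) (by rw [pow_one]; exact hyp) ?_ ?_ ?_ hy2 ?_ ?_ hTs hTT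
      hTs' hTT' ?_ ?_ ⟨m, hm, m', hm', hmm⟩ ⟨t, ht, u, hu, hu1⟩ hVnd
    · rw [sup_right_comm]
      exact hsup
    · intro w hw
      rw [hyT w hw]
      exact hT.inv w hw
    · intro w hw
      rw [hyT' w hw]
      exact hT'.inv w hw
    · intro w hw
      obtain ⟨w', hw', h⟩ := surj_of_fpf hT.inv hfpf w hw
      refine ⟨w', hw', ?_⟩
      rw [pow_zero, pow_one, hyT w' hw']
      exact h
    · intro w hw
      obtain ⟨w', hw', h⟩ := surj_of_fpf hT'.inv hfpf' w hw
      refine ⟨w', hw', ?_⟩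
      rw [pow_zero, pow_one, hyT' w' hw']
      exact h
    · intro u hu w hw
      exact horth u (Submodule.mem_sup_left hu) w hw
    · intro u hu w hw
      exact horth u (Submodule.mem_sup_right hu) w hw

end Cfsg.Agent.H110.Fpr
end
end

-- part: H110/Fpr/FamL
section
set_option linter.all false
open scoped Cfsg.Agent.FastGrp

/-!
# The rows for `PSL_n(q)`, `n ≥ 3`
-/

set_option autoImplicit false

namespace Cfsg.Agent.H110.Fpr

open Cfsg.Agent.H398.FPR Cfsg.Agent.H409 Cfsg.Agent.H221.PP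
open Module (Dual finrank)

section

variable {F : Type*} [Field F] {V : Type*} [AddCommGroup V] [Module F V]

/-- the row from a rank two subgroup -/
theorem row_lin_E [Finite V] [FiniteDimensional F V] {p : ℕ} (hp : p.Prime) (hp2 : p ≠ 2)
    (hpF : (p : F) ≠ 0) {a b : SpecialLinearGroup F V} (hab : a * b = b * a) (ha : a ^ p = 1)
    (hb : b ^ p = 1) (hb1 : b ≠ 1) (hind : ∀ i : ℕ, a * b ^ i ≠ 1) :
    FprRow (2 * p - 1) (p - 1) p (SpecialLinearGroup F V) := by
  obtain ⟨i, v, hv, hbv⟩ := exists_fix_of_rank_two (a := a.1) (b := b.1) hp hpF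
    (congrArg Subtype.val hab) (congrArg Subtype.val ha) (congrArg Subtype.val hb)
    (fun h => hb1 (Subtype.ext h))
  obtain ⟨x, hx⟩ : ∃ x, x = a * b ^ i := ⟨_, rfl⟩
  have hxv : x.1 = a.1 * b.1 ^ i := by rw [hx]; rfl
  rw [← hxv] at hv
  have hx1 : x ≠ 1 := hx ▸ hind i
  have hxp : x ^ p = 1 := by
    have h1 : Commute a (b ^ i) := (show Commute a b from hab).pow_right i
    rw [hx, h1.mul_pow, ha, one_mul, ← pow_mul, mul_comm, pow_mul, hb, one_pow]
  have hxp' : x.1 ^ p = 1 := congrArg Subtype.val hxp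
  have hsup := fixS_sup_movS hxp' hpF
  have hcompl : IsCompl (movS p x.1) (fixS x.1) := by
    refine ⟨?_, codisjoint_iff.2 hsup⟩
    rw [Submodule.disjoint_def]
    intro w hw hw'
    exact eq_zero_of_mem hpF hw hw'
  refine row_lin (j := 0) (k := 1) hp (by rw [pow_one]; exact hxp) hcompl ?_ ?_
    (movS_inv rfl) (fun w hw => hw) ?_ ?_
  · intro h
    rw [h, bot_sup_eq] at hsup
    apply hx1
    apply ext'
    intro w
    have hw : w ∈ fixS x.1 := by rw [hsup]; trivial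
    exact hw
  · intro h
    have h1 : v ∈ fixS x.1 := hv
    rw [h, Submodule.mem_bot] at h1
    apply hbv
    rw [h1, map_zero]
  · rw [pow_zero, pow_one]
    exact movS_surj hpF
  · have := hp.two_le
    have : 3 ≤ p := by omega
    rw [pow_zero, mul_one]
    omega

end

section

variable {F : Type*} [Field F] {n : ℕ}

theorem row_lin_two [Finite F] (hn : 3 ≤ n) (h2 : (2 : F) ≠ 0) :
    FprRow (2 * 2 - 1) (2 - 1) 2 (SpecialLinearGroup F (Fin n → F)) := by
  classical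
  obtain ⟨i0, h0⟩ : ∃ i : Fin n, i = ⟨0, by omega⟩ := ⟨_, rfl⟩
  obtain ⟨i1, h1⟩ : ∃ i : Fin n, i = ⟨1, by omega⟩ := ⟨_, rfl⟩
  obtain ⟨i2, h3⟩ : ∃ i : Fin n, i = ⟨2, by omega⟩ := ⟨_, rfl⟩
  have h01 : i0 ≠ i1 := by rw [h0, h1]; simp
  have h20 : i2 ≠ i0 := by rw [h0, h3]; simp
  have h21 : i2 ≠ i1 := by rw [h1, h3]; simp
  clear h0 h1 h3
  obtain ⟨e, he⟩ : ∃ e : Fin n → (Fin n → F), e = fun i => Pi.single i (1 : F) := ⟨_, rfl⟩
  have eii : ∀ i, e i i = 1 := fun i => by rw [he]; simp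
  have eij : ∀ i j, i ≠ j → e i j = 0 := fun i j h => by rw [he]; simp [h.symm]
  let φ : Fin n → Dual F (Fin n → F) := fun i => LinearMap.proj i
  have hφ : ∀ i v, φ i v = v i := fun i v => rfl
  have k1 : φ i1 (-e i0) = 0 := by rw [hφ, Pi.neg_apply, eij _ _ h01, neg_zero]
  have k2 : φ i0 (e i1) = 0 := by rw [hφ, eij _ _ h01.symm]
  obtain ⟨x, hx⟩ : ∃ x, x = tv (φ i1) (-e i0) k1 * tv (φ i0) (e i1) k2 * tv (φ i1) (-e i0) k1 :=
    ⟨_, rfl⟩
  have hxv : ∀ v, x v = v - (v i0 + v i1) • e i0 + (v i0 - v i1) • e i1 := by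
    intro v
    rw [hx]
    simp only [mul_app, tv_apply, hφ, Pi.add_apply, Pi.smul_apply, Pi.neg_apply, eii,
      eij _ _ h01, smul_eq_mul, mul_zero, mul_one, neg_zero, add_zero]
    module
  have hx2 : ∀ v, (x ^ 2) v = v - (2 * v i0) • e i0 - (2 * v i1) • e i1 := by
    intro v
    rw [pow_two, mul_app, hxv, hxv]
    simp only [Pi.add_apply, Pi.sub_apply, Pi.smul_apply, eii,
      eij _ _ h01, eij _ _ h01.symm, smul_eq_mul, mul_zero, mul_one, add_zero, sub_zero]
    module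
  have hx4 : x ^ 2 ^ 2 = 1 := by
    have : (2 : ℕ) ^ 2 = 2 * 2 := by norm_num
    rw [this, pow_mul]
    apply ext'
    intro v
    rw [pow_two, mul_app, hx2, hx2]
    simp only [Pi.sub_apply, Pi.smul_apply, eii,
      eij _ _ h01, eij _ _ h01.symm, smul_eq_mul, mul_zero, mul_one, sub_zero]
    change _ = v
    module
  let A : Submodule F (Fin n → F) :=
    { carrier := {v | ∀ i, i ≠ i0 → i ≠ i1 → v i = 0}
      add_mem' := fun {a b} ha hb i hi hi' => by rw [Pi.add_apply, ha i hi hi', hb i hi hi', add_zero]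
      zero_mem' := fun i _ _ => rfl
      smul_mem' := fun c v hv i hi hi' => by rw [Pi.smul_apply, hv i hi hi', smul_zero] }
  let B : Submodule F (Fin n → F) :=
    { carrier := {v | v i0 = 0 ∧ v i1 = 0}
      add_mem' := fun {a b} ha hb => ⟨by rw [Pi.add_apply, ha.1, hb.1, add_zero],
        by rw [Pi.add_apply, ha.2, hb.2, add_zero]⟩
      zero_mem' := ⟨rfl, rfl⟩
      smul_mem' := fun c v hv => ⟨by rw [Pi.smul_apply, hv.1, smul_zero],
        by rw [Pi.smul_apply, hv.2, smul_zero]⟩ }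
  have eA0 : e i0 ∈ A := fun i hi _ => eij _ _ hi.symm
  have eA1 : e i1 ∈ A := fun i _ hi => eij _ _ hi.symm
  have eB2 : e i2 ∈ B := ⟨eij _ _ h20, eij _ _ h21⟩
  have hAe : ∀ v ∈ A, v = v i0 • e i0 + v i1 • e i1 := by
    intro v hv
    funext i
    rw [Pi.add_apply, Pi.smul_apply, Pi.smul_apply, smul_eq_mul, smul_eq_mul]
    by_cases hi0 : i = i0
    · rw [hi0, eii, eij _ _ h01.symm]; ring
    · by_cases hi1 : i = i1
      · rw [hi1, eii, eij _ _ h01]; ring
      · rw [hv i hi0 hi1, eij _ _ (Ne.symm hi0), eij _ _ (Ne.symm hi1)]; ring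
  have hcompl : IsCompl A B := by
    refine ⟨?_, ?_⟩
    · rw [Submodule.disjoint_def]
      intro v hv hv'
      rw [hAe v hv, hv'.1, hv'.2, zero_smul, zero_smul, add_zero]
    · rw [codisjoint_iff, eq_top_iff]
      intro v _
      have e1 : v = (v i0 • e i0 + v i1 • e i1) + (v - (v i0 • e i0 + v i1 • e i1)) := by abel
      rw [e1]
      refine Submodule.add_mem_sup (A.add_mem (A.smul_mem _ eA0) (A.smul_mem _ eA1)) ⟨?_, ?_⟩
      · simp only [Pi.sub_apply, Pi.add_apply, Pi.smul_apply, eii, eij _ _ h01.symm, smul_eq_mul]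
        ring
      · simp only [Pi.sub_apply, Pi.add_apply, Pi.smul_apply, eii, eij _ _ h01, smul_eq_mul]
        ring
  refine row_lin (x := x) (j := 1) (k := 2) Nat.prime_two hx4 hcompl ?_ ?_ ?_ ?_ ?_ (by norm_num)
  · intro h
    rw [h, Submodule.mem_bot] at eA0
    have := congrFun eA0 i0
    rw [eii] at this
    exact one_ne_zero this
  · intro h
    rw [h, Submodule.mem_bot] at eB2
    have := congrFun eB2 i2
    rw [eii] at this
    exact one_ne_zero this
  · intro v hv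
    rw [hxv]
    exact A.add_mem (A.sub_mem hv (A.smul_mem _ eA0)) (A.smul_mem _ eA1)
  · intro v hv
    rw [hxv, hv.1, hv.2]
    simp
  · intro v hv
    refine ⟨(-2 : F)⁻¹ • v, A.smul_mem _ hv, ?_⟩
    rw [pow_one, hx2]
    simp only [Pi.smul_apply, smul_eq_mul]
    conv_rhs => rw [hAe v hv]
    have h5 : (2 : F) * ((-2 : F)⁻¹ * v i0) = - v i0 := by field_simp
    have h6 : (2 : F) * ((-2 : F)⁻¹ * v i1) = - v i1 := by field_simp
    rw [h5, h6]
    module

/-- **The row for `PSL_n(q)`, `n ≥ 3`.** -/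
theorem row_PSL [Finite F] (hn : 3 ≤ n) {p : ℕ} (hp : p.Prime) (hpF : (p : F) ≠ 0)
    (hE : p = 2 ∨ ∃ P : Sylow p (Matrix.ProjectiveSpecialLinearGroup (Fin n) F), ¬ IsCyclic P) :
    FprRow (2 * p - 1) (p - 1) p (Matrix.ProjectiveSpecialLinearGroup (Fin n) F) := by
  have hfin0 : Finite ((Fin n → F) ≃ₗ[F] (Fin n → F)) := instFin
  have hfin : Finite (SpecialLinearGroup F (Fin n → F)) := inferInstance
  let e : SpecialLinearGroup F (Fin n → F) ≃* Matrix.SpecialLinearGroup (Fin n) F :=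
    Matrix.SpecialLinearGroup.toLin'_equiv.symm
  let f : SpecialLinearGroup F (Fin n → F) →* Matrix.ProjectiveSpecialLinearGroup (Fin n) F :=
    (QuotientGroup.mk' (Subgroup.center (Matrix.SpecialLinearGroup (Fin n) F))).comp e.toMonoidHom
  have hf : Function.Surjective f := (QuotientGroup.mk'_surjective _).comp e.surjective
  refine FprRow.of_surjective hp f hf ?_
  rcases eq_or_ne p 2 with rfl | hp2
  · exact row_lin_two hn (by exact_mod_cast hpF)
  · obtain ⟨P, hP⟩ := hE.resolve_left hp2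
    have := Fact.mk hp
    obtain ⟨a, b, hab, ha, hb, hb1, hind⟩ := exists_rank_two hp2 f hf P hP
    exact row_lin_E hp hp2 hpF hab ha hb hb1 hind

end

end Cfsg.Agent.H110.Fpr
end

-- part: H452/FprHeis
section
prune_inst 0xc1302a444b0002040018a592f1203c56ce0005b2006b0000f9a00f42078e7f62ad83af61fc803c161a28aa05203d0008111000d00000000000000400011c018010a812043140a10820009e003186100000000000000000000000000000051004000000000
set_option linter.all false
open scoped Cfsg.Agent.FastGrp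

/-!
# Two Heisenberg radicals, exact ratio

`x` centralises `Z`, normalises the Heisenberg group `Q` and has no fixed points on `Q / Z`. Then
the fixed points of `x` in a `Q`-orbit form one `Z`-orbit. With two opposite radicals the ratio of
an element `x` of `3`-power order is at most `1 / 4`.
-/

set_option autoImplicit false
open Subgroup MulAction
open scoped Pointwise

namespace Cfsg.Agent.H452.FprHeis

open Cfsg.Agent.H398.FPR

/-- `x` acts on the Heisenberg group `Q`, trivially on `Z` and freely on `Q / Z`. -/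
structure Heis {G : Type*} [Group G] (x : G) (Q Z : Subgroup G) : Prop where
  le : Z ≤ Q
  cent : ∀ z ∈ Z, ∀ g ∈ Q, z * g = g * z
  der : ∀ a ∈ Q, ∀ b ∈ Q, a * b * a⁻¹ * b⁻¹ ∈ Z
  norm : x ∈ normalizer (Q : Set G)
  fixZ : ∀ z ∈ Z, x * z = z * x
  free : ∀ r ∈ Q, x * r * x⁻¹ * r⁻¹ ∈ Z → r ∈ Z

section

variable {G X : Type*} [Group G] [MulAction G X] {x : G} {Q Z : Subgroup G}

/-- The group `S Z`. -/
def SZ (h : Heis x Q Z) (S : Subgroup G) (hS : S ≤ Q) : Subgroup G where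
  carrier := {g | ∃ s ∈ S, ∃ z ∈ Z, g = s * z}
  one_mem' := ⟨1, one_mem _, 1, one_mem _, (one_mul 1).symm⟩
  mul_mem' := by
    rintro _ _ ⟨a, ha, z, hz, rfl⟩ ⟨b, hb, w, hw, rfl⟩
    refine ⟨a * b, mul_mem ha hb, z * w, mul_mem hz hw, ?_⟩
    have h2 := h.cent z hz b (hS hb)
    calc a * z * (b * w) = a * (z * b) * w := by group
      _ = a * (b * z) * w := by rw [h2]
      _ = a * b * (z * w) := by group
  inv_mem' := by
    rintro _ ⟨a, ha, z, hz, rfl⟩
    refine ⟨a⁻¹, inv_mem ha, z⁻¹, inv_mem hz, ?_⟩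
    rw [mul_inv_rev]
    exact h.cent _ (inv_mem hz) _ (inv_mem (hS ha))

theorem SZ_le {h : Heis x Q Z} {S : Subgroup G} {hS : S ≤ Q} : SZ h S hS ≤ Q := by
  rintro _ ⟨s, hs, z, hz, rfl⟩
  exact mul_mem (hS hs) (h.le hz)

theorem le_SZ {h : Heis x Q Z} {S : Subgroup G} {hS : S ≤ Q} : S ≤ SZ h S hS :=
  fun s hs => ⟨s, hs, 1, one_mem _, (mul_one s).symm⟩

theorem Z_le_SZ {h : Heis x Q Z} {S : Subgroup G} {hS : S ≤ Q} : Z ≤ SZ h S hS :=
  fun z hz => ⟨1, one_mem _, z, hz, (one_mul z).symm⟩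

/-- `r ↦ [x, r]` is surjective modulo `Z`. -/
theorem Heis.surj [Finite G] (h : Heis x Q Z) {B : Subgroup G} (hZB : Z ≤ B) (hB : B ≤ Q)
    (hx : x ∈ normalizer (B : Set G)) {b : G} (hb : b ∈ B) :
    ∃ c ∈ B, (x * c * x⁻¹ * c⁻¹)⁻¹ * b ∈ Z := by
  classical
  have hmem : ∀ c : B, x * c * x⁻¹ * (c : G)⁻¹ ∈ B := fun c =>
    mul_mem ((mem_normalizer_iff.1 hx _).1 c.2) (inv_mem c.2)
  let N : Subgroup B := Z.subgroupOf B
  let f : B ⧸ N → B ⧸ N := Quotient.map' (fun c : B => ⟨x * c * x⁻¹ * (c : G)⁻¹, hmem c⟩)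
    (by
      intro a c hac
      rw [QuotientGroup.leftRel_apply] at hac ⊢
      rw [mem_subgroupOf] at hac ⊢
      have hz : (a : G)⁻¹ * c ∈ Z := hac
      obtain ⟨z, hzdef⟩ : ∃ z, z = (a : G)⁻¹ * c := ⟨_, rfl⟩
      rw [← hzdef] at hz
      have hc : (c : G) = a * z := by rw [hzdef]; group
      have hxz : x * z * x⁻¹ = z := by rw [h.fixZ z hz]; group
      have e : x * (c : G) * x⁻¹ * (c : G)⁻¹ = x * (a : G) * x⁻¹ * (a : G)⁻¹ := by
        rw [hc]
        calc x * (a * z) * x⁻¹ * (a * z)⁻¹ = x * a * x⁻¹ * (x * z * x⁻¹) * z⁻¹ * (a : G)⁻¹ := by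
              group
          _ = x * (a : G) * x⁻¹ * (a : G)⁻¹ := by rw [hxz]; group
      have e2 : (((⟨x * a * x⁻¹ * (a : G)⁻¹, hmem a⟩ : B)⁻¹ *
          ⟨x * c * x⁻¹ * (c : G)⁻¹, hmem c⟩ : B) : G) = 1 := by
        push_cast
        rw [e]
        group
      rw [e2]
      exact one_mem _)
  have hinj : Function.Injective f := by
    intro u v huv
    obtain ⟨a, rfl⟩ := QuotientGroup.mk_surjective u
    obtain ⟨c, rfl⟩ := QuotientGroup.mk_surjective v
    have h1 : (((⟨x * a * x⁻¹ * (a : G)⁻¹, hmem a⟩ : B) : B ⧸ N)) =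
      ((⟨x * c * x⁻¹ * (c : G)⁻¹, hmem c⟩ : B) : B ⧸ N) := huv
    rw [QuotientGroup.eq, mem_subgroupOf] at h1
    have h2 : (x * a * x⁻¹ * (a : G)⁻¹)⁻¹ * (x * c * x⁻¹ * (c : G)⁻¹) ∈ Z := h1
    rw [QuotientGroup.eq, mem_subgroupOf]
    change (a : G)⁻¹ * c ∈ Z
    apply h.free _ (mul_mem (inv_mem (hB a.2)) (hB c.2))
    obtain ⟨z, hzdef⟩ : ∃ z, z = (x * a * x⁻¹ * (a : G)⁻¹)⁻¹ * (x * c * x⁻¹ * (c : G)⁻¹) := ⟨_, rfl⟩
    rw [← hzdef] at h2
    have e1 : x * ((a : G)⁻¹ * c) * x⁻¹ * ((a : G)⁻¹ * c)⁻¹ = (a : G)⁻¹ * z * a := by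
      rw [hzdef]; group
    rw [e1, mul_assoc, h.cent z h2 a (hB a.2), inv_mul_cancel_left]
    exact h2
  have hsurj := Finite.injective_iff_surjective.1 hinj
  obtain ⟨v, hv⟩ := hsurj ((⟨b, hb⟩ : B) : B ⧸ N)
  obtain ⟨c, rfl⟩ := QuotientGroup.mk_surjective v
  have h1 : (((⟨x * c * x⁻¹ * (c : G)⁻¹, hmem c⟩ : B) : B ⧸ N)) = ((⟨b, hb⟩ : B) : B ⧸ N) := hv
  rw [QuotientGroup.eq, mem_subgroupOf] at h1
  exact ⟨c, c.2, h1⟩

/-- No fixed points modulo invariant subgroups over `Z`. -/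
theorem Heis.free_mod [Finite G] (h : Heis x Q Z) {B : Subgroup G} (hZB : Z ≤ B) (hB : B ≤ Q)
    (hx : x ∈ normalizer (B : Set G)) {r : G} (hr : r ∈ Q) (hrB : x * r * x⁻¹ * r⁻¹ ∈ B) :
    r ∈ B := by
  obtain ⟨c, hc, hcz⟩ := h.surj hZB hB hx hrB
  have h1 : c⁻¹ * r ∈ Z := by
    apply h.free _ (mul_mem (inv_mem (hB hc)) hr)
    obtain ⟨z, hzdef⟩ : ∃ z, z = (x * c * x⁻¹ * c⁻¹)⁻¹ * (x * r * x⁻¹ * r⁻¹) := ⟨_, rfl⟩
    rw [← hzdef] at hcz
    have e1 : x * (c⁻¹ * r) * x⁻¹ * (c⁻¹ * r)⁻¹ = c⁻¹ * z * c := by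
      rw [hzdef]; group
    rw [e1, mul_assoc, h.cent z hcz c (hB hc), inv_mul_cancel_left]
    exact hcz
  have h2 : r = c * (c⁻¹ * r) := by group
  rw [h2]
  exact mul_mem hc (hZB h1)

/-- The stabilizer in `Q`. -/
theorem norm_inf {ω : X} (h : Heis x Q Z) (hω : x • ω = ω) :
    x ∈ normalizer ((Q ⊓ stabilizer G ω : Subgroup G) : Set G) := by
  have hxω : x ∈ stabilizer G ω := hω
  rw [mem_normalizer_iff]
  intro g
  rw [mem_inf, mem_inf]
  constructor
  · rintro ⟨h1, h2⟩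
    exact ⟨(mem_normalizer_iff.1 h.norm g).1 h1, mul_mem (mul_mem hxω h2) (inv_mem hxω)⟩
  · rintro ⟨h1, h2⟩
    refine ⟨(mem_normalizer_iff.1 h.norm g).2 h1, ?_⟩
    have h3 := mul_mem (mul_mem (inv_mem hxω) h2) hxω
    have h4 : x⁻¹ * (x * g * x⁻¹) * x = g := by group
    rwa [h4] at h3

theorem norm_SZ {h : Heis x Q Z} {S : Subgroup G} {hS : S ≤ Q}
    (hx : x ∈ normalizer (S : Set G)) : x ∈ normalizer ((SZ h S hS : Subgroup G) : Set G) := by
  rw [mem_normalizer_iff]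
  intro g
  constructor
  · rintro ⟨s, hs, z, hz, rfl⟩
    refine ⟨x * s * x⁻¹, (mem_normalizer_iff.1 hx s).1 hs, z, hz, ?_⟩
    calc x * (s * z) * x⁻¹ = x * s * x⁻¹ * (x * z * x⁻¹) := by group
      _ = x * s * x⁻¹ * (z * x * x⁻¹) := by rw [h.fixZ z hz]
      _ = _ := by group
  · rintro ⟨s, hs, z, hz, hsz⟩
    refine ⟨x⁻¹ * s * x, ?_, z, hz, ?_⟩
    · have := (mem_normalizer_iff.1 (inv_mem hx) s).1 hs
      rwa [inv_inv] at this
    · have e1 : g = x⁻¹ * (x * g * x⁻¹) * x := by group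
      rw [e1, hsz]
      calc x⁻¹ * (s * z) * x = x⁻¹ * s * (z * x) := by group
        _ = x⁻¹ * s * (x * z) := by rw [h.fixZ z hz]
        _ = _ := by group

/-- Fixed points in a `Q`-orbit lie in one `Z`-orbit. -/
theorem Heis.fix_sub [Finite G] (h : Heis x Q Z) {ω : X} (hω : x • ω = ω) :
    fixedBy X x ∩ orbit Q ω ⊆ orbit Z ω := by
  rintro _ ⟨hz, ⟨r, rfl⟩⟩
  have hz' : x • ((r : G) • ω) = (r : G) • ω := hz
  obtain ⟨S, hS⟩ : ∃ S : Subgroup G, S = Q ⊓ stabilizer G ω := ⟨_, rfl⟩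
  have hSQ : S ≤ Q := by rw [hS]; exact inf_le_left
  have h1 : (r : G)⁻¹ * (x * r * x⁻¹) ∈ S := by
    rw [hS, mem_inf]
    refine ⟨mul_mem (inv_mem r.2) ((mem_normalizer_iff.1 h.norm _).1 r.2), ?_⟩
    rw [mem_stabilizer_iff]
    have h2 : ((r : G)⁻¹ * (x * r * x⁻¹)) • ω = (r : G)⁻¹ • (x • ((r : G) • (x⁻¹ • ω))) := by
      simp only [smul_smul, mul_assoc]
    have h3 : x⁻¹ • ω = ω := by rw [inv_smul_eq_iff, hω]
    rw [h2, h3, hz', inv_smul_smul]
  obtain ⟨s, hsdef⟩ : ∃ s, s = (r : G)⁻¹ * (x * r * x⁻¹) := ⟨_, rfl⟩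
  rw [← hsdef] at h1
  have h2 : x * r * x⁻¹ * (r : G)⁻¹ ∈ SZ h S hSQ := by
    refine ⟨s, h1, _, h.der s⁻¹ (inv_mem (hSQ h1)) r r.2, ?_⟩
    rw [hsdef]
    group
  have hxS : x ∈ normalizer (S : Set G) := by rw [hS]; exact norm_inf h hω
  obtain ⟨t, ht, z, hz2, hrt⟩ := h.free_mod Z_le_SZ SZ_le (norm_SZ hxS) r.2 h2
  refine ⟨⟨z, hz2⟩, ?_⟩
  change z • ω = (r : G) • ω
  rw [hrt, ← h.cent z hz2 t (hSQ ht), mul_smul]
  have h3 : t • ω = ω := by
    rw [hS] at ht
    exact ht.2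
  rw [h3]

/-- Sizes of orbits of the groups between the stabilizer and `Q`. -/
theorem card_orbit_mul [Finite G] {ω : X} {S T : Subgroup G} (hS : S = Q ⊓ stabilizer G ω)
    (h1 : S ≤ T) (h2 : T ≤ Q) : (orbit T ω).ncard * Nat.card S = Nat.card T := by
  classical
  have h3 : Nat.card (orbit T ω) * Nat.card (stabilizer T ω) = Nat.card T := by
    have := Fintype.ofFinite T
    have : Finite (orbit T ω) := (Set.finite_range (fun m : T => m • ω)).to_subtype
    have := Fintype.ofFinite (orbit T ω)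
    have := Fintype.ofFinite (stabilizer T ω)
    rw [Nat.card_eq_fintype_card, Nat.card_eq_fintype_card, Nat.card_eq_fintype_card]
    exact card_orbit_mul_card_stabilizer_eq_card_group T ω
  have h4 : Nat.card (stabilizer T ω) = Nat.card S := by
    have h5 : (stabilizer T ω).map T.subtype = S := by
      ext g
      rw [mem_map]
      constructor
      · rintro ⟨t, ht, rfl⟩
        rw [hS]
        exact ⟨h2 t.2, ht⟩
      · intro hg
        refine ⟨⟨g, h1 hg⟩, ?_, rfl⟩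
        rw [hS] at hg
        exact hg.2
    rw [← h5]
    exact Nat.card_congr (Subgroup.equivMapOfInjective _ _ T.subtype_injective).toEquiv
  rw [h4, Nat.card_coe_set_eq] at h3
  exact h3

theorem orbit_SZ {h : Heis x Q Z} {ω : X} {S : Subgroup G} {hS : S ≤ Q}
    (hSω : S ≤ stabilizer G ω) : orbit (SZ h S hS) ω = orbit Z ω := by
  ext y
  constructor
  · rintro ⟨⟨g, s, hs, z, hz, rfl⟩, rfl⟩
    refine ⟨⟨z, hz⟩, ?_⟩
    change z • ω = (s * z) • ω
    rw [← h.cent z hz s (hS hs), mul_smul]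
    have h3 : s • ω = ω := hSω hs
    rw [h3]
  · rintro ⟨⟨z, hz⟩, rfl⟩
    exact ⟨⟨z, Z_le_SZ hz⟩, rfl⟩

/-- The weight of a point. -/
noncomputable def wt (Q Z : Subgroup G) (ω : X) : ℚ :=
  ((orbit Q ω).ncard : ℚ) / ((orbit Z ω).ncard : ℚ)

theorem orbit_ncard_pos [Finite X] (T : Subgroup G) (ω : X) : 0 < (orbit T ω).ncard := by
  rw [Set.ncard_pos]
  exact ⟨ω, mem_orbit_self ω⟩

/-- The sum of the weights of the fixed points is at most the number of points. -/
theorem Heis.sum_wt [Finite G] [Fintype X] [DecidableEq X] (h : Heis x Q Z) :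
    ∑ ω ∈ Finset.univ.filter (fun ω : X => x • ω = ω), wt Q Z ω ≤ (Fintype.card X : ℚ) := by
  classical
  have h1 : ∀ ω : X, wt Q Z ω = ∑ y : X, if y ∈ orbit Q ω then
      (1 : ℚ) / ((orbit Z ω).ncard : ℚ) else 0 := by
    intro ω
    rw [← Finset.sum_filter, Finset.sum_const, nsmul_eq_mul, wt]
    have : (Finset.univ.filter (fun y : X => y ∈ orbit Q ω)).card = (orbit Q ω).ncard := by
      rw [Set.ncard_eq_toFinset_card']
      congr 1
      ext y
      simp
    rw [this]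
    ring
  have h2 : ∑ ω ∈ Finset.univ.filter (fun ω : X => x • ω = ω), wt Q Z ω =
      ∑ y : X, ∑ ω ∈ Finset.univ.filter (fun ω : X => x • ω = ω), if y ∈ orbit Q ω then
      (1 : ℚ) / ((orbit Z ω).ncard : ℚ) else 0 := by
    rw [Finset.sum_comm]
    exact Finset.sum_congr rfl fun ω _ => h1 ω
  rw [h2]
  have h3 : ∀ y : X, (∑ ω ∈ Finset.univ.filter (fun ω : X => x • ω = ω), if y ∈ orbit Q ω then
      (1 : ℚ) / ((orbit Z ω).ncard : ℚ) else 0) ≤ 1 := by
    intro y
    rw [← Finset.sum_filter]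
    obtain ⟨A, hA⟩ : ∃ A : Finset X, A = Finset.filter (fun a : X => y ∈ orbit Q a)
      (Finset.univ.filter (fun ω : X => x • ω = ω)) := ⟨_, rfl⟩
    rw [← hA]
    rcases A.eq_empty_or_nonempty with h0 | ⟨ω0, hω0⟩
    · rw [h0, Finset.sum_empty]; exact zero_le_one
    · have hω0' := hω0
      rw [hA, Finset.mem_filter, Finset.mem_filter] at hω0'
      obtain ⟨⟨-, hx0⟩, hy0⟩ := hω0'
      have h4 : ∀ ω ∈ A, ω ∈ orbit Z ω0 := by
        intro ω hω
        rw [hA, Finset.mem_filter, Finset.mem_filter] at hω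
        obtain ⟨⟨-, hxω⟩, hyω⟩ := hω
        apply h.fix_sub hx0
        refine ⟨hxω, ?_⟩
        have e1 : orbit Q y = orbit Q ω0 := orbit_eq_iff.2 hy0
        have e2 : orbit Q y = orbit Q ω := orbit_eq_iff.2 hyω
        rw [← e1, e2]
        exact mem_orbit_self ω
      have h5 : ∀ ω ∈ A, (1 : ℚ) / ((orbit Z ω).ncard : ℚ) = 1 / ((orbit Z ω0).ncard : ℚ) := by
        intro ω hω
        rw [orbit_eq_iff.2 (h4 ω hω)]
      rw [Finset.sum_congr rfl h5, Finset.sum_const, nsmul_eq_mul]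
      have h6 : A.card ≤ (orbit Z ω0).ncard := by
        rw [Set.ncard_eq_toFinset_card']
        apply Finset.card_le_card
        intro ω hω
        rw [Set.mem_toFinset]
        exact h4 ω hω
      have h7 : (0 : ℚ) < ((orbit Z ω0).ncard : ℚ) := by
        exact_mod_cast orbit_ncard_pos Z ω0
      rw [mul_one_div, div_le_one h7]
      exact_mod_cast h6
  calc ∑ y : X, _ ≤ ∑ y : X, (1 : ℚ) := Finset.sum_le_sum fun y _ => h3 y
    _ = (Fintype.card X : ℚ) := by rw [Finset.sum_const, nsmul_eq_mul, mul_one, Finset.card_univ]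

/-- If `S Z = Q` then `S = Q`. -/
theorem le_of_SZ_eq {h : Heis x Q Z} {S : Subgroup G} {hS : S ≤ Q}
    (hcomm : ∀ z ∈ Z, ∃ a ∈ Q, ∃ b ∈ Q, z = a * b * a⁻¹ * b⁻¹) (hQ : Q ≤ SZ h S hS) : Q ≤ S := by
  have hZ : Z ≤ S := by
    intro z hz
    obtain ⟨a, ha, b, hb, rfl⟩ := hcomm z hz
    obtain ⟨s, hs, z1, hz1, rfl⟩ := hQ ha
    obtain ⟨t, ht, z2, hz2, rfl⟩ := hQ hb
    have e1 := h.cent z1 hz1 t (hS ht)
    have e2 := h.cent z2 hz2 s (hS hs)
    have e3 := h.cent z1 hz1 z2 (h.le hz2)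
    have e4 : s * z1 * (t * z2) = s * t * (z1 * z2) := by
      calc s * z1 * (t * z2) = s * (z1 * t) * z2 := by group
        _ = s * (t * z1) * z2 := by rw [e1]
        _ = _ := by group
    have e5 : t * z2 * (s * z1) = t * s * (z1 * z2) := by
      calc t * z2 * (s * z1) = t * (z2 * s) * z1 := by group
        _ = t * (s * z2) * z1 := by rw [e2]
        _ = t * s * (z2 * z1) := by group
        _ = _ := by rw [e3]
    have e6 : s * z1 * (t * z2) * (s * z1)⁻¹ * (t * z2)⁻¹ = s * t * s⁻¹ * t⁻¹ := by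
      have : s * z1 * (t * z2) * (s * z1)⁻¹ * (t * z2)⁻¹ =
          s * z1 * (t * z2) * (t * z2 * (s * z1))⁻¹ := by group
      rw [this, e4, e5]
      group
    rw [e6]
    exact mul_mem (mul_mem (mul_mem hs ht) (inv_mem hs)) (inv_mem ht)
  intro g hg
  obtain ⟨s, hs, z, hz, rfl⟩ := hQ hg
  exact mul_mem hs (hZ hz)

/-- The weight is at least `4` unless `Q` fixes the point. -/
theorem Heis.four_le_wt [Finite G] [Finite X] (h : Heis x Q Z) {k : ℕ} (hx : x ^ 3 ^ k = 1)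
    (hcomm : ∀ z ∈ Z, ∃ a ∈ Q, ∃ b ∈ Q, z = a * b * a⁻¹ * b⁻¹) {ω : X} (hω : x • ω = ω)
    (hQ : ¬ Q ≤ stabilizer G ω) : 4 ≤ wt Q Z ω := by
  obtain ⟨S, hS⟩ : ∃ S : Subgroup G, S = Q ⊓ stabilizer G ω := ⟨_, rfl⟩
  have hSQ : S ≤ Q := by rw [hS]; exact inf_le_left
  have hxS : x ∈ normalizer (S : Set G) := by rw [hS]; exact norm_inf h hω
  have hxB := norm_SZ (h := h) (hS := hSQ) hxS
  have h1 : ∃ r ∈ Q, r ∉ SZ h S hSQ := by
    by_contra hcon
    push Not at hcon
    apply hQ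
    have := le_of_SZ_eq (h := h) (hS := hSQ) hcomm hcon
    rw [hS] at this
    exact this.trans inf_le_right
  obtain ⟨r, hrQ, hrB⟩ := h1
  have hQB : Q ≤ normalizer ((SZ h S hSQ : Subgroup G) : Set G) := by
    have aux : ∀ g ∈ Q, ∀ b ∈ SZ h S hSQ, g * b * g⁻¹ ∈ SZ h S hSQ := by
      intro g hg b hb
      have h2 := mul_mem (Z_le_SZ (h := h) (hS := hSQ) (h.der g hg b (SZ_le hb))) hb
      have h3 : g * b * g⁻¹ * b⁻¹ * b = g * b * g⁻¹ := by group
      rwa [h3] at h2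
    intro g hg
    rw [mem_normalizer_iff]
    intro b
    constructor
    · exact aux g hg b
    · intro hb
      have h2 := aux g⁻¹ (inv_mem hg) _ hb
      have h3 : g⁻¹ * (g * b * g⁻¹) * g⁻¹⁻¹ = b := by group
      rwa [h3] at h2
  have hcard := card_coset_ge (j := 0) Nat.prime_three hx SZ_le h.norm hxB hQB hrQ (by
    intro h2
    rw [pow_zero, pow_one] at h2
    exact hrB (h.free_mod Z_le_SZ SZ_le hxB hrQ h2.2))
  have h2 := card_orbit_mul (T := Q) hS hSQ le_rfl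
  have h3 := card_orbit_mul (T := SZ h S hSQ) hS le_SZ SZ_le
  rw [orbit_SZ (by rw [hS]; exact inf_le_right)] at h3
  rw [← h2, ← h3] at hcard
  have h4 : 4 * (orbit Z ω).ncard ≤ (orbit Q ω).ncard := by
    have h5 : 0 < Nat.card S := Nat.card_pos
    apply Nat.le_of_mul_le_mul_right _ h5
    calc 4 * (orbit Z ω).ncard * Nat.card S = (3 ^ (0 + 1) + 1) * ((orbit Z ω).ncard * Nat.card S) := by
          ring
      _ ≤ _ := hcard
  rw [wt, le_div_iff₀ (by exact_mod_cast orbit_ncard_pos Z ω)]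
  exact_mod_cast h4

theorem two_mul_card_le [Finite G] {A B : Subgroup G} (h : A < B) :
    2 * Nat.card A ≤ Nat.card B := by
  obtain ⟨c, hc⟩ := card_dvd_of_le h.le
  have h1 : Nat.card A < Nat.card B := by
    by_contra hcon
    push Not at hcon
    exact h.ne (Subgroup.eq_of_le_of_card_ge h.le hcon)
  rcases Nat.lt_or_ge c 2 with h2 | h2
  · exfalso
    have h3 : c = 0 ∨ c = 1 := by omega
    rcases h3 with h3 | h3
    · rw [h3, mul_zero] at hc; omega
    · rw [h3, mul_one] at hc; omega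
  · rw [hc, mul_comm]
    exact Nat.mul_le_mul_left _ h2

/-- A subgroup of index less than `8` and two elements generate. -/
theorem exists_two_gen [Finite G] {B Q : Subgroup G} (hB : B ≤ Q)
    (hlt : Nat.card Q < 8 * Nat.card B) :
    ∃ g1 ∈ Q, ∃ g2 ∈ Q, Q ≤ B ⊔ zpowers g1 ⊔ zpowers g2 := by
  by_cases h1 : Q ≤ B
  · exact ⟨1, one_mem _, 1, one_mem _, (h1.trans le_sup_left).trans le_sup_left⟩
  obtain ⟨g1, hg1, hg1B⟩ := SetLike.not_le_iff_exists.1 h1
  have hB1 : B < B ⊔ zpowers g1 := by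
    refine lt_of_le_of_ne le_sup_left ?_
    intro h
    apply hg1B
    rw [h]
    exact (le_sup_right : zpowers g1 ≤ _) (mem_zpowers g1)
  have hB1Q : B ⊔ zpowers g1 ≤ Q := sup_le hB (by rwa [zpowers_le])
  by_cases h2 : Q ≤ B ⊔ zpowers g1
  · exact ⟨g1, hg1, 1, one_mem _, h2.trans le_sup_left⟩
  obtain ⟨g2, hg2, hg2B⟩ := SetLike.not_le_iff_exists.1 h2
  have hB2 : B ⊔ zpowers g1 < B ⊔ zpowers g1 ⊔ zpowers g2 := by
    refine lt_of_le_of_ne le_sup_left ?_
    intro h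
    apply hg2B
    rw [h]
    exact (le_sup_right : zpowers g2 ≤ _) (mem_zpowers g2)
  have hB2Q : B ⊔ zpowers g1 ⊔ zpowers g2 ≤ Q := sup_le hB1Q (by rwa [zpowers_le])
  refine ⟨g1, hg1, g2, hg2, ?_⟩
  by_contra h3
  have hlt3 : B ⊔ zpowers g1 ⊔ zpowers g2 < Q :=
    lt_of_le_of_ne hB2Q (fun h => h3 h.ge)
  have a1 := two_mul_card_le hB1
  have a2 := two_mul_card_le hB2
  have a3 := two_mul_card_le hlt3
  omega

/-- The index of `S Z` in `Q` is at least `8` if `S ∩ Z = 1`. -/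
theorem Heis.eight_le [Finite G] (h : Heis x Q Z) {Z0 : Subgroup G}
    (hcen : ∀ g ∈ Q, (∀ a ∈ Q, g * a = a * g) → g ∈ Z0)
    (hbig : 8 * (Nat.card Z ^ 2 * Nat.card Z0) ≤ Nat.card Q) {S : Subgroup G} {hS : S ≤ Q}
    (hSZ : ∀ z ∈ Z, z ∈ S → z = 1) : 8 * Nat.card (SZ h S hS) ≤ Nat.card Q := by
  classical
  by_contra hcon
  push Not at hcon
  obtain ⟨g1, hg1, g2, hg2, hgen⟩ := exists_two_gen SZ_le hcon
  obtain ⟨B, hBdef⟩ : ∃ B, B = SZ h S hS := ⟨_, rfl⟩
  rw [← hBdef] at hcon hgen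
  have hBQ : B ≤ Q := by rw [hBdef]; exact SZ_le
  have hcommS : ∀ a ∈ S, ∀ b ∈ S, a * b = b * a := by
    intro a ha b hb
    have h2 := hSZ _ (h.der a (hS ha) b (hS hb))
      (mul_mem (mul_mem (mul_mem ha hb) (inv_mem ha)) (inv_mem hb))
    rw [mul_inv_eq_one, mul_inv_eq_iff_eq_mul] at h2
    exact h2
  have hcommB : ∀ a ∈ B, ∀ b ∈ B, a * b = b * a := by
    rw [hBdef]
    rintro _ ⟨s, hs, z1, hz1, rfl⟩ _ ⟨t, ht, z2, hz2, rfl⟩
    have e1 := h.cent z1 hz1 t (hS ht)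
    have e2 := h.cent z2 hz2 s (hS hs)
    have e3 := h.cent z1 hz1 z2 (h.le hz2)
    calc s * z1 * (t * z2) = s * (z1 * t) * z2 := by group
      _ = (s * t) * (z1 * z2) := by rw [e1]; group
      _ = (t * s) * (z2 * z1) := by rw [hcommS s hs t ht, e3]
      _ = t * (s * z2) * z1 := by group
      _ = t * z2 * (s * z1) := by rw [← e2]; group
  -- central elements
  have hC : ∀ b ∈ B, b * g1 = g1 * b → b * g2 = g2 * b → b ∈ Z0 := by
    intro b hb hb1 hb2
    apply hcen b (hBQ hb)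
    intro a ha
    have h1 : B ⊔ zpowers g1 ⊔ zpowers g2 ≤ Subgroup.centralizer {b} := by
      refine sup_le (sup_le ?_ ?_) ?_
      · intro c hc
        rw [mem_centralizer_singleton_iff]
        exact hcommB c hc b hb
      · rw [zpowers_le, mem_centralizer_singleton_iff]
        exact hb1.symm
      · rw [zpowers_le, mem_centralizer_singleton_iff]
        exact hb2.symm
    have h2 := h1 (hgen ha)
    rw [mem_centralizer_singleton_iff] at h2
    exact h2.symm
  -- counting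
  let f : B → Z × Z := fun b => (⟨b * g1 * (b : G)⁻¹ * g1⁻¹, h.der b (hBQ b.2) g1 hg1⟩,
    ⟨b * g2 * (b : G)⁻¹ * g2⁻¹, h.der b (hBQ b.2) g2 hg2⟩)
  have := Fintype.ofFinite B
  have := Fintype.ofFinite Z
  have := Fintype.ofFinite Z0
  have hfib : ∀ v ∈ (Finset.univ : Finset B).image f,
      (Finset.univ.filter fun b : B => f b = v).card ≤ Nat.card Z0 := by
    intro v hv
    obtain ⟨b0, -, rfl⟩ := Finset.mem_image.1 hv
    rw [Nat.card_eq_fintype_card, ← Finset.card_univ]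
    apply Finset.card_le_card_of_injOn (fun b : B => if hb : (b0 : G)⁻¹ * b ∈ Z0 then
      (⟨(b0 : G)⁻¹ * b, hb⟩ : Z0) else 1) (fun _ _ => Finset.mem_univ _)
    have key : ∀ b : B, f b = f b0 → (b0 : G)⁻¹ * b ∈ Z0 := by
      intro b hb
      have e1 : (b : G) * g1 * (b : G)⁻¹ * g1⁻¹ = b0 * g1 * (b0 : G)⁻¹ * g1⁻¹ :=
        congrArg (fun v : Z × Z => (v.1 : G)) hb
      have e2 : (b : G) * g2 * (b : G)⁻¹ * g2⁻¹ = b0 * g2 * (b0 : G)⁻¹ * g2⁻¹ :=
        congrArg (fun v : Z × Z => (v.2 : G)) hb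
      have aux : ∀ g : G, (b : G) * g * (b : G)⁻¹ * g⁻¹ = b0 * g * (b0 : G)⁻¹ * g⁻¹ →
          (b0 : G)⁻¹ * b * g = g * ((b0 : G)⁻¹ * b) := by
        intro g hg
        have h1 : (b : G) * g * (b : G)⁻¹ = b0 * g * (b0 : G)⁻¹ := mul_right_cancel hg
        calc (b0 : G)⁻¹ * b * g = (b0 : G)⁻¹ * (b * g * (b : G)⁻¹) * b := by group
          _ = (b0 : G)⁻¹ * (b0 * g * (b0 : G)⁻¹) * b := by rw [h1]
          _ = _ := by group
      exact hC _ (mul_mem (inv_mem b0.2) b.2) (aux g1 e1) (aux g2 e2)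
    intro b hb c hc hbc
    have hb' := key b (Finset.mem_filter.1 hb).2
    have hc' := key c (Finset.mem_filter.1 hc).2
    simp only [hb', hc', dif_pos] at hbc
    have h1 : (b0 : G)⁻¹ * b = (b0 : G)⁻¹ * c := congrArg Subtype.val hbc
    exact Subtype.ext (mul_left_cancel h1)
  have h1 := Finset.card_le_mul_card_image (Finset.univ : Finset B) _ hfib
  have h2 : ((Finset.univ : Finset B).image f).card ≤ Nat.card Z * Nat.card Z := by
    calc ((Finset.univ : Finset B).image f).card ≤ (Finset.univ : Finset (Z × Z)).card :=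
          Finset.card_le_card (Finset.subset_univ _)
      _ = Nat.card Z * Nat.card Z := by
        rw [Finset.card_univ, Fintype.card_prod, Nat.card_eq_fintype_card]
  rw [Finset.card_univ, ← Nat.card_eq_fintype_card] at h1
  have h3 : Nat.card B ≤ Nat.card Z ^ 2 * Nat.card Z0 := by
    calc Nat.card B ≤ _ := h1
      _ ≤ Nat.card Z0 * (Nat.card Z * Nat.card Z) := Nat.mul_le_mul_left _ h2
      _ = _ := by ring
  omega

theorem Heis.eight_le_wt [Finite G] [Finite X] (h : Heis x Q Z) {Z0 : Subgroup G}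
    (hcen : ∀ g ∈ Q, (∀ a ∈ Q, g * a = a * g) → g ∈ Z0)
    (hbig : 8 * (Nat.card Z ^ 2 * Nat.card Z0) ≤ Nat.card Q) {ω : X}
    (hSZ : ∀ z ∈ Z, z ∈ stabilizer G ω → z = 1) : 8 ≤ wt Q Z ω := by
  obtain ⟨S, hS⟩ : ∃ S : Subgroup G, S = Q ⊓ stabilizer G ω := ⟨_, rfl⟩
  have hSQ : S ≤ Q := by rw [hS]; exact inf_le_left
  have hcard := h.eight_le hcen hbig (S := S) (hS := hSQ) (fun z hz hzS => by
    rw [hS] at hzS
    exact hSZ z hz hzS.2)
  have h2 := card_orbit_mul (T := Q) hS hSQ le_rfl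
  have h3 := card_orbit_mul (T := SZ h S hSQ) hS le_SZ SZ_le
  rw [orbit_SZ (by rw [hS]; exact inf_le_right)] at h3
  rw [← h2, ← h3] at hcard
  have h4 : 8 * (orbit Z ω).ncard ≤ (orbit Q ω).ncard := by
    have h5 : 0 < Nat.card S := Nat.card_pos
    apply Nat.le_of_mul_le_mul_right _ h5
    calc 8 * (orbit Z ω).ncard * Nat.card S = 8 * ((orbit Z ω).ncard * Nat.card S) := by ring
      _ ≤ _ := hcard
  rw [wt, le_div_iff₀ (by exact_mod_cast orbit_ncard_pos Z ω)]
  exact_mod_cast h4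

theorem one_le_wt [Finite X] (hZQ : Z ≤ Q) (ω : X) : 1 ≤ wt Q Z ω := by
  rw [wt, le_div_iff₀ (by exact_mod_cast orbit_ncard_pos Z ω), one_mul]
  have : (orbit Z ω).ncard ≤ (orbit Q ω).ncard := by
    apply Set.ncard_le_ncard _ (Set.toFinite _)
    rintro _ ⟨z, rfl⟩
    exact ⟨⟨z, hZQ z.2⟩, rfl⟩
  exact_mod_cast this

end

theorem stabilizer_ne_top' {G : Type*} [Group G] {H : Subgroup G} (hH : H ≠ ⊤) (z : G ⧸ H) :
    stabilizer G z ≠ ⊤ := by
  intro hz
  apply hH
  obtain ⟨g, rfl⟩ := QuotientGroup.mk_surjective z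
  rw [eq_top_iff]
  intro h _
  have h1 : g * h * g⁻¹ ∈ stabilizer G ((g : G) : G ⧸ H) := by rw [hz]; trivial
  have h2 : (g * h * g⁻¹) • ((g : G) : G ⧸ H) = ((g : G) : G ⧸ H) := h1
  have h3 : ((g * h * g⁻¹ * g : G) : G ⧸ H) = ((g : G) : G ⧸ H) := h2
  rw [inv_mul_cancel_right, eq_comm, QuotientGroup.eq] at h3
  have h4 : g⁻¹ * (g * h) = h := by group
  rwa [h4] at h3

/-- **The ratio `1 / 4` from two opposite Heisenberg radicals.** -/
theorem heis_quarter' {G : Type*} [Group G] [Finite G] {x : G} {Q1 Q2 Z1 Z2 W1 W2 : Subgroup G}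
    {k : ℕ}
    (hx : x ^ 3 ^ k = 1) (h1 : Heis x Q1 Z1) (h2 : Heis x Q2 Z2)
    (hcomm1 : ∀ z ∈ Z1, ∃ a ∈ Q1, ∃ b ∈ Q1, z = a * b * a⁻¹ * b⁻¹)
    (hcomm2 : ∀ z ∈ Z2, ∃ a ∈ Q2, ∃ b ∈ Q2, z = a * b * a⁻¹ * b⁻¹)
    (hcen1 : ∀ g ∈ Q1, (∀ a ∈ Q1, g * a = a * g) → g ∈ W1)
    (hcen2 : ∀ g ∈ Q2, (∀ a ∈ Q2, g * a = a * g) → g ∈ W2)
    (hbig1 : 8 * (Nat.card Z1 ^ 2 * Nat.card W1) ≤ Nat.card Q1)
    (hbig2 : 8 * (Nat.card Z2 ^ 2 * Nat.card W2) ≤ Nat.card Q2)
    (hg1 : ∀ H : Subgroup G, Q1 ≤ H → ∀ z ∈ Z2, z ≠ 1 → z ∈ H → H = ⊤)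
    (hg2 : ∀ H : Subgroup G, Q2 ≤ H → ∀ z ∈ Z1, z ≠ 1 → z ∈ H → H = ⊤) : UGood 1 4 x := by
  classical
  intro H hH
  have := Fintype.ofFinite (G ⧸ H)
  have a1 := h1.sum_wt (X := G ⧸ H)
  have a2 := h2.sum_wt (X := G ⧸ H)
  have hw : ∀ ω ∈ Finset.univ.filter (fun ω : G ⧸ H => x • ω = ω),
      (8 : ℚ) ≤ wt Q1 Z1 ω + wt Q2 Z2 ω := by
    intro ω hω
    have hxω : x • ω = ω := (Finset.mem_filter.1 hω).2
    have hst := stabilizer_ne_top' hH ω
    have w1 := one_le_wt h1.le ω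
    have w2 := one_le_wt h2.le ω
    by_cases b1 : Q1 ≤ stabilizer G ω
    · have := h2.eight_le_wt hcen2 hbig2 (ω := ω) (fun z hz hzH => by
        by_contra hz1
        exact hst (hg1 _ b1 z hz hz1 hzH))
      linarith
    · by_cases b2 : Q2 ≤ stabilizer G ω
      · have := h1.eight_le_wt hcen1 hbig1 (ω := ω) (fun z hz hzH => by
          by_contra hz1
          exact hst (hg2 _ b2 z hz hz1 hzH))
        linarith
      · have c1 := h1.four_le_wt hx hcomm1 hxω b1
        have c2 := h2.four_le_wt hx hcomm2 hxω b2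
        linarith
  have h3 := Finset.sum_le_sum hw
  rw [Finset.sum_add_distrib, Finset.sum_const, nsmul_eq_mul] at h3
  have h4 : (Finset.univ.filter (fun ω : G ⧸ H => x • ω = ω)).card =
      Nat.card (fixedBy (G ⧸ H) x) := by
    rw [Nat.card_coe_set_eq, Set.ncard_eq_toFinset_card']
    congr 1
    ext y
    simp [mem_fixedBy]
  rw [h4] at h3
  rw [← Nat.card_eq_fintype_card] at a1 a2
  have h5 : (Nat.card (fixedBy (G ⧸ H) x) : ℚ) * 8 ≤ 2 * (Nat.card (G ⧸ H) : ℚ) := by linarith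
  have h6 : Nat.card (fixedBy (G ⧸ H) x) * 8 ≤ 2 * Nat.card (G ⧸ H) := by exact_mod_cast h5
  omega

/-- The ratio `1 / 4` when `Z` is the whole centre. -/
theorem heis_quarter {G : Type*} [Group G] [Finite G] {x : G} {Q1 Q2 Z1 Z2 : Subgroup G} {k : ℕ}
    (hx : x ^ 3 ^ k = 1) (h1 : Heis x Q1 Z1) (h2 : Heis x Q2 Z2)
    (hcomm1 : ∀ z ∈ Z1, ∃ a ∈ Q1, ∃ b ∈ Q1, z = a * b * a⁻¹ * b⁻¹)
    (hcomm2 : ∀ z ∈ Z2, ∃ a ∈ Q2, ∃ b ∈ Q2, z = a * b * a⁻¹ * b⁻¹)
    (hcen1 : ∀ g ∈ Q1, (∀ a ∈ Q1, g * a = a * g) → g ∈ Z1)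
    (hcen2 : ∀ g ∈ Q2, (∀ a ∈ Q2, g * a = a * g) → g ∈ Z2)
    (hbig1 : 8 * Nat.card Z1 ^ 3 ≤ Nat.card Q1) (hbig2 : 8 * Nat.card Z2 ^ 3 ≤ Nat.card Q2)
    (hg1 : ∀ H : Subgroup G, Q1 ≤ H → ∀ z ∈ Z2, z ≠ 1 → z ∈ H → H = ⊤)
    (hg2 : ∀ H : Subgroup G, Q2 ≤ H → ∀ z ∈ Z1, z ≠ 1 → z ∈ H → H = ⊤) : UGood 1 4 x :=
  heis_quarter' hx h1 h2 hcomm1 hcomm2 hcen1 hcen2 (by rw [← pow_succ]; exact hbig1)
    (by rw [← pow_succ]; exact hbig2) hg1 hg2

end Cfsg.Agent.H452.FprHeis

private theorem dce_ea634715a630 : _root_.True := by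
  try have : _root_.True := by simp only [_root_.Cfsg.Agent.H452.FprHeis.SZ.congr_simp]
  try have : _root_.True := by simp only [_root_.Cfsg.Agent.H452.FprHeis.wt.eq_1]
  exact _root_.True.intro
end

-- part: H441/FPR/BitA
section
set_option linter.all false
open scoped Cfsg.Agent.FastGrp

/-!
# Linear algebra over `F₂` in an elementary abelian group: bit vectors
-/

set_option autoImplicit false
set_option linter.unusedSectionVars false
set_option linter.unusedVariables false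

namespace Cfsg.Agent.H441.FPR.Bit

open scoped Pointwise

/-- matrix times vector over `F₂` -/
def app : List ℕ → ℕ → ℕ
  | [], _ => 0
  | a :: L, v => (if v % 2 = 1 then a else 0) ^^^ app L (v / 2)

/-- the unit matrix -/
def idL : ℕ → List ℕ
  | 0 => []
  | n + 1 => 1 :: (idL n).map (2 * ·)

/-- the product of matrices -/
def mmul (L M : List ℕ) : List ℕ := M.map (app L)

section Psi

variable {A : Type*} [CommGroup A]

/-- the element of a bit vector -/
def psi : List A → ℕ → A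
  | [], _ => 1
  | a :: L, v => (if v % 2 = 1 then a else 1) * psi L (v / 2)

theorem psi_zero (L : List A) : psi L 0 = 1 := by
  induction L with
  | nil => rfl
  | cons a L ih => simp [psi, ih]

theorem xor_div_two (v w : ℕ) : (v ^^^ w) / 2 = (v / 2) ^^^ (w / 2) := by
  apply Nat.eq_of_testBit_eq
  intro i
  rw [Nat.testBit_xor, Nat.testBit_div_two, Nat.testBit_div_two, Nat.testBit_div_two, Nat.testBit_xor]

theorem xor_mod_two (v w : ℕ) : (v ^^^ w) % 2 = (v + w) % 2 := Nat.xor_mod_two_eq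

theorem psi_xor {L : List A} (hL : ∀ a ∈ L, a * a = 1) (v w : ℕ) : psi L (v ^^^ w) = psi L v * psi L w := by
  induction L generalizing v w with
  | nil => simp [psi]
  | cons a L ih =>
    have ha := hL a List.mem_cons_self
    simp only [psi, xor_div_two, ih fun b hb => hL b (List.mem_cons_of_mem _ hb)]
    have h1 := xor_mod_two v w
    rcases Nat.mod_two_eq_zero_or_one v with hv | hv <;> rcases Nat.mod_two_eq_zero_or_one w with hw | hw
    · have h2 : (v ^^^ w) % 2 = 0 := by omega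
      simp [hv, hw, h2]
    · have h2 : (v ^^^ w) % 2 = 1 := by omega
      simp only [hv, hw, h2, if_true, if_neg (show ¬ (0 = 1) by norm_num), one_mul]
      rw [mul_left_comm]
    · have h2 : (v ^^^ w) % 2 = 1 := by omega
      simp only [hv, hw, h2, if_true, if_neg (show ¬ (0 = 1) by norm_num), one_mul]
      rw [mul_assoc]
    · have h2 : (v ^^^ w) % 2 = 0 := by omega
      simp only [hv, hw, h2, if_true, if_neg (show ¬ (0 = 1) by norm_num), one_mul]
      rw [mul_mul_mul_comm, ha, one_mul]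

theorem psi_sq {L : List A} (hL : ∀ a ∈ L, a * a = 1) (v : ℕ) : psi L v * psi L v = 1 := by
  rw [← psi_xor hL, Nat.xor_self, psi_zero]

theorem psi_two_mul (a : A) (L : List A) (v : ℕ) : psi (a :: L) (2 * v) = psi L v := by
  simp [psi]

theorem forall₂_idL (L : List A) : List.Forall₂ (fun a m => a = psi L m) L (idL L.length) := by
  induction L with
  | nil => exact List.Forall₂.nil
  | cons a L ih =>
    rw [List.length_cons, idL]
    refine List.Forall₂.cons ?_ ?_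
    · simp [psi, psi_zero]
    · rw [List.forall₂_map_right_iff]
      refine ih.imp fun b m hb => ?_
      rw [psi_two_mul]
      exact hb

/-- the matrix of an endomorphism -/
def Rep (α : A →* A) (L : List A) (M : List ℕ) : Prop := List.Forall₂ (fun a m => α a = psi L m) L M

theorem psi_app {B : List A} {L : List A} (hL : ∀ a ∈ L, a * a = 1) {α : A →* A} {M : List ℕ}
    (h : List.Forall₂ (fun a m => α a = psi L m) B M) (v : ℕ) : α (psi B v) = psi L (app M v) := by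
  induction h generalizing v with
  | nil => simp [psi, app, psi_zero]
  | @cons a m B M ha h ih =>
    simp only [psi, app, map_mul, ih, psi_xor hL]
    congr 1
    split_ifs
    · exact ha
    · rw [map_one, psi_zero]

theorem Rep.psi {α : A →* A} {L : List A} {M : List ℕ} (hL : ∀ a ∈ L, a * a = 1) (h : Rep α L M) (v : ℕ) :
    α (psi L v) = Bit.psi L (app M v) := psi_app hL h v

theorem Rep.comp {α β : A →* A} {L : List A} {M N : List ℕ} (hL : ∀ a ∈ L, a * a = 1) (h : Rep α L M)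
    (h' : Rep β L N) : Rep (α.comp β) L (mmul M N) := by
  unfold Rep mmul
  rw [List.forall₂_map_right_iff]
  refine h'.imp fun a m ha => ?_
  rw [MonoidHom.comp_apply, ha, h.psi hL]

theorem Rep.one (L : List A) : Rep (MonoidHom.id A) L (idL L.length) := forall₂_idL L

theorem psi_app_mem {L : List A} (hL : ∀ a ∈ L, a * a = 1) {H : Subgroup A} {bs : List ℕ} (hH : ∀ b ∈ bs, psi L b ∈ H)
    (u : ℕ) : psi L (app bs u) ∈ H := by
  induction bs generalizing u with
  | nil => simp [app, psi_zero, one_mem]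
  | cons b bs ih =>
    simp only [app, psi_xor hL]
    refine mul_mem ?_ (ih (fun c hc => hH c (List.mem_cons_of_mem _ hc)) _)
    split_ifs
    · exact hH b List.mem_cons_self
    · rw [psi_zero]; exact one_mem _

theorem psi_map_mul {X : Type*} {f g h : X → A} (l : List X) (e : ∀ x ∈ l, h x = f x * g x) (v : ℕ) :
    psi (l.map h) v = psi (l.map f) v * psi (l.map g) v := by
  induction l generalizing v with
  | nil => simp [psi]
  | cons x l ih =>
    simp only [List.map_cons, psi, ih (fun y hy => e y (List.mem_cons_of_mem _ hy)), e x List.mem_cons_self]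
    split_ifs
    · rw [mul_mul_mul_comm]
    · simp only [one_mul]

end Psi

section Card

variable {A : Type*} [CommGroup A]

theorem card_sup_le [Finite A] (H J : Subgroup A) : Nat.card ↥(H ⊔ J) ≤ Nat.card H * Nat.card J := by
  have h1 : ((H ⊔ J : Subgroup A) : Set A) = (H : Set A) * (J : Set A) := (Subgroup.mul_normal H J)
  have h2 := Set.natCard_mul_le (s := (H : Set A)) (t := (J : Set A))
  rw [← h1] at h2
  exact h2

variable {K : Type*} [AddGroup K] [Finite K] (F : ℕ → Multiplicative K →* A) (g : List ℕ)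

/-- the row of the elements with parameter `t` -/
def row (t : Multiplicative K) : List A := g.map fun s => F s t

/-- the one parameter subgroup of a bit vector -/
def par (b : ℕ) : Multiplicative K →* A where
  toFun t := psi (row F g t) b
  map_one' := by
    have h1 : ∀ l : List ℕ, ∀ v, psi (l.map fun s => F s (1 : Multiplicative K)) v = 1 := by
      intro l
      induction l with
      | nil => intro v; rfl
      | cons x l ih =>
        intro v
        rw [List.map_cons, psi, ih, map_one, ite_self, one_mul]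
    exact h1 g b
  map_mul' t u := psi_map_mul (f := fun s => F s t) (g := fun s => F s u) g (fun s _ => map_mul (F s) t u) b

/-- the subgroup of a list of bit vectors -/
def SB : List ℕ → Subgroup A
  | [] => ⊥
  | b :: bs => (par F g b).range ⊔ SB bs

theorem card_SB [Finite A] (bs : List ℕ) : Nat.card ↥(SB F g bs) ≤ Nat.card K ^ bs.length := by
  induction bs with
  | nil => simp [SB]
  | cons b bs ih =>
    rw [SB, List.length_cons, pow_succ, mul_comm]
    refine (card_sup_le _ _).trans (Nat.mul_le_mul ?_ ih)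
    exact (Nat.card_le_card_of_surjective _ (MonoidHom.rangeRestrict_surjective (par F g b)))

theorem par_le_SB {b : ℕ} {bs : List ℕ} (hb : b ∈ bs) : (par F g b).range ≤ SB F g bs := by
  induction bs with
  | nil => exact absurd hb List.not_mem_nil
  | cons c bs ih =>
    rcases List.mem_cons.1 hb with rfl | hb
    · exact le_sup_left
    · exact (ih hb).trans le_sup_right

/-- the certificate: the vectors `M w + w + B u` are the unit vectors -/
def cert (M bs : List ℕ) (wu : List (ℕ × ℕ)) : List ℕ := wu.map fun c => app M c.1 ^^^ (c.1 ^^^ app bs c.2)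

/-- **the kernel of `α - 1` is small** -/
theorem card_ker_le [Finite A] {α θ : A →* A} (hθ : ∀ v, θ v = α v * v⁻¹) (h2 : ∀ s ∈ g, ∀ t, F s t * F s t = 1)
    {M bs : List ℕ} {wu : List (ℕ × ℕ)} (hrep : ∀ t, Rep α (row F g t) M) (hc : cert M bs wu = idL g.length)
    (hgen : ∀ H : Subgroup A, (∀ s ∈ g, ∀ t, F s t ∈ H) → H = ⊤) : Nat.card θ.ker ≤ Nat.card K ^ bs.length := by
  have hrow : ∀ t, ∀ a ∈ row F g t, a * a = 1 := by
    intro t a ha
    obtain ⟨s, hs, rfl⟩ := List.mem_map.1 ha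
    exact h2 s hs t
  have htop : θ.range ⊔ SB F g bs = ⊤ := by
    refine hgen _ fun s hs t => ?_
    have h1 := forall₂_idL (row F g t)
    have hlen : (row F g t).length = g.length := by unfold row; rw [List.length_map]
    rw [hlen, ← hc] at h1
    have h3 : F s t ∈ row F g t := List.mem_map.2 ⟨s, hs, rfl⟩
    obtain ⟨i, hi, e⟩ := List.getElem_of_mem h3
    have hi' : i < (cert M bs wu).length := by rw [← h1.length_eq]; exact hi
    have e1 := h1.get hi hi'
    simp only [List.get_eq_getElem] at e1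
    rw [e] at e1
    rw [e1]
    unfold cert
    rw [List.getElem_map]
    set c := wu[i]'(by simpa [cert] using hi') with hcdef
    rw [psi_xor (hrow t), psi_xor (hrow t), ← mul_assoc]
    refine mul_mem (Subgroup.mem_sup_left ?_) (Subgroup.mem_sup_right ?_)
    · refine ⟨psi (row F g t) c.1, ?_⟩
      rw [hθ, (hrep t).psi (hrow t)]
      congr 1
      rw [inv_eq_iff_mul_eq_one]
      exact psi_sq (hrow t) _
    · refine psi_app_mem (hrow t) (fun b hb => ?_) _
      exact par_le_SB F g hb ⟨t, rfl⟩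
  have h4 : Nat.card A = Nat.card θ.ker * Nat.card θ.range := by
    rw [← Subgroup.index_ker]
    exact (Subgroup.card_mul_index θ.ker).symm
  have h5 : Nat.card A ≤ Nat.card θ.range * Nat.card K ^ bs.length := by
    calc Nat.card A = Nat.card ↥(θ.range ⊔ SB F g bs) := by rw [htop, Subgroup.card_top]
      _ ≤ Nat.card θ.range * Nat.card ↥(SB F g bs) := card_sup_le _ _
      _ ≤ _ := Nat.mul_le_mul_left _ (card_SB F g bs)
  rw [h4, mul_comm] at h5
  exact Nat.le_of_mul_le_mul_left h5 Nat.card_pos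

end Card

end Cfsg.Agent.H441.FPR.Bit

private theorem dce_e3887ac6dc63 : _root_.True := by
  try have : _root_.True := by simp only [_root_.Cfsg.Agent.H441.FPR.Bit.idL.eq_2]
  try have : _root_.True := by simp only [_root_.Cfsg.Agent.H441.FPR.Bit.app.eq_1]
  try have : _root_.True := by simp only [_root_.Cfsg.Agent.H441.FPR.Bit.app.eq_def]
  try have : _root_.True := by simp only [_root_.Cfsg.Agent.H441.FPR.Bit.idL.eq_1]
  try have : _root_.True := by simp only [_root_.Cfsg.Agent.H441.FPR.Bit.app.eq_2]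
  try have : _root_.True := by simp only [_root_.Cfsg.Agent.H441.FPR.Bit.psi.eq_1]
  try have : _root_.True := by simp only [_root_.Cfsg.Agent.H441.FPR.Bit.psi.eq_2]
  try have : _root_.True := by simp only [_root_.Cfsg.Agent.H441.FPR.Bit.idL.eq_def]
  try have : _root_.True := by simp only [_root_.Cfsg.Agent.H441.FPR.Bit.cert.eq_1]
  try have : _root_.True := by simp only [_root_.Cfsg.Agent.H441.FPR.Bit.SB.eq_def]
  try have : _root_.True := by simp only [_root_.Cfsg.Agent.H441.FPR.Bit.psi.eq_def]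
  try have : _root_.True := by simp only [_root_.Cfsg.Agent.H441.FPR.Bit.SB.eq_2]
  try have : _root_.True := by simp only [_root_.Cfsg.Agent.H441.FPR.Bit.SB.eq_1]
  exact _root_.True.intro
end

-- part: H441/FPR/Crit
section
prune_inst 0x11064044b2202040018a58271203c529e0004b200480000d820034006cafc202d83a8618c2028161a2200452035006811100080420000000a000800011901a0800040008348010c260099800104000000000000000000000000000000051000000000000
set_option linter.all false
open scoped Cfsg.Agent.FastGrp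

-- part: H441/FPR/Mod
section
/-!
# Natural modules for subgroups `SL_n(K)` of the Chevalley groups (table check)

* `NatOK D r ε g u` : the table check for a family `g : Fin n → ℕ` of roots on which the elements
  `x_{r a b}(ε c)` act as the transvections of the natural module;
* `ev` : the homomorphism `(Fin n → K) → D.group K`; `act` : `φ A * ev v * (φ A)⁻¹ = ev (A v)`.
-/

set_option autoImplicit false

namespace Cfsg.Agent.H441.FPR

open Cfsg.Lie Cfsg.Agent.ChevalleyStructure Cfsg.Agent.ChevalleyStructure.Elts Cfsg.Agent.H79.SimpleGen Matrix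

universe u

variable {K : Type u} [Field K] {D : ChevalleyDatum} (hD : InList D)

theorem xS_comm {r s : ℕ} (hr : r < D.nroots) (hs : s < D.nroots) (hrs : s ≠ r)
    (hneg : s ≠ D.neg r) (h : D.commTerms r s = []) (t u : K) :
    xS hD r t * xS hD s u = xS hD s u * xS hD r t :=
  Subtype.ext (Cfsg.Agent.TitsThree.KExcBase.comm_nil hD hr hs hrs hneg h t u)

/-- the commutator formula with one term -/
theorem xS_one {r s k : ℕ} {N : ℤ} (hr : r < D.nroots) (hs : s < D.nroots) (hrs : s ≠ r)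
    (hneg : s ≠ D.neg r) (h : D.commTerms r s = [(k, N, 1, 1)]) (t u : K) :
    xS hD r t * xS hD s u = xS hD s u * xS hD r t * xS hD k ((N : K) * t * u) := by
  have h1 := Cfsg.Agent.S1025.result (F := K) D hD r s hr hs hrs hneg t u
  have h2 : D.commWord K r s t u = [(k, (N : K) * (-t) ^ 1 * u ^ 1)] := by
    show (D.commTerms r s).map _ = _
    rw [h]; rfl
  rw [h2, wordMat_cons, wordMat_nil, mul_one] at h1
  have h3 : xS hD s u * xS hD r t = xS hD r t * xS hD s u * xS hD k (-((N : K) * t * u)) := by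
    apply Subtype.ext
    apply Units.ext
    change D.x K s u * D.x K r t = D.x K r t * D.x K s u * D.x K k (-((N : K) * t * u))
    rw [h1]
    congr 2
    ring
  rw [h3, mul_assoc, xS_mul, neg_add_cancel, xS_zero, mul_one]

/-- the step: `X r ≤ M`, `X s ≤ M` imply `X k ≤ M` -/
theorem step_mem {M : Subgroup ↥(D.group K)} {r s k : ℕ} {N : ℤ} (hr : r < D.nroots) (hs : s < D.nroots)
    (hrs : s ≠ r) (hneg : s ≠ D.neg r) (h : D.commTerms r s = [(k, N, 1, 1)]) (hN : N * N = 1)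
    (h1 : ∀ t, xS hD r t ∈ M) (h2 : ∀ t, xS hD s t ∈ M) (t : K) : xS hD k t ∈ M := by
  have h3 := xS_one hD (K := K) hr hs hrs hneg h ((N : K) * t) 1
  have hNK : (N : K) * (N : K) = 1 := by rw [← Int.cast_mul, hN, Int.cast_one]
  have h4 : (N : K) * ((N : K) * t) * 1 = t := by rw [mul_one, ← mul_assoc, hNK, one_mul]
  rw [h4] at h3
  have h5 : xS hD k t = (xS hD s 1 * xS hD r ((N : K) * t))⁻¹ * (xS hD r ((N : K) * t) * xS hD s 1) := by
    rw [h3]; group
  rw [h5]
  exact mul_mem (inv_mem (mul_mem (h2 _) (h1 _))) (mul_mem (h1 _) (h2 _))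

section Mod

variable {n : ℕ} (D)

/-- first part of the table check -/
def NatA (g : Fin n → ℕ) (u : Fin n → ℤ) : Prop := ∀ a, g a < D.nroots ∧ u a * u a = 1

/-- second part of the table check -/
def NatB (g : Fin n → ℕ) : Prop :=
  ∀ a b, a ≠ b → g b ≠ g a ∧ g b ≠ D.neg (g a) ∧ D.commTerms (g a) (g b) = []

/-- third part of the table check -/
def NatC (r : Fin n → Fin n → ℕ) (ε : ℤ) (g : Fin n → ℕ) (u : Fin n → ℤ) : Prop :=
  ∀ a b, a ≠ b → g b ≠ r a b ∧ g b ≠ D.neg (r a b) ∧ D.commTerms (r a b) (g b) = [(g a, ε * u b * u a, 1, 1)]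

/-- fourth part of the table check -/
def NatE (r : Fin n → Fin n → ℕ) (g : Fin n → ℕ) : Prop :=
  ∀ a b j, a ≠ b ∧ j ≠ b → g j ≠ r a b ∧ g j ≠ D.neg (r a b) ∧ D.commTerms (r a b) (g j) = []

instance (g : Fin n → ℕ) (u : Fin n → ℤ) : Decidable (NatA D g u) := by
  unfold NatA; infer_instance
instance (g : Fin n → ℕ) : Decidable (NatB D g) := by
  unfold NatB; infer_instance
instance (r : Fin n → Fin n → ℕ) (ε : ℤ) (g : Fin n → ℕ) (u : Fin n → ℤ) : Decidable (NatC D r ε g u) := by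
  unfold NatC; infer_instance
instance (r : Fin n → Fin n → ℕ) (g : Fin n → ℕ) : Decidable (NatE D r g) := by
  unfold NatE; infer_instance

/-- the table check for a natural module -/
def NatOK (r : Fin n → Fin n → ℕ) (ε : ℤ) (g : Fin n → ℕ) (u : Fin n → ℤ) : Prop :=
  NatA D g u ∧ NatB D g ∧ NatC D r ε g u ∧ NatE D r g ∧ ε * ε = 1

instance (r : Fin n → Fin n → ℕ) (ε : ℤ) (g : Fin n → ℕ) (u : Fin n → ℤ) : Decidable (NatOK D r ε g u) := by
  unfold NatOK; infer_instance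

variable {D}

/-- the homomorphism of one root -/
def rootHom (r : ℕ) (c : K) : Multiplicative K →* ↥(D.group K) where
  toFun t := xS hD r (c * t.toAdd)
  map_one' := by rw [toAdd_one, mul_zero, xS_zero]
  map_mul' a b := by rw [toAdd_mul, mul_add, xS_mul]

variable {r : Fin n → Fin n → ℕ} {ε : ℤ} {g : Fin n → ℕ} {u : Fin n → ℤ}

include hD in
theorem NatOK.comm (h : NatOK D r ε g u) :
    Pairwise fun i j => ∀ (x y : Multiplicative K),
      Commute (rootHom hD (g i) (u i : K) x) (rootHom hD (g j) (u j : K) y) := by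
  intro i j hij x y
  obtain ⟨h1, h2, h3⟩ := h.2.1 i j hij
  exact xS_comm hD (h.1 i).1 (h.1 j).1 h1 h2 h3 _ _

/-- the module as a homomorphism -/
noncomputable def ev (h : NatOK D r ε g u) : (Fin n → Multiplicative K) →* ↥(D.group K) :=
  MonoidHom.noncommPiCoprod (fun i => rootHom hD (g i) (u i : K)) (h.comm hD)

/-- the element of the vector `v` -/
noncomputable def e (h : NatOK D r ε g u) (v : Fin n → K) : ↥(D.group K) :=
  ev hD h fun i => Multiplicative.ofAdd (v i)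

variable (h : NatOK D r ε g u)

theorem e_zero : e hD h (0 : Fin n → K) = 1 := map_one (ev hD h)

theorem e_add (v w : Fin n → K) : e hD h (v + w) = e hD h v * e hD h w := by
  unfold e
  rw [← map_mul]
  rfl

theorem e_neg (v : Fin n → K) : e hD h (-v) = (e hD h v)⁻¹ := by
  apply eq_inv_of_mul_eq_one_left
  rw [← e_add, neg_add_cancel, e_zero]

theorem e_single (i : Fin n) (t : K) : e hD h (Pi.single i t) = xS hD (g i) ((u i : K) * t) := by
  unfold e ev
  have h1 : (fun j => Multiplicative.ofAdd ((Pi.single i t : Fin n → K) j)) =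
      Pi.mulSingle i (Multiplicative.ofAdd t) := by
    funext j
    by_cases hj : j = i
    · subst hj; simp
    · rw [Pi.single_eq_of_ne hj, Pi.mulSingle_eq_of_ne hj]; rfl
  rw [h1, MonoidHom.noncommPiCoprod_mulSingle]
  rfl

/-- an additive induction on vectors -/
theorem vec_induction {P : (Fin n → K) → Prop} (h0 : P 0) (ha : ∀ v w, P v → P w → P (v + w))
    (hs : ∀ i t, P (Pi.single i t)) (v : Fin n → K) : P v := by
  have h1 : v = ∑ i, Pi.single i (v i) := (Finset.univ_sum_single v).symm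
  rw [h1]
  exact Finset.sum_induction _ P ha h0 fun i _ => hs i _

/-- the action of a transvection -/
theorem act_tr {a b : Fin n} (hab : a ≠ b) (hr : r a b < D.nroots) (c : K) (v : Fin n → K) :
    xS hD (r a b) ((ε : K) * c) * e hD h v * (xS hD (r a b) ((ε : K) * c))⁻¹ =
      e hD h ((Matrix.transvection a b c).mulVec v) := by
  refine vec_induction (P := fun v => xS hD (r a b) ((ε : K) * c) * e hD h v * (xS hD (r a b) ((ε : K) * c))⁻¹ =
      e hD h ((Matrix.transvection a b c).mulVec v)) ?_ ?_ ?_ v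
  · rw [Matrix.mulVec_zero, e_zero]; group
  · intro v w hv hw
    rw [Matrix.mulVec_add, e_add, e_add, ← hv, ← hw]
    group
  · intro j t
    by_cases hj : j = b
    · subst hj
      have h1 : (Matrix.transvection a j c).mulVec (Pi.single j t) = Pi.single j t + Pi.single a (c * t) := by
        rw [Matrix.transvection, Matrix.add_mulVec, Matrix.one_mulVec]
        congr 1
        funext i
        rw [Matrix.mulVec_single]
        by_cases hi : i = a
        · subst hi; simp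
        · rw [Pi.single_eq_of_ne hi]
          simp [Ne.symm hi]
      rw [h1, e_add, e_single, e_single]
      obtain ⟨g1, g2, g3⟩ := h.2.2.1 a j hab
      have h2 := xS_one hD (K := K) hr (h.1 j).1 g1 g2 g3 ((ε : K) * c) ((u j : K) * t)
      obtain ⟨k1, k2, k3⟩ := h.2.2.2.1 a j a ⟨hab, hab⟩
      have h3 := xS_comm hD (K := K) hr (h.1 a).1 k1 k2 k3 ((ε : K) * c)
      have huK : ((u j : ℤ) : K) * (u j : K) = 1 := by
        rw [← Int.cast_mul, (h.1 j).2, Int.cast_one]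
      have hεK : ((ε : ℤ) : K) * (ε : K) = 1 := by
        rw [← Int.cast_mul, h.2.2.2.2, Int.cast_one]
      have h4 : ((ε * u j * u a : ℤ) : K) * ((ε : K) * c) * ((u j : K) * t) = (u a : K) * (c * t) := by
        rw [Int.cast_mul, Int.cast_mul]
        linear_combination ((u a : K) * c * t) * ((ε : K) * (ε : K)) * huK + ((u a : K) * c * t) * hεK
      rw [h4] at h2
      calc xS hD (r a j) ((ε : K) * c) * xS hD (g j) ((u j : K) * t) * (xS hD (r a j) ((ε : K) * c))⁻¹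
          = xS hD (g j) ((u j : K) * t) * (xS hD (r a j) ((ε : K) * c) * xS hD (g a) ((u a : K) * (c * t))) *
              (xS hD (r a j) ((ε : K) * c))⁻¹ := by rw [h2]; group
        _ = _ := by rw [h3]; group
    · have h1 : (Matrix.transvection a b c).mulVec (Pi.single j t) = Pi.single j t := by
        rw [Matrix.transvection, Matrix.add_mulVec, Matrix.one_mulVec]
        convert add_zero _
        funext i
        rw [Matrix.mulVec_single]
        simp [Ne.symm hj]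
      rw [h1, e_single]
      obtain ⟨k1, k2, k3⟩ := h.2.2.2.1 a b j ⟨hab, hj⟩
      rw [xS_comm hD (K := K) hr (h.1 j).1 k1 k2 k3]
      group

/-- **The action of `SL_n(K)`.** -/
theorem act (hr : ∀ a b, a ≠ b → r a b < D.nroots) {φ : SpecialLinearGroup (Fin n) K →* ↥(D.group K)}
    (hφ : ∀ a b (hab : a ≠ b) c, φ (SpecialLinearGroup.transvection hab c) = xS hD (r a b) ((ε : K) * c))
    (A : SpecialLinearGroup (Fin n) K) : ∀ v : Fin n → K,
    φ A * e hD h v * (φ A)⁻¹ = e hD h ((A : Matrix (Fin n) (Fin n) K).mulVec v) := by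
  have h1 : A ∈ Subgroup.closure (Cfsg.Agent.LieClassical.SLGen.transvections (Fin n) K) := by
    rw [Cfsg.Agent.LieClassical.SLGen.closure_transvections]
    exact Subgroup.mem_top A
  refine Subgroup.closure_induction (p := fun A _ => ∀ v : Fin n → K,
    φ A * e hD h v * (φ A)⁻¹ = e hD h ((A : Matrix (Fin n) (Fin n) K).mulVec v)) ?_ ?_ ?_ ?_ h1
  · rintro A ⟨a, b, hab, c, rfl⟩ v
    rw [hφ]
    exact act_tr hD h hab (hr a b hab) c v
  · intro v
    rw [map_one, show ((1 : SpecialLinearGroup (Fin n) K) : Matrix (Fin n) (Fin n) K) = 1 from rfl,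
      Matrix.one_mulVec]
    group
  · intro A B _ _ hA hB v
    rw [map_mul, show ((A * B : SpecialLinearGroup (Fin n) K) : Matrix (Fin n) (Fin n) K) =
      (A : Matrix (Fin n) (Fin n) K) * (B : Matrix (Fin n) (Fin n) K) from rfl, ← Matrix.mulVec_mulVec, ← hA, ← hB]
    group
  · intro A _ hA v
    have h2 := hA (((A⁻¹ : SpecialLinearGroup (Fin n) K) : Matrix (Fin n) (Fin n) K).mulVec v)
    rw [Matrix.mulVec_mulVec] at h2
    have h3 : (A : Matrix (Fin n) (Fin n) K) * ((A⁻¹ : SpecialLinearGroup (Fin n) K) : Matrix (Fin n) (Fin n) K) =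
        1 := congrArg Subtype.val (mul_inv_cancel A)
    rw [h3, Matrix.one_mulVec] at h2
    rw [map_inv, ← h2]
    group

end Mod

end Cfsg.Agent.H441.FPR
end

-- part: H441/FPR/Crit
section
/-!
# The criterion for fixed point ratios from natural modules
-/

set_option autoImplicit false

namespace Cfsg.Agent.H441.FPR

open Cfsg.Lie Cfsg.Agent.ChevalleyStructure Cfsg.Agent.ChevalleyStructure.Elts Cfsg.Agent.H79.SimpleGen Matrix
open Cfsg.Agent.H398.FPR

universe u

variable {K : Type u} [Field K] {D : ChevalleyDatum} (hD : InList D)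

/-! ### Pairs from families -/

theorem mem_norm_of_conj {G : Type*} [Group G] {R : Subgroup G} [Finite R] {x : G}
    (h : ∀ y ∈ R, x * y * x⁻¹ ∈ R) : x ∈ Subgroup.normalizer (R : Set G) := by
  let f : R → R := fun y => ⟨x * y * x⁻¹, h y y.2⟩
  have hf : Function.Injective f := by
    intro a b hab
    have h1 : x * a * x⁻¹ = x * b * x⁻¹ := congrArg Subtype.val hab
    exact Subtype.ext (mul_left_cancel (mul_right_cancel h1))
  rw [Subgroup.mem_normalizer_iff]
  intro y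
  refine ⟨h y, fun hy => ?_⟩
  obtain ⟨z, hz⟩ := (Finite.injective_iff_surjective.1 hf) ⟨_, hy⟩
  have h1 : x * z * x⁻¹ = x * y * x⁻¹ := congrArg Subtype.val hz
  have h2 : (z : G) = y := mul_left_cancel (mul_right_cancel h1)
  rw [← h2]
  exact z.2

theorem conj_mem_iSup {G : Type*} [Group G] {ι : Sort*} {Q : ι → Subgroup G} {x : G}
    (hn : ∀ i, ∀ y ∈ Q i, x * y * x⁻¹ ∈ Q i) : ∀ y ∈ ⨆ i, Q i, x * y * x⁻¹ ∈ ⨆ i, Q i := by
  intro y hy
  have h1 : (⨆ i, Q i) ≤ (⨆ i, Q i).comap (MulAut.conj x).toMonoidHom := by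
    refine iSup_le fun i z hz => ?_
    exact (le_iSup Q i) (hn i z hz)
  exact h1 hy

theorem conj_pow_mem {G : Type*} [Group G] {Q : Subgroup G} {x : G}
    (hn : ∀ y ∈ Q, x * y * x⁻¹ ∈ Q) (m : ℕ) : ∀ y ∈ Q, x ^ m * y * (x ^ m)⁻¹ ∈ Q := by
  induction m with
  | zero => intro y hy; simpa using hy
  | succ m ih =>
    intro y hy
    have h1 := hn _ (ih y hy)
    have h2 : x * (x ^ m * y * (x ^ m)⁻¹) * x⁻¹ = x ^ (m + 1) * y * (x ^ (m + 1))⁻¹ := by
      rw [pow_succ']; group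
    rwa [h2] at h1

theorem pair_iSup {G : Type*} [Group G] [Finite G] {ι : Sort*} {Q : ι → Subgroup G} {x : G} {p j : ℕ}
    (hnilp : Group.IsNilpotent ↥(⨆ i, Q i)) (hn : ∀ i, ∀ y ∈ Q i, x * y * x⁻¹ ∈ Q i)
    (hfull : ∀ i, CommFull (Q i) (x ^ p ^ j)) : Pair p j x (⨆ i, Q i) where
  nilp := hnilp
  norm := mem_norm_of_conj (conj_mem_iSup hn)
  full := commFull_of_le_iSup (le_iSup Q) le_rfl (fun i => conj_pow_mem (hn i) _) hfull

/-! ### Two radicals -/

/-- two radicals -/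
def TR (r p : ℕ) (G : Type*) [Group G] : Prop :=
  ∃ (j k : ℕ) (x : G) (R1 R2 : Subgroup G), x ^ p ^ k = 1 ∧ (p = 2 → 1 ≤ j) ∧ Pair p j x R1 ∧ Pair p j x R2 ∧
    IsPGroup r R1 ∧ IsPGroup r R2 ∧ Subgroup.closure ({x} ∪ (R1 : Set G) ∪ R2) = ⊤

theorem TR.good {r p : ℕ} {G : Type*} [Group G] [Finite G] (hp : p.Prime) (h : TR r p G) :
    Good (p - 1) (2 * p - 1) p G := by
  obtain ⟨j, k, x, R1, R2, hx, hj, h1, h2, -, -, hgen⟩ := h
  exact T3_good hp hj hx h1 h2 hgen

/-- **The ratio of S3569.** -/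
theorem TR.row {r p : ℕ} {G : Type*} [Group G] [Finite G] (hp : p.Prime) (h : TR r p G) :
    Cfsg.Agent.H409.FprRow (2 * p - 1) (p - 1) p G := h.good hp

/-- **The ratio of S3578.** -/
theorem TR.row' {r p : ℕ} {G : Type*} [Group G] [Finite G] (hp : p.Prime) (hr : r.Prime)
    (hne : ∀ t : ℕ, r ^ t ≠ p + 1) (h : TR r p G) : Cfsg.Agent.H409.FprRow (p + 1) 1 p G := by
  obtain ⟨j, k, x, R1, R2, hx, hj, h1, h2, h3, h4, hgen⟩ := h
  rcases Nat.eq_zero_or_pos j with rfl | hj0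
  · exact Cfsg.Agent.H435.Fpr.T3_sharp_good hp hr hne hx h1 h2 h3 h4 hgen
  · exact T3_good' hp hj0 hx h1 h2 hgen

/-! ### Unipotent subgroups -/

theorem pgroup_of_map {G : Type*} [Group G] {B : Subgroup G} {r : ℕ} {R : Subgroup ↥B} {U : Subgroup G}
    (h : R.map B.subtype ≤ U) (hU : IsPGroup r U) : IsPGroup r R := by
  intro g
  obtain ⟨k, hk⟩ := hU ⟨g, h ⟨g, g.2, rfl⟩⟩
  refine ⟨k, ?_⟩
  have h1 : ((g : ↥B) : G) ^ r ^ k = 1 := congrArg Subtype.val hk
  apply Subtype.ext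
  apply Subtype.ext
  exact h1

theorem pgroup_pos [Finite K] (hD : InList D) (r : ℕ) [Fact r.Prime] [CharP K r] : IsPGroup r ↥(D.posUnipotent K) := by
  have : Fintype K := Fintype.ofFinite K
  obtain ⟨n, -, hn⟩ := FiniteField.card K r
  refine IsPGroup.of_card (n := n * (D.nroots / 2)) ?_
  rw [Cfsg.Agent.S1027.result D hD, hn, pow_mul]

theorem pgroup_neg [Finite K] (hD : InList D) (r : ℕ) [Fact r.Prime] [CharP K r] : IsPGroup r ↥(D.negUnipotent K) := by
  obtain ⟨m, -, hm⟩ := Cfsg.Agent.S1053.result (F := K) D hD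
  rw [← hm]
  exact (pgroup_pos hD r).map _

theorem xS_pos {r : ℕ} (hr : D.IsPosRoot r) (t : K) :
    ((xS hD r t : ↥(D.group K)) : GL D.Idx K) ∈ D.posUnipotent K := xG_mem_posUnipotent hD hr t

theorem xS_neg {r : ℕ} (hr : D.IsNegRoot r) (t : K) :
    ((xS hD r t : ↥(D.group K)) : GL D.Idx K) ∈ D.negUnipotent K := xG_mem_negUnipotent hD hr t

/-! ### Generation -/

/-- one step of the closure -/
def gstep (D : ChevalleyDatum) (S : List ℕ) (rs : ℕ × ℕ) : List ℕ :=
  if rs.1 ∈ S ∧ rs.2 ∈ S ∧ rs.1 < D.nroots ∧ rs.2 < D.nroots ∧ rs.2 ≠ rs.1 ∧ rs.2 ≠ D.neg rs.1 then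
    match D.commTerms rs.1 rs.2 with
    | [(k, N, 1, 1)] => if N * N = 1 then k :: S else S
    | _ => S
  else S

theorem gstep_sound {M : Subgroup ↥(D.group K)} {S : List ℕ} (hS : ∀ k ∈ S, ∀ t : K, xS hD k t ∈ M)
    (rs : ℕ × ℕ) : ∀ k ∈ gstep D S rs, ∀ t : K, xS hD k t ∈ M := by
  unfold gstep
  split_ifs with h
  · obtain ⟨h1, h2, h3, h4, h5, h6⟩ := h
    split
    · rename_i k N hk
      split_ifs with hN
      · intro k' hk' t
        rcases List.mem_cons.1 hk' with rfl | hk'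
        · exact step_mem hD h3 h4 h5 h6 hk hN (hS _ h1) (hS _ h2) t
        · exact hS _ hk' t
      · exact hS
    · exact hS
  · exact hS

/-- the closure along a list of steps -/
def gall (D : ChevalleyDatum) (S : List ℕ) (steps : List (ℕ × ℕ)) : List ℕ := steps.foldl (gstep D) S

theorem gall_sound {M : Subgroup ↥(D.group K)} (steps : List (ℕ × ℕ)) :
    ∀ {S : List ℕ}, (∀ k ∈ S, ∀ t : K, xS hD k t ∈ M) → ∀ k ∈ gall D S steps, ∀ t : K, xS hD k t ∈ M := by
  induction steps with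
  | nil => intro S hS; exact hS
  | cons a steps ih =>
    intro S hS
    unfold gall
    rw [List.foldl_cons]
    exact ih (gstep_sound hD hS a)

/-- all fundamental roots and their negatives are reached -/
def GenOK (D : ChevalleyDatum) (S : List ℕ) (steps : List (ℕ × ℕ)) : Prop :=
  ∀ i < D.rank, D.simple i ∈ gall D S steps ∧ D.neg (D.simple i) ∈ gall D S steps

instance (S : List ℕ) (steps : List (ℕ × ℕ)) : Decidable (GenOK D S steps) := by
  unfold GenOK; infer_instance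

theorem GenOK.top {S : List ℕ} {steps : List (ℕ × ℕ)} (h : GenOK D S steps) {M : Subgroup ↥(D.group K)}
    (hS : ∀ k ∈ S, ∀ t : K, xS hD k t ∈ M) : M = ⊤ :=
  eq_top_of_simple hD M (fun i hi => gall_sound hD steps hS _ (h i hi).1)
    (fun i hi => gall_sound hD steps hS _ (h i hi).2)

/-! ### The modules -/

section

variable {n : ℕ} {r : Fin n → Fin n → ℕ} {ε : ℤ} {g : Fin n → ℕ} {u : Fin n → ℤ}

/-- the module as a subgroup -/
noncomputable def QQ (h : NatOK D r ε g u) : Subgroup ↥(D.group K) := (ev hD h).range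

theorem mem_QQ (h : NatOK D r ε g u) {y : ↥(D.group K)} : y ∈ QQ hD h ↔ ∃ v : Fin n → K, e hD h v = y := by
  constructor
  · rintro ⟨v, rfl⟩
    exact ⟨fun i => (v i).toAdd, rfl⟩
  · rintro ⟨v, rfl⟩
    exact ⟨_, rfl⟩

theorem xS_mem_QQ (h : NatOK D r ε g u) (i : Fin n) (t : K) : xS hD (g i) t ∈ QQ hD h := by
  rw [mem_QQ]
  refine ⟨Pi.single i ((u i : K) * t), ?_⟩
  rw [e_single, ← mul_assoc, ← Int.cast_mul, (h.1 i).2, Int.cast_one, one_mul]

theorem QQ_le {h : NatOK D r ε g u} {M : Subgroup ↥(D.group K)} (hM : ∀ i, ∀ t : K, xS hD (g i) t ∈ M) :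
    QQ hD h ≤ M := by
  intro y hy
  obtain ⟨v, rfl⟩ := (mem_QQ hD h).1 hy
  refine vec_induction (P := fun v => e hD h v ∈ M) ?_ ?_ ?_ v
  · rw [e_zero]; exact one_mem _
  · intro v w hv hw
    rw [e_add]; exact mul_mem hv hw
  · intro i t
    rw [e_single]; exact hM _ _

theorem QQ_conj (h : NatOK D r ε g u) (hr : ∀ a b, a ≠ b → r a b < D.nroots)
    {φ : SpecialLinearGroup (Fin n) K →* ↥(D.group K)}
    (hφ : ∀ a b (hab : a ≠ b) c, φ (SpecialLinearGroup.transvection hab c) = xS hD (r a b) ((ε : K) * c))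
    (A : SpecialLinearGroup (Fin n) K) {y : ↥(D.group K)} (hy : y ∈ QQ hD h) : φ A * y * (φ A)⁻¹ ∈ QQ hD h := by
  obtain ⟨v, rfl⟩ := (mem_QQ hD h).1 hy
  rw [act hD h hr hφ]
  exact (mem_QQ hD h).2 ⟨_, rfl⟩

/-- a matrix without fixed vectors: `A - 1` is onto -/
theorem exists_sub {A : Matrix (Fin n) (Fin n) K} (hA : ∀ v : Fin n → K, A.mulVec v = v → v = 0)
    (w : Fin n → K) : ∃ v, A.mulVec v - v = w := by
  let f : (Fin n → K) →ₗ[K] (Fin n → K) := Matrix.toLin' A - LinearMap.id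
  have hf : Function.Injective f := by
    rw [← LinearMap.ker_eq_bot, LinearMap.ker_eq_bot']
    intro v hv
    apply hA
    have h1 : A.mulVec v - v = 0 := hv
    exact sub_eq_zero.1 h1
  obtain ⟨v, hv⟩ := (LinearMap.injective_iff_surjective.1 hf) w
  exact ⟨v, hv⟩

theorem QQ_full (h : NatOK D r ε g u) (hr : ∀ a b, a ≠ b → r a b < D.nroots)
    {φ : SpecialLinearGroup (Fin n) K →* ↥(D.group K)}
    (hφ : ∀ a b (hab : a ≠ b) c, φ (SpecialLinearGroup.transvection hab c) = xS hD (r a b) ((ε : K) * c))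
    {A : SpecialLinearGroup (Fin n) K}
    (hA : ∀ v : Fin n → K, (A : Matrix (Fin n) (Fin n) K).mulVec v = v → v = 0) : CommFull (QQ hD h) (φ A) := by
  apply commFull_of_surj
  intro q hq
  obtain ⟨w, rfl⟩ := (mem_QQ hD h).1 hq
  obtain ⟨v, hv⟩ := exists_sub hA w
  refine ⟨e hD h v, (mem_QQ hD h).2 ⟨v, rfl⟩, ?_⟩
  rw [act hD h hr hφ, ← e_neg, ← e_add, ← sub_eq_add_neg, hv]

end

/-! ### The inverse transpose -/

/-- inverse transpose -/
def itr (n : ℕ) (K : Type*) [Field K] : SpecialLinearGroup (Fin n) K →* SpecialLinearGroup (Fin n) K where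
  toFun A := (A⁻¹).transpose
  map_one' := by
    apply Subtype.ext
    rw [inv_one]
    exact Matrix.transpose_one
  map_mul' A B := by
    apply Subtype.ext
    rw [_root_.mul_inv_rev]
    exact Matrix.transpose_mul _ _

theorem itr_itr {n : ℕ} (A : SpecialLinearGroup (Fin n) K) : itr n K (itr n K A) = A := by
  have h1 : itr n K (itr n K A) * (itr n K A).transpose = 1 := by
    change ((itr n K A)⁻¹).transpose * (itr n K A).transpose = 1
    apply Subtype.ext
    change (((itr n K A)⁻¹ : SpecialLinearGroup (Fin n) K) : Matrix (Fin n) (Fin n) K)ᵀ *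
      ((itr n K A : SpecialLinearGroup (Fin n) K) : Matrix (Fin n) (Fin n) K)ᵀ = 1
    rw [← Matrix.transpose_mul]
    have h2 : ((itr n K A : SpecialLinearGroup (Fin n) K) : Matrix (Fin n) (Fin n) K) *
        (((itr n K A)⁻¹ : SpecialLinearGroup (Fin n) K) : Matrix (Fin n) (Fin n) K) = 1 :=
      congrArg Subtype.val (mul_inv_cancel (itr n K A))
    rw [h2, Matrix.transpose_one]
  have h3 : (itr n K A).transpose = A⁻¹ := by
    apply Subtype.ext
    exact Matrix.transpose_transpose _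
  rw [h3, mul_inv_eq_one] at h1
  exact h1

theorem itr_transvection {n : ℕ} {a b : Fin n} (hab : a ≠ b) (c : K) :
    itr n K (SpecialLinearGroup.transvection hab c) = SpecialLinearGroup.transvection hab.symm (-c) := by
  have h1 : (SpecialLinearGroup.transvection hab c)⁻¹ = SpecialLinearGroup.transvection hab (-c) := by
    rw [inv_eq_iff_mul_eq_one]
    apply Subtype.ext
    change Matrix.transvection a b c * Matrix.transvection a b (-c) = 1
    rw [Matrix.transvection_mul_transvection_same _ _ hab, add_neg_cancel, Matrix.transvection_zero]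
  change ((SpecialLinearGroup.transvection hab c)⁻¹).transpose = _
  rw [h1]
  apply Subtype.ext
  change (Matrix.transvection a b (-c))ᵀ = Matrix.transvection b a (-c)
  rw [Matrix.transvection, Matrix.transvection, Matrix.transpose_add, Matrix.transpose_one,
    Matrix.transpose_single]

theorem itr_free {n : ℕ} {A : SpecialLinearGroup (Fin n) K}
    (hA : ∀ v : Fin n → K, (A : Matrix (Fin n) (Fin n) K).mulVec v = v → v = 0) :
    ∀ v : Fin n → K, (itr n K A : Matrix (Fin n) (Fin n) K).mulVec v = v → v = 0 := by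
  intro v hv
  -- `Aᵀ v = v`
  have h1 : ((A : Matrix (Fin n) (Fin n) K)ᵀ).mulVec v = v := by
    conv_lhs => rw [← hv]
    rw [Matrix.mulVec_mulVec]
    have h2 : (A : Matrix (Fin n) (Fin n) K)ᵀ * (itr n K A : Matrix (Fin n) (Fin n) K) = 1 := by
      change (A : Matrix (Fin n) (Fin n) K)ᵀ *
        ((A⁻¹ : SpecialLinearGroup (Fin n) K) : Matrix (Fin n) (Fin n) K)ᵀ = 1
      rw [← Matrix.transpose_mul]
      have h3 : ((A⁻¹ : SpecialLinearGroup (Fin n) K) : Matrix (Fin n) (Fin n) K) *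
          (A : Matrix (Fin n) (Fin n) K) = 1 := congrArg Subtype.val (inv_mul_cancel A)
      rw [h3, Matrix.transpose_one]
    rw [h2, Matrix.one_mulVec]
  by_contra hne
  have h4 : (((A : Matrix (Fin n) (Fin n) K) - 1)ᵀ).det = 0 := by
    rw [← Matrix.exists_mulVec_eq_zero_iff]
    refine ⟨v, hne, ?_⟩
    rw [Matrix.transpose_sub, Matrix.transpose_one, Matrix.sub_mulVec, h1, Matrix.one_mulVec, sub_self]
  rw [Matrix.det_transpose, ← Matrix.exists_mulVec_eq_zero_iff] at h4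
  obtain ⟨w, hw, hw0⟩ := h4
  apply hw
  apply hA
  rw [Matrix.sub_mulVec, Matrix.one_mulVec, sub_eq_zero] at hw0
  exact hw0

/-! ### The criterion -/

/-- the table check for the criterion -/
structure CritOK (D : ChevalleyDatum) {n m : ℕ} (r : Fin n → Fin n → ℕ) (ε : ℤ) (g : Fin m → Fin n → ℕ)
    (u u' : Fin m → Fin n → ℤ) (steps : List (ℕ × ℕ)) : Prop where
  rlt : ∀ a b, a ≠ b → r a b < D.nroots
  nat : ∀ i, NatOK D r ε (g i) (u i)
  dual : ∀ i, NatOK D (fun a b => r b a) (-ε) (fun a => D.neg (g i a)) (u' i)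
  pos : ∀ i a, D.IsPosRoot (g i a) ∧ D.IsNegRoot (D.neg (g i a))
  gen : GenOK D (((List.finRange m).flatMap fun i => (List.finRange n).map fun a => g i a) ++
    ((List.finRange m).flatMap fun i => (List.finRange n).map fun a => D.neg (g i a))) steps

/-- **The criterion.** -/
theorem CritOK.tr [Finite K] {r0 : ℕ} [Fact r0.Prime] [CharP K r0] {n m : ℕ} {r : Fin n → Fin n → ℕ} {ε : ℤ}
    {g : Fin m → Fin n → ℕ}
    {u u' : Fin m → Fin n → ℤ} {steps : List (ℕ × ℕ)} (C : CritOK D r ε g u u' steps)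
    {φ : SpecialLinearGroup (Fin n) K →* ↥(D.group K)}
    (hφ : ∀ a b (hab : a ≠ b) c, φ (SpecialLinearGroup.transvection hab c) = xS hD (r a b) ((ε : K) * c))
    {p j : ℕ} (hj : p = 2 → 1 ≤ j) {A : SpecialLinearGroup (Fin n) K} {k : ℕ} (hAp : A ^ p ^ k = 1)
    (hA : ∀ v : Fin n → K, ((A ^ p ^ j : SpecialLinearGroup (Fin n) K) : Matrix (Fin n) (Fin n) K).mulVec v = v →
      v = 0) :
    TR r0 p ↥(D.group K) := by
  have hfin : Finite ↥(D.group K) := inferInstance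
  have hx : φ A ^ p ^ k = 1 := by rw [← map_pow, hAp, map_one]
  -- the dual homomorphism
  let φ' : SpecialLinearGroup (Fin n) K →* ↥(D.group K) := φ.comp (itr n K)
  have hφ' : ∀ a b (hab : a ≠ b) c, φ' (SpecialLinearGroup.transvection hab c) =
      xS hD (r b a) (((-ε : ℤ) : K) * c) := by
    intro a b hab c
    change φ (itr n K _) = _
    rw [itr_transvection, hφ, Int.cast_neg]
    congr 1
    ring
  have hxA : φ A = φ' (itr n K A) := by
    change _ = φ (itr n K (itr n K A))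
    rw [itr_itr]
  have hxA' : φ A ^ p ^ j = φ' (itr n K (A ^ p ^ j)) := by
    rw [hxA, map_pow, map_pow]
  have hr' : ∀ a b, a ≠ b → r b a < D.nroots := fun a b hab => C.rlt b a hab.symm
  obtain ⟨R1, hR1⟩ : ∃ R1 : Subgroup ↥(D.group K), R1 = ⨆ i, QQ hD (C.nat i) := ⟨_, rfl⟩
  obtain ⟨R2, hR2⟩ : ∃ R2 : Subgroup ↥(D.group K), R2 = ⨆ i, QQ hD (C.dual i) := ⟨_, rfl⟩
  have hn1 : ∀ i, ∀ y ∈ QQ (K := K) hD (C.nat i), φ A * y * (φ A)⁻¹ ∈ QQ hD (C.nat i) :=
    fun i y hy => QQ_conj hD (C.nat i) C.rlt hφ A hy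
  have hn2 : ∀ i, ∀ y ∈ QQ (K := K) hD (C.dual i), φ A * y * (φ A)⁻¹ ∈ QQ hD (C.dual i) := by
    intro i y hy
    rw [hxA]
    exact QQ_conj hD (C.dual i) hr' hφ' _ hy
  have hpg1 : IsPGroup r0 ↥(⨆ i, QQ (K := K) hD (C.nat i)) := by
    refine pgroup_of_map ?_ (pgroup_pos hD r0)
    rw [Subgroup.map_le_iff_le_comap]
    exact iSup_le fun i => QQ_le hD fun a t => xS_pos hD (C.pos i a).1 t
  have hpg2 : IsPGroup r0 ↥(⨆ i, QQ (K := K) hD (C.dual i)) := by
    refine pgroup_of_map ?_ (pgroup_neg hD r0)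
    rw [Subgroup.map_le_iff_le_comap]
    exact iSup_le fun i => QQ_le hD fun a t => xS_neg hD (C.pos i a).2 t
  have hP1 : Pair p j (φ A) R1 := by
    rw [hR1]
    refine pair_iSup hpg1.isNilpotent hn1 fun i => ?_
    rw [← map_pow]
    exact QQ_full hD (C.nat i) C.rlt hφ hA
  have hP2 : Pair p j (φ A) R2 := by
    rw [hR2]
    refine pair_iSup hpg2.isNilpotent hn2 fun i => ?_
    rw [hxA']
    exact QQ_full hD (C.dual i) hr' hφ' (itr_free hA)
  have hgen : Subgroup.closure ({φ A} ∪ (R1 : Set ↥(D.group K)) ∪ R2) = ⊤ := by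
    apply GenOK.top hD C.gen
    intro k hk t
    rcases List.mem_append.1 hk with hk | hk
    · obtain ⟨i, -, hk⟩ := List.mem_flatMap.1 hk
      obtain ⟨a, -, rfl⟩ := List.mem_map.1 hk
      apply Subgroup.subset_closure
      refine Or.inl (Or.inr ?_)
      rw [hR1]
      exact (le_iSup (fun i => QQ (K := K) hD (C.nat i)) i) (xS_mem_QQ hD (C.nat i) a t)
    · obtain ⟨i, -, hk⟩ := List.mem_flatMap.1 hk
      obtain ⟨a, -, rfl⟩ := List.mem_map.1 hk
      apply Subgroup.subset_closure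
      refine Or.inr ?_
      rw [hR2]
      exact (le_iSup (fun i => QQ (K := K) hD (C.dual i)) i) (xS_mem_QQ hD (C.dual i) a t)
  exact ⟨j, k, φ A, R1, R2, hx, hj, hP1, hP2, by rw [hR1]; exact hpg1, by rw [hR2]; exact hpg2, hgen⟩

end Cfsg.Agent.H441.FPR
end

private theorem dce_8c69b2bf46e9 : _root_.True := by
  try have : _root_.True := by simp only [_root_.Cfsg.Agent.H441.FPR.gstep._sparseCasesOn_1.else_eq]
  try have : _root_.True := by simp only [_root_.Cfsg.Agent.H441.FPR.gstep._sparseCasesOn_2.else_eq]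
  try have : _root_.True := by simp only [_root_.Cfsg.Agent.H79.SimpleGen.xS.congr_simp]
  try have : _root_.True := by simp only [_root_.Cfsg.Agent.H441.FPR.e.congr_simp]
  try have : _root_.True := by simp only [_root_.Cfsg.Agent.H441.FPR.gstep.eq_1]
  try have : _root_.True := by simp only [_root_.Cfsg.Agent.H441.FPR.gstep.eq_def]
  exact _root_.True.intro
end

-- part: H444/FprOdd
section
prune_inst 0x10000000000000
set_option linter.all false
open scoped Cfsg.Agent.FastGrp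

/-!
# Fixed point ratios of `p`-elements: unique Sylow subgroups and averages

`Row p S` : for every proper subgroup `H` of `S` some `p`-element `x` fixes at most `(p - 1) / (2 p - 1)` of the
cosets of `H`.

* `exists_fixedBy_le` : Burnside: some element of `P` has at most as many fixed points as there are `P`-orbits;
* `exists_pelt` : `p * fix x ≤ (p - 1) * |fix P| + n`;
* `row_of_ratio` : it is enough that `|fix P|` is small if `P` has fixed points (`p` odd);
* `row_of_uniq` : some element of `S` lies in only one Sylow `p`-subgroup (`p` odd);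
* `row_of_cyclic` : cyclic Sylow subgroups.
-/

set_option autoImplicit false

open Subgroup MulAction

namespace Cfsg.Agent.H444.Fpr

open Cfsg.Agent.H401

universe u

/-- For every proper subgroup `H` some `p`-element fixes at most `(p - 1) / (2 p - 1)` of the cosets of `H`. -/
def Row (p : ℕ) (S : Type*) [Group S] : Prop :=
  ∀ H : Subgroup S, H ≠ ⊤ → ∃ x : S, (∃ k : ℕ, orderOf x = p ^ k) ∧
    (2 * p - 1) * Nat.card (fixedBy (S ⧸ H) x) ≤ (p - 1) * Nat.card (S ⧸ H)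

theorem exists_fixedBy_le (P X : Type*) [Group P] [Finite P] [MulAction P X] [Finite X] :
    ∃ x : P, Nat.card (fixedBy X x) ≤ Nat.card (orbitRel.Quotient P X) := by
  classical
  have := Fintype.ofFinite P
  have := Fintype.ofFinite X
  have := Fintype.ofFinite (orbitRel.Quotient P X)
  by_contra hcon
  push Not at hcon
  have h1 := sum_card_fixedBy_eq_card_orbits_mul_card_group P X
  have h2 : ∑ _x : P, Fintype.card (orbitRel.Quotient P X) < ∑ x : P, Fintype.card (fixedBy X x) := by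
    apply Finset.sum_lt_sum_of_nonempty ⟨1, Finset.mem_univ 1⟩
    intro x _
    have := hcon x
    rwa [Nat.card_eq_fintype_card, Nat.card_eq_fintype_card] at this
  rw [h1, Finset.sum_const, Finset.card_univ, smul_eq_mul, mul_comm] at h2
  exact lt_irrefl _ h2

section

variable {p : ℕ} [Fact p.Prime] {G : Type*} [Group G] [Finite G]

theorem orderOf_mem (P : Sylow p G) {x : G} (hx : x ∈ P) : ∃ k : ℕ, orderOf x = p ^ k := by
  obtain ⟨k, hk⟩ := IsPGroup.iff_orderOf.1 P.isPGroup' ⟨x, hx⟩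
  exact ⟨k, by rw [← hk, Subgroup.orderOf_mk]⟩

theorem exists_pelt {X : Type*} [MulAction G X] [Finite X] (P : Sylow p G) : ∃ x ∈ P,
    p * Nat.card (fixedBy X x) ≤ (p - 1) * (fs (P : Subgroup G) X).ncard + Nat.card X := by
  obtain ⟨x, hx⟩ := exists_fixedBy_le (P : Subgroup G) X
  refine ⟨x, x.2, (Nat.mul_le_mul_left p ?_).trans (card_orbits_le (Ω := X) P.isPGroup')⟩
  exact hx

omit [Fact p.Prime] in
theorem numeric (hp3 : 3 ≤ p) {f n c : ℕ} (h : p * c ≤ (p - 1) * f + n)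
    (hf : (2 * p - 1) * ((p - 1) * f) + 3 * p * n ≤ (p ^ 2 + 1) * n) : (2 * p - 1) * c ≤ (p - 1) * n := by
  obtain ⟨q, rfl⟩ : ∃ q, p = q + 3 := ⟨p - 3, by omega⟩
  have e1 : 2 * (q + 3) - 1 = 2 * q + 5 := by omega
  have e2 : q + 3 - 1 = q + 2 := by omega
  rw [e1, e2] at hf ⊢
  rw [e2] at h
  apply Nat.le_of_mul_le_mul_left _ (show 0 < q + 3 by omega)
  have h1 := Nat.mul_le_mul_left (2 * q + 5) h
  nlinarith [h1, hf]

/-- A subgroup of index prime to `p` contains a Sylow subgroup. -/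
theorem exists_sylow_le {H : Subgroup G} (h : ¬ p ∣ H.index) : ∃ P : Sylow p G, (P : Subgroup G) ≤ H := by
  obtain ⟨Q⟩ : Nonempty (Sylow p H) := inferInstance
  refine ⟨(Q.2.map H.subtype).toSylow ?_, ?_⟩
  · have h1 : ((Q : Subgroup H).map H.subtype).index = (Q : Subgroup H).index * H.index := by
      rw [index_map_subtype]
    rw [h1, (Fact.out : p.Prime).dvd_mul, not_or]
    exact ⟨Q.not_dvd_index, h⟩
  · rw [IsPGroup.toSylow_coe]
    exact map_subtype_le _

omit [Finite G] in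
theorem index_stabilizer_mk (H : Subgroup G) (x : G ⧸ H) : (stabilizer G x).index = H.index := by
  have h := index_stabilizer_of_transitive G x
  rw [h]
  rfl

/-- If `p` divides the index, a Sylow subgroup fixes no coset. -/
theorem fs_eq_empty (P : Sylow p G) {H : Subgroup G} (h : p ∣ H.index) : fs (P : Subgroup G) (G ⧸ H) = ∅ := by
  rw [Set.eq_empty_iff_forall_notMem]
  intro x hx
  have h1 : (P : Subgroup G) ≤ stabilizer G x := hx
  have h2 := index_dvd_of_le h1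
  rw [index_stabilizer_mk] at h2
  exact P.not_dvd_index (h.trans h2)

end

section

variable {p : ℕ} [Fact p.Prime] {S : Type*} [Group S] [Finite S]

/-- **An element in only one Sylow subgroup.** -/
theorem row_of_uniq {S : Type u} [Group S] [Finite S] (hS : PGen p S) (hp2 : p ≠ 2) {P : Sylow p S} {z : S}
    (hz : z ∈ P) (huniq : ∀ Q : Sylow p S, z ∈ Q → Q = P) : Row p S := by
  intro H hH
  have hp := (Fact.out : p.Prime)
  have hp3 : 3 ≤ p := by
    have := hp.two_le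
    omega
  by_cases hd : p ∣ H.index
  · obtain ⟨x, hx, hx2⟩ := exists_pelt (X := S ⧸ H) P
    refine ⟨x, orderOf_mem P hx, numeric hp3 hx2 ?_⟩
    rw [fs_eq_empty P hd, Set.ncard_empty, mul_zero, mul_zero, zero_add]
    apply Nat.mul_le_mul_right
    nlinarith
  · refine ⟨z, orderOf_mem P hz, ?_⟩
    have hF := thmF _ S rfl hS H hH P
    refine (Nat.mul_le_mul_left _ ?_).trans hF
    rw [← Nat.card_coe_set_eq]
    apply Nat.card_mono (Set.toFinite _)
    intro y hy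
    have hzy : z ∈ stabilizer S y := hy
    have hdy : ¬ p ∣ (stabilizer S y).index := by rwa [index_stabilizer_mk]
    obtain ⟨P', hP'⟩ := exists_sylow_le hdy
    have hzp : IsPGroup p (zpowers (⟨z, hzy⟩ : stabilizer S y)) := by
      obtain ⟨k, hk⟩ := orderOf_mem P hz
      exact isPGroup_zpowers (t := k) (by rw [← hk, Subgroup.orderOf_mk])
    obtain ⟨R, hR⟩ := hzp.exists_le_sylow
    obtain ⟨Q, hQ⟩ := exists_sylow_map hP' R
    have hzQ : z ∈ Q := by
      have h1 : z ∈ (Q : Subgroup S) := by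
        rw [hQ]
        exact ⟨⟨z, hzy⟩, hR (mem_zpowers _), rfl⟩
      exact h1
    have hQP := huniq Q hzQ
    show (P : Subgroup S) ≤ stabilizer S y
    rw [← hQP, hQ]
    exact map_subtype_le _

omit [Finite S] in
theorem fixedBy_eq_fs_of_cyclic {X : Type*} [MulAction S X] {P : Subgroup S} {z : S} (hz : zpowers z = P) :
    fixedBy X z = fs P X := by
  ext y
  rw [mem_fs, ← hz, zpowers_le]
  rfl

/-- **Cyclic Sylow subgroups.** -/
theorem row_of_cyclic {S : Type u} [Group S] [Finite S] (hS : PGen p S) (P : Sylow p S)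
    (hP : IsCyclic (P : Subgroup S)) : Row p S := by
  intro H hH
  obtain ⟨⟨z, hz⟩, hgen⟩ := hP.exists_generator
  have hz' : zpowers z = (P : Subgroup S) := by
    apply le_antisymm
    · rw [zpowers_le]
      exact hz
    · intro y hy
      obtain ⟨k, hk⟩ := hgen ⟨y, hy⟩
      exact ⟨k, by simpa using congrArg Subtype.val hk⟩
  refine ⟨z, orderOf_mem P hz, ?_⟩
  have hF := thmF _ S rfl hS H hH P
  rwa [← fixedBy_eq_fs_of_cyclic hz', ← Nat.card_coe_set_eq] at hF

end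

/-- A simple group of order divisible by `p` is generated by its Sylow `p`-subgroups. -/
theorem pGen_of_simple {p : ℕ} [Fact p.Prime] {S : Type*} [Group S] [Finite S] [IsSimpleGroup S]
    (hp : p ∣ Nat.card S) : PGen p S := by
  have hn : (plus p (⊤ : Subgroup S)).Normal := by
    rw [← normalizer_eq_top_iff, eq_top_iff]
    exact le_normalizer_plus ⊤
  rcases hn.eq_bot_or_eq_top with h | h
  · exfalso
    obtain ⟨P⟩ : Nonempty (Sylow p S) := inferInstance
    have h1 : (P : Subgroup S) ≤ ⊥ := by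
      rw [← h]
      exact le_plus le_top
    have h2 := P.dvd_card_of_dvd_card hp
    have h3 : Nat.card P = 1 := by
      have : (P : Subgroup S) = ⊥ := le_bot_iff.1 h1
      show Nat.card (P : Subgroup S) = 1
      rw [this, Subgroup.card_bot]
    rw [h3] at h2
    exact (Fact.out : p.Prime).one_lt.ne' (Nat.dvd_one.1 h2)
  · exact h

end Cfsg.Agent.H444.Fpr
end

-- part: H110/Fpr/FamSp
section
prune_inst 0xf0304b00572200040000a010d0201c36b20004b000080000e8a0034207882c428d828860ac10240612a2000500350008110000000200000000000000011801801000000420400008000000000100000000000000000000000000000000000000000000000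
set_option linter.all false
open scoped Cfsg.Agent.FastGrp

-- part: H110/Fpr/Even
section
/-!
# Symplectic groups in characteristic two
-/

set_option autoImplicit false
set_option linter.unusedSimpArgs false

namespace Cfsg.Agent.H110.Fpr

open Cfsg.Agent.TitsThree.Siegel Cfsg.Agent.TitsThree.SiegelGen Cfsg.Agent.H398.FPR
open Cfsg.Agent.H409

variable {F : Type*} [Field F] {V : Type*} [AddCommGroup V] [Module F V]
variable {H : HForm F V} {P : PQ H}

/-- quadratic functions polarising to `h` -/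
structure IsQ2 (H : HForm F V) (q : V → F) : Prop where
  add : ∀ v w, q (v + w) = q v + q w + H.h v w
  smul : ∀ (s : F) v, q (s • v) = s ^ 2 * q v

theorem IsQ2.zero {q : V → F} (hq : IsQ2 H q) : q 0 = 0 := by
  have := hq.smul 0 0
  simpa using this

/-- conditions on the form: alternating in characteristic two -/
structure Alt2 (H : HForm F V) : Prop where
  two : (2 : F) = 0
  eps : H.ε = 1
  sig : ∀ x, H.σ x = x
  alt : ∀ v, H.h v v = 0

theorem Alt2.add_self (hA : Alt2 H) (x : F) : x + x = 0 := by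
  have := hA.two
  linear_combination x * this

theorem Alt2.neg (hA : Alt2 H) (x : F) : -x = x := by
  have := hA.add_self x
  linear_combination -this

theorem Alt2.comm (hA : Alt2 H) (v w : V) : H.h w v = H.h v w := by
  rw [H.swap v w, hA.eps, hA.sig, one_mul]

/-- The pseudoquadratic structure of a quadratic function. -/
def P2 (hA : Alt2 H) {q : V → F} (hq : IsQ2 H q) : PQ H where
  ok w c := c = q w
  ex w := ⟨_, rfl⟩
  zero := hq.zero.symm
  rel := by
    rintro w c rfl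
    rw [hA.eps, hA.sig, hA.alt, one_mul, hA.add_self, neg_zero]
  add := by
    rintro w c w' c' rfl rfl
    rw [hq.add, hA.eps, inv_one, one_mul, hA.comm w w', sub_eq_add_neg, hA.neg]
  smul := by
    rintro w c a rfl
    rw [hA.sig, hq.smul]; ring
  lam := by
    rintro w c m rfl
    rw [hA.eps, hA.sig, inv_one, one_mul]; ring

theorem P2_ok (hA : Alt2 H) {q : V → F} (hq : IsQ2 H q) {w : V} {c : F} :
    (P2 hA hq).ok w c ↔ c = q w := Iff.rfl

theorem P2_lam (hA : Alt2 H) {q : V → F} (hq : IsQ2 H q) : ∀ c, (P2 hA hq).ok 0 c →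
    ∃ m, c = m - H.ε⁻¹ * H.σ m := by
  intro c hc
  rw [P2_ok, hq.zero] at hc
  exact ⟨0, by rw [hc]; simp⟩

/-- averaging -/
theorem exists_inv {p : ℕ} {x : V ≃ₗ[F] V} (hA : Alt2 H) (hp2 : Odd p) (hx : x ^ p = 1)
    (hxi : H.IsIso x) {q : V → F} (hq : IsQ2 H q) :
    ∃ q' : V → F, IsQ2 H q' ∧ ∀ v, q' (x v) = q' v := by
  have hpF : (p : F) = 1 := by
    obtain ⟨k, hk⟩ := hp2
    rw [hk]
    push_cast
    rw [hA.two, zero_mul, zero_add]
  refine ⟨fun v => ∑ i ∈ Finset.range p, q ((x ^ i) v), ⟨fun v w => ?_, fun s v => ?_⟩,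
    fun v => ?_⟩
  · have h1 : ∀ i, q ((x ^ i) (v + w)) = q ((x ^ i) v) + q ((x ^ i) w) + H.h v w := by
      intro i
      rw [map_add, hq.add, isIso_pow hxi i]
    simp only [h1]
    rw [Finset.sum_add_distrib, Finset.sum_add_distrib, Finset.sum_const, Finset.card_range,
      nsmul_eq_mul, hpF, one_mul]
  · have h1 : ∀ i, q ((x ^ i) (s • v)) = s ^ 2 * q ((x ^ i) v) := by
      intro i
      rw [map_smul, hq.smul]
    simp only [h1]
    rw [Finset.mul_sum]
  · have h1 : ∀ i, (x ^ i) (x v) = (x ^ (i + 1)) v := by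
      intro i; rw [pow_succ]; rfl
    simp only [h1]
    have h2 := Finset.sum_range_succ' (fun i => q ((x ^ i) v)) p
    have h3 := Finset.sum_range_succ (fun i => q ((x ^ i) v)) p
    rw [h3, hx, pow_zero] at h2
    exact (add_right_cancel h2).symm

/-- all elements are squares -/
theorem exists_sq [Finite F] (h2 : (2 : F) = 0) (c : F) : ∃ s : F, s ^ 2 = c := by
  have hch : CharP F 2 := CharTwo.of_one_ne_zero_of_two_eq_zero one_ne_zero h2
  have h1 : Function.Injective (frobenius F 2) := frobenius_inj F 2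
  obtain ⟨s, hs⟩ := (Finite.injective_iff_surjective.1 h1) c
  exact ⟨s, hs⟩

/-- **The row from a rank two subgroup, symplectic groups in characteristic two.** -/
theorem row_E2 [Finite F] [Finite V] (hA : Alt2 H) (hPall : ∀ w c, P.ok w c)
    {q : V → F} (hq : IsQ2 H q) (hκ : ∀ q : V → F, IsQ2 H q → ∀ A : Submodule F V,
      3 ≤ Module.finrank F A → ∃ w ∈ A, w ≠ 0 ∧ q w = 0) {p : ℕ} (hp : p.Prime)
    (hp5 : 5 ≤ p) (hpκ : ∀ i, 0 < i → i < 3 → ¬ p ∣ (Nat.card F) ^ i - 1)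
    (hND : ∀ v : V, v ≠ 0 → ∃ w, H.h v w ≠ 0)
    {a b : V ≃ₗ[F] V} (haK : a ∈ SG P) (hbK : b ∈ SG P) (hab : a * b = b * a)
    (ha : a ^ p = 1) (hb : b ^ p = 1) (hb1 : b ≠ 1) (hind : ∀ i : ℕ, a * b ^ i ≠ 1) :
    FprRow (2 * p - 1) (p - 1) p (SG P) := by
  have hodd : Odd p := hp.odd_of_ne_two (by omega)
  have hpF : (p : F) ≠ 0 := by
    obtain ⟨k, hk⟩ := hodd
    rw [hk]
    push_cast
    rw [hA.two, zero_mul, zero_add]
    exact one_ne_zero
  have hch : CharP F 2 := CharTwo.of_one_ne_zero_of_two_eq_zero one_ne_zero hA.two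
  obtain ⟨i, v, hv, hbv⟩ := exists_fix_of_rank_two hp hpF hab ha hb hb1
  obtain ⟨x, hx⟩ : ∃ x, x = a * b ^ i := ⟨_, rfl⟩
  rw [← hx] at hv
  have hx1 : x ≠ 1 := hx ▸ hind i
  have hxK : x ∈ SG P := hx ▸ mul_mem haK (pow_mem hbK i)
  have hxp : x ^ p = 1 := by
    have h1 : Commute a (b ^ i) := (show Commute a b from hab).pow_right i
    rw [hx, h1.mul_pow, ha, one_mul, ← pow_mul, mul_comm, pow_mul, hb, one_pow]
  have hxb : x * b = b * x := by
    rw [hx]
    exact (show Commute a b from hab).mul_left ((Commute.refl b).pow_left i)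
  obtain ⟨hxi, hxok, -⟩ := SG_iso hxK
  have hcardF := not_dvd_card hp hpF
  obtain ⟨nd1, nd2⟩ := nd_pieces hpF hxi hxp hND
  have d1 : 3 ≤ Module.finrank F (movS p x) :=
    le_finrank_of_moved hp hxp (movS_inv rfl) hpκ (exists_moved hpF hxp hx1) hcardF
  have hbfix : ∀ w ∈ fixS x, b w ∈ fixS x := by
    intro w hw
    rw [mem_fixS]
    have h1 : x (b w) = b (x w) := congrArg (fun g : V ≃ₗ[F] V => g w) hxb
    rw [h1, show x w = w from hw]
  have d2 : 3 ≤ Module.finrank F (fixS x) :=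
    le_finrank_of_moved hp hb hbfix hpκ ⟨v, hv, hbv⟩ hcardF
  -- the invariant quadratic form
  obtain ⟨q', hq', hq'x⟩ := exists_inv hA hodd hxp hxi hq
  obtain ⟨e, he, he0, hes⟩ := hκ q' hq' _ d1
  obtain ⟨f, hf, hfs, hef⟩ := exists_hyp (P := P2 hA hq') nd1 he (hes.symm) he0
  -- the totally isotropic subspaces
  obtain ⟨T, T', A, h1, h2, h3, h4, h5, h6, h7⟩ := witt (P := P) _ (fixS x) le_rfl nd2
  have hA0 : A = ⊥ := by
    rw [eq_bot_iff]
    intro u hu
    exact (Submodule.mem_bot F).2 (h6 u hu (hPall _ _))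
  rw [hA0, sup_bot_eq] at h1
  obtain ⟨w0, hw0, hw0n, -⟩ := hκ q' hq' _ d2
  obtain ⟨u, hu, u', hu', huu', -⟩ := h7 ⟨w0, hw0, hw0n, hPall _ _⟩
  have hTf : T ≤ fixS x := by rw [h1]; exact le_sup_left
  have hTf' : T' ≤ fixS x := by rw [h1]; exact le_sup_right
  refine row_IV (r := 2) (P₁ := P2 hA hq') (j := 0) (k := 1) hp hxK (by rw [pow_one]; exact hxp)
    (fun w c hc => by rw [P2_ok] at hc ⊢; rw [hq'x]; exact hc) (fun w c _ => hPall w c)
    (fixS_sup_movS hxp hpF) (orth_mov_fix hpF hxi) (movS_inv rfl) (fun w hw => hw) ?_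
    (P2_lam hA hq') ![T, T', Submodule.span F {u + u'}] ?_ ?_ (fun i u _ => hPall _ _) ?_ ?_
    ⟨0, u, hu, 1, u', hu', by rw [huu']; exact one_ne_zero⟩ he hes.symm hf hfs
    (fun h => ?_) ?_ (fun v _ hv0 => hND v hv0)
  · rw [pow_zero, pow_one]
    exact movS_surj hpF
  · rw [Fintype.card_fin, pow_zero, mul_one]
    omega
  · intro i
    fin_cases i
    · exact hTf
    · exact hTf'
    · change Submodule.span F {u + u'} ≤ fixS x
      rw [Submodule.span_singleton_le_iff_mem]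
      exact (fixS x).add_mem (hTf hu) (hTf' hu')
  · intro i
    fin_cases i
    · exact h3
    · exact h5
    · change ∀ y ∈ Submodule.span F {u + u'}, ∀ y' ∈ Submodule.span F {u + u'}, H.h y y' = 0
      refine span_orth ?_
      rintro y rfl y' rfl
      exact hA.alt _
  · rw [h1]
    exact sup_le (le_iSup (fun i => (![T, T', Submodule.span F {u + u'}] : Fin 3 → _) i) 0)
      (le_iSup (fun i => (![T, T', Submodule.span F {u + u'}] : Fin 3 → _) i) 1)
  · rw [H.orth_symm h] at hef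
    exact zero_ne_one hef
  · -- all the transvections
    intro D hD
    have key : ∀ a ∈ movS p x, q' a = 0 → Zt P D {0} a := by
      intro a ha haq w c haa haw hw _
      rw [Set.mem_singleton_iff] at hw
      subst hw
      have hRt : ∀ (i : Fin 3) (y : V),
          y ∈ (![T, T', Submodule.span F {u + u'}] : Fin 3 → Submodule F V) i →
          H.h a y = 0 → Rt H D a y := by
        intro i y hy hay
        refine Rt.symm (hA.alt y) haa (H.orth_symm hay) ?_
        intro s hyy hys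
        refine hD i (sie_mem_rad hyy hys hy ((movS p x).smul_mem _ ha) ?_)
        exact (P2 hA hq').sing_smul (by rw [P2_ok, haq]) s
      have hau : H.h a u = 0 := orth_mov_fix hpF hxi a ha u (hTf hu)
      have hau' : H.h a u' = 0 := orth_mov_fix hpF hxi a ha u' (hTf' hu')
      have hauu : H.h a (u + u') = 0 := by rw [H.add_right, hau, hau', add_zero]
      obtain ⟨s, hs⟩ := exists_sq hA.two c
      have hsu : H.h a (s • u) = 0 := by rw [H.smul_right, hau, mul_zero]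
      have hsu' : H.h a (s • u') = 0 := by rw [H.smul_right, hau', mul_zero]
      have hsuu : H.h a (s • (u + u')) = 0 := by rw [H.smul_right, hauu, mul_zero]
      have m1 := hRt 0 u hu hau s haa hsu
      have m2 := hRt 1 u' hu' hau' s haa hsu'
      have m3 := hRt 2 (u + u') (Submodule.mem_span_singleton_self _) hauu s haa hsuu
      have m4 := D.mul_mem (D.mul_mem m1 m2) (D.inv_mem m3)
      rw [H.sie_inv, H.sie_mul, H.sie_mul] at m4
      rwa [H.sie_congr _ _ haa haw rfl (by module : s • u + s • u' + -(s • (u + u')) = 0)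
        (c' := c)] at m4
      have e1 : H.h u' u = 1 := by rw [hA.comm u u', huu']
      simp only [H.neg_left, H.neg_right, H.smul_left, H.smul_right, H.add_left, H.add_right,
        hA.alt, huu', e1, hA.eps, hA.sig, inv_one, one_mul, ← hs]
      have h8 := hA.add_self (s * s)
      linear_combination -h8
    exact ⟨key e he hes, key f hf hfs.symm⟩

end Cfsg.Agent.H110.Fpr
end

-- part: H110/Fpr/Four
section
/-!
# Four-dimensional symplectic groups in characteristic two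
-/

set_option autoImplicit false
set_option linter.unusedSimpArgs false

namespace Cfsg.Agent.H110.Fpr

open Cfsg.Agent.TitsThree.Siegel Cfsg.Agent.TitsThree.SiegelGen Cfsg.Agent.H398.FPR
open Cfsg.Agent.H409

variable {F : Type*} [Field F] {V : Type*} [AddCommGroup V] [Module F V]
variable {H : HForm F V} {P : PQ H}

/-- adding a multiple of `u` to `w` changes nothing -/
theorem sie_add_self (hA : Alt2 H) (u w : V) (c a : F) (hu : H.h u u = 0) (hw : H.h u w = 0)
    (hw' : H.h u (w + a • u) = 0) : H.sie u (w + a • u) c hu hw' = H.sie u w c hu hw := by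
  rw [H.sie_add_smul u w c a hu hw]
  apply H.sie_congr _ _ _ _ rfl rfl
  rw [hA.eps, hA.sig, inv_one, one_mul]; ring

/-- modification of a quadratic function -/
theorem exists_hypq [Finite F] (hA : Alt2 H) {q : V → F} (hq : IsQ2 H q) {u1 u2 : V}
    (h12 : H.h u1 u2 ≠ 0) :
    ∃ q' : V → F, IsQ2 H q' ∧ q' u1 = 0 ∧ q' u2 = 0 ∧
      ∀ m, H.h m u1 = 0 → H.h m u2 = 0 → q' m = q m := by
  obtain ⟨a, ha⟩ := exists_sq hA.two (q u1)
  obtain ⟨b, hb⟩ := exists_sq hA.two (q u2)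
  have h21 : H.h u2 u1 = H.h u1 u2 := hA.comm _ _
  refine ⟨fun v => q v + (a / H.h u1 u2 * H.h v u2 + b / H.h u1 u2 * H.h v u1) ^ 2,
    ⟨fun v w => ?_, fun s v => ?_⟩, ?_, ?_, ?_⟩
  · rw [hq.add, H.add_left, H.add_left]
    have h2 := hA.two
    linear_combination ((a / H.h u1 u2 * H.h v u2 + b / H.h u1 u2 * H.h v u1) *
      (a / H.h u1 u2 * H.h w u2 + b / H.h u1 u2 * H.h w u1)) * h2
  · rw [hq.smul, H.smul_left, H.smul_left]
    ring
  · change q u1 + (a / H.h u1 u2 * H.h u1 u2 + b / H.h u1 u2 * H.h u1 u1) ^ 2 = 0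
    rw [hA.alt, mul_zero, add_zero, div_mul_cancel₀ _ h12, ha]
    exact hA.add_self _
  · change q u2 + (a / H.h u1 u2 * H.h u2 u2 + b / H.h u1 u2 * H.h u2 u1) ^ 2 = 0
    rw [hA.alt, mul_zero, zero_add, h21, div_mul_cancel₀ _ h12, hb]
    exact hA.add_self _
  · intro m h1 h2
    change q m + (a / H.h u1 u2 * H.h m u2 + b / H.h u1 u2 * H.h m u1) ^ 2 = q m
    rw [h1, h2]
    ring

/-- The orthogonal group generated by two of the radicals. -/
theorem SG_P2_le [Finite F] (hA : Alt2 H) {q q' : V → F} (hq' : IsQ2 H q')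
    {V1 : Submodule F V} {u1 u2 : V} (h12 : H.h u1 u2 ≠ 0)
    (hm1 : ∀ m ∈ V1, H.h m u1 = 0) (hm2 : ∀ m ∈ V1, H.h m u2 = 0)
    (htop : ∀ v : V, ∃ m ∈ V1, ∃ s t : F, v = m + (s • u1 + t • u2))
    (hu1 : q' u1 = 0) (hu2 : q' u2 = 0) (hqq : ∀ m ∈ V1, q' m = q m)
    (hND : ∀ v : V, v ≠ 0 → ∃ w, H.h v w ≠ 0)
    {D : Subgroup (V ≃ₗ[F] V)}
    (hD1 : ∀ m ∈ V1, ∀ (h1 : H.h u1 u1 = 0) (h2 : H.h u1 m = 0), H.sie u1 m (q m) h1 h2 ∈ D)
    (hD2 : ∀ m ∈ V1, ∀ (h1 : H.h u2 u2 = 0) (h2 : H.h u2 m = 0), H.sie u2 m (q m) h1 h2 ∈ D) :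
    SG (P2 hA hq') ≤ D := by
  have h21 : H.h u2 u1 = H.h u1 u2 := hA.comm _ _
  refine all_of_pair (P := P2 hA hq') (p := u1) (r := u2) ?_ ?_ hu1.symm hu2.symm
    (by rw [h21]; exact h12) (fun v _ hv => hND v hv)
  · intro w c h1 hw _ hc
    rw [P2_ok] at hc
    obtain ⟨m, hm, s, t, rfl⟩ := htop w
    have hu1m : H.h u1 m = 0 := H.orth_symm (hm1 m hm)
    have ht : t = 0 := by
      rw [H.add_right, H.add_right, H.smul_right, H.smul_right, hu1m, hA.alt, hA.sig, hA.sig,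
        mul_zero, zero_add, zero_add] at hw
      exact (mul_eq_zero.1 hw).resolve_right h12
    subst ht
    have e1 : m + (s • u1 + (0 : F) • u2) = m + s • u1 := by rw [zero_smul, add_zero]
    have hw2 : H.h u1 (m + s • u1) = 0 := by rw [← e1]; exact hw
    rw [H.sie_congr h1 hw h1 hw2 rfl e1 rfl, sie_add_self hA u1 m c s h1 hu1m hw2]
    have hc2 : c = q m := by
      rw [hc, e1, hq'.add, hq'.smul, hu1, hqq m hm, H.smul_right, hm1 m hm]
      ring
    rw [hc2]
    exact hD1 m hm h1 hu1m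
  · intro w c h1 hw _ hc
    rw [P2_ok] at hc
    obtain ⟨m, hm, s, t, rfl⟩ := htop w
    have hu2m : H.h u2 m = 0 := H.orth_symm (hm2 m hm)
    have hs : s = 0 := by
      rw [H.add_right, H.add_right, H.smul_right, H.smul_right, hu2m, hA.alt, hA.sig, hA.sig,
        mul_zero, zero_add, add_zero, h21] at hw
      exact (mul_eq_zero.1 hw).resolve_right h12
    subst hs
    have e1 : m + ((0 : F) • u1 + t • u2) = m + t • u2 := by rw [zero_smul, zero_add]
    have hw2 : H.h u2 (m + t • u2) = 0 := by rw [← e1]; exact hw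
    rw [H.sie_congr h1 hw h1 hw2 rfl e1 rfl, sie_add_self hA u2 m c t h1 hu2m hw2]
    have hc2 : c = q m := by
      rw [hc, e1, hq'.add, hq'.smul, hu2, hqq m hm, H.smul_right, hm2 m hm]
      ring
    rw [hc2]
    exact hD2 m hm h1 hu2m

/-- **Three radicals give the transvections.** -/
theorem zt_three [Finite F] (hF4 : 3 ≤ Nat.card F) (hA : Alt2 H) {q : V → F} (hq : IsQ2 H q)
    {V1 : Submodule F V} {u1 u2 u3 : V} (h12 : H.h u1 u2 ≠ 0)
    (hm1 : ∀ m ∈ V1, H.h m u1 = 0) (hm2 : ∀ m ∈ V1, H.h m u2 = 0)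
    (htop : ∀ v : V, ∃ m ∈ V1, ∃ s t : F, v = m + (s • u1 + t • u2))
    {α β : F} (hα : α ≠ 0) (hβ : β ≠ 0) (hu3 : u3 = α • u1 + β • u2)
    (hND : ∀ v : V, v ≠ 0 → ∃ w, H.h v w ≠ 0)
    (hnd : ∃ m ∈ V1, ∃ m' ∈ V1, H.h m m' ≠ 0)
    {D : Subgroup (V ≃ₗ[F] V)}
    (hD1 : ∀ m ∈ V1, ∀ (h1 : H.h u1 u1 = 0) (h2 : H.h u1 m = 0), H.sie u1 m (q m) h1 h2 ∈ D)
    (hD2 : ∀ m ∈ V1, ∀ (h1 : H.h u2 u2 = 0) (h2 : H.h u2 m = 0), H.sie u2 m (q m) h1 h2 ∈ D)
    (hD3 : ∀ m ∈ V1, ∀ (h1 : H.h u3 u3 = 0) (h2 : H.h u3 m = 0), H.sie u3 m (q m) h1 h2 ∈ D) :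
    Zt P D {0} u3 := by
  obtain ⟨q', hq', hu1, hu2, hqq⟩ := exists_hypq hA hq h12
  have hqq' : ∀ m ∈ V1, q' m = q m := fun m hm => hqq m (hm1 m hm) (hm2 m hm)
  have hSG := SG_P2_le hA hq' h12 hm1 hm2 htop hu1 hu2 hqq' hND hD1 hD2
  have hm3 : ∀ m ∈ V1, H.h m u3 = 0 := by
    intro m hm
    rw [hu3, H.add_right, H.smul_right, H.smul_right, hm1 m hm, hm2 m hm]; ring
  obtain ⟨ρ, hρ⟩ : ∃ ρ, ρ = q' u3 := ⟨_, rfl⟩
  have hρ0 : ρ ≠ 0 := by
    rw [hρ, hu3, hq'.add, hq'.smul, hq'.smul, hu1, hu2, H.smul_left, H.smul_right, hA.sig,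
      mul_zero, mul_zero, add_zero, zero_add]
    exact mul_ne_zero hα (mul_ne_zero hβ h12)
  obtain ⟨m1, hm1', m0, hm0, hη⟩ := hnd
  obtain ⟨μ, hμ⟩ := exists_sq hA.two (q m0 / ρ)
  have hμρ : μ ^ 2 * ρ = q m0 := by rw [hμ, div_mul_cancel₀ _ hρ0]
  -- the scalar `s`
  obtain ⟨s, hs0, hs1⟩ : ∃ s : F, s ≠ 0 ∧ 1 + s * ρ * μ ≠ 0 := by
    classical
    have := Fintype.ofFinite F
    rw [Nat.card_eq_fintype_card, ← Finset.card_univ] at hF4
    by_cases hμ0 : ρ * μ = 0
    · refine ⟨1, one_ne_zero, ?_⟩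
      rw [mul_assoc, hμ0, mul_zero, add_zero]
      exact one_ne_zero
    · obtain ⟨s, hs⟩ : ∃ s : F, s ∉ ({0, (ρ * μ)⁻¹} : Finset F) := by
        by_contra hcon
        push Not at hcon
        have h1 : (Finset.univ : Finset F) ⊆ {0, (ρ * μ)⁻¹} := fun s _ => hcon s
        have h2 := Finset.card_le_card h1
        have h3 : Finset.card ({0, (ρ * μ)⁻¹} : Finset F) ≤ 2 := Finset.card_le_two
        omega
      rw [Finset.mem_insert, Finset.mem_singleton, not_or] at hs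
      refine ⟨s, hs.1, fun h => hs.2 ?_⟩
      apply eq_inv_of_mul_eq_one_left
      have h4 := hA.neg (s * ρ * μ)
      have h5 : s * ρ * μ = 1 := by rw [← h4]; linear_combination -h
      rw [← h5]; ring
  -- the singular vector `v` and the element `g`
  obtain ⟨v, hv⟩ : ∃ v, v = m0 + μ • u3 := ⟨_, rfl⟩
  have hqv : q' v = 0 := by
    rw [hv, hq'.add, hq'.smul, hqq' m0 hm0, H.smul_right, hm3 m0 hm0, ← hρ, hμρ, mul_zero,
      add_zero]
    exact hA.add_self _
  have hvs : H.h v (s • u3) = 0 := by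
    rw [hv, H.smul_right, H.add_left, H.smul_left, hm3 m0 hm0, hA.alt]; ring
  have hg : H.sie v (s • u3) (s ^ 2 * ρ) (hA.alt v) hvs ∈ D := by
    apply hSG
    apply sie_mem_SG
    · exact hqv.symm
    · rw [P2_ok, hq'.smul, hρ]
  have hokg : ∀ y d, (P2 hA hq').ok y d →
      (P2 hA hq').ok (H.sie v (s • u3) (s ^ 2 * ρ) (hA.alt v) hvs y) d := by
    intro y d hy
    refine (P2 hA hq').ok_sie _ _ hqv.symm ?_ hy
    rw [P2_ok, hq'.smul, hρ]
  have hgi : H.IsIso (H.sie v (s • u3) (s ^ 2 * ρ) (hA.alt v) hvs) := by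
    refine (P2 hA hq').isIso_sie _ _ ?_
    rw [P2_ok, hq'.smul, hρ]
  intro w c h33 hw0 hw _
  rw [Set.mem_singleton_iff] at hw
  subst hw
  obtain ⟨l, hl⟩ := exists_sq hA.two (c / ρ)
  have hlρ : l ^ 2 * ρ = c := by rw [hl, div_mul_cancel₀ _ hρ0]
  -- the vector `m`
  obtain ⟨m, hmdef⟩ : ∃ m, m = (l / (H.h m1 m0 * s * (1 + s * ρ * μ))) • m1 := ⟨_, rfl⟩
  have hm : m ∈ V1 := hmdef ▸ V1.smul_mem _ hm1'
  obtain ⟨η, hηdef⟩ : ∃ η, η = H.h m m0 := ⟨_, rfl⟩
  have hηl : η * s * (1 + s * ρ * μ) = l := by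
    rw [hηdef, hmdef, H.smul_left]
    field_simp
  have hmv : H.h m v = η := by
    rw [hv, H.add_right, H.smul_right, hm3 m hm, mul_zero, add_zero, hηdef]
  have h3m : H.h u3 m = 0 := H.orth_symm (hm3 m hm)
  have h3v : H.h u3 v = 0 := by
    rw [hv, H.add_right, H.smul_right, hA.alt, H.orth_symm (hm3 m0 hm0)]; ring
  obtain ⟨m', hm'def⟩ : ∃ m', m' = m + (s ^ 2 * ρ * η) • m0 := ⟨_, rfl⟩
  have hm' : m' ∈ V1 := by rw [hm'def]; exact V1.add_mem hm (V1.smul_mem _ hm0)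
  have e1 : H.sie v (s • u3) (s ^ 2 * ρ) (hA.alt v) hvs u3 = u3 := by
    rw [H.sie_apply, h3v, H.smul_right, hA.alt]; simp
  have e2 : H.sie v (s • u3) (s ^ 2 * ρ) (hA.alt v) hvs m = m' + l • u3 := by
    rw [H.sie_apply, hmv, H.smul_right, hm3 m hm, hm'def, ← hηl, hv]
    module
  have h3m' : H.h u3 m' = 0 := H.orth_symm (hm3 m' hm')
  have h4 : H.h u3 (m' + l • u3) = 0 := by rw [H.add_right, H.smul_right, h3m', hA.alt]; ring
  have k1 := conj_mem hg hgi h33 h3m (hD3 m hm h33 h3m) h33 h4 e1 e2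
  rw [sie_add_self hA u3 m' (q m) l h33 h3m' h4] at k1
  have k2 := hD3 m' hm' h33 h3m'
  have k3 := D.mul_mem k1 (D.inv_mem k2)
  rw [H.sie_inv, H.sie_mul] at k3
  rwa [H.sie_congr _ _ h33 hw0 rfl (add_neg_cancel m') (c' := c)] at k3
  -- the scalar
  have h5 := hokg m (q' m) rfl
  rw [P2_ok, e2, hq'.add, hq'.smul, hqq' m hm, hqq' m' hm', H.smul_right, hm3 m' hm',
    mul_zero, add_zero, ← hρ, hlρ] at h5
  rw [h5, hA.alt, H.neg_left, hA.alt, hA.eps, inv_one]
  ring

/-- An explicit element on a hyperbolic plane. -/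
theorem exists_quad {t : F} {e f : V} (se : P.ok e 0) (sf : P.ok f 0)
    (hef : H.h e f = 1) {b c : F} (hb : P.ok 0 b) (hc : P.ok 0 c) (hbc : H.ε * b * c = t - 2) :
    ∃ x ∈ SG P, IsQuad x (Submodule.span F {e, f}) t ∧ (∀ w ∈ perp H {e, f}, x w = w) ∧
      Submodule.span F {e, f} ⊔ perp H {e, f} = (⊤ : Submodule F V) := by
  have hee := P.iso se
  have hff := P.iso sf
  have hfe : H.h f e = H.ε := by rw [H.swap e f, hef, map_one, mul_one]
  have hε := H.ε_ne
  obtain ⟨x, hx⟩ : ∃ x, x = H.sie e 0 b hee (H.zero_right e) * H.sie f 0 c hff (H.zero_right f) :=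
    ⟨_, rfl⟩
  have hxK : x ∈ SG P := by
    rw [hx]
    exact mul_mem (sie_mem_SG P _ _ se hb) (sie_mem_SG P _ _ sf hc)
  have app : ∀ v, x v = H.sie e 0 b hee (H.zero_right e) (H.sie f 0 c hff (H.zero_right f) v) := by
    intro v; rw [hx]; rfl
  have xe : x e = (t - 1) • e + c • f := by
    rw [app]
    simp only [H.sie_apply, H.add_left, H.sub_left, H.smul_left, H.zero_right, hef, hee, hfe,
      smul_zero, zero_smul, mul_zero, add_zero, sub_zero, mul_one, zero_add]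
    have e1 : b * (c * H.ε) = t - 2 := by rw [← hbc]; ring
    rw [e1]
    module
  have xf : x f = f + (b * H.ε) • e := by
    rw [app]
    simp only [H.sie_apply, H.add_left, H.sub_left, H.smul_left, H.zero_right, hff, hfe,
      smul_zero, zero_smul, mul_zero, add_zero, sub_zero]
  refine ⟨x, hxK, ?_, ?_, ?_⟩
  · have m0 : e ∈ Submodule.span F ({e, f} : Set V) :=
      Submodule.subset_span (Set.mem_insert _ _)
    have m1 : f ∈ Submodule.span F ({e, f} : Set V) :=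
      Submodule.subset_span (Set.mem_insert_of_mem _ rfl)
    have e2 : b * H.ε * c = t - 2 := by rw [← hbc]; ring
    apply IsQuad.of_span
    · rintro w (rfl | rfl)
      · rw [xe]; exact Submodule.add_mem _ (Submodule.smul_mem _ _ m0) (Submodule.smul_mem _ _ m1)
      · rw [xf]; exact Submodule.add_mem _ m1 (Submodule.smul_mem _ _ m0)
    · rintro w (rfl | rfl)
      · simp only [xe, xf, map_add, map_smul, smul_add, smul_smul, mul_comm c, e2]
        match_scalars <;> ring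
      · simp only [xe, xf, map_add, map_smul, smul_add, smul_smul, e2]
        match_scalars <;> ring
  · intro w hw
    have w0 : H.h w e = 0 := hw e (by simp)
    have w1 : H.h w f = 0 := hw f (by simp)
    have a1 : H.sie f 0 c hff (H.zero_right f) w = w := by
      rw [H.sie_apply, w1, H.zero_right]; simp
    rw [app, a1, H.sie_apply, w0, H.zero_right]; simp
  · rw [eq_top_iff]
    intro v _
    obtain ⟨m, hm⟩ : ∃ m, m = v - (H.h v f • e + (H.ε⁻¹ * H.h v e) • f) := ⟨_, rfl⟩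
    have hv : v = (H.h v f • e + (H.ε⁻¹ * H.h v e) • f) + m := by rw [hm]; abel
    rw [hv]
    refine Submodule.add_mem_sup (Submodule.mem_span_pair.2 ⟨_, _, rfl⟩) ?_
    rw [hm]
    rintro u (rfl | rfl)
    · simp only [H.sub_left, H.add_left, H.smul_left, hee, hfe]
      field_simp
      ring
    · simp only [H.sub_left, H.add_left, H.smul_left, hef, hff]
      ring

/-- **`Sp₄(2^a)`, `a ≥ 2`, and primes dividing `q² - 1`.** -/
theorem row_four [Finite F] [Finite V] (hF4 : 4 ≤ Nat.card F) (hA : Alt2 H)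
    (hPall : ∀ w c, P.ok w c) {q : V → F} (hq : IsQ2 H q) {p : ℕ} (hp : p.Prime) (hp2 : p ≠ 2)
    (hd : p ∣ (Nat.card F) ^ 2 - 1) (hND : ∀ v : V, v ≠ 0 → ∃ w, H.h v w ≠ 0)
    {e f e0 f0 : V} (hef : H.h e f = 1) (hef0 : H.h e0 f0 = 1)
    (hperp : perp H {e, f} = Submodule.span F {e0, f0}) :
    FprRow (2 * p - 1) (p - 1) p (SG P) := by
  have hodd : Odd p := hp.odd_of_ne_two hp2
  have hpF : (p : F) ≠ 0 := by
    obtain ⟨k, hk⟩ := hodd
    rw [hk]
    push_cast
    rw [hA.two, zero_mul, zero_add]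
    exact one_ne_zero
  have hch : CharP F 2 := CharTwo.of_one_ne_zero_of_two_eq_zero one_ne_zero hA.two
  obtain ⟨t, j, k, hj, ht⟩ := exists_good2 (F := F) hp hpF hd
  obtain ⟨x, hxK, hquad, hx2, htop⟩ := exists_quad (P := P) (t := t) (e := e) (f := f)
    (hPall _ _) (hPall _ _) hef (b := t - 2) (c := 1) (hPall _ _) (hPall _ _)
    (by rw [hA.eps]; ring)
  obtain ⟨hxi, hxok, -⟩ := SG_iso hxK
  have hxp : x ^ p ^ k = 1 := by
    ext v
    have hv : v ∈ Submodule.span F {e, f} ⊔ perp H {e, f} := by rw [htop]; trivial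
    obtain ⟨a, ha, d, hd, rfl⟩ := Submodule.mem_sup.1 hv
    rw [map_add, hquad.pow_eq ht a ha, pow_fix hx2 _ d hd]
    rfl
  obtain ⟨q', hq', hq'x⟩ := exists_inv hA (hodd.pow) hxp hxi hq
  obtain ⟨V1, hV1⟩ : ∃ V1, V1 = Submodule.span F ({e, f} : Set V) := ⟨_, rfl⟩
  rw [← hV1] at hquad htop
  have hfe0 : H.h f0 e0 = 1 := by rw [hA.comm e0 f0, hef0]
  have horth : ∀ m ∈ V1, ∀ v ∈ Submodule.span F {e0, f0}, H.h m v = 0 := by
    intro m hm v hv
    rw [← hperp] at hv
    rw [hV1] at hm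
    exact perp_orth m hm v hv
  -- the lines
  obtain ⟨u, hu⟩ : ∃ u : F → V, u = fun s => e0 + s • f0 := ⟨_, rfl⟩
  have hu2 : ∀ s, u s ∈ Submodule.span F ({e0, f0} : Set V) := by
    intro s
    rw [hu]
    exact Submodule.add_mem _ (Submodule.subset_span (by simp))
      (Submodule.smul_mem _ _ (Submodule.subset_span (by simp)))
  have huu : ∀ s s', H.h (u s) (u s') = s + s' := by
    intro s s'
    rw [hu]
    simp only [H.add_left, H.add_right, H.smul_left, H.smul_right, hA.alt, hA.sig, hef0, hfe0]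
    ring
  have hune : ∀ s s', s ≠ s' → H.h (u s) (u s') ≠ 0 := by
    intro s s' hne h
    rw [huu] at h
    apply hne
    have := hA.neg s'
    rw [← this]
    exact eq_neg_of_add_eq_zero_left h
  -- four parameters
  obtain ⟨ps, hps⟩ : ∃ ps : Fin 4 → F, Function.Injective ps := by
    have := Fintype.ofFinite F
    rw [Nat.card_eq_fintype_card] at hF4
    obtain ⟨g⟩ := Function.Embedding.nonempty_of_card_le (α := Fin 4) (β := F) (by simpa using hF4)
    exact ⟨g, g.injective⟩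
  have hnd : ∃ m ∈ V1, ∃ m' ∈ V1, H.h m m' ≠ 0 := by
    refine ⟨e, hV1 ▸ Submodule.subset_span (by simp), f, hV1 ▸ Submodule.subset_span (by simp), ?_⟩
    rw [hef]
    exact one_ne_zero
  have hT1 : ∀ i, ∀ y ∈ Submodule.span F {u (ps i)}, ∀ w ∈ V1, H.h y w = 0 := by
    intro i y hy w hw
    obtain ⟨s, rfl⟩ := Submodule.mem_span_singleton.1 hy
    rw [H.smul_left, H.orth_symm (horth w hw _ (hu2 _)), mul_zero]
  have hTT : ∀ i, ∀ y ∈ Submodule.span F {u (ps i)}, ∀ w ∈ Submodule.span F {u (ps i)},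
      H.h y w = 0 := fun i => span_orth (by rintro y rfl w rfl; exact hA.alt _)
  refine row_of_gen (A := V ≃ₗ[F] V) hp hxK hxp
    (fun i : Fin 4 => rad (P2 hA hq') (Submodule.span F {u (ps i)}) V1) (j := j) ?_ ?_ 2
    two_pos ?_ ?_
  · intro i
    apply rad_le
    intro y w c hy hw _ _ _
    exact sie_mem_SG P hy hw (hPall _ _) (hPall _ _)
  · intro i
    obtain ⟨A, B, hAB, hle⟩ := rad_le_flagU (P₁ := P2 hA hq') (hTT i) (hT1 i)
    have hfixu : ∀ y ∈ Submodule.span F {u (ps i)}, x y = y := by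
      intro y hy
      apply hx2
      rw [hperp]
      exact (Submodule.span_singleton_le_iff_mem _ _).2 (hu2 _) hy
    have hok1 : ∀ w c, (P2 hA hq').ok w c → (P2 hA hq').ok (x w) c := by
      intro w c hc
      rw [P2_ok] at hc ⊢
      rw [hq'x]; exact hc
    refine ⟨nilpotent_of_le_flagU (r := 2) hAB hle, ?_, ?_⟩
    · apply mem_normalizer_of_conj
      exact rad_conj hxi hok1 (fun y hy => by rw [hfixu y hy]; exact hy) hquad.inv
    · refine rad_commFull (isIso_pow hxi _) (pow_ok hok1 _) ?_ (pow_mem_sub hquad.inv _)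
        (hquad.surj ht) (hT1 i) (P2_lam hA hq') hnd
      intro y hy
      exact pow_fix hfixu _ y hy
  · intro J hJ
    rw [Fintype.card_fin] at hJ
    obtain ⟨D, hD⟩ : ∃ D, D = Subgroup.closure
      ({x} ∪ ⋃ i ∈ J, ((rad (P2 hA hq') (Submodule.span F {u (ps i)}) V1 :
        Subgroup (V ≃ₗ[F] V)) : Set (V ≃ₗ[F] V))) := ⟨_, rfl⟩
    rw [← hD]
    have hDi : ∀ i ∈ J, ∀ m ∈ V1, ∀ (h1 : H.h (u (ps i)) (u (ps i)) = 0)
        (h2 : H.h (u (ps i)) m = 0), H.sie (u (ps i)) m (q' m) h1 h2 ∈ D := by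
      intro i hi m hm h1 h2
      rw [hD]
      apply Subgroup.subset_closure
      right
      rw [Set.mem_iUnion₂]
      exact ⟨i, hi, sie_mem_rad h1 h2 (Submodule.mem_span_singleton_self _) hm rfl⟩
    -- three indices
    obtain ⟨a, ha, b, hb, c, hc, hab, hac, hbc⟩ : ∃ a ∈ J, ∃ b ∈ J, ∃ c ∈ J,
        a ≠ b ∧ a ≠ c ∧ b ≠ c := by
      have h3 : 2 < J.ncard := by omega
      rw [Set.two_lt_ncard (Set.toFinite _)] at h3
      exact h3
    have hpab := hps.ne hab
    have hpac := hps.ne hac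
    have hpbc := hps.ne hbc
    have dec : ∀ s s' s'' : F, s ≠ s' → s'' ≠ s → s'' ≠ s' → ∃ α β : F, α ≠ 0 ∧ β ≠ 0 ∧
        u s'' = α • u s + β • u s' := by
      intro s s' s'' h1 h2 h3
      have h4 : s - s' ≠ 0 := sub_ne_zero.2 h1
      refine ⟨(s'' - s') / (s - s'), (s - s'') / (s - s'), div_ne_zero (sub_ne_zero.2 h3) h4,
        div_ne_zero (sub_ne_zero.2 (Ne.symm h2)) h4, ?_⟩
      rw [hu]
      change e0 + s'' • f0 = ((s'' - s') / (s - s')) • (e0 + s • f0) +
        ((s - s'') / (s - s')) • (e0 + s' • f0)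
      match_scalars <;> field_simp <;> ring
    have tops : ∀ s s' : F, s ≠ s' → ∀ v : V, ∃ m ∈ V1, ∃ α β : F,
        v = m + (α • u s + β • u s') := by
      intro s s' h1 v
      have h4 : s - s' ≠ 0 := sub_ne_zero.2 h1
      have hv : v ∈ V1 ⊔ perp H {e, f} := by rw [htop]; trivial
      obtain ⟨m, hm, w, hw, rfl⟩ := Submodule.mem_sup.1 hv
      rw [hperp] at hw
      obtain ⟨y, z, rfl⟩ := Submodule.mem_span_pair.1 hw
      refine ⟨m, hm, (z - y * s') / (s - s'), (y * s - z) / (s - s'), ?_⟩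
      rw [hu]
      change m + (y • e0 + z • f0) = m + (((z - y * s') / (s - s')) • (e0 + s • f0) +
        ((y * s - z) / (s - s')) • (e0 + s' • f0))
      match_scalars <;> field_simp <;> ring
    have hm1 : ∀ s, ∀ m ∈ V1, H.h m (u s) = 0 := fun s m hm => horth m hm _ (hu2 s)
    have z : ∀ i ∈ J, ∀ i' ∈ J, ∀ i'' ∈ J, i ≠ i' → i'' ≠ i → i'' ≠ i' →
        Zt P D {0} (u (ps i'')) := by
      intro i hi i' hi' i'' hi'' h1 h2 h3
      obtain ⟨α, β, hα, hβ, hαβ⟩ := dec (ps i) (ps i') (ps i'') (hps.ne h1) (hps.ne h2) (hps.ne h3)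
      exact zt_three (by omega) hA hq' (hune _ _ (hps.ne h1)) (hm1 _) (hm1 _)
        (tops _ _ (hps.ne h1)) hα hβ hαβ hND hnd (hDi i hi) (hDi i' hi') (hDi i'' hi'')
    have z1 := z b hb c hc a ha hbc hab hac
    have z2 := z a ha c hc b hb hac (Ne.symm hab) hbc
    have zz : ∀ i ∈ J, ∀ i' ∈ J, i ≠ i' → Zt P D {0} (u (ps i)) →
        Zt P D Set.univ (u (ps i)) := by
      intro i hi i' hi' h1 hz w d h2 hw _ _
      obtain ⟨m, hm, α, β, rfl⟩ := tops (ps i) (ps i') (hps.ne h1) w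
      have hum : H.h (u (ps i)) m = 0 := H.orth_symm (hm1 _ m hm)
      have hβ : β = 0 := by
        rw [H.add_right, H.add_right, H.smul_right, H.smul_right, hum, hA.alt, hA.sig, hA.sig,
          mul_zero, zero_add, zero_add] at hw
        exact (mul_eq_zero.1 hw).resolve_right (hune _ _ (hps.ne h1))
      subst hβ
      have e1 : m + (α • u (ps i) + (0 : F) • u (ps i')) = m + α • u (ps i) := by
        rw [zero_smul, add_zero]
      have hw2 : H.h (u (ps i)) (m + α • u (ps i)) = 0 := by rw [← e1]; exact hw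
      rw [H.sie_congr h2 hw h2 hw2 rfl e1 rfl, sie_add_self hA _ m d α h2 hum hw2]
      have k1 := hDi i hi m hm h2 hum
      have k2 := hz 0 (d - q' m) h2 (H.zero_right _) rfl (hPall _ _)
      have k3 := D.mul_mem k1 k2
      rwa [H.sie_mul, H.sie_congr _ _ h2 hum rfl (add_zero m) (c' := d)
        (by rw [H.zero_left]; ring)] at k3
    exact all_of_pair (zz a ha b hb hab z1) (zz b hb a ha (Ne.symm hab) z2) (hPall _ _)
      (hPall _ _) (hune _ _ hpab.symm) (fun v _ hv => hND v hv)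
  · rw [Fintype.card_fin]
    have h3 : 3 ≤ p := by
      have := hp.two_le
      omega
    have h4 : 1 ≤ p ^ j := Nat.one_le_pow _ _ hp.pos
    have h5 : 2 * 2 * 1 ≤ (p - 1) * 2 * p ^ j := Nat.mul_le_mul (by omega) h4
    omega

end Cfsg.Agent.H110.Fpr
end

-- part: H110/Fpr/FamU
section
/-!
# The rows for the unitary groups in dimension at least four
-/

set_option autoImplicit false

namespace Cfsg.Agent.H110.Fpr

open Cfsg Cfsg.Agent.LieClassical.HermBasic Cfsg.Agent.LieClassical.HermSiegel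
open Cfsg.Agent.LieClassical.HermGen
open Cfsg.Agent.TitsThree.Siegel Cfsg.Agent.TitsThree.SiegelGen Cfsg.Agent.TitsThree.KSideU
open Cfsg.Agent.H409

variable {F : Type*} [Field F] [Fintype F] {q N : ℕ}

theorem SG_PU (hF : Fintype.card F = q ^ 2) (hN : 3 ≤ N) :
    SG (PU hF N) = (toLin F q N).range := by
  have h1 : ∀ (u w : Fin N → F) (c : F) (huu : (HU hF N).h u u = 0) (huw : (HU hF N).h u w = 0),
      (PU hF N).ok w c → (HU hF N).sie u w c huu huw ∈ (toLin F q N).range := by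
    intro u w c huu huw hok
    exact ⟨_, toLin_siegel hF (isSiegel_of hF huu huw hok) huu huw⟩
  apply le_antisymm
  · exact SG_le _ fun u w c hu hw _ hwc => h1 u w c hu hw hwc
  · have h2 : (SG (PU hF N)).comap (toLin F q N) = ⊤ := by
      apply eq_top_of_sie hF hN
      intro u w c huu huw hok
      obtain ⟨g, hg⟩ := h1 u w c huu huw hok
      refine ⟨g, ?_, hg⟩
      change toLin F q N g ∈ SG (PU hF N)
      rw [hg]
      exact sie_mem_SG _ _ _ ((sing_iff hF).2 huu) hok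
    rintro _ ⟨g, rfl⟩
    have h3 : g ∈ (SG (PU hF N)).comap (toLin F q N) := by rw [h2]; trivial
    exact h3

/-- Isotropic vectors in planes. -/
theorem exists_iso_mem (hF : Fintype.card F = q ^ 2) (A : Submodule F (Fin N → F))
    (hA : 2 ≤ Module.finrank F A) : ∃ w ∈ A, w ≠ 0 ∧ (PU hF N).ok w 0 := by
  let bs := Module.finBasis F A
  obtain ⟨v, hv⟩ : ∃ v : A, v = bs ⟨0, by omega⟩ := ⟨_, rfl⟩
  obtain ⟨w, hw⟩ : ∃ w : A, w = bs ⟨1, by omega⟩ := ⟨_, rfl⟩
  have hli : LinearIndependent F ![v, w] := by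
    have h1 : LinearIndependent F (fun i : Fin 2 => bs (Fin.castLE hA i)) :=
      bs.linearIndependent.comp _ (Fin.castLE_injective hA)
    convert h1 using 1
    funext i
    fin_cases i
    · exact hv
    · exact hw
  rw [LinearIndependent.pair_iff] at hli
  by_cases h0 : hermForm N F q (v : Fin N → F) v = 0
  · refine ⟨v, v.2, ?_, (sing_iff hF).2 h0⟩
    intro h
    have hv0 : v = 0 := Subtype.ext h
    have := hli 1 0 (by rw [hv0]; simp)
    exact one_ne_zero this.1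
  · -- `w' = w - a v` orthogonal to `v`, then `w' + x v`
    obtain ⟨a, ha⟩ : ∃ a, a = hermForm N F q (w : Fin N → F) v / hermForm N F q (v : Fin N → F) v :=
      ⟨_, rfl⟩
    obtain ⟨w', hw'⟩ : ∃ w' : Fin N → F, w' = (w : Fin N → F) - a • (v : Fin N → F) := ⟨_, rfl⟩
    have h1 : hermForm N F q w' v = 0 := by
      rw [hw', herm_sub_left, herm_smul_left, ha, div_mul_cancel₀ _ h0, sub_self]
    have h2 : hermForm N F q (v : Fin N → F) w' = 0 := herm_eq_zero_swap hF h1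
    obtain ⟨x, hx⟩ := exists_norm_eq hF (c := -(hermForm N F q w' w') /
      hermForm N F q (v : Fin N → F) v) (by
        rw [div_pow, neg_pow_q hF, herm_self_pow hF, herm_self_pow hF])
    refine ⟨w' + x • (v : Fin N → F), ?_, ?_, (sing_iff hF).2 ?_⟩
    · rw [hw']
      exact A.add_mem (A.sub_mem w.2 (A.smul_mem _ v.2)) (A.smul_mem _ v.2)
    · intro h
      have h3 := hli (x - a) 1 (by
        apply Subtype.ext
        rw [hw'] at h
        change (x - a) • (v : Fin N → F) + (1 : F) • (w : Fin N → F) = 0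
        rw [← h]
        module)
      exact one_ne_zero h3.2
    · rw [herm_add_left, herm_add_right hF, herm_add_right hF, herm_smul_left, herm_smul_right,
        herm_smul_left, herm_smul_right, h1, h2]
      have e1 : x * (x ^ q * hermForm N F q (v : Fin N → F) v) =
          (x * x ^ q) * hermForm N F q (v : Fin N → F) v := by ring
      rw [e1, hx, div_mul_cancel₀ _ h0]
      ring

/-- `Λ` is minimal. -/
theorem lam_PU (hF : Fintype.card F = q ^ 2) : ∀ c, (PU hF N).ok 0 c →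
    ∃ m, c = m - (HU hF N).ε⁻¹ * (HU hF N).σ m := by
  intro c hc
  rw [ok_iff, herm_zero_left, neg_zero] at hc
  obtain ⟨y, hy⟩ := exists_trace_eq hF (c := 1) (one_pow q)
  refine ⟨c * y, ?_⟩
  rw [HU_ε, inv_one, one_mul, HU_σ, mul_pow]
  have h1 : c ^ q = -c := by linear_combination hc
  rw [h1]
  linear_combination -c * hy

theorem nd_HU (hF : Fintype.card F = q ^ 2) : ∀ v : Fin N → F, v ≠ 0 →
    ∃ w, (HU hF N).h v w ≠ 0 := by
  intro v hv
  by_contra hcon
  push Not at hcon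
  obtain ⟨w, hw⟩ := exists_herm_ne_zero hF hv
  exact hw (hcon w)

/-- the fixed field -/
def fixF (hF : Fintype.card F = q ^ 2) : Subfield F where
  carrier := {x | x ^ q = x}
  mul_mem' := fun {a b} ha hb => by
    change (a * b) ^ q = a * b
    rw [mul_pow, show a ^ q = a from ha, show b ^ q = b from hb]
  one_mem' := one_pow q
  add_mem' := fun {a b} ha hb => by
    change (a + b) ^ q = a + b
    rw [add_pow_q hF, show a ^ q = a from ha, show b ^ q = b from hb]
  zero_mem' := zero_pow_q hF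
  neg_mem' := fun {a} ha => by
    change (-a) ^ q = -a
    rw [neg_pow_q hF, show a ^ q = a from ha]
  inv_mem' := fun a ha => by
    change (a⁻¹) ^ q = a⁻¹
    rw [inv_pow, show a ^ q = a from ha]

theorem card_fixF (hF : Fintype.card F = q ^ 2) : Nat.card (fixF hF) = q := card_fixed hF

theorem two_three_dvd {p n : ℕ} (hp : p.Prime) (h5 : p < 5) (hn : ¬ p ∣ n) (h1 : 1 ≤ n) :
    p ∣ n ^ 2 - 1 := by
  have h2 := hp.two_le
  have hq2 : n ^ 2 - 1 = (n - 1) * (n + 1) := by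
    obtain ⟨k, hk⟩ := Nat.exists_eq_add_of_le h1
    rw [hk]
    have : (1 + k) ^ 2 = k * (1 + k + 1) + 1 := by ring
    rw [this, Nat.add_sub_cancel, Nat.add_sub_cancel_left]
  rw [hq2]
  interval_cases p
  · have h3 : n % 2 = 1 := by omega
    exact Dvd.dvd.mul_right (by omega) _
  · have h3 : n % 3 = 1 ∨ n % 3 = 2 := by omega
    rcases h3 with h3 | h3
    · exact Dvd.dvd.mul_right (by omega) _
    · exact Dvd.dvd.mul_left (by omega) _
  · exact absurd hp (by norm_num)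

/-- The four dimensional unitary groups. -/
theorem row_SU4 (hF : Fintype.card F = q ^ 2) {p : ℕ} (hp : p.Prime) (hpF : (p : F) ≠ 0)
    (hd : p ∣ q ^ 2 - 1) : FprRow (2 * p - 1) (p - 1) p (SG (PU hF 4)) := by
  obtain ⟨r, hr⟩ := CharP.exists F
  have hrp : Fact r.Prime := ⟨CharP.char_is_prime F r⟩
  obtain ⟨t', j, k, hj, ht'⟩ := exists_good2 (F := fixF hF) hp (by
    intro h
    apply hpF
    have := congrArg (fun z : fixF hF => (z : F)) h
    simpa using this) (by rw [card_fixF]; exact hd)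
  have ht := ht'.map (fixF hF).subtype
  obtain ⟨t, htdef⟩ : ∃ t, t = (fixF hF).subtype t' := ⟨_, rfl⟩
  rw [← htdef] at ht
  have htq : t ^ q = t := by rw [htdef]; exact t'.2
  obtain ⟨W, hW⟩ := exists_wframe_even hF (N := 4) (m := 2) rfl
  obtain ⟨c, hc0, hc⟩ := exists_trace_zero_ne hF
  have hok : ∀ c : F, (PU hF 4).ok 0 c ↔ c + c ^ q = 0 := by
    intro c
    rw [ok_iff, herm_zero_left, neg_zero]
  have h2q : (2 : F) ^ q = 2 := by
    have : (2 : F) = 1 + 1 := by norm_num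
    rw [this, add_pow_q hF, one_pow]
  refine row_IV_explicit (r := r) (P := PU hF 4) hp hj ht (W.e_sing 0) (W.f_sing 0)
    (by rw [W.ef, if_pos rfl]) (b := (t - 2) / c) (c := c) ?_ ((hok c).2 hc) ?_ (lam_PU hF)
    (T := Submodule.span F {W.e 1}) (T' := Submodule.span F {W.f 1}) ?_ ?_ ?_ ?_ ?_
    ⟨W.e 1, Submodule.mem_span_singleton_self _, W.f 1, Submodule.mem_span_singleton_self _,
      by rw [W.ef, if_pos rfl]; exact one_ne_zero⟩ (fun v _ hv => nd_HU hF v hv)
  · rw [hok, div_pow, sub_pow_q hF, htq, h2q]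
    have h1 : c ^ q = -c := by linear_combination hc
    rw [h1]
    field_simp
    ring
  · rw [HU_ε, one_mul, div_mul_cancel₀ _ hc0]
  · apply le_antisymm
    · intro v hv
      obtain ⟨a, b, w, hw, hvw⟩ := W.span v
      rw [hW, Submodule.mem_bot] at hw
      have h1 : (HU hF 4).h v (W.e 0) = 0 := hv _ (by simp)
      have h2 : (HU hF 4).h v (W.f 0) = 0 := hv _ (by simp)
      rw [hw, add_zero, Fin.sum_univ_two, Fin.sum_univ_two] at hvw
      simp only [hvw, HForm.add_left, HForm.smul_left, W.ee, W.fe, W.ef, W.ff, Fin.isValue,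
        one_ne_zero, if_false, if_true, mul_zero, add_zero, zero_add, HU_ε, mul_one] at h1 h2
      rw [hvw, h1, h2, zero_smul, zero_smul, zero_add, zero_add]
      exact Submodule.add_mem_sup (Submodule.smul_mem _ _ (Submodule.mem_span_singleton_self _))
        (Submodule.smul_mem _ _ (Submodule.mem_span_singleton_self _))
    · refine sup_le ?_ ?_
      · rw [Submodule.span_singleton_le_iff_mem]
        rintro u (rfl | rfl)
        · exact W.ee _ _
        · rw [W.ef, if_neg (by decide)]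
      · rw [Submodule.span_singleton_le_iff_mem]
        rintro u (rfl | rfl)
        · rw [W.fe, if_neg (by decide)]
        · exact W.ff _ _
  · exact span_sing (by rintro u rfl v rfl; exact W.ee _ _) (by rintro u rfl; exact W.e_sing _)
  · exact span_orth (by rintro u rfl v rfl; exact W.ee _ _)
  · exact span_sing (by rintro u rfl v rfl; exact W.ff _ _) (by rintro u rfl; exact W.f_sing _)
  · exact span_orth (by rintro u rfl v rfl; exact W.ff _ _)

/-- **The row for the unitary groups**, Siegel form. -/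
theorem row_SGU (hF : Fintype.card F = q ^ 2) (hN : 4 ≤ N) {p : ℕ} (hp : p.Prime)
    (hpF : (p : F) ≠ 0)
    (hE : p = 2 ∨ ∃ a ∈ SG (PU hF N), ∃ b ∈ SG (PU hF N), a * b = b * a ∧ a ^ p = 1 ∧
      b ^ p = 1 ∧ b ≠ 1 ∧ ∀ i : ℕ, a * b ^ i ≠ 1) :
    FprRow (2 * p - 1) (p - 1) p (SG (PU hF N)) := by
  obtain ⟨r, hr⟩ := CharP.exists F
  have hrp : Fact r.Prime := ⟨CharP.char_is_prime F r⟩
  have hcardF := not_dvd_card hp hpF
  have hcF : Nat.card F = q ^ 2 := by rw [Nat.card_eq_fintype_card, hF]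
  have hq1 : 1 ≤ q := q_pos hF
  have hpq : ¬ p ∣ q := by
    intro h
    apply hcardF
    rw [hcF]
    exact dvd_pow h two_ne_zero
  by_cases hd : p ∣ q ^ 2 - 1
  · rcases Nat.lt_or_ge N 5 with h5 | h5
    · have h4 : N = 4 := by omega
      subst h4
      exact row_SU4 hF hp hpF hd
    · refine row_small (r := r) hp hpF ?_ (κ := 2) (by norm_num)
        (fun A hA => exists_iso_mem hF A hA) (nd_HU hF) (by
          rw [Module.finrank_fintype_fun_eq_card, Fintype.card_fin]; exact h5)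
      rw [hcF]
      have := Nat.sub_dvd_pow_sub_pow (q ^ 2) 1 2
      rw [one_pow] at this
      exact hd.trans this
  · have hp5 : 5 ≤ p := by
      by_contra hlt
      push Not at hlt
      exact hd (two_three_dvd hp hlt hpq hq1)
    obtain ⟨a, ha, b, hb, hab, hap, hbp, hb1, hind⟩ := hE.resolve_left (by omega)
    refine row_E (r := r) hp hp5 hpF (κ := 2) (by norm_num) (fun A hA => exists_iso_mem hF A hA)
      ?_ (lam_PU hF) (nd_HU hF) ha hb hab hap hbp hb1 hind
    intro i hi hi2 h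
    have h1 : i = 1 := by omega
    rw [h1, pow_one, hcF] at h
    exact hd h

/-- **The row for `PSU_n(q)`, `n ≥ 4`.** -/
theorem row_PSU (hF : Fintype.card F = q ^ 2) (hN : 4 ≤ N) {p : ℕ} (hp : p.Prime)
    (hpF : (p : F) ≠ 0) (hE : p = 2 ∨ ∃ P : Sylow p (PSU N F q), ¬ IsCyclic P) :
    FprRow (2 * p - 1) (p - 1) p (PSU N F q) := by
  have hfin : Finite ((Fin N → F) ≃ₗ[F] (Fin N → F)) := instFin
  have e : SG (PU hF N) ≃* SU N F q :=
    ((MonoidHom.ofInjective (toLin_injective (F := F) (q := q) (N := N))).trans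
      (MulEquiv.subgroupCongr (SG_PU hF (by omega)).symm)).symm
  let f : SG (PU hF N) →* PSU N F q :=
    (QuotientGroup.mk' (Subgroup.center (SU N F q))).comp e.toMonoidHom
  have hf : Function.Surjective f := (QuotientGroup.mk'_surjective _).comp e.surjective
  refine FprRow.of_surjective hp f hf ?_
  apply row_SGU hF hN hp hpF
  rcases eq_or_ne p 2 with rfl | hp2
  · exact Or.inl rfl
  · right
    obtain ⟨P, hP⟩ := hE.resolve_left hp2
    have := Fact.mk hp
    obtain ⟨a, b, hab, ha, hb, hb1, hind⟩ := exists_rank_two hp2 f hf P hP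
    refine ⟨a, a.2, b, b.2, congrArg Subtype.val hab, congrArg Subtype.val ha,
      congrArg Subtype.val hb, fun h => hb1 (Subtype.ext h), fun i h => hind i (Subtype.ext h)⟩

end Cfsg.Agent.H110.Fpr
end

-- part: H110/Fpr/FamSp
section
/-!
# The rows for the symplectic groups
-/

set_option autoImplicit false

namespace Cfsg.Agent.H110.Fpr

open Cfsg Cfsg.Agent.ClassicalGeometry.SympBasic
open Cfsg.Agent.TitsThree.Siegel Cfsg.Agent.TitsThree.SiegelGen Cfsg.Agent.TitsThree.SpIdent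
open Cfsg.Agent.TitsThree.SpGen
open Cfsg.Agent.H409

variable {F : Type*} [Field F] {m : ℕ}

theorem SG_pq : SG (pq m F) = isos (form m F) := by
  apply le_antisymm
  · exact SG_le _ fun u w c hu hw _ _ => sie_form_mem u w c hw
  · have h1 : (SG (pq m F)).subgroupOf (isos (form m F)) = ⊤ := by
      apply isos_eq_of_sie
      intro u c
      rw [Subgroup.mem_subgroupOf]
      exact sie_mem_SG (pq m F) (sympForm_self u) (sympForm_zero_right u) trivial trivial
    intro g hg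
    have h2 : (⟨g, hg⟩ : isos (form m F)) ∈ (SG (pq m F)).subgroupOf (isos (form m F)) := by
      rw [h1]; trivial
    exact h2

theorem nd_form : ∀ v : Fin m ⊕ Fin m → F, v ≠ 0 → ∃ w, (form m F).h v w ≠ 0 := by
  intro v hv
  by_contra hcon
  push Not at hcon
  exact hv (eq_zero_of_forall_sympForm_right hcon)

theorem κ_form (A : Submodule F (Fin m ⊕ Fin m → F)) (hA : 1 ≤ Module.finrank F A) :
    ∃ w ∈ A, w ≠ 0 ∧ (pq m F).ok w 0 := by
  have : Module.Finite F A := Module.finite_of_finrank_pos hA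
  have : Nontrivial A := Module.nontrivial_of_finrank_pos hA
  obtain ⟨w, hw⟩ := exists_ne (0 : A)
  exact ⟨w, w.2, fun h => hw (Subtype.ext h), trivial⟩

theorem lam_form (h2 : (2 : F) ≠ 0) : ∀ c, (pq m F).ok 0 c →
    ∃ x, c = x - (form m F).ε⁻¹ * (form m F).σ x := by
  intro c _
  refine ⟨c / 2, ?_⟩
  rw [form_ε, form_σ, inv_neg, inv_one]
  field_simp
  ring

theorem alt_form (h2 : (2 : F) = 0) : Alt2 (form m F) where
  two := h2
  eps := by rw [form_ε]; linear_combination -h2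
  sig x := rfl
  alt v := sympForm_self v

/-- a quadratic function -/
def qS (v : Fin m ⊕ Fin m → F) : F := ∑ i, v (Sum.inr i) * v (Sum.inl i)

theorem isQ2_qS (h2 : (2 : F) = 0) : IsQ2 (form m F) (qS (m := m) (F := F)) where
  add v w := by
    rw [form_h, sympForm_eq_sum, qS, qS, qS, ← Finset.sum_add_distrib, ← Finset.sum_add_distrib]
    refine Finset.sum_congr rfl fun i _ => ?_
    simp only [Pi.add_apply]
    linear_combination (v (Sum.inl i) * w (Sum.inr i)) * h2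
  smul s v := by
    rw [qS, qS, Finset.mul_sum]
    refine Finset.sum_congr rfl fun i _ => ?_
    simp only [Pi.smul_apply, smul_eq_mul]
    ring

/-- quadratic functions have zeros -/
theorem exists_sing_q2 [Finite F] {V : Type*} [AddCommGroup V] [Module F V] {H : HForm F V}
    (hA : Alt2 H) {q : V → F} (hq : IsQ2 H q) (A : Submodule F V)
    (hd : 3 ≤ Module.finrank F A) : ∃ w ∈ A, w ≠ 0 ∧ q w = 0 := by
  let Q : QuadraticForm F V :=
    { toFun := q
      toFun_smul := fun a x => by rw [hq.smul, smul_eq_mul, pow_two]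
      exists_companion' := by
        refine ⟨LinearMap.mk₂ F H.h (fun a b c => H.add_left a b c) (fun s a b => H.smul_left s a b)
          (fun a b c => H.add_right a b c) (fun s a b => by
            rw [H.smul_right, hA.sig, smul_eq_mul]), fun x y => ?_⟩
        rw [hq.add]
        rfl }
  exact LieClassical.OrthFinite.exists_sing_mem (Q := Q) A hd

theorem finrank_sp : Module.finrank F (Fin m ⊕ Fin m → F) = 2 * m := by
  rw [Module.finrank_fintype_fun_eq_card, Fintype.card_sum, Fintype.card_fin]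
  omega

theorem perp_sp4 : perp (form 2 F) {e 2 F 0, f 2 F 0} =
    Submodule.span F {e 2 F 1} ⊔ Submodule.span F {f 2 F 1} := by
  apply le_antisymm
  · intro v hv
    obtain ⟨a, b, w, hw, hvw⟩ := (wframe 2 F).span v
    have hw0 : w = 0 := (Submodule.mem_bot F).1 hw
    have h1 : (form 2 F).h v (e 2 F 0) = 0 := hv _ (by simp)
    have h2 : (form 2 F).h v (f 2 F 0) = 0 := hv _ (by simp)
    change v = ∑ i, a i • e 2 F i + ∑ i, b i • f 2 F i + w at hvw
    rw [hw0, add_zero, Fin.sum_univ_two, Fin.sum_univ_two] at hvw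
    rw [form_h] at h1 h2
    simp only [hvw, sympForm_add_left, sympForm_smul_left, ee, fe, ef, ff, Fin.isValue,
      one_ne_zero, if_false, if_true, mul_zero, add_zero, zero_add, mul_one, mul_neg,
      neg_eq_zero] at h1 h2
    rw [hvw, h1, h2, zero_smul, zero_smul, zero_add, zero_add]
    exact Submodule.add_mem_sup (Submodule.smul_mem _ _ (Submodule.mem_span_singleton_self _))
      (Submodule.smul_mem _ _ (Submodule.mem_span_singleton_self _))
  · refine sup_le ?_ ?_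
    · rw [Submodule.span_singleton_le_iff_mem]
      rintro u (rfl | rfl)
      · exact ee _ _
      · change sympForm 2 F _ _ = 0
        rw [ef, if_neg (by decide)]
    · rw [Submodule.span_singleton_le_iff_mem]
      rintro u (rfl | rfl)
      · change sympForm 2 F _ _ = 0
        rw [fe, if_neg (by decide)]
      · exact ff _ _

/-- **The row for the symplectic groups.** -/
theorem row_isos [Finite F] (hm : 2 ≤ m) (hm2 : m = 2 → 3 ≤ Nat.card F) {p : ℕ} (hp : p.Prime)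
    (hpF : (p : F) ≠ 0)
    (hE : p = 2 ∨ ∃ a ∈ SG (pq m F), ∃ b ∈ SG (pq m F), a * b = b * a ∧ a ^ p = 1 ∧
      b ^ p = 1 ∧ b ≠ 1 ∧ ∀ i : ℕ, a * b ^ i ≠ 1) :
    FprRow (2 * p - 1) (p - 1) p (SG (pq m F)) := by
  obtain ⟨r, hr⟩ := CharP.exists F
  have hrp : Fact r.Prime := ⟨CharP.char_is_prime F r⟩
  have hcardF := not_dvd_card hp hpF
  have hq1 : 1 ≤ Nat.card F := Nat.card_pos
  by_cases hd : p ∣ (Nat.card F) ^ 2 - 1
  · rcases Nat.lt_or_ge m 3 with h3 | h3
    · have h2 : m = 2 := by omega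
      subst h2
      by_cases hF2 : (2 : F) = 0
      · have hp2 : p ≠ 2 := by
          rintro rfl
          apply hpF
          exact_mod_cast hF2
        have h4 : 4 ≤ Nat.card F := by
          have h3 := hm2 rfl
          have h5 : 2 ∣ Nat.card F := by
            have hch : CharP F 2 := CharTwo.of_one_ne_zero_of_two_eq_zero one_ne_zero hF2
            have := Fintype.ofFinite F
            rw [Nat.card_eq_fintype_card, ← CharP.cast_eq_zero_iff F 2]
            exact Nat.cast_card_eq_zero F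
          omega
        refine row_four h4 (alt_form hF2) (fun _ _ => trivial) (isQ2_qS hF2) hp hp2 hd nd_form
          (e := e 2 F 0) (f := f 2 F 0) (e0 := e 2 F 1) (f0 := f 2 F 1) ?_ ?_ ?_
        · rw [form_h, ef, if_pos rfl]
        · rw [form_h, ef, if_pos rfl]
        · rw [perp_sp4, ← Submodule.span_union]
          rfl
      · obtain ⟨t, j, k, hj, ht⟩ := exists_good2 (F := F) hp hpF hd
        refine row_IV_explicit (r := r) (P := pq 2 F) hp hj ht (e := e 2 F 0) (f := f 2 F 0)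
          trivial trivial (by rw [form_h, ef, if_pos rfl]) (b := 2 - t) (c := 1) trivial trivial
          (by rw [form_ε]; ring) (lam_form hF2) perp_sp4 (fun _ _ => trivial) ?_
          (fun _ _ => trivial) ?_ ⟨e 2 F 1, Submodule.mem_span_singleton_self _, f 2 F 1,
            Submodule.mem_span_singleton_self _, by
              rw [form_h, ef, if_pos rfl]; exact one_ne_zero⟩ (fun v _ hv => nd_form v hv)
        · exact span_orth (by rintro u rfl v rfl; exact ee _ _)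
        · exact span_orth (by rintro u rfl v rfl; exact ff _ _)
    · exact row_small (r := r) hp hpF hd (κ := 1) (by norm_num) κ_form nd_form
        (by rw [finrank_sp]; omega)
  · have hp5 : 5 ≤ p := by
      by_contra hlt
      push Not at hlt
      exact hd (two_three_dvd hp hlt hcardF hq1)
    obtain ⟨a, ha, b, hb, hab, hap, hbp, hb1, hind⟩ := hE.resolve_left (by omega)
    by_cases hF2 : (2 : F) = 0
    · refine row_E2 (alt_form hF2) (fun _ _ => trivial) (isQ2_qS hF2)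
        (fun q hq A hA => exists_sing_q2 (alt_form hF2) hq A hA) hp hp5 ?_ nd_form ha hb hab hap
        hbp hb1 hind
      intro i hi hi3 h
      apply hd
      interval_cases i
      · rw [pow_one] at h
        have : Nat.card F - 1 ∣ Nat.card F ^ 2 - 1 := by
          have := Nat.sub_dvd_pow_sub_pow (Nat.card F) 1 2
          rwa [one_pow] at this
        exact h.trans this
      · exact h
    · refine row_E (r := r) hp hp5 hpF (κ := 1) (by norm_num) κ_form ?_ (lam_form hF2) nd_form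
        ha hb hab hap hbp hb1 hind
      intro i hi hi1
      omega

/-- **The row for `PSp_{2m}(q)`, `m ≥ 2`.** -/
theorem row_PSp [Finite F] (hm : 2 ≤ m) (hm2 : m = 2 → 3 ≤ Nat.card F) {p : ℕ} (hp : p.Prime)
    (hpF : (p : F) ≠ 0) (hE : p = 2 ∨ ∃ P : Sylow p (PSp m F), ¬ IsCyclic P) :
    FprRow (2 * p - 1) (p - 1) p (PSp m F) := by
  have hfin : Finite ((Fin m ⊕ Fin m → F) ≃ₗ[F] (Fin m ⊕ Fin m → F)) := instFin
  let e : SG (pq m F) ≃* isos (form m F) := MulEquiv.subgroupCongr SG_pq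
  let f : SG (pq m F) →* PSp m F := toPSp.comp e.toMonoidHom
  have hf : Function.Surjective f := toPSp_surjective.comp e.surjective
  refine FprRow.of_surjective hp f hf ?_
  apply row_isos hm hm2 hp hpF
  rcases eq_or_ne p 2 with rfl | hp2
  · exact Or.inl rfl
  · right
    obtain ⟨P, hP⟩ := hE.resolve_left hp2
    have := Fact.mk hp
    obtain ⟨a, b, hab, ha, hb, hb1, hind⟩ := exists_rank_two hp2 f hf P hP
    refine ⟨a, a.2, b, b.2, congrArg Subtype.val hab, congrArg Subtype.val ha,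
      congrArg Subtype.val hb, fun h => hb1 (Subtype.ext h), fun i h => hind i (Subtype.ext h)⟩

end Cfsg.Agent.H110.Fpr
end

private theorem dce_0dd456586fa1 : _root_.True := by
  try have : _root_.True := by simp only [_root_.Cfsg.Agent.TitsThree.KSideU.HU.congr_simp]
  try have : _root_.True := by simp only [_root_.Cfsg.Agent.H110.Fpr.qS.eq_1]
  exact _root_.True.intro
end

-- part: H110/Fpr/SharpSp
section
prune_inst 0xf0104b40550000000000000080201c22f80000200008000020a00b4203082042808080000c0024040280000100040008100000000000000000000000000001001000000420400008000090000000000000000000000000000000000000000000000000000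
set_option linter.all false
open scoped Cfsg.Agent.FastGrp

-- part: H110/Fpr/Fam5
section
/-!
# Families of totally singular subspaces, general version
-/

set_option autoImplicit false

namespace Cfsg.Agent.H110.Fpr

open Cfsg.Agent.TitsThree.Siegel Cfsg.Agent.TitsThree.SiegelGen Cfsg.Agent.H398.FPR
open Cfsg.Agent.H409

variable {F : Type*} [Field F] {V : Type*} [AddCommGroup V] [Module F V]
variable {H : HForm F V} {P : PQ H}

/-- **Witt decomposition**, with orthogonality. -/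
theorem witt' [Finite V] (n : ℕ) : ∀ W : Submodule F V, Module.finrank F W ≤ n →
    (∀ v ∈ W, v ≠ 0 → ∃ w ∈ W, H.h v w ≠ 0) →
    ∃ T T' A : Submodule F V, W = T ⊔ T' ⊔ A ∧
      (∀ u ∈ T, P.ok u 0) ∧ (∀ u ∈ T, ∀ u' ∈ T, H.h u u' = 0) ∧
      (∀ u ∈ T', P.ok u 0) ∧ (∀ u ∈ T', ∀ u' ∈ T', H.h u u' = 0) ∧
      (∀ u ∈ A, P.ok u 0 → u = 0) ∧
      (∀ t ∈ T, ∀ a ∈ A, H.h t a = 0) ∧ (∀ t ∈ T', ∀ a ∈ A, H.h t a = 0) ∧
      ((∃ e ∈ W, e ≠ 0 ∧ P.ok e 0) → ∃ e ∈ T, ∃ f ∈ T', H.h e f = 1) := by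
  induction n with
  | zero =>
    intro W hW _
    have h0 : W = ⊥ := by
      rw [← Submodule.finrank_eq_zero (R := F)]
      omega
    refine ⟨⊥, ⊥, ⊥, by rw [h0, sup_bot_eq, sup_bot_eq], ?_, ?_, ?_, ?_, ?_, ?_, ?_, ?_⟩
    · intro u hu
      rw [(Submodule.mem_bot F).1 hu]; exact P.zero
    · intro u hu u' hu'
      rw [(Submodule.mem_bot F).1 hu]; exact H.zero_left _
    · intro u hu
      rw [(Submodule.mem_bot F).1 hu]; exact P.zero
    · intro u hu u' hu'
      rw [(Submodule.mem_bot F).1 hu]; exact H.zero_left _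
    · intro u hu _
      exact (Submodule.mem_bot F).1 hu
    · intro u hu u' hu'
      rw [(Submodule.mem_bot F).1 hu]; exact H.zero_left _
    · intro u hu u' hu'
      rw [(Submodule.mem_bot F).1 hu]; exact H.zero_left _
    · rintro ⟨e, he, he0, _⟩
      rw [h0] at he
      exact absurd ((Submodule.mem_bot F).1 he) he0
  | succ n ih =>
    intro W hW hnd
    by_cases hex : ∃ e ∈ W, e ≠ 0 ∧ P.ok e 0
    swap
    · push Not at hex
      refine ⟨⊥, ⊥, W, by rw [sup_bot_eq, bot_sup_eq], ?_, ?_, ?_, ?_, ?_, ?_, ?_, ?_⟩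
      · intro u hu
        rw [(Submodule.mem_bot F).1 hu]; exact P.zero
      · intro u hu u' hu'
        rw [(Submodule.mem_bot F).1 hu]; exact H.zero_left _
      · intro u hu
        rw [(Submodule.mem_bot F).1 hu]; exact P.zero
      · intro u hu u' hu'
        rw [(Submodule.mem_bot F).1 hu]; exact H.zero_left _
      · intro u hu hus
        by_contra h
        exact hex u hu h hus
      · intro u hu u' hu'
        rw [(Submodule.mem_bot F).1 hu]; exact H.zero_left _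
      · intro u hu u' hu'
        rw [(Submodule.mem_bot F).1 hu]; exact H.zero_left _
      · rintro ⟨e, he, he0, hes⟩
        exact absurd hes (hex e he he0)
    obtain ⟨e, he, he0, hes⟩ := hex
    obtain ⟨f, hf, hfs, hef⟩ := exists_hyp hnd he hes he0
    have hee := P.iso hes
    have hff := P.iso hfs
    have hfe : H.h f e = H.ε := by rw [H.swap e f, hef, map_one, mul_one]
    obtain ⟨W', hW'⟩ : ∃ W', W' = W ⊓ perp H {e, f} := ⟨_, rfl⟩
    have hmem : ∀ w, w ∈ W' ↔ w ∈ W ∧ H.h w e = 0 ∧ H.h w f = 0 := by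
      intro w
      rw [hW', Submodule.mem_inf, mem_perp]
      simp
    -- projection
    have hproj : ∀ v ∈ W, ∃ w ∈ W', v = w + (H.h v f • e + (H.ε⁻¹ * H.h v e) • f) := by
      intro v hv
      refine ⟨v - (H.h v f • e + (H.ε⁻¹ * H.h v e) • f), ?_, by abel⟩
      rw [hmem]
      refine ⟨W.sub_mem hv (W.add_mem (W.smul_mem _ he) (W.smul_mem _ hf)), ?_, ?_⟩
      · simp only [H.sub_left, H.add_left, H.smul_left, hee, hfe]
        field_simp [H.ε_ne]
        ring
      · simp only [H.sub_left, H.add_left, H.smul_left, hef, hff]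
        ring
    have hlt : Module.finrank F W' ≤ n := by
      have h1 : W' < W := by
        refine lt_of_le_of_ne (by rw [hW']; exact inf_le_left) ?_
        intro h
        have h2 : e ∈ W' := by rw [h]; exact he
        rw [hmem] at h2
        rw [hef] at h2
        exact one_ne_zero h2.2.2
      have := Submodule.finrank_lt_finrank_of_lt h1
      omega
    have hnd' : ∀ v ∈ W', v ≠ 0 → ∃ w ∈ W', H.h v w ≠ 0 := by
      intro v hv hv0
      rw [hmem] at hv
      obtain ⟨w, hw, hvw⟩ := hnd v hv.1 hv0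
      obtain ⟨w', hw', hww⟩ := hproj w hw
      refine ⟨w', hw', ?_⟩
      rw [hww, H.add_right, H.add_right, H.smul_right, H.smul_right, hv.2.1, hv.2.2, mul_zero,
        mul_zero, add_zero, add_zero] at hvw
      exact hvw
    obtain ⟨T, T', A, h1, h2, h3, h4, h5, h6, h7, h8, -⟩ := ih W' hlt hnd'
    have hTW : T ≤ W' := by rw [h1]; exact le_sup_left.trans le_sup_left
    have hTW' : T' ≤ W' := by rw [h1]; exact le_sup_right.trans le_sup_left
    have hAW' : A ≤ W' := by rw [h1]; exact le_sup_right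
    have key : ∀ (T : Submodule F V) (e : V), T ≤ W' → (∀ u ∈ T, P.ok u 0) →
        (∀ u ∈ T, ∀ u' ∈ T, H.h u u' = 0) → (∀ u ∈ T, ∀ a ∈ A, H.h u a = 0) → P.ok e 0 →
        (∀ w ∈ W', H.h w e = 0) →
        (∀ u ∈ Submodule.span F {e} ⊔ T, P.ok u 0) ∧
        (∀ u ∈ Submodule.span F {e} ⊔ T, ∀ u' ∈ Submodule.span F {e} ⊔ T, H.h u u' = 0) ∧
        (∀ u ∈ Submodule.span F {e} ⊔ T, ∀ a ∈ A, H.h u a = 0) := by
      intro T e hTW h2 h3 h3' hes he
      have hT : ∀ u ∈ T, H.h u e = 0 := fun u hu => he u (hTW hu)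
      have hT' : ∀ u ∈ T, H.h e u = 0 := fun u hu => H.orth_symm (hT u hu)
      refine ⟨?_, ?_, ?_⟩
      · intro u hu
        obtain ⟨y, hy, z, hz, rfl⟩ := Submodule.mem_sup.1 hu
        obtain ⟨s, rfl⟩ := Submodule.mem_span_singleton.1 hy
        exact P.sing_add (P.sing_smul hes s) (h2 z hz) (by rw [H.smul_right, hT z hz, mul_zero])
      · intro u hu u' hu'
        obtain ⟨y, hy, z, hz, rfl⟩ := Submodule.mem_sup.1 hu
        obtain ⟨s, rfl⟩ := Submodule.mem_span_singleton.1 hy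
        obtain ⟨y', hy', z', hz', rfl⟩ := Submodule.mem_sup.1 hu'
        obtain ⟨s', rfl⟩ := Submodule.mem_span_singleton.1 hy'
        simp only [H.add_left, H.add_right, H.smul_left, H.smul_right, P.iso hes, hT z hz,
          hT' z' hz', h3 z hz z' hz', mul_zero, add_zero]
      · intro u hu a ha
        obtain ⟨y, hy, z, hz, rfl⟩ := Submodule.mem_sup.1 hu
        obtain ⟨s, rfl⟩ := Submodule.mem_span_singleton.1 hy
        rw [H.add_left, H.smul_left, h3' z hz a ha, H.orth_symm (he a (hAW' ha)), mul_zero,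
          add_zero]
    have k1 := key T e hTW h2 h3 h7 hes (fun w hw => ((hmem w).1 hw).2.1)
    have k2 := key T' f hTW' h4 h5 h8 hfs (fun w hw => ((hmem w).1 hw).2.2)
    refine ⟨Submodule.span F {e} ⊔ T, Submodule.span F {f} ⊔ T', A, ?_, k1.1, k1.2.1, k2.1,
      k2.2.1, h6, k1.2.2, k2.2.2, ?_⟩
    · apply le_antisymm
      · intro v hv
        obtain ⟨w, hw, hvw⟩ := hproj v hv
        rw [h1] at hw
        rw [hvw]
        have hle : T ⊔ T' ⊔ A ≤ Submodule.span F {e} ⊔ T ⊔ (Submodule.span F {f} ⊔ T') ⊔ A :=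
          sup_le_sup_right (sup_le_sup le_sup_right le_sup_right) A
        refine Submodule.add_mem _ (hle hw) (Submodule.add_mem _ ?_ ?_)
        · exact (le_sup_left.trans (le_sup_left.trans le_sup_left) : Submodule.span F {e} ≤ _)
            (Submodule.smul_mem _ _ (Submodule.mem_span_singleton_self e))
        · exact (le_sup_left.trans (le_sup_right.trans le_sup_left) : Submodule.span F {f} ≤ _)
            (Submodule.smul_mem _ _ (Submodule.mem_span_singleton_self f))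
      · have hW'W : W' ≤ W := by rw [hW']; exact inf_le_left
        refine sup_le (sup_le (sup_le ?_ (hTW.trans hW'W)) (sup_le ?_ (hTW'.trans hW'W)))
          (hAW'.trans hW'W)
        · rw [Submodule.span_singleton_le_iff_mem]; exact he
        · rw [Submodule.span_singleton_le_iff_mem]; exact hf
    · intro _
      exact ⟨e, (le_sup_left : _ ≤ Submodule.span F {e} ⊔ T)
        (Submodule.mem_span_singleton_self e), f,
        (le_sup_left : _ ≤ Submodule.span F {f} ⊔ T') (Submodule.mem_span_singleton_self f),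
        hef⟩

/-- The family of totally singular subspaces. -/
theorem exists_family_of [Finite V] {κ : ℕ} {W T T' A : Submodule F V}
    (hAκ : Module.finrank F A ≤ κ - 1)
    (h1 : W = T ⊔ T' ⊔ A) (h2 : ∀ u ∈ T, P.ok u 0) (h3 : ∀ u ∈ T, ∀ u' ∈ T, H.h u u' = 0)
    (h4 : ∀ u ∈ T', P.ok u 0) (h5 : ∀ u ∈ T', ∀ u' ∈ T', H.h u u' = 0)
    (hTA : ∀ t ∈ T, ∀ a ∈ A, H.h t a = 0) (hTA' : ∀ t ∈ T', ∀ a ∈ A, H.h t a = 0)
    {e f : V} (he : e ∈ T) (hf : f ∈ T') (hef : H.h e f = 1) :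
    ∃ T : Bool ⊕ Fin (κ - 1) → Submodule F V, (∀ i, T i ≤ W) ∧ (∀ i, ∀ u ∈ T i, P.ok u 0) ∧
      (∀ i, ∀ u ∈ T i, ∀ u' ∈ T i, H.h u u' = 0) ∧ W ≤ (⨆ i, T i) ∧
      (∃ i, ∃ u ∈ T i, ∃ i', ∃ u' ∈ T i', H.h u u' ≠ 0) := by
  have hA : ∀ a ∈ A, H.h e a = 0 ∧ H.h f a = 0 := fun a ha => ⟨hTA e he a ha, hTA' f hf a ha⟩
  have hee := h3 e he e he
  have hff := h5 f hf f hf
  have hTW : T ≤ W := by rw [h1]; exact le_sup_left.trans le_sup_left
  have hTW' : T' ≤ W := by rw [h1]; exact le_sup_right.trans le_sup_left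
  have hAW' : A ≤ W := by rw [h1]; exact le_sup_right
  -- a spanning family of `A`
  obtain ⟨a, ha, haspan⟩ : ∃ a : Fin (κ - 1) → V, (∀ i, a i ∈ A) ∧
      A ≤ Submodule.span F (Set.range a) := by
    have : Module.Finite F V := Module.Finite.of_finite
    let b := Module.finBasis F A
    refine ⟨fun i => if h : (i : ℕ) < Module.finrank F A then (b ⟨i, h⟩ : V) else 0, ?_, ?_⟩
    · intro i
      dsimp only
      split_ifs with h
      · exact (b _).2
      · exact A.zero_mem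
    · intro v hv
      have h8 := b.sum_repr ⟨v, hv⟩
      have h9 : v = ∑ i, (b.repr ⟨v, hv⟩ i) • (b i : V) := by
        have := congrArg Subtype.val h8
        rw [Submodule.coe_sum] at this
        exact this.symm
      rw [h9]
      apply Submodule.sum_mem
      intro i _
      apply Submodule.smul_mem
      apply Submodule.subset_span
      refine ⟨⟨i, lt_of_lt_of_le i.2 hAκ⟩, ?_⟩
      simp
  choose c hc using fun i => P.ex (a i)
  have hfa : ∀ i, H.h f (a i) = 0 := fun i => (hA _ (ha i)).2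
  have hea : ∀ i, H.h e (a i) = 0 := fun i => (hA _ (ha i)).1
  -- the singular vectors `w i = e + a i + c i f`
  have hws : ∀ i, P.ok (H.sie f (a i) (c i) hff (hfa i) e) 0 := fun i =>
    P.ok_sie hff (hfa i) (h4 f hf) (hc i) (h2 e he)
  have hw : ∀ i, H.sie f (a i) (c i) hff (hfa i) e = e + a i + c i • f := by
    intro i
    rw [H.sie_apply, hef, hea]
    simp
  obtain ⟨Tf, hTf⟩ : ∃ Tf : Bool ⊕ Fin (κ - 1) → Submodule F V,
    Tf = Sum.elim (fun b => cond b T T') (fun i => Submodule.span F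
      {H.sie f (a i) (c i) hff (hfa i) e}) := ⟨_, rfl⟩
  have t1 : Tf (Sum.inl true) = T := by rw [hTf]; rfl
  have t2 : Tf (Sum.inl false) = T' := by rw [hTf]; rfl
  have t3 : ∀ i, Tf (Sum.inr i) = Submodule.span F {H.sie f (a i) (c i) hff (hfa i) e} := by
    intro i; rw [hTf]; rfl
  refine ⟨Tf, ?_, ?_, ?_, ?_, Sum.inl true, e, by rw [t1]; exact he, Sum.inl false, f,
    by rw [t2]; exact hf, by rw [hef]; exact one_ne_zero⟩
  · rintro ((_ | _) | i)
    · rw [t2]; exact hTW'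
    · rw [t1]; exact hTW
    · rw [t3, Submodule.span_singleton_le_iff_mem, hw]
      exact W.add_mem (W.add_mem (hTW he) (hAW' (ha i))) (W.smul_mem _ (hTW' hf))
  · rintro ((_ | _) | i)
    · rw [t2]; exact h4
    · rw [t1]; exact h2
    · rw [t3]
      intro u hu
      obtain ⟨s, rfl⟩ := Submodule.mem_span_singleton.1 hu
      exact P.sing_smul (hws i) s
  · rintro ((_ | _) | i)
    · rw [t2]; exact h5
    · rw [t1]; exact h3
    · rw [t3]
      intro u hu u' hu'
      obtain ⟨s, rfl⟩ := Submodule.mem_span_singleton.1 hu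
      obtain ⟨s', rfl⟩ := Submodule.mem_span_singleton.1 hu'
      rw [H.smul_left, H.smul_right, P.iso (hws i), mul_zero, mul_zero]
  · have l1 : T ≤ ⨆ i, Tf i := by rw [← t1]; exact le_iSup Tf _
    have l2 : T' ≤ ⨆ i, Tf i := by rw [← t2]; exact le_iSup Tf _
    conv_lhs => rw [h1]
    refine sup_le (sup_le l1 l2) (haspan.trans ?_)
    rw [Submodule.span_le]
    rintro _ ⟨i, rfl⟩
    have l3 : H.sie f (a i) (c i) hff (hfa i) e ∈ ⨆ i, Tf i := by
      have : Tf (Sum.inr i) ≤ ⨆ i, Tf i := le_iSup Tf _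
      apply this
      rw [t3]
      exact Submodule.mem_span_singleton_self _
    rw [hw] at l3
    have e1 : a i = (e + a i + c i • f) - e - c i • f := by abel
    rw [e1]
    exact Submodule.sub_mem _ (Submodule.sub_mem _ l3 (l1 he)) (Submodule.smul_mem _ _ (l2 hf))

/-- the anisotropic part is nondegenerate -/
theorem nd_of_witt {W T T' A : Submodule F V} (hnd : ∀ v ∈ W, v ≠ 0 → ∃ w ∈ W, H.h v w ≠ 0)
    (h1 : W = T ⊔ T' ⊔ A)
    (hTA : ∀ t ∈ T, ∀ a ∈ A, H.h t a = 0) (hTA' : ∀ t ∈ T', ∀ a ∈ A, H.h t a = 0) :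
    ∀ u ∈ A, u ≠ 0 → ∃ u' ∈ A, H.h u u' ≠ 0 := by
  have hAW' : A ≤ W := by rw [h1]; exact le_sup_right
  intro u hu hu0
  obtain ⟨w, hw, hw1⟩ := hnd u (hAW' hu) hu0
  rw [h1] at hw
  obtain ⟨y, hy, a, ha, rfl⟩ := Submodule.mem_sup.1 hw
  obtain ⟨t, ht, t', ht', rfl⟩ := Submodule.mem_sup.1 hy
  refine ⟨a, ha, ?_⟩
  rwa [H.add_right, H.add_right, H.orth_symm (hTA t ht u hu), H.orth_symm (hTA' t' ht' u hu),
    zero_add, zero_add] at hw1

/-- The family of totally singular subspaces. -/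
theorem exists_family' [Finite V] {κ : ℕ} (hκ1 : 1 ≤ κ) {W : Submodule F V}
    (hnd : ∀ v ∈ W, v ≠ 0 → ∃ w ∈ W, H.h v w ≠ 0)
    (hW : ∃ w ∈ W, w ≠ 0 ∧ P.ok w 0)
    (hκ : ∀ A : Submodule F V, κ ≤ Module.finrank F A → ∃ w ∈ A, w ≠ 0 ∧ P.ok w 0) :
    ∃ T : Bool ⊕ Fin (κ - 1) → Submodule F V, (∀ i, T i ≤ W) ∧ (∀ i, ∀ u ∈ T i, P.ok u 0) ∧
      (∀ i, ∀ u ∈ T i, ∀ u' ∈ T i, H.h u u' = 0) ∧ W ≤ (⨆ i, T i) ∧
      (∃ i, ∃ u ∈ T i, ∃ i', ∃ u' ∈ T i', H.h u u' ≠ 0) := by
  obtain ⟨T, T', A, h1, h2, h3, h4, h5, h6, hTA, hTA', h7⟩ := witt' (P := P) _ W le_rfl hnd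
  obtain ⟨e, he, f, hf, hef⟩ := h7 hW
  refine exists_family_of ?_ h1 h2 h3 h4 h5 hTA hTA' he hf hef
  by_contra hcon
  obtain ⟨w, hw, hw0, hws⟩ := hκ A (by omega)
  exact hw0 (h6 w hw hws)

/-- **Five totally singular subspaces**, any four of which span `W`. -/
theorem exists_five (halt : ∀ v, H.h v v = 0) {W : Submodule F V}
    {A T T' : Submodule F V} (hA2 : Module.finrank F A = 2)
    (hAnd : ∀ u ∈ A, u ≠ 0 → ∃ u' ∈ A, H.h u u' ≠ 0)
    (h1 : W = T ⊔ T' ⊔ A) (h2 : ∀ u ∈ T, P.ok u 0) (h3 : ∀ u ∈ T, ∀ u' ∈ T, H.h u u' = 0)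
    (h4 : ∀ u ∈ T', P.ok u 0) (h5 : ∀ u ∈ T', ∀ u' ∈ T', H.h u u' = 0)
    (hTA : ∀ t ∈ T, ∀ a ∈ A, H.h t a = 0) (hTA' : ∀ t ∈ T', ∀ a ∈ A, H.h t a = 0)
    {e f : V} (he : e ∈ T) (hf : f ∈ T') (hef : H.h e f = 1) :
    ∃ T : Fin 5 → Submodule F V, (∀ i, T i ≤ W) ∧ (∀ i, ∀ u ∈ T i, P.ok u 0) ∧
      (∀ i, ∀ u ∈ T i, ∀ u' ∈ T i, H.h u u' = 0) ∧
      (∀ i0, ∀ S : Submodule F V, (∀ i, i ≠ i0 → T i ≤ S) → W ≤ S) := by
  have hee := h3 e he e he
  have hff := h5 f hf f hf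
  have hfe : H.h f e = H.ε := by rw [H.swap e f, hef, map_one, mul_one]
  have hTW : T ≤ W := by rw [h1]; exact le_sup_left.trans le_sup_left
  have hTW' : T' ≤ W := by rw [h1]; exact le_sup_right.trans le_sup_left
  have hAW' : A ≤ W := by rw [h1]; exact le_sup_right
  -- a basis of `A`
  obtain ⟨v1, v2, hv1, hv2, hv10, hAs⟩ : ∃ v1 v2 : V, v1 ∈ A ∧ v2 ∈ A ∧ v1 ≠ 0 ∧
      ∀ a ∈ A, ∃ α β : F, a = α • v1 + β • v2 := by
    have : Module.Finite F A := Module.finite_of_finrank_pos (by omega)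
    let b := Module.finBasisOfFinrankEq F A hA2
    refine ⟨b 0, b 1, (b 0).2, (b 1).2, ?_, ?_⟩
    · intro h
      exact b.ne_zero 0 (Subtype.ext h)
    · intro a ha
      have h8 := b.sum_repr ⟨a, ha⟩
      rw [Fin.sum_univ_two] at h8
      exact ⟨_, _, (congrArg Subtype.val h8).symm⟩
  have h12 : H.h v2 v1 ≠ 0 := by
    intro h
    obtain ⟨u, hu, hu1⟩ := hAnd v1 hv1 hv10
    obtain ⟨α, β, rfl⟩ := hAs u hu
    apply hu1
    rw [H.add_right, H.smul_right, H.smul_right, halt, H.orth_symm h, mul_zero, mul_zero, add_zero]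
  obtain ⟨c1, hc1⟩ := P.ex v1
  obtain ⟨c2, hc2⟩ := P.ex v2
  have hc3 := P.add hc1 hc2
  obtain ⟨c3, hc3'⟩ : ∃ c3, c3 = c1 + c2 - H.ε⁻¹ * H.h v2 v1 := ⟨_, rfl⟩
  rw [← hc3'] at hc3
  -- the singular vectors
  have aux : ∀ v ∈ A, ∀ c, P.ok v c → P.ok (e + v + c • f) 0 := by
    intro v hv c hc
    have hfv := hTA' f hf v hv
    have hev := hTA e he v hv
    have h6 := P.ok_sie hff hfv (h4 f hf) hc (h2 e he)
    have h7 : H.sie f v c hff hfv e = e + v + c • f := by
      rw [H.sie_apply, hef, hev]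
      simp
    rwa [h7] at h6
  have s1 := aux v1 hv1 c1 hc1
  have s2 := aux v2 hv2 c2 hc2
  have s3 := aux _ (A.add_mem hv1 hv2) c3 hc3
  have mW : ∀ v ∈ A, ∀ c : F, e + v + c • f ∈ W := fun v hv c =>
    W.add_mem (W.add_mem (hTW he) (hAW' hv)) (W.smul_mem _ (hTW' hf))
  -- one subspace
  have key : ∀ (w : V) (U : Submodule F V), P.ok w 0 → (∀ u ∈ U, P.ok u 0) →
      (∀ u ∈ U, ∀ u' ∈ U, H.h u u' = 0) → (∀ u ∈ U, H.h u w = 0) →
      (∀ u ∈ Submodule.span F {w} ⊔ U, P.ok u 0) ∧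
      (∀ u ∈ Submodule.span F {w} ⊔ U, ∀ u' ∈ Submodule.span F {w} ⊔ U, H.h u u' = 0) := by
    intro w U hw hU hUU hwU
    have hwU' : ∀ u ∈ U, H.h w u = 0 := fun u hu => H.orth_symm (hwU u hu)
    constructor
    · intro u hu
      obtain ⟨y, hy, z, hz, rfl⟩ := Submodule.mem_sup.1 hu
      obtain ⟨s, rfl⟩ := Submodule.mem_span_singleton.1 hy
      exact P.sing_add (P.sing_smul hw s) (hU z hz) (by rw [H.smul_right, hwU z hz, mul_zero])
    · intro u hu u' hu'
      obtain ⟨y, hy, z, hz, rfl⟩ := Submodule.mem_sup.1 hu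
      obtain ⟨s, rfl⟩ := Submodule.mem_span_singleton.1 hy
      obtain ⟨y', hy', z', hz', rfl⟩ := Submodule.mem_sup.1 hu'
      obtain ⟨s', rfl⟩ := Submodule.mem_span_singleton.1 hy'
      simp only [H.add_left, H.add_right, H.smul_left, H.smul_right, P.iso hw, hwU z hz,
        hwU' z' hz', hUU z hz z' hz', mul_zero, add_zero]
  have mf : ∀ u, u ∈ perp H {f} ↔ H.h u f = 0 := by intro u; rw [mem_perp]; simp
  have me : ∀ u, u ∈ perp H {e} ↔ H.h u e = 0 := by intro u; rw [mem_perp]; simp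
  have k1 := key _ (T ⊓ perp H {f}) s1 (fun u hu => h2 u hu.1)
    (fun u hu u' hu' => h3 u hu.1 u' hu'.1) (by
      intro u hu
      rw [H.add_right, H.add_right, H.smul_right, h3 u hu.1 e he, hTA u hu.1 v1 hv1,
        (mf u).1 hu.2, mul_zero, add_zero, add_zero])
  have k2 := key _ (T' ⊓ perp H {e}) s2 (fun u hu => h4 u hu.1)
    (fun u hu u' hu' => h5 u hu.1 u' hu'.1) (by
      intro u hu
      rw [H.add_right, H.add_right, H.smul_right, h5 u hu.1 f hf, hTA' u hu.1 v2 hv2,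
        (me u).1 hu.2, mul_zero, add_zero, add_zero])
  have k3 := key _ ⊥ s3 (fun u hu => by rw [(Submodule.mem_bot F).1 hu]; exact P.zero)
    (fun u hu u' _ => by rw [(Submodule.mem_bot F).1 hu]; exact H.zero_left _)
    (fun u hu => by rw [(Submodule.mem_bot F).1 hu]; exact H.zero_left _)
  obtain ⟨Tf, hTf⟩ : ∃ Tf : Fin 5 → Submodule F V, Tf = ![T, T',
    Submodule.span F {e + v1 + c1 • f} ⊔ (T ⊓ perp H {f}),
    Submodule.span F {e + v2 + c2 • f} ⊔ (T' ⊓ perp H {e}),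
    Submodule.span F {e + (v1 + v2) + c3 • f} ⊔ ⊥] := ⟨_, rfl⟩
  have t0 : Tf 0 = T := by rw [hTf]; rfl
  have t1 : Tf 1 = T' := by rw [hTf]; rfl
  have t2 : Tf 2 = Submodule.span F {e + v1 + c1 • f} ⊔ (T ⊓ perp H {f}) := by rw [hTf]; rfl
  have t3 : Tf 3 = Submodule.span F {e + v2 + c2 • f} ⊔ (T' ⊓ perp H {e}) := by rw [hTf]; rfl
  have t4 : Tf 4 = Submodule.span F {e + (v1 + v2) + c3 • f} ⊔ ⊥ := by rw [hTf]; rfl
  refine ⟨Tf, ?_, ?_, ?_, ?_⟩
  · intro i
    fin_cases i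
    · change Tf 0 ≤ W; rw [t0]; exact hTW
    · change Tf 1 ≤ W; rw [t1]; exact hTW'
    · change Tf 2 ≤ W; rw [t2]
      exact sup_le ((Submodule.span_singleton_le_iff_mem _ _).2 (mW v1 hv1 c1))
        (inf_le_left.trans hTW)
    · change Tf 3 ≤ W; rw [t3]
      exact sup_le ((Submodule.span_singleton_le_iff_mem _ _).2 (mW v2 hv2 c2))
        (inf_le_left.trans hTW')
    · change Tf 4 ≤ W; rw [t4]
      exact sup_le ((Submodule.span_singleton_le_iff_mem _ _).2
        (mW _ (A.add_mem hv1 hv2) c3)) bot_le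
  · intro i
    fin_cases i
    · change ∀ u ∈ Tf 0, _; rw [t0]; exact h2
    · change ∀ u ∈ Tf 1, _; rw [t1]; exact h4
    · change ∀ u ∈ Tf 2, _; rw [t2]; exact k1.1
    · change ∀ u ∈ Tf 3, _; rw [t3]; exact k2.1
    · change ∀ u ∈ Tf 4, _; rw [t4]; exact k3.1
  · intro i
    fin_cases i
    · change ∀ u ∈ Tf 0, ∀ u' ∈ Tf 0, _; rw [t0]; exact h3
    · change ∀ u ∈ Tf 1, ∀ u' ∈ Tf 1, _; rw [t1]; exact h5
    · change ∀ u ∈ Tf 2, ∀ u' ∈ Tf 2, _; rw [t2]; exact k1.2
    · change ∀ u ∈ Tf 3, ∀ u' ∈ Tf 3, _; rw [t3]; exact k2.2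
    · change ∀ u ∈ Tf 4, ∀ u' ∈ Tf 4, _; rw [t4]; exact k3.2
  · intro i0 S hS
    have fin : T ≤ S → T' ≤ S → v1 ∈ S → v2 ∈ S → W ≤ S := by
      intro a1 a2 a3 a4
      rw [h1]
      refine sup_le (sup_le a1 a2) ?_
      intro a ha
      obtain ⟨α, β, rfl⟩ := hAs a ha
      exact S.add_mem (S.smul_mem _ a3) (S.smul_mem _ a4)
    have m0 : 0 ≠ i0 → T ≤ S := fun h => t0 ▸ hS 0 h
    have m1 : 1 ≠ i0 → T' ≤ S := fun h => t1 ▸ hS 1 h
    have m2 : 2 ≠ i0 → e + v1 + c1 • f ∈ S := fun h =>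
      hS 2 h (by rw [t2]; exact Submodule.mem_sup_left (Submodule.mem_span_singleton_self _))
    have m3 : 3 ≠ i0 → e + v2 + c2 • f ∈ S := fun h =>
      hS 3 h (by rw [t3]; exact Submodule.mem_sup_left (Submodule.mem_span_singleton_self _))
    have m4 : 4 ≠ i0 → e + (v1 + v2) + c3 • f ∈ S := fun h =>
      hS 4 h (by rw [t4]; exact Submodule.mem_sup_left (Submodule.mem_span_singleton_self _))
    have sub : ∀ (v : V) (c : F), e ∈ S → f ∈ S → e + v + c • f ∈ S → v ∈ S := by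
      intro v c a1 a2 a3
      have h6 := S.sub_mem (S.sub_mem a3 a1) (S.smul_mem c a2)
      have h7 : e + v + c • f - e - c • f = v := by abel
      rwa [h7] at h6
    by_cases hi0 : 0 ≠ i0
    · have a0 := m0 hi0
      have ae := a0 he
      by_cases hi1 : 1 ≠ i0
      · have a1 := m1 hi1
        have af := a1 hf
        by_cases hi2 : 2 ≠ i0
        · have a2 := sub _ _ ae af (m2 hi2)
          by_cases hi3 : 3 ≠ i0
          · exact fin a0 a1 a2 (sub _ _ ae af (m3 hi3))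
          · push Not at hi3
            subst hi3
            have a4 := sub _ _ ae af (m4 (by decide))
            refine fin a0 a1 a2 ?_
            have := S.sub_mem a4 a2
            rwa [add_sub_cancel_left] at this
        · push Not at hi2
          subst hi2
          have a3 := sub _ _ ae af (m3 (by decide))
          have a4 := sub _ _ ae af (m4 (by decide))
          refine fin a0 a1 ?_ a3
          have := S.sub_mem a4 a3
          rwa [add_sub_cancel_right] at this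
      · push Not at hi1
        subst hi1
        have a2 := m2 (by decide)
        have a3 := m3 (by decide)
        have a4 := m4 (by decide)
        have af : f ∈ S := by
          have h6 := S.sub_mem (S.sub_mem (S.add_mem a2 a3) a4) ae
          have h7 : e + v1 + c1 • f + (e + v2 + c2 • f) - (e + (v1 + v2) + c3 • f) - e =
              (H.ε⁻¹ * H.h v2 v1) • f := by
            rw [hc3']
            module
          rw [h7] at h6
          exact (S.smul_mem_iff (mul_ne_zero (inv_ne_zero H.ε_ne) h12)).1 h6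
        refine fin a0 ?_ (sub _ _ ae af a2) (sub _ _ ae af a3)
        intro t ht
        have h6 : t - (H.ε⁻¹ * H.h t e) • f ∈ T' ⊓ perp H {e} := by
          refine ⟨T'.sub_mem ht (T'.smul_mem _ hf), (me _).2 ?_⟩
          rw [H.sub_left, H.smul_left, hfe]
          field_simp [H.ε_ne]
          ring
        have h7 : t - (H.ε⁻¹ * H.h t e) • f ∈ S :=
          hS 3 (by decide) (by rw [t3]; exact Submodule.mem_sup_right h6)
        have h8 := S.add_mem h7 (S.smul_mem (H.ε⁻¹ * H.h t e) af)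
        rwa [sub_add_cancel] at h8
    · push Not at hi0
      subst hi0
      have a1 := m1 (by decide)
      have af := a1 hf
      have a2 := m2 (by decide)
      have a3 := m3 (by decide)
      have a4 := m4 (by decide)
      have ae : e ∈ S := by
        have h6 := S.sub_mem (S.sub_mem (S.add_mem a2 a3) a4) (S.smul_mem (c1 + c2 - c3) af)
        have h7 : e + v1 + c1 • f + (e + v2 + c2 • f) - (e + (v1 + v2) + c3 • f) -
            (c1 + c2 - c3) • f = e := by module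
        rwa [h7] at h6
      refine fin ?_ a1 (sub _ _ ae af a2) (sub _ _ ae af a3)
      intro t ht
      have h6 : t - H.h t f • e ∈ T ⊓ perp H {f} := by
        refine ⟨T.sub_mem ht (T.smul_mem _ he), (mf _).2 ?_⟩
        rw [H.sub_left, H.smul_left, hef]
        ring
      have h7 : t - H.h t f • e ∈ S :=
        hS 2 (by decide) (by rw [t2]; exact Submodule.mem_sup_right h6)
      have h8 := S.add_mem h7 (S.smul_mem (H.h t f) ae)
      rwa [sub_add_cancel] at h8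

end Cfsg.Agent.H110.Fpr
end

-- part: H110/Fpr/TwoMove
section
/-!
# Families where every fixed point is moved by two radicals
-/

set_option autoImplicit false
open Subgroup MulAction

namespace Cfsg.Agent.H110.Fpr

open Cfsg.Agent.H398.FPR Cfsg.Agent.H409 Cfsg.Agent.H435.Fpr
open Cfsg.Agent.TitsThree.Siegel Cfsg.Agent.TitsThree.SiegelGen

section Abs

variable {G X : Type*} [Group G] [MulAction G X]

/-- **T3**, every fixed point of `x` is moved by two of the subgroups. -/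
theorem T3_two [Finite G] [Finite X] {M c : ℕ} (hM : 1 ≤ M) {x : G} {ι : Type*} [Fintype ι]
    (hc : Fintype.card ι = c + 2) (R : ι → Subgroup G) (h : ∀ i, PairM M x (R i))
    (hf : ∀ z ∈ fixedBy X x, ∀ i0, ∃ i, i ≠ i0 ∧ z ∉ fs (R i) X) :
    (2 * M + c) * Nat.card (fixedBy X x) ≤ (c + 2) * Nat.card X := by
  classical
  have := Fintype.ofFinite X
  have hne : Nonempty ι := Fintype.card_pos_iff.1 (by omega)
  obtain ⟨i1⟩ := hne
  set f := (fixedBy X x).ncard with hfdef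
  rw [Nat.card_coe_set_eq]
  have h1 : ∀ i, M * (fixedBy X x \ fs (R i) X).ncard + (fixedBy X x ∩ fs (R i) X).ncard ≤
      Nat.card X := by
    intro i
    have h2 := (h i).bound (X := X)
    have h3 : (fixedBy X x ∩ fs (R i) X).ncard ≤ (fs (R i) X).ncard :=
      Set.ncard_le_ncard Set.inter_subset_right (Set.toFinite _)
    omega
  have h2 : ∀ i, (fixedBy X x \ fs (R i) X).ncard + (fixedBy X x ∩ fs (R i) X).ncard = f :=
    fun i => by rw [add_comm]; exact Set.ncard_inter_add_ncard_sdiff_eq_ncard _ _ (Set.toFinite _)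
  have h3 : 2 * f ≤ ∑ i, (fixedBy X x \ fs (R i) X).ncard := by
    have e1 : ∀ i, (fixedBy X x \ fs (R i) X).ncard =
        ∑ z ∈ (fixedBy X x).toFinset, if z ∉ fs (R i) X then 1 else 0 := by
      intro i
      rw [← Finset.card_filter, Set.ncard_eq_toFinset_card']
      congr 1
      ext z
      simp
    rw [Finset.sum_congr rfl (fun i _ => e1 i), Finset.sum_comm]
    have e2 : 2 * f = ∑ z ∈ (fixedBy X x).toFinset, 2 := by
      rw [Finset.sum_const, hfdef, Set.ncard_eq_toFinset_card', smul_eq_mul, mul_comm]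
    rw [e2]
    apply Finset.sum_le_sum
    intro z hz
    rw [Set.mem_toFinset] at hz
    obtain ⟨a, -, ha⟩ := hf z hz i1
    obtain ⟨b, hb1, hb⟩ := hf z hz a
    rw [← Finset.card_filter]
    have h4 : ({a, b} : Finset ι) ⊆ Finset.univ.filter (fun i => z ∉ fs (R i) X) := by
      intro i hi
      rw [Finset.mem_insert, Finset.mem_singleton] at hi
      rw [Finset.mem_filter]
      rcases hi with rfl | rfl
      · exact ⟨Finset.mem_univ _, ha⟩
      · exact ⟨Finset.mem_univ _, hb⟩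
    have h5 := Finset.card_le_card h4
    rwa [Finset.card_pair (Ne.symm hb1)] at h5
  have h5 : ∑ i : ι, (M * (fixedBy X x \ fs (R i) X).ncard + (fixedBy X x ∩ fs (R i) X).ncard) ≤
      ∑ i : ι, Nat.card X := Finset.sum_le_sum fun i _ => h1 i
  rw [Finset.sum_add_distrib, ← Finset.mul_sum, Finset.sum_const, Finset.card_univ,
    smul_eq_mul] at h5
  have h6 : ∑ i : ι, ((fixedBy X x \ fs (R i) X).ncard + (fixedBy X x ∩ fs (R i) X).ncard) =
      ∑ i : ι, f := Finset.sum_congr rfl fun i _ => h2 i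
  rw [Finset.sum_add_distrib, Finset.sum_const, Finset.card_univ, smul_eq_mul] at h6
  set B := ∑ i : ι, (fixedBy X x \ fs (R i) X).ncard
  set A := ∑ i : ι, (fixedBy X x ∩ fs (R i) X).ncard
  rw [hc] at h5 h6
  obtain ⟨d, hd⟩ := Nat.exists_eq_add_of_le h3
  have hA : A + d = c * f := by
    have : (c + 2) * f = c * f + 2 * f := by ring
    omega
  have h7 : M * B = 2 * (M * f) + M * d := by rw [hd, mul_add]; ring
  have h8 : d ≤ M * d := Nat.le_mul_of_pos_left _ (by omega)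
  calc (2 * M + c) * f = 2 * (M * f) + c * f := by ring
    _ = 2 * (M * f) + (A + d) := by rw [hA]
    _ ≤ 2 * (M * f) + M * d + A := by omega
    _ = M * B + A := by rw [h7]
    _ ≤ _ := h5

end Abs

section

variable {F : Type*} [Field F] {V : Type*} [AddCommGroup V] [Module F V]
variable {H : HForm F V} {P : PQ H}

/-- generation by the radicals of type IV -/
theorem gen_IV_min {V1 V2 : Submodule F V} (htop : V1 ⊔ V2 = ⊤)
    (h12 : ∀ m ∈ V1, ∀ v ∈ V2, H.h m v = 0)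
    (hlam : ∀ c, P.ok 0 c → ∃ m, c = m - H.ε⁻¹ * H.σ m)
    {ι : Type} (T : ι → Submodule F V)
    (hT2 : ∀ i, T i ≤ V2) (hTs : ∀ i, ∀ u ∈ T i, P.ok u 0)
    (hTT : ∀ i, ∀ u ∈ T i, ∀ u' ∈ T i, H.h u u' = 0) (hspan : V2 ≤ ⨆ i, T i)
    (hpair : ∃ i, ∃ u ∈ T i, ∃ i', ∃ u' ∈ T i', H.h u u' ≠ 0)
    {a a' : V} (ha : a ∈ V1) (has : P.ok a 0) (ha' : a' ∈ V1) (has' : P.ok a' 0)
    (haa' : H.h a' a ≠ 0) {D : Subgroup (V ≃ₗ[F] V)} (hD : ∀ i, rad P (T i) V1 ≤ D)
    (hVnd : ∀ v : V, P.ok v 0 → v ≠ 0 → ∃ w, H.h v w ≠ 0) : SG P ≤ D := by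
  have hT1 : ∀ i, ∀ u ∈ T i, ∀ w ∈ V1, H.h u w = 0 := fun i u hu w hw =>
    H.orth_symm (h12 w hw u (hT2 i hu))
  obtain ⟨i, u, hu, i', u', hu', huu'⟩ := hpair
  have hRt0 : ∀ b ∈ V1, P.ok b 0 → ∀ i, ∀ u ∈ T i, Rt H D b u := by
    intro b hb hbs i u hu
    have hub : H.h u b = 0 := H.orth_symm (h12 b hb u (hT2 i hu))
    refine Rt.symm (hTT i u hu u hu) (P.iso hbs) hub ?_
    intro s huu hub'
    exact hD i (sie_mem_rad huu hub' hu (V1.smul_mem _ hb) (P.sing_smul hbs s))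
  have hRt : ∀ b ∈ V1, P.ok b 0 → ∀ u ∈ ⋃ i, (T i : Set V), Rt H D u b := by
    intro b hb hbs u hu s huu hub
    rw [Set.mem_iUnion] at hu
    obtain ⟨i, hu⟩ := hu
    exact hD i (sie_mem_rad huu hub hu (V1.smul_mem _ hb) (P.sing_smul hbs s))
  refine radIV_gen (V1 := V1) (V2 := V2) (S := ⋃ i, (T i : Set V)) htop h12 ?_ ?_ ?_ ha
    has ha' has' haa' (hRt a ha has) (hRt a' ha' has') ?_
    (zt_zero_of_comm (h12 a ha u (hT2 i hu)) (h12 a ha u' (hT2 i' hu')) huu'
      (hRt0 a ha has i u hu) (hRt0 a ha has i' u' hu') hlam)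
    (zt_zero_of_comm (h12 a' ha' u (hT2 i hu)) (h12 a' ha' u' (hT2 i' hu')) huu'
      (hRt0 a' ha' has' i u hu) (hRt0 a' ha' has' i' u' hu') hlam) ?_ hVnd
  · intro u hu
    rw [Set.mem_iUnion] at hu
    obtain ⟨i, hu⟩ := hu
    exact hTs i u hu
  · intro u hu
    rw [Set.mem_iUnion] at hu
    obtain ⟨i, hu⟩ := hu
    exact hT2 i hu
  · refine hspan.trans (iSup_le fun i => ?_)
    intro u hu
    exact Submodule.subset_span (Set.mem_iUnion.2 ⟨i, hu⟩)
  · intro u hu m hm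
    rw [Set.mem_iUnion] at hu
    obtain ⟨i, hu⟩ := hu
    obtain ⟨c, hc⟩ := P.ex m
    exact ⟨c, hTT i u hu u hu, hT1 i u hu m hm, hc,
      hD i (sie_mem_rad _ _ hu hm hc)⟩
  · exact ⟨u, Set.mem_iUnion.2 ⟨i, hu⟩, u', Set.mem_iUnion.2 ⟨i', hu'⟩, huu'⟩

/-- **Five radicals**, any four of which generate. -/
theorem sharp_IV_five [Finite V] {r : ℕ} [Fact r.Prime] [CharP F r] {p k : ℕ} (hp : p.Prime)
    {x : V ≃ₗ[F] V} (hxK : x ∈ SG P) (hx : x ^ p ^ k = 1)
    {V1 V2 : Submodule F V} (htop : V1 ⊔ V2 = ⊤) (h12 : ∀ m ∈ V1, ∀ v ∈ V2, H.h m v = 0)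
    (hx1 : ∀ w ∈ V1, x w ∈ V1) (hx2 : ∀ w ∈ V2, x w = w)
    (hsurj : ∀ w ∈ V1, ∃ w' ∈ V1, x w' - w' = w)
    (hlam : ∀ c, P.ok 0 c → ∃ m, c = m - H.ε⁻¹ * H.σ m)
    (T : Fin 5 → Submodule F V)
    (hT2 : ∀ i, T i ≤ V2) (hTs : ∀ i, ∀ u ∈ T i, P.ok u 0)
    (hTT : ∀ i, ∀ u ∈ T i, ∀ u' ∈ T i, H.h u u' = 0)
    (hspan : ∀ i0, ∀ S : Submodule F V, (∀ i, i ≠ i0 → T i ≤ S) → V2 ≤ S)
    (hnd : ∀ v ∈ V2, v ≠ 0 → ∃ w ∈ V2, H.h v w ≠ 0) (h20 : V2 ≠ ⊥)
    {a a' : V} (ha : a ∈ V1) (has : P.ok a 0) (ha' : a' ∈ V1) (has' : P.ok a' 0)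
    (haa' : H.h a' a ≠ 0)
    (hVnd : ∀ v : V, P.ok v 0 → v ≠ 0 → ∃ w, H.h v w ≠ 0)
    {M : ℕ} (hM1 : 3 * p + 1 ≤ M) (hM : ∀ t : ℕ, t ≠ 0 → r ^ t ≡ 1 [MOD p] → M ≤ r ^ t) :
    FprRow (p + 1) 1 p (SG P) := by
  obtain ⟨hxi, hxok, -⟩ := SG_iso hxK
  have hr : r.Prime := Fact.out
  have hT1 : ∀ i, ∀ u ∈ T i, ∀ w ∈ V1, H.h u w = 0 := fun i u hu w hw =>
    H.orth_symm (h12 w hw u (hT2 i hu))
  have hle : ∀ i, rad P (T i) V1 ≤ SG P := by
    intro i
    apply rad_le
    intro u w c hu hw huT hwW hwc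
    exact sie_mem_SG P hu hw (hTs i u huT) hwc
  have hpg : ∀ i, IsPGroup r (rad P (T i) V1) := by
    intro i
    obtain ⟨A, B, hAB, hle⟩ := rad_le_flagU (P₁ := P) (hTT i) (hT1 i)
    exact isPGroup_of_le_flagU (r := r) hAB hle
  have hpair : ∀ i, Pair p 0 x (rad P (T i) V1) := by
    intro i
    obtain ⟨A, B, hAB, hle⟩ := rad_le_flagU (P₁ := P) (hTT i) (hT1 i)
    refine ⟨nilpotent_of_le_flagU (r := r) hAB hle, ?_, ?_⟩
    · apply mem_normalizer_of_conj
      exact rad_conj hxi hxok (fun u hu => by rw [hx2 u (hT2 i hu)]; exact hu) hx1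
    · rw [pow_zero, pow_one]
      exact rad_commFull hxi hxok (fun u hu => hx2 u (hT2 i hu)) hx1 hsurj (hT1 i)
        hlam ⟨a', ha', a, ha, haa'⟩
  obtain ⟨x', hx'⟩ : ∃ x' : SG P, x' = ⟨x, hxK⟩ := ⟨_, rfl⟩
  have hx'p : x' ^ p ^ k = 1 := by rw [hx']; exact Subtype.ext hx
  obtain ⟨n, -, hn⟩ := (Nat.dvd_prime_pow hp).1 (orderOf_dvd_of_pow_eq_one hx'p)
  intro L hL
  refine ⟨x', ⟨n, hn⟩, ?_⟩
  have key := T3_two (X := SG P ⧸ L) (M := M) (c := 3) (by omega) (x := x') (ι := Fin 5)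
    (by simp) (fun i => (rad P (T i) V1).subgroupOf (SG P))
    (fun i => by
      have h8 : IsPGroup r ((rad P (T i) V1).subgroupOf (SG P)) :=
        (hpg i).of_injective (subgroupOfEquivOfLe (hle i)).toMonoidHom
          (subgroupOfEquivOfLe (hle i)).injective
      refine PairM.of_pair hp hr hx'p h8 ?_ hM
      rw [hx']
      exact pair_subgroupOf (hle i) hxK (hpair i))
    (by
      intro z hz i0
      by_contra hcon
      push Not at hcon
      -- the other four generate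
      have hgen : closure ({(⟨x, hxK⟩ : SG P)} ∪
          ⋃ i : {i : Fin 5 // i ≠ i0}, ((rad P (T i) V1).subgroupOf (SG P) : Set (SG P))) = ⊤ := by
        apply closure_subgroupOf_eq_top hxK (R := fun i : {i : Fin 5 // i ≠ i0} => rad P (T i) V1)
          (fun i => hle i)
        have hsp : V2 ≤ ⨆ i : {i : Fin 5 // i ≠ i0}, T i := by
          apply hspan i0
          intro i hi
          exact le_iSup (fun i : {i : Fin 5 // i ≠ i0} => T i) ⟨i, hi⟩
        have hprs : ∃ i : {i : Fin 5 // i ≠ i0}, ∃ u ∈ T i, ∃ i' : {i : Fin 5 // i ≠ i0},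
            ∃ u' ∈ T i', H.h u u' ≠ 0 := by
          by_contra hno
          push Not at hno
          obtain ⟨v, hv, hv0⟩ := (Submodule.ne_bot_iff V2).1 h20
          obtain ⟨w, hw, hvw⟩ := hnd v hv hv0
          apply hvw
          have a1 : ∀ i : {i : Fin 5 // i ≠ i0}, ∀ u ∈ T i, ∀ w ∈ V2, H.h u w = 0 := by
            intro i u hu w hw
            have h1 : V2 ≤ perp H {u} := by
              apply hspan i0
              intro i' hi' u' hu' y hy
              rw [Set.mem_singleton_iff] at hy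
              subst hy
              exact hno ⟨i', hi'⟩ u' hu' i _ hu
            exact H.orth_symm (h1 hw u rfl)
          have h2 : V2 ≤ perp H {w} := by
            apply hspan i0
            intro i hi u hu y hy
            rw [Set.mem_singleton_iff] at hy
            subst hy
            exact a1 ⟨i, hi⟩ u hu _ hw
          exact h2 hv w rfl
        refine gen_IV_min (V1 := V1) (V2 := V2) htop h12 hlam
          (fun i : {i : Fin 5 // i ≠ i0} => T i) (fun i => hT2 i) (fun i => hTs i)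
          (fun i => hTT i) hsp hprs ha has ha' has' haa' ?_ hVnd
        intro i g hg
        apply Subgroup.subset_closure
        right
        rw [Set.mem_iUnion]
        exact ⟨i, hg⟩
      refine eq_empty_of_closure hgen hL (X := SG P ⧸ L) (ω := ((1 : SG P) : SG P ⧸ L))
        (stabilizer_quotient L) z ?_
      rintro a (ha | ha)
      · rw [Set.mem_singleton_iff] at ha
        rw [ha, ← hx']
        exact hz
      · rw [Set.mem_iUnion] at ha
        obtain ⟨i, hi⟩ := ha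
        exact hcon i i.2 hi)
  rw [one_mul]
  set f := Nat.card (fixedBy (SG P ⧸ L) x')
  set N := Nat.card (SG P ⧸ L)
  apply Nat.le_of_mul_le_mul_left _ (by norm_num : 0 < 5)
  calc 5 * ((p + 1) * f) = (5 * p + 5) * f := by ring
    _ ≤ (2 * M + 3) * f := Nat.mul_le_mul_right _ (by omega)
    _ ≤ 5 * N := key

end

end Cfsg.Agent.H110.Fpr
end

-- part: H110/Fpr/NegOne
section
/-!
# Nondegenerate minimal subspaces: the dimension
-/

set_option autoImplicit false

namespace Cfsg.Agent.H110.Fpr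

open Cfsg.Agent.TitsThree.Siegel Cfsg.Agent.TitsThree.SiegelGen
open Polynomial

/-- Endomorphisms of finite fields. -/
theorem exists_frob_hom {K : Type*} [CommRing K] [IsDomain K] [Finite K] {r : ℕ}
    [Fact r.Prime] [CharP K r] (τ : K →+* K) : ∃ n : ℕ, ∀ k, τ k = k ^ r ^ n := by
  classical
  have := Fintype.ofFinite K
  let _ : Field K := Fintype.fieldOfDomain K
  let _ : Algebra (ZMod r) K := ZMod.algebra K r
  have hinj : Function.Injective τ := τ.injective
  have hbij : Function.Bijective τ := ⟨hinj, Finite.injective_iff_surjective.1 hinj⟩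
  let σ : K ≃ₐ[ZMod r] K := AlgEquiv.ofRingEquiv (f := RingEquiv.ofBijective τ hbij) (by
    intro c
    have h1 : (τ.comp (algebraMap (ZMod r) K)) = algebraMap (ZMod r) K := Subsingleton.elim _ _
    exact congrArg (fun f : ZMod r →+* K => f c) h1)
  have hσ : ∀ k, σ k = τ k := fun k => rfl
  obtain ⟨n, hn⟩ := (FiniteField.bijective_frobeniusAlgEquivOfAlgebraic_pow (ZMod r) K).2 σ
  refine ⟨n, fun k => ?_⟩
  rw [← hσ, ← hn]
  have key : ∀ n : ℕ, ((FiniteField.frobeniusAlgEquivOfAlgebraic (ZMod r) K) ^ n) k =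
      k ^ r ^ n := by
    intro n
    induction n with
    | zero => simp
    | succ n ih =>
      rw [pow_succ', AlgEquiv.mul_apply, ih,
        FiniteField.coe_frobeniusAlgEquivOfAlgebraic]
      change (k ^ r ^ n) ^ Fintype.card (ZMod r) = _
      rw [ZMod.card, ← pow_mul, pow_succ]
  exact key n

variable {F : Type*} [Field F] {V : Type*} [AddCommGroup V] [Module F V] {H : HForm F V}

/-- **The adjoint involution** of a nondegenerate minimal subspace. -/
theorem IsMin.exists_conj [Finite F] [Finite V] {r : ℕ} [Fact r.Prime] [CharP F r] {p : ℕ}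
    (hp : p.Prime) {x : V ≃ₗ[F] V} (hxi : H.IsIso x) (hx : x ^ p = 1) {T : Submodule F V}
    (hT : IsMin x T) (hnd : ∃ v ∈ T, ∃ w ∈ T, H.h v w ≠ 0) (hmov : ∃ v ∈ T, x v ≠ v) :
    ∃ n : ℕ, p ∣ r ^ n + 1 ∧ ∀ c : F, H.σ c = c ^ r ^ n := by
  obtain ⟨hfin, hcard⟩ := hT.card_quot
  have hprime := hT.ann_isPrime
  have hdom : IsDomain (F[X] ⧸ ann x T) := Ideal.Quotient.isDomain _
  have hnd' := hT.nondeg hxi hnd
  let π : F[X] →+* (F[X] ⧸ ann x T) := Ideal.Quotient.mk (ann x T)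
  have hπ : ∀ g, π g = 0 ↔ g ∈ ann x T := fun g => Ideal.Quotient.eq_zero_iff_mem
  have hCinj : Function.Injective (π.comp C) := (π.comp C).injective
  have hch : CharP (F[X] ⧸ ann x T) r := charP_of_injective_ringHom hCinj r
  have hαp : π X ^ p = 1 := by
    rw [← map_pow, ← map_one π, ← sub_eq_zero, ← map_sub, hπ]
    intro v _
    rw [op_sub, op_X_pow, op_one, hx]
    exact sub_self v
  have hα1 : π X ≠ 1 := by
    rw [← map_one π, Ne, ← sub_eq_zero, ← map_sub, hπ]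
    intro h
    obtain ⟨v, hv, hv1⟩ := hmov
    apply hv1
    have := h v hv
    rw [op_sub, op_X, op_one, sub_eq_zero] at this
    exact this
  have hβ : π X * π (X ^ (p - 1)) = 1 := by
    rw [map_pow, ← pow_succ', Nat.sub_add_cancel hp.pos, hαp]
  -- the adjoint
  let ad : F[X] →+* F[X] := (compRingHom (X ^ (p - 1) : F[X])).comp (mapRingHom (H.σ : F →+* F))
  have had : ∀ g, ad g = (g.map (H.σ : F →+* F)).comp (X ^ (p - 1)) := fun g => rfl
  have hkill : ∀ g ∈ ann x T, (π.comp ad) g = 0 := by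
    intro g hg
    rw [RingHom.comp_apply, hπ, had]
    intro w hw
    by_contra h0
    obtain ⟨v, hv, h1⟩ := hnd' _ (hT.inv.op _ w hw) h0
    apply h1
    apply H.orth_symm
    have h3 := op_adj hxi hp.pos hx g v w
    rw [hg v hv, H.zero_left] at h3
    exact h3.symm
  let τ : (F[X] ⧸ ann x T) →+* (F[X] ⧸ ann x T) := Ideal.Quotient.lift (ann x T) (π.comp ad) hkill
  have hτ : ∀ g, τ (π g) = π (ad g) := fun g => Ideal.Quotient.lift_mk _ _ _
  obtain ⟨n, hn⟩ := exists_frob_hom (r := r) τ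
  refine ⟨n, ?_, fun c => ?_⟩
  · have h1 : π X ^ (r ^ n + 1) = 1 := by
      rw [pow_succ', ← hn, hτ, had, Polynomial.map_X, X_comp, hβ]
    have := Fact.mk hp
    have h2 : orderOf (π X) = p := orderOf_eq_prime hαp hα1
    rw [← h2]
    exact orderOf_dvd_of_pow_eq_one h1
  · have h1 := hn (π (C c))
    rw [hτ, had, map_C, C_comp, ← map_pow, ← C_pow] at h1
    exact hCinj h1

theorem IsMin.le_finrank [Finite F] [Finite V] {p : ℕ} (hp : p.Prime)
    {x : V ≃ₗ[F] V} (hx : x ^ p = 1) {T : Submodule F V} (hT : IsMin x T)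
    (hmov : ∃ v ∈ T, x v ≠ v) (hpF : (p : F) ≠ 0) {κ : ℕ}
    (hκ : ∀ i, 0 < i → i < κ → ¬ p ∣ (Nat.card F) ^ i - 1) : κ ≤ Module.finrank F T :=
  le_finrank_of_moved hp hx hT.inv hκ hmov (not_dvd_card hp hpF)

theorem dvd_pow_sub_one_iff {p q k : ℕ} (hq : 1 ≤ q) :
    p ∣ q ^ k - 1 ↔ (q : ZMod p) ^ k = 1 := by
  have h1 : 1 ≤ q ^ k := Nat.one_le_pow _ _ hq
  rw [← ZMod.natCast_eq_zero_iff, Nat.cast_sub h1, Nat.cast_pow, Nat.cast_one, sub_eq_zero]

theorem dvd_pow_add_one_iff {p q k : ℕ} : p ∣ q ^ k + 1 ↔ (q : ZMod p) ^ k = -1 := by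
  rw [← ZMod.natCast_eq_zero_iff, Nat.cast_add, Nat.cast_pow, Nat.cast_one,
    add_eq_zero_iff_eq_neg]

/-- **The dimension of a moved minimal subspace** is the order of `|F|` modulo `p`. -/
theorem IsMin.finrank_eq [Finite F] [Finite V] {p : ℕ} (hp : p.Prime)
    {x : V ≃ₗ[F] V} (hx : x ^ p = 1) {T : Submodule F V} (hT : IsMin x T)
    (hmov : ∃ v ∈ T, x v ≠ v) (hpF : (p : F) ≠ 0) :
    Module.finrank F T = orderOf ((Nat.card F : ℕ) : ZMod p) := by
  have := Fact.mk hp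
  have hq : 1 ≤ Nat.card F := Nat.card_pos
  have hq0 : ((Nat.card F : ℕ) : ZMod p) ≠ 0 := by
    rw [Ne, ZMod.natCast_eq_zero_iff]
    exact not_dvd_card hp hpF
  have ho : 0 < orderOf ((Nat.card F : ℕ) : ZMod p) := by
    rw [← Units.val_mk0 hq0, orderOf_units]
    exact orderOf_pos _
  apply le_antisymm
  · have h1 := hT.card_le hx ho ((dvd_pow_sub_one_iff hq).2 (pow_orderOf_eq_one _))
    have := Fintype.ofFinite F
    have := Fintype.ofFinite T
    have h2 : Nat.card T = Nat.card F ^ Module.finrank F T := by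
      rw [Nat.card_eq_fintype_card, Nat.card_eq_fintype_card]
      exact Module.card_eq_pow_finrank
    rw [h2] at h1
    exact (Nat.pow_le_pow_iff_right Finite.one_lt_card).1 h1
  · apply hT.le_finrank hp hx hmov hpF
    intro i hi0 hi h
    exact pow_ne_one_of_lt_orderOf hi0.ne' hi ((dvd_pow_sub_one_iff hq).1 h)

theorem IsMin.finrank_dvd [Finite F] [Finite V] {p : ℕ} (hp : p.Prime)
    {x : V ≃ₗ[F] V} (hx : x ^ p = 1) {T : Submodule F V} (hT : IsMin x T)
    (hmov : ∃ v ∈ T, x v ≠ v) (hpF : (p : F) ≠ 0) {k : ℕ} (hk : p ∣ Nat.card F ^ k - 1) :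
    Module.finrank F T ∣ k := by
  rw [hT.finrank_eq hp hx hmov hpF]
  exact orderOf_dvd_of_pow_eq_one ((dvd_pow_sub_one_iff Nat.card_pos).1 hk)

/-- If `-1` is a power then the order is even. -/
theorem even_orderOf {p : ℕ} (hp : p.Prime) (hp2 : p ≠ 2) {a : ZMod p} {k : ℕ}
    (h : a ^ k = -1) : ∃ s, orderOf a = 2 * s ∧ a ^ s = -1 := by
  have := Fact.mk hp
  have h11 : (-1 : ZMod p) ≠ 1 := by
    have : Fact (2 < p) := ⟨lt_of_le_of_ne hp.two_le (Ne.symm hp2)⟩
    exact ZMod.neg_one_ne_one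
  have h1 : a ^ (2 * k) = 1 := by
    rw [mul_comm, pow_mul, h, neg_one_sq]
  have h2 : orderOf a ∣ 2 * k := orderOf_dvd_of_pow_eq_one h1
  have ha0 : a ≠ 0 := by
    rintro rfl
    rcases Nat.eq_zero_or_pos k with rfl | hk
    · rw [pow_zero] at h; exact h11 h.symm
    · rw [zero_pow hk.ne'] at h
      have : (1 : ZMod p) = 0 := by linear_combination h
      exact one_ne_zero this
  rcases Nat.even_or_odd' (orderOf a) with ⟨s, hs | hs⟩
  · refine ⟨s, hs, ?_⟩
    have h3 : (a ^ s - 1) * (a ^ s + 1) = 0 := by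
      have h4 : a ^ (2 * s) = 1 := by rw [← hs]; exact pow_orderOf_eq_one a
      have h5 : (a ^ s - 1) * (a ^ s + 1) = a ^ (2 * s) - 1 := by ring
      rw [h5, h4, sub_self]
    rcases mul_eq_zero.1 h3 with h4 | h4
    · exfalso
      have h5 : a ^ s = 1 := sub_eq_zero.1 h4
      have h6 := orderOf_dvd_of_pow_eq_one h5
      have hpos : 0 < orderOf a := by
        rw [← Units.val_mk0 ha0, orderOf_units]
        exact orderOf_pos _
      have h7 : s ≠ 0 := by rintro rfl; omega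
      have h8 := Nat.le_of_dvd (Nat.pos_of_ne_zero h7) h6
      omega
    · exact eq_neg_of_add_eq_zero_left h4
  · exfalso
    have h3 : orderOf a ∣ k := by
      have h4 : Nat.Coprime (orderOf a) 2 := by
        rw [hs]
        simp only [_root_.Nat.coprime_two_right, _root_.even_two, _root_.Even.mul_right, _root_.Even.add_one]
      exact h4.dvd_of_dvd_mul_left h2
    have h5 := orderOf_dvd_iff_pow_eq_one.1 h3
    rw [h] at h5
    exact h11 h5

/-- **Numbers.** -/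
theorem num_N {p r : ℕ} (hp : p.Prime) (hp5 : 5 ≤ p) (hr : r.Prime)
    (hn : ∃ n, p ∣ r ^ n + 1) {t : ℕ} (ht : t ≠ 0) (hrt : r ^ t ≡ 1 [MOD p]) :
    3 * p + 1 ≤ r ^ t ∧ (4 * p + 1 ≤ r ^ t ∨ (r = 2 ∧ p = 5)) := by
  have := Fact.mk hp
  obtain ⟨n, hn⟩ := hn
  rw [dvd_pow_add_one_iff] at hn
  obtain ⟨s, hs, hs1⟩ := even_orderOf hp (by omega) hn
  have h1 : (r : ZMod p) ^ t = 1 := by
    have := (ZMod.natCast_eq_natCast_iff _ _ _).2 hrt
    push_cast at this
    exact this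
  have h2 : orderOf (r : ZMod p) ∣ t := orderOf_dvd_of_pow_eq_one h1
  have h3 : 2 * s ≤ t := by
    rw [← hs]
    exact Nat.le_of_dvd (Nat.pos_of_ne_zero ht) h2
  have h4 : (r ^ s) ^ 2 ≤ r ^ t := by
    rw [← pow_mul, mul_comm]
    exact Nat.pow_le_pow_right hr.pos h3
  have h5 : p ∣ r ^ s + 1 := dvd_pow_add_one_iff.2 hs1
  obtain ⟨c, hc⟩ := h5
  have hc0 : c ≠ 0 := by rintro rfl; omega
  rcases Nat.lt_or_ge c 2 with h6 | h6
  · have hc1 : c = 1 := by omega
    rw [hc1, mul_one] at hc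
    have h7 : r ^ s = p - 1 := by omega
    rcases Nat.lt_or_ge p 6 with h8 | h8
    · have hp5' : p = 5 := by omega
      subst hp5'
      have h9 : r ^ s = 4 := h7
      have hr2 : r = 2 := by
        have h10 : r ∣ 4 := by
          rw [← h9]
          refine dvd_pow_self r ?_
          rintro rfl
          rw [pow_zero] at h9
          omega
        have h11 : r ∣ 2 := hr.dvd_of_dvd_pow (show r ∣ 2 ^ 2 from h10)
        exact (Nat.prime_dvd_prime_iff_eq hr Nat.prime_two).1 h11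
      rw [h9] at h4
      exact ⟨by omega, Or.inr ⟨hr2, rfl⟩⟩
    · rw [h7] at h4
      obtain ⟨d, rfl⟩ : ∃ d, p = d + 6 := ⟨p - 6, by omega⟩
      have h9 : (d + 6 - 1) ^ 2 = d ^ 2 + 10 * d + 25 := by
        rw [show d + 6 - 1 = d + 5 by omega]; ring
      rw [h9] at h4
      constructor
      · linarith only [h4, _root_.sq_nonneg (↑d : ℤ), _root_.Nat.cast_nonneg (α := ℤ) (d)]
      · left; linarith only [h4, _root_.sq_nonneg (↑d : ℤ), _root_.Nat.cast_nonneg (α := ℤ) (d)]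
  · have h7 : 2 * p - 1 ≤ r ^ s := by
      have : p * 2 ≤ p * c := Nat.mul_le_mul_left _ h6
      omega
    have h8 : (2 * p - 1) ^ 2 ≤ (r ^ s) ^ 2 := Nat.pow_le_pow_left h7 2
    obtain ⟨d, rfl⟩ : ∃ d, p = d + 5 := ⟨p - 5, by omega⟩
    have h9 : (2 * (d + 5) - 1) ^ 2 = 4 * d ^ 2 + 36 * d + 81 := by
      rw [show 2 * (d + 5) - 1 = 2 * d + 9 by omega]; ring
    rw [h9] at h8
    constructor
    · linarith only [h4, h8, _root_.sq_nonneg (↑d : ℤ), _root_.Nat.cast_nonneg (α := ℤ) (d)]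
    · left; linarith only [h4, h8, _root_.sq_nonneg (↑d : ℤ), _root_.Nat.cast_nonneg (α := ℤ) (d)]

end Cfsg.Agent.H110.Fpr
end

-- part: H110/Fpr/MasterN
section
/-!
# Radical data from a nondegenerate minimal subspace
-/

set_option autoImplicit false

namespace Cfsg.Agent.H110.Fpr

open Cfsg.Agent.TitsThree.Siegel Cfsg.Agent.TitsThree.SiegelGen Cfsg.Agent.H398.FPR
open Cfsg.Agent.H409

variable {F : Type*} [Field F] {V : Type*} [AddCommGroup V] [Module F V]
variable {H : HForm F V} {P : PQ H}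

/-- the truncation of `x` on a nondegenerate minimal subspace -/
structure SetupN (P : PQ H) (p : ℕ) (T : Submodule F V) (y : V ≃ₗ[F] V) : Prop where
  mem : y ∈ SG P
  pow : y ^ p = 1
  top : T ⊔ perp H (T : Set V) = ⊤
  orth : ∀ m ∈ T, ∀ v ∈ perp H (T : Set V), H.h m v = 0
  inv : ∀ w ∈ T, y w ∈ T
  fix : ∀ w ∈ perp H (T : Set V), y w = w
  surj : ∀ w ∈ T, ∃ w' ∈ T, y w' - w' = w
  nd : ∀ v ∈ T, v ≠ 0 → ∃ w ∈ T, H.h v w ≠ 0
  nd' : ∀ v ∈ perp H (T : Set V), v ≠ 0 → ∃ w ∈ perp H (T : Set V), H.h v w ≠ 0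

theorem exists_setupN [Finite V] {p : ℕ} (hpF : (p : F) ≠ 0)
    {x : V ≃ₗ[F] V} (hxi : H.IsIso x)
    (hxok : ∀ w c, P.ok w c → P.ok (x w) c) (hx : x ^ p = 1)
    (hK : ∀ y : V ≃ₗ[F] V, H.IsIso y → (∀ w c, P.ok w c → P.ok (y w) c) → y ^ p = 1 →
      y ∈ SG P) (hND : ∀ v : V, v ≠ 0 → ∃ w, H.h v w ≠ 0)
    {T : Submodule F V} (hT : IsMin x T) (hTU : T ≤ movS p x)
    (hnd : ∃ v ∈ T, ∃ w ∈ T, H.h v w ≠ 0) : ∃ y, SetupN P p T y := by
  have hWnd := hT.nondeg hxi hnd
  have hsup := perp_sup hWnd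
  have hinf := perp_inf hWnd
  obtain ⟨y, hy1, hy2⟩ := exists_trunc x (W := T) (M := perp H (T : Set V))
    ⟨disjoint_iff.2 hinf, codisjoint_iff.2 hsup⟩ hT.inv
  have horth : ∀ w ∈ T, ∀ m ∈ perp H (T : Set V), H.h w m = 0 :=
    fun w hw m hm => H.orth_symm (hm w hw)
  have hyi := trunc_iso hxi hsup horth hT.inv hy1 hy2
  have hyok := trunc_ok hxok hsup horth hT.inv hy1 hy2
  have hyp := trunc_pow_eq_one hx hsup hT.inv hy1 hy2
  have hfpf : ∀ v ∈ T, x v = v → v = 0 := fun v hv h => eq_zero_of_mem hpF (hTU hv) h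
  refine ⟨y, hK y hyi hyok hyp, hyp, hsup, horth, ?_, hy2, ?_, hWnd, nd_perp hWnd hND⟩
  · intro w hw
    rw [hy1 w hw]
    exact hT.inv w hw
  · intro w hw
    obtain ⟨w', hw', h⟩ := surj_of_fpf hT.inv hfpf w hw
    refine ⟨w', hw', ?_⟩
    rw [hy1 w' hw']
    exact h

/-- a hyperbolic pair in `T` -/
theorem SetupN.exists_pair {p : ℕ} {T : Submodule F V} {y : V ≃ₗ[F] V} (h : SetupN P p T y)
    {κ : ℕ} (hκ : ∀ A : Submodule F V, κ ≤ Module.finrank F A → ∃ w ∈ A, w ≠ 0 ∧ P.ok w 0)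
    (hdim : κ ≤ Module.finrank F T) :
    ∃ a ∈ T, ∃ a' ∈ T, P.ok a 0 ∧ P.ok a' 0 ∧ H.h a' a ≠ 0 := by
  obtain ⟨e, he, he0, hes⟩ := hκ T hdim
  obtain ⟨f, hf, hfs, hef⟩ := exists_hyp h.nd he hes he0
  refine ⟨e, he, f, hf, hes, hfs, fun h => ?_⟩
  rw [H.orth_symm h] at hef
  exact zero_ne_one hef

/-- **Nondegenerate type.** -/
theorem master_N [Finite V] {r : ℕ} [Fact r.Prime] [CharP F r] {p : ℕ}
    {T : Submodule F V} {y : V ≃ₗ[F] V} (h : SetupN P p T y)
    {κ : ℕ} (hκ1 : 1 ≤ κ)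
    (hκ : ∀ A : Submodule F V, κ ≤ Module.finrank F A → ∃ w ∈ A, w ≠ 0 ∧ P.ok w 0)
    (hlam : ∀ c, P.ok 0 c → ∃ m, c = m - H.ε⁻¹ * H.σ m)
    (hdim : κ ≤ Module.finrank F T) (hND : ∀ v : V, v ≠ 0 → ∃ w, H.h v w ≠ 0)
    (hW : ∃ w ∈ perp H (T : Set V), w ≠ 0 ∧ P.ok w 0) : RadData r p 0 (κ + 1) (SG P) := by
  obtain ⟨a, ha, a', ha', has, has', haa'⟩ := h.exists_pair hκ hdim
  obtain ⟨Tf, hT2, hTs, hTT, hspan, hpair⟩ := exists_family' (P := P) hκ1 h.nd' hW hκ
  have h1 := data_IV_min (r := r) (j := 0) (k := 1) h.mem (by rw [pow_one]; exact h.pow) h.top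
    h.orth h.inv h.fix (by rw [pow_zero, pow_one]; exact h.surj) hlam Tf hT2 hTs hTT hspan hpair
    ha has ha' has' haa' (fun v _ hv0 => hND v hv0)
  refine h1.mono ?_
  rw [Fintype.card_sum, Fintype.card_bool, Fintype.card_fin]
  omega

/-- **Nondegenerate type**, orthogonal groups in characteristic two. -/
theorem sharp_N [Finite V] {r : ℕ} [Fact r.Prime] [CharP F r] {p : ℕ} (hp : p.Prime)
    {T : Submodule F V} {y : V ≃ₗ[F] V} (h : SetupN P p T y)
    (halt : ∀ v, H.h v v = 0)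
    (hκ : ∀ A : Submodule F V, 3 ≤ Module.finrank F A → ∃ w ∈ A, w ≠ 0 ∧ P.ok w 0)
    (hlam : ∀ c, P.ok 0 c → ∃ m, c = m - H.ε⁻¹ * H.σ m)
    (hdim : 3 ≤ Module.finrank F T) (hND : ∀ v : V, v ≠ 0 → ∃ w, H.h v w ≠ 0)
    (hM : ∀ t : ℕ, t ≠ 0 → r ^ t ≡ 1 [MOD p] → 3 * p + 1 ≤ r ^ t)
    (hW : ∃ w ∈ perp H (T : Set V), w ≠ 0 ∧ P.ok w 0) : FprRow (p + 1) 1 p (SG P) := by
  have hfin : Finite (V ≃ₗ[F] V) := Finite.of_injective (fun f : V ≃ₗ[F] V => (f : V → V))
    DFunLike.coe_injective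
  obtain ⟨a, ha, a', ha', has, has', haa'⟩ := h.exists_pair hκ hdim
  obtain ⟨T1, T2, A, h1, h2, h3, h4, h5, h6, hTA, hTA', h7⟩ :=
    witt' (P := P) _ (perp H (T : Set V)) le_rfl h.nd'
  obtain ⟨e, he, f, hf, hef⟩ := h7 hW
  have hAnd := nd_of_witt h.nd' h1 hTA hTA'
  have hA3 : Module.finrank F A < 3 := by
    by_contra hcon
    obtain ⟨w, hw, hw0, hws⟩ := hκ A (by omega)
    exact hw0 (h6 w hw hws)
  rcases Nat.lt_or_ge (Module.finrank F A) 2 with hA2 | hA2
  · obtain ⟨Tf, hT2, hTs, hTT, hspan, hpair⟩ := exists_family_of (P := P) (κ := 2)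
      (A := A) (by omega) h1 h2 h3 h4 h5 hTA hTA' he hf hef
    have h8 := data_IV_min (r := r) (j := 0) (k := 1) h.mem (by rw [pow_one]; exact h.pow) h.top
      h.orth h.inv h.fix (by rw [pow_zero, pow_one]; exact h.surj) hlam Tf hT2 hTs hTT hspan hpair
      ha has ha' has' haa' (fun v _ hv0 => hND v hv0)
    refine (h8.mono (m' := 3) ?_).sharp hp Fact.out (by norm_num) hM
    rw [Fintype.card_sum, Fintype.card_bool, Fintype.card_fin]
  · obtain ⟨Tf, hT2, hTs, hTT, hspan⟩ := exists_five (P := P) halt (A := A) (by omega) hAnd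
      h1 h2 h3 h4 h5 hTA hTA' he hf hef
    refine sharp_IV_five (r := r) (k := 1) hp h.mem (by rw [pow_one]; exact h.pow) h.top
      h.orth h.inv h.fix h.surj hlam Tf hT2 hTs hTT hspan h.nd' ?_ ha has ha' has' haa'
      (fun v _ hv0 => hND v hv0) le_rfl hM
    intro h0
    obtain ⟨w, hw, hw0, -⟩ := hW
    rw [h0, Submodule.mem_bot] at hw
    exact hw0 hw

/-- **Nondegenerate type**, symplectic groups in characteristic two. -/
theorem master_N2 [Finite F] [Finite V] (hA : Alt2 H) (hPall : ∀ w c, P.ok w c)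
    {q : V → F} (hq : IsQ2 H q) (hκ : ∀ q : V → F, IsQ2 H q → ∀ A : Submodule F V,
      3 ≤ Module.finrank F A → ∃ w ∈ A, w ≠ 0 ∧ q w = 0) {p : ℕ} (hp : p.Prime) (hp2 : p ≠ 2)
    {T : Submodule F V} {y : V ≃ₗ[F] V} (h : SetupN P p T y)
    (hdim : 3 ≤ Module.finrank F T) (hND : ∀ v : V, v ≠ 0 → ∃ w, H.h v w ≠ 0)
    (hW : ∃ w ∈ perp H (T : Set V), w ≠ 0) : RadData 2 p 0 3 (SG P) := by
  have hodd : Odd p := hp.odd_of_ne_two hp2
  have hch : CharP F 2 := CharTwo.of_one_ne_zero_of_two_eq_zero one_ne_zero hA.two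
  obtain ⟨hxi, hxok, -⟩ := SG_iso h.mem
  -- the invariant quadratic form
  obtain ⟨q', hq', hq'x⟩ := exists_inv hA hodd h.pow hxi hq
  obtain ⟨e, he, he0, hes⟩ := hκ q' hq' _ hdim
  obtain ⟨f, hf, hfs, hef⟩ := exists_hyp (P := P2 hA hq') h.nd he (hes.symm) he0
  -- the totally isotropic subspaces
  obtain ⟨T1, T1', A, h1, h2, h3, h4, h5, h6, h7⟩ := witt (P := P) _ (perp H (T : Set V)) le_rfl
    h.nd'
  have hA0 : A = ⊥ := by
    rw [eq_bot_iff]
    intro u hu
    exact (Submodule.mem_bot F).2 (h6 u hu (hPall _ _))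
  rw [hA0, sup_bot_eq] at h1
  obtain ⟨w0, hw0, hw0n⟩ := hW
  obtain ⟨u, hu, u', hu', huu', -⟩ := h7 ⟨w0, hw0, hw0n, hPall _ _⟩
  have hTf : T1 ≤ perp H (T : Set V) := by rw [h1]; exact le_sup_left
  have hTf' : T1' ≤ perp H (T : Set V) := by rw [h1]; exact le_sup_right
  have key := data_IV (r := 2) (P := P) (P₁ := P2 hA hq') (j := 0) (k := 1) h.mem
    (by rw [pow_one]; exact h.pow)
    (fun w c hc => by rw [P2_ok] at hc ⊢; rw [hq'x]; exact hc) (fun w c _ => hPall w c)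
    h.top h.orth h.inv h.fix (by rw [pow_zero, pow_one]; exact h.surj)
    (P2_lam hA hq') ![T1, T1', Submodule.span F {u + u'}] ?_ (fun i u _ => hPall _ _) ?_ ?_
    ⟨0, u, hu, 1, u', hu', by rw [huu']; exact one_ne_zero⟩ he hes.symm hf hfs
    (fun h => ?_) ?_ (fun v _ hv0 => hND v hv0)
  · refine key.mono ?_
    rw [Fintype.card_fin]
  · intro i
    fin_cases i
    · exact hTf
    · exact hTf'
    · change Submodule.span F {u + u'} ≤ perp H (T : Set V)
      rw [Submodule.span_singleton_le_iff_mem]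
      exact (perp H (T : Set V)).add_mem (hTf hu) (hTf' hu')
  · intro i
    fin_cases i
    · exact h3
    · exact h5
    · change ∀ y ∈ Submodule.span F {u + u'}, ∀ y' ∈ Submodule.span F {u + u'}, H.h y y' = 0
      refine span_orth ?_
      rintro y rfl y' rfl
      exact hA.alt _
  · conv_lhs => rw [h1]
    exact sup_le (le_iSup (fun i => (![T1, T1', Submodule.span F {u + u'}] : Fin 3 → _) i) 0)
      (le_iSup (fun i => (![T1, T1', Submodule.span F {u + u'}] : Fin 3 → _) i) 1)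
  · rw [H.orth_symm h] at hef
    exact zero_ne_one hef
  · -- all the transvections
    intro D hD
    have key : ∀ a ∈ T, q' a = 0 → Zt P D {0} a := by
      intro a ha haq w c haa haw hw _
      rw [Set.mem_singleton_iff] at hw
      subst hw
      have hRt : ∀ (i : Fin 3) (y : V),
          y ∈ (![T1, T1', Submodule.span F {u + u'}] : Fin 3 → Submodule F V) i →
          H.h a y = 0 → Rt H D a y := by
        intro i y hy hay
        refine Rt.symm (hA.alt y) haa (H.orth_symm hay) ?_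
        intro s hyy hys
        refine hD i (sie_mem_rad hyy hys hy (T.smul_mem _ ha) ?_)
        exact (P2 hA hq').sing_smul (by rw [P2_ok, haq]) s
      have hau : H.h a u = 0 := h.orth a ha u (hTf hu)
      have hau' : H.h a u' = 0 := h.orth a ha u' (hTf' hu')
      have hauu : H.h a (u + u') = 0 := by rw [H.add_right, hau, hau', add_zero]
      obtain ⟨s, hs⟩ := exists_sq hA.two c
      have hsu : H.h a (s • u) = 0 := by rw [H.smul_right, hau, mul_zero]
      have hsu' : H.h a (s • u') = 0 := by rw [H.smul_right, hau', mul_zero]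
      have hsuu : H.h a (s • (u + u')) = 0 := by rw [H.smul_right, hauu, mul_zero]
      have m1 := hRt 0 u hu hau s haa hsu
      have m2 := hRt 1 u' hu' hau' s haa hsu'
      have m3 := hRt 2 (u + u') (Submodule.mem_span_singleton_self _) hauu s haa hsuu
      have m4 := D.mul_mem (D.mul_mem m1 m2) (D.inv_mem m3)
      rw [H.sie_inv, H.sie_mul, H.sie_mul] at m4
      rwa [H.sie_congr _ _ haa haw rfl (by module : s • u + s • u' + -(s • (u + u')) = 0)
        (c' := c)] at m4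
      have e1 : H.h u' u = 1 := by rw [hA.comm u u', huu']
      simp only [H.neg_left, H.neg_right, H.smul_left, H.smul_right, H.add_left, H.add_right,
        hA.alt, huu', e1, hA.eps, hA.sig, inv_one, one_mul, ← hs]
      have h8 := hA.add_self (s * s)
      linear_combination -h8
    exact ⟨key e he hes, key f hf hfs.symm⟩

end Cfsg.Agent.H110.Fpr
end

-- part: H110/Fpr/DataExpl
section
/-!
# Radical data for primes dividing `q² - 1`
-/

set_option autoImplicit false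
set_option linter.unusedSimpArgs false

namespace Cfsg.Agent.H110.Fpr

open Cfsg.Agent.TitsThree.Siegel Cfsg.Agent.TitsThree.SiegelGen Cfsg.Agent.H398.FPR
open Cfsg.Agent.H409

variable {F : Type*} [Field F] {V : Type*} [AddCommGroup V] [Module F V]
variable {H : HForm F V} {P : PQ H}

theorem exists_good2' [Finite F] {p : ℕ} (hp : p.Prime) (hpF : (p : F) ≠ 0)
    (hd : p ∣ (Nat.card F) ^ 2 - 1) :
    ∃ (t : F) (j k : ℕ), (p = 2 → 1 ≤ j) ∧ (p ≠ 2 → j = 0) ∧ Good2 p j k t := by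
  classical
  have := Fintype.ofFinite F
  rcases eq_or_ne p 2 with rfl | hp2
  · refine ⟨0, 1, 2, fun _ => le_rfl, fun h => absurd rfl h, ?_, ?_⟩
    · norm_num [lu]
    · have h2 : (2 : F) ≠ 0 := by exact_mod_cast hpF
      norm_num [lu]
      intro h4
      apply h2
      have h5 : (2 : F) * 2 = 0 := by rw [← h4]; norm_num
      exact (mul_self_eq_zero.1 h5)
  -- an element of order `p` in `SL₂`
  have hdvd : p ∣ Nat.card (Matrix.SpecialLinearGroup (Fin 2) F) := by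
    rw [Cfsg.Agent.ClassicalGeometry.PSL2Basic.card_SL2]
    rw [← Nat.card_eq_fintype_card]
    exact hd.mul_left _
  have := Fact.mk hp
  obtain ⟨Y, hY⟩ := exists_prime_orderOf_dvd_card' p hdvd
  obtain ⟨t, ht⟩ : ∃ t, t = (Y : Matrix (Fin 2) (Fin 2) F).trace := ⟨_, rfl⟩
  have hdet : (Y : Matrix (Fin 2) (Fin 2) F).det = 1 := Y.2
  have hquad : (Y : Matrix (Fin 2) (Fin 2) F) * (Y : Matrix (Fin 2) (Fin 2) F) =
      t • (Y : Matrix (Fin 2) (Fin 2) F) - 1 := by
    rw [Matrix.det_fin_two] at hdet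
    rw [Matrix.trace_fin_two] at ht
    ext a b
    (revert a b; simp only [Matrix.mul_apply, Fin.sum_univ_two, ht, _root_.Fin.forall_fin_succ, Fin.isValue, _root_.Matrix.sub_apply, _root_.Matrix.smul_apply, _root_.smul_eq_mul, _root_.Fin.succ_zero_eq_one, _root_.IsEmpty.forall_iff, _root_.and_true, _root_.Matrix.one_apply_eq, Nat.reduceAdd, _root_.ne_eq, _root_.zero_ne_one, _root_.not_false_eq_true, _root_.Matrix.one_apply_ne, _root_.sub_zero, _root_.Fin.succ_ne_zero]) <;> (repeat' with_reducible apply And.intro) <;>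
      first | ring1 | linear_combination -hdet
  have hpow : (Y : Matrix (Fin 2) (Fin 2) F) ^ p = 1 := by
    have h1 := pow_orderOf_eq_one Y
    rw [hY] at h1
    have h2 := congrArg (fun Z : Matrix.SpecialLinearGroup (Fin 2) F =>
      (Z : Matrix (Fin 2) (Fin 2) F)) h1
    simpa only [_root_.Matrix.SpecialLinearGroup.coe_pow, _root_.Matrix.SpecialLinearGroup.coe_one] using h2
  have hY1 : Y ≠ 1 := by
    intro h
    rw [h, orderOf_one] at hY
    exact hp.one_lt.ne hY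
  have h3 := lu_ring hquad p
  rw [hpow] at h3
  have ha : (lu t p).1 = 0 := by
    by_contra ha
    -- `Y` is scalar
    obtain ⟨s, hs⟩ : ∃ s : F, (Y : Matrix (Fin 2) (Fin 2) F) = s • 1 := by
      refine ⟨(lu t p).1⁻¹ * (1 - (lu t p).2), ?_⟩
      have h4 : (lu t p).1 • (Y : Matrix (Fin 2) (Fin 2) F) = (1 - (lu t p).2) • 1 := by
        rw [sub_smul, one_smul, eq_sub_iff_add_eq]
        exact h3.symm
      rw [mul_smul, ← h4, smul_smul, inv_mul_cancel₀ ha, one_smul]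
    have hs2 : s ^ 2 = 1 := by
      rw [hs, Matrix.det_smul, Matrix.det_one, mul_one, Fintype.card_fin] at hdet
      exact hdet
    have hsp : s ^ p = 1 := by
      rw [hs, smul_pow, one_pow] at hpow
      have h5 := congrFun (congrFun hpow 0) 0
      simpa only [_root_.Fin.isValue, _root_.Matrix.smul_apply, _root_.Matrix.one_apply_eq, _root_.smul_eq_mul, _root_.mul_one] using h5
    have hs1 : s = 1 := by
      have h5 : orderOf s ∣ 2 := orderOf_dvd_of_pow_eq_one hs2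
      have h6 : orderOf s ∣ p := orderOf_dvd_of_pow_eq_one hsp
      have h7 : Nat.Coprime 2 p := (Nat.coprime_primes Nat.prime_two hp).2 hp2.symm
      have h8 : orderOf s = 1 := Nat.eq_one_of_dvd_coprimes h7 h5 h6
      exact orderOf_eq_one_iff.1 h8
    apply hY1
    ext a b
    rw [hs, hs1, one_smul]
    rfl
  have hb : (lu t p).2 = 1 := by
    rw [ha, zero_smul, zero_add] at h3
    have h5 := congrFun (congrFun h3 0) 0
    simpa using h5.symm
  refine ⟨t, 0, 1, fun h => absurd h hp2, fun _ => rfl, ?_, ?_⟩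
  · rw [pow_one]; exact Prod.ext ha hb
  · rw [pow_zero]
    have h6 : lu t 1 = (1, 0) := by simp [lu]
    rw [h6]
    intro h7
    have h8 : t = 2 := by
      have : (1 : F) ^ 2 + 1 * (0 - 1) * t + (0 - 1) ^ 2 = 2 - t := by ring
      have h9 : 2 - t = 0 := this ▸ h7
      exact (sub_eq_zero.1 h9).symm
    rw [h8, lu_two] at ha
    exact hpF ha

/-- **Type I, explicit.** -/
theorem data_I_explicit [Finite V] {r : ℕ} [Fact r.Prime] [CharP F r] {p j k : ℕ}
    {t : F} (ht : Good2 p j k t) {e0 e1 f0 f1 : V}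
    (se0 : P.ok e0 0) (se1 : P.ok e1 0) (sf0 : P.ok f0 0) (sf1 : P.ok f1 0)
    (h00 : H.h e0 f0 = 1) (h11 : H.h e1 f1 = 1) (h01 : H.h e0 f1 = 0) (h10 : H.h e1 f0 = 0)
    (hee : H.h e0 e1 = 0) (hff : H.h f0 f1 = 0)
    (hnd : ∃ m ∈ perp H {e0, e1, f0, f1}, ∃ m' ∈ perp H {e0, e1, f0, f1}, H.h m m' ≠ 0)
    (hVnd : ∀ v : V, P.ok v 0 → v ≠ 0 → ∃ w, H.h v w ≠ 0) :
    RadData r p j 2 (SG P) := by
  have e00 := P.iso se0
  have e11 := P.iso se1
  have f00 := P.iso sf0
  have f11 := P.iso sf1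
  have hee' : H.h e1 e0 = 0 := H.orth_symm hee
  have hff' : H.h f1 f0 = 0 := H.orth_symm hff
  have h01' : H.h f1 e0 = 0 := H.orth_symm h01
  have h10' : H.h f0 e1 = 0 := H.orth_symm h10
  have h00' : H.h f0 e0 = H.ε := by rw [H.swap e0 f0, h00, map_one, mul_one]
  have h11' : H.h f1 e1 = H.ε := by rw [H.swap e1 f1, h11, map_one, mul_one]
  have hε := H.ε_ne
  obtain ⟨b, hb⟩ : ∃ b, b = H.σ (-(H.ε * (t - 2))) := ⟨_, rfl⟩
  obtain ⟨c, hc⟩ : ∃ c, c = H.σ (-H.ε) := ⟨_, rfl⟩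
  have hb1 : H.h e0 (b • f1) = 0 := by rw [H.smul_right, h01, mul_zero]
  have hc1 : H.h e1 (c • f0) = 0 := by rw [H.smul_right, h10, mul_zero]
  have hσb : H.σ b = -(H.ε * (t - 2)) := by rw [hb, H.σσ]
  have hσc : H.σ c = -H.ε := by rw [hc, H.σσ]
  have hεb : H.ε * b = -H.σ (t - 2) := by
    rw [hb, map_neg, map_mul, H.σε]
    field_simp
  have hεc : H.ε * c = -1 := by
    rw [hc, map_neg, H.σε]
    field_simp
  obtain ⟨x, hx⟩ : ∃ x, x = H.sie e0 (b • f1) 0 e00 hb1 * H.sie e1 (c • f0) 0 e11 hc1 := ⟨_, rfl⟩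
  have hxK : x ∈ SG P := by
    rw [hx]
    exact mul_mem (sie_mem_SG P _ _ se0 (P.sing_smul sf1 b))
      (sie_mem_SG P _ _ se1 (P.sing_smul sf0 c))
  have app : ∀ v, x v = H.sie e0 (b • f1) 0 e00 hb1 (H.sie e1 (c • f0) 0 e11 hc1 v) := by
    intro v; rw [hx]; rfl
  have i1 : H.ε⁻¹ * H.ε = 1 := inv_mul_cancel₀ hε
  -- action on the four vectors
  have xe0 : x e0 = (t - 1) • e0 + e1 := by
    rw [app]
    simp only [H.sie_apply, H.add_left, H.sub_left, H.smul_left, H.smul_right, hee, h00, e00,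
      h01, hee', h10, e11, h11, hσb, hσc]
    have i2 : H.ε⁻¹ * (-H.ε * 1) = -1 := by rw [mul_one, mul_neg, i1]
    simp only [i2]
    match_scalars <;> field_simp <;> ring
  have xe1 : x e1 = e1 + (t - 2) • e0 := by
    rw [app]
    simp only [H.sie_apply, H.add_left, H.sub_left, H.smul_left, H.smul_right, hee, h00, e00,
      h01, hee', h10, e11, h11, hσb, hσc]
    match_scalars <;> field_simp <;> ring
  have xf0 : x f0 = f0 - H.σ (t - 2) • f1 := by
    rw [app]
    simp only [H.sie_apply, H.add_left, H.sub_left, H.smul_left, H.smul_right, h10', f00, hff,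
      h00', mul_zero, zero_smul, add_zero, sub_zero, zero_mul, smul_smul, hεb]
    module
  have xf1 : x f1 = f1 - f0 + H.σ (t - 2) • f1 := by
    rw [app]
    simp only [H.sie_apply, H.add_left, H.sub_left, H.smul_left, H.smul_right, h10', f00, hff,
      h00', h11', h01', hff', f11, mul_zero, zero_smul, add_zero, sub_zero, zero_mul, smul_smul,
      hεb, hεc, add_zero, zero_add]
    match_scalars <;> first | ring1 | linear_combination -hεb
  have qT : IsQuad x (Submodule.span F {e0, e1}) t := by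
    have m0 : e0 ∈ Submodule.span F ({e0, e1} : Set V) :=
      Submodule.subset_span (Set.mem_insert _ _)
    have m1 : e1 ∈ Submodule.span F ({e0, e1} : Set V) :=
      Submodule.subset_span (Set.mem_insert_of_mem _ rfl)
    apply IsQuad.of_span
    · rintro w (rfl | rfl)
      · rw [xe0]; exact Submodule.add_mem _ (Submodule.smul_mem _ _ m0) m1
      · rw [xe1]; exact Submodule.add_mem _ m1 (Submodule.smul_mem _ _ m0)
    · rintro w (rfl | rfl)
      · simp only [xe0, xe1, map_add, map_smul]; module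
      · simp only [xe0, xe1, map_add, map_smul]; module
  have qT' : IsQuad x (Submodule.span F {f0, f1}) (H.σ t) := by
    have m0 : f0 ∈ Submodule.span F ({f0, f1} : Set V) :=
      Submodule.subset_span (Set.mem_insert _ _)
    have m1 : f1 ∈ Submodule.span F ({f0, f1} : Set V) :=
      Submodule.subset_span (Set.mem_insert_of_mem _ rfl)
    have hσt : H.σ (t - 2) = H.σ t - 2 := by rw [map_sub, map_ofNat]
    rw [hσt] at xf0 xf1
    apply IsQuad.of_span
    · rintro w (rfl | rfl)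
      · rw [xf0]; exact Submodule.sub_mem _ m0 (Submodule.smul_mem _ _ m1)
      · rw [xf1]
        exact Submodule.add_mem _ (Submodule.sub_mem _ m1 m0) (Submodule.smul_mem _ _ m1)
    · rintro w (rfl | rfl)
      · simp only [xf0, xf1, map_add, map_sub, map_smul]; module
      · simp only [xf0, xf1, map_add, map_sub, map_smul]; module
  have ht' : Good2 p j k (H.σ t) := ht.map (H.σ : F →+* F)
  have xM : ∀ w ∈ perp H {e0, e1, f0, f1}, x w = w := by
    intro w hw
    have w0 : H.h w e0 = 0 := hw e0 (by simp)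
    have w1 : H.h w e1 = 0 := hw e1 (by simp)
    have w2 : H.h w f0 = 0 := hw f0 (by simp)
    have w3 : H.h w f1 = 0 := hw f1 (by simp)
    have a1 : H.sie e1 (c • f0) 0 e11 hc1 w = w := by
      rw [H.sie_apply, w1, H.smul_right, w2]; simp
    rw [app, a1, H.sie_apply, w0, H.smul_right, w3]; simp
  have htop : Submodule.span F {e0, e1} ⊔ perp H {e0, e1, f0, f1} ⊔ Submodule.span F {f0, f1} =
      (⊤ : Submodule F V) := by
    rw [eq_top_iff]
    intro v _
    obtain ⟨m, hm⟩ : ∃ m, m = v - (H.h v f0 • e0 + H.h v f1 • e1 +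
      ((H.ε⁻¹ * H.h v e0) • f0 + (H.ε⁻¹ * H.h v e1) • f1)) := ⟨_, rfl⟩
    have hv : v = (H.h v f0 • e0 + H.h v f1 • e1) + m +
        ((H.ε⁻¹ * H.h v e0) • f0 + (H.ε⁻¹ * H.h v e1) • f1) := by rw [hm]; abel
    rw [hv]
    refine Submodule.add_mem_sup (Submodule.add_mem_sup ?_ ?_) ?_
    · exact Submodule.mem_span_pair.2 ⟨_, _, rfl⟩
    · rw [hm]
      rintro u (rfl | rfl | rfl | rfl)
      · simp only [H.sub_left, H.add_left, H.smul_left, e00, hee', h00', h01']
        field_simp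
        ring
      · simp only [H.sub_left, H.add_left, H.smul_left, e11, hee, h10', h11']
        field_simp
        ring
      · simp only [H.sub_left, H.add_left, H.smul_left, h00, h10, f00, hff']
        ring
      · simp only [H.sub_left, H.add_left, H.smul_left, h01, h11, f11, hff]
        ring
    · exact Submodule.mem_span_pair.2 ⟨_, _, rfl⟩
  have hTT : ∀ u ∈ ({e0, e1} : Set V), ∀ v ∈ ({e0, e1} : Set V), H.h u v = 0 := by
    rintro u (rfl | rfl) v (rfl | rfl) <;> assumption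
  have hTT' : ∀ u ∈ ({f0, f1} : Set V), ∀ v ∈ ({f0, f1} : Set V), H.h u v = 0 := by
    rintro u (rfl | rfl) v (rfl | rfl) <;> assumption
  refine data_I (r := r) hxK (k := k) ?_ htop qT.inv qT'.inv xM (qT.surj ht)
    (qT'.surj ht') (span_sing hTT ?_) (span_orth hTT) (span_sing hTT' ?_) (span_orth hTT')
    ?_ ?_ hnd ⟨e0, Submodule.subset_span (by simp), f0, Submodule.subset_span (by simp), ?_⟩ hVnd
  · ext v
    have hv : v ∈ Submodule.span F {e0, e1} ⊔ perp H {e0, e1, f0, f1} ⊔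
        Submodule.span F {f0, f1} := by rw [htop]; trivial
    obtain ⟨y, hy, d, hd, rfl⟩ := Submodule.mem_sup.1 hv
    obtain ⟨a, ha, m, hm, rfl⟩ := Submodule.mem_sup.1 hy
    rw [map_add, map_add, qT.pow_eq ht a ha, qT'.pow_eq ht' d hd, pow_fix xM _ m hm]
    rfl
  · rintro u (rfl | rfl) <;> assumption
  · rintro u (rfl | rfl) <;> assumption
  · intro u hu w hw
    exact perp_orth u hu w (perp_anti (by
      rintro a (rfl | rfl) <;> simp) hw)
  · intro u hu w hw
    exact perp_orth u hu w (perp_anti (by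
      rintro a (rfl | rfl) <;> simp) hw)
  · rw [h00']; exact hε

/-- **Type IV, explicit**, with two radicals. -/
theorem data_IV_explicit [Finite V] {r : ℕ} [Fact r.Prime] [CharP F r] {p j k : ℕ}
    {t : F} (ht : Good2 p j k t) {e f : V} (se : P.ok e 0) (sf : P.ok f 0)
    (hef : H.h e f = 1) {b c : F} (hb : P.ok 0 b) (hc : P.ok 0 c) (hbc : H.ε * b * c = t - 2)
    (hlam : ∀ c, P.ok 0 c → ∃ m, c = m - H.ε⁻¹ * H.σ m)
    {T T' : Submodule F V} (hspan : perp H {e, f} = T ⊔ T')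
    (hTs : ∀ u ∈ T, P.ok u 0) (hTT : ∀ u ∈ T, ∀ u' ∈ T, H.h u u' = 0)
    (hTs' : ∀ u ∈ T', P.ok u 0) (hTT' : ∀ u ∈ T', ∀ u' ∈ T', H.h u u' = 0)
    (hpair : ∃ u ∈ T, ∃ u' ∈ T', H.h u u' ≠ 0)
    (hVnd : ∀ v : V, P.ok v 0 → v ≠ 0 → ∃ w, H.h v w ≠ 0) :
    RadData r p j 2 (SG P) := by
  have hee := P.iso se
  have hff := P.iso sf
  have hfe : H.h f e = H.ε := by rw [H.swap e f, hef, map_one, mul_one]
  have hε := H.ε_ne
  obtain ⟨x, hx⟩ : ∃ x, x = H.sie e 0 b hee (H.zero_right e) * H.sie f 0 c hff (H.zero_right f) :=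
    ⟨_, rfl⟩
  have hxK : x ∈ SG P := by
    rw [hx]
    exact mul_mem (sie_mem_SG P _ _ se hb) (sie_mem_SG P _ _ sf hc)
  have app : ∀ v, x v = H.sie e 0 b hee (H.zero_right e) (H.sie f 0 c hff (H.zero_right f) v) := by
    intro v; rw [hx]; rfl
  have xe : x e = (t - 1) • e + c • f := by
    rw [app]
    simp only [H.sie_apply, H.add_left, H.sub_left, H.smul_left, H.zero_right, hef, hee, hfe,
      smul_zero, zero_smul, mul_zero, add_zero, sub_zero, mul_one, zero_add]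
    have e1 : b * (c * H.ε) = t - 2 := by rw [← hbc]; ring
    rw [e1]
    module
  have xf : x f = f + (b * H.ε) • e := by
    rw [app]
    simp only [H.sie_apply, H.add_left, H.sub_left, H.smul_left, H.zero_right, hff, hfe,
      smul_zero, zero_smul, mul_zero, add_zero, sub_zero]
  have qT : IsQuad x (Submodule.span F {e, f}) t := by
    have m0 : e ∈ Submodule.span F ({e, f} : Set V) :=
      Submodule.subset_span (Set.mem_insert _ _)
    have m1 : f ∈ Submodule.span F ({e, f} : Set V) :=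
      Submodule.subset_span (Set.mem_insert_of_mem _ rfl)
    have e2 : b * H.ε * c = t - 2 := by rw [← hbc]; ring
    apply IsQuad.of_span
    · rintro w (rfl | rfl)
      · rw [xe]; exact Submodule.add_mem _ (Submodule.smul_mem _ _ m0) (Submodule.smul_mem _ _ m1)
      · rw [xf]; exact Submodule.add_mem _ m1 (Submodule.smul_mem _ _ m0)
    · rintro w (rfl | rfl)
      · simp only [xe, xf, map_add, map_smul, smul_add, smul_smul, mul_comm c, e2]
        match_scalars <;> ring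
      · simp only [xe, xf, map_add, map_smul, smul_add, smul_smul, e2]
        match_scalars <;> ring
  have x2 : ∀ w ∈ perp H {e, f}, x w = w := by
    intro w hw
    have w0 : H.h w e = 0 := hw e (by simp)
    have w1 : H.h w f = 0 := hw f (by simp)
    have a1 : H.sie f 0 c hff (H.zero_right f) w = w := by
      rw [H.sie_apply, w1, H.zero_right]; simp only [_root_.smul_zero, _root_.add_zero, _root_.MulZeroClass.mul_zero, _root_.zero_smul, _root_.sub_zero]
    rw [app, a1, H.sie_apply, w0, H.zero_right]; simp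
  have htop : Submodule.span F {e, f} ⊔ perp H {e, f} = (⊤ : Submodule F V) := by
    rw [eq_top_iff]
    intro v _
    obtain ⟨m, hm⟩ : ∃ m, m = v - (H.h v f • e + (H.ε⁻¹ * H.h v e) • f) := ⟨_, rfl⟩
    have hv : v = (H.h v f • e + (H.ε⁻¹ * H.h v e) • f) + m := by rw [hm]; abel
    rw [hv]
    refine Submodule.add_mem_sup (Submodule.mem_span_pair.2 ⟨_, _, rfl⟩) ?_
    rw [hm]
    rintro u (rfl | rfl)
    · simp only [H.sub_left, H.add_left, H.smul_left, hee, hfe]
      field_simp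
      ring
    · simp only [H.sub_left, H.add_left, H.smul_left, hef, hff]
      ring
  have hT2 : T ≤ perp H {e, f} := hspan ▸ le_sup_left
  have hT2' : T' ≤ perp H {e, f} := hspan ▸ le_sup_right
  obtain ⟨u, hu, u', hu', huu'⟩ := hpair
  refine data_IV_min (r := r) (j := j) (k := k) hxK ?_ htop perp_orth qT.inv x2 (qT.surj ht)
    hlam (fun b : Bool => cond b T T') ?_ ?_ ?_ ?_
    ⟨true, u, hu, false, u', hu', huu'⟩ (a := e) (a' := f)
    (Submodule.subset_span (by simp)) se (Submodule.subset_span (by simp)) sf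
    (by rw [hfe]; exact hε) hVnd
  · ext v
    have hv : v ∈ Submodule.span F {e, f} ⊔ perp H {e, f} := by rw [htop]; trivial
    obtain ⟨a, ha, d, hd, rfl⟩ := Submodule.mem_sup.1 hv
    rw [map_add, qT.pow_eq ht a ha, pow_fix x2 _ d hd]
    rfl
  · rintro (_ | _)
    · exact hT2'
    · exact hT2
  · rintro (_ | _)
    · exact hTs'
    · exact hTs
  · rintro (_ | _)
    · exact hTT'
    · exact hTT
  · rw [hspan]
    exact sup_le (le_iSup (fun b : Bool => cond b T T') true)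
      (le_iSup (fun b : Bool => cond b T T') false)

/-- **Type I** for all primes dividing `q² - 1` in dimension at least five. -/
theorem data_small [Finite F] [Finite V] {r : ℕ} [Fact r.Prime] [CharP F r] {p : ℕ}
    (hp : p.Prime) (hpF : (p : F) ≠ 0) (hd : p ∣ (Nat.card F) ^ 2 - 1) {κ : ℕ} (hκ3 : κ ≤ 3)
    (hκ : ∀ A : Submodule F V, κ ≤ Module.finrank F A → ∃ w ∈ A, w ≠ 0 ∧ P.ok w 0)
    (hND : ∀ v : V, v ≠ 0 → ∃ w, H.h v w ≠ 0) (hdim : 5 ≤ Module.finrank F V) :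
    ∃ j, (p = 2 → 1 ≤ j) ∧ (p ≠ 2 → j = 0) ∧ RadData r p j 2 (SG P) := by
  obtain ⟨t, j, k, hj, hj2, ht⟩ := exists_good2' (F := F) hp hpF hd
  refine ⟨j, hj, hj2, ?_⟩
  have hnd0 : ∀ v ∈ (⊤ : Submodule F V), v ≠ 0 → ∃ w ∈ (⊤ : Submodule F V), H.h v w ≠ 0 := by
    intro v _ hv
    obtain ⟨w, hw⟩ := hND v hv
    exact ⟨w, trivial, hw⟩
  have hfr : Module.finrank F (⊤ : Submodule F V) = Module.finrank F V := finrank_top F V
  obtain ⟨e0, he0, he0n, se0⟩ := hκ ⊤ (by omega)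
  obtain ⟨f0, hf0, sf0, h00⟩ := exists_hyp hnd0 he0 se0 he0n
  obtain ⟨hnd1, hd1⟩ := split_hyp hnd0 he0 hf0 se0 sf0 h00
  rw [top_inf_eq] at hnd1 hd1
  obtain ⟨e1, he1, he1n, se1⟩ := hκ (perp H {e0, f0}) (by omega)
  obtain ⟨f1, hf1, sf1, h11⟩ := exists_hyp hnd1 he1 se1 he1n
  obtain ⟨hnd2, hd2⟩ := split_hyp hnd1 he1 hf1 se1 sf1 h11
  have he1e : H.h e1 e0 = 0 := he1 e0 (by simp)
  have he1f : H.h e1 f0 = 0 := he1 f0 (by simp)
  have hf1e : H.h f1 e0 = 0 := hf1 e0 (by simp)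
  have hf1f : H.h f1 f0 = 0 := hf1 f0 (by simp)
  have hperp : perp H {e0, f0} ⊓ perp H {e1, f1} = perp H {e0, e1, f0, f1} := by
    ext w
    rw [Submodule.mem_inf, mem_perp, mem_perp, mem_perp]
    simp only [Set.mem_insert_iff, Set.mem_singleton_iff, forall_eq_or_imp, forall_eq]
    (clear * -; tauto)
  rw [hperp] at hnd2 hd2
  obtain ⟨m, hm, hm0⟩ : ∃ m ∈ perp H {e0, e1, f0, f1}, m ≠ 0 := by
    by_contra hcon
    push Not at hcon
    have : perp H {e0, e1, f0, f1} = ⊥ := by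
      rw [eq_bot_iff]
      intro v hv
      exact hcon v hv
    rw [this, finrank_bot] at hd2
    omega
  obtain ⟨m', hm', hmm⟩ := hnd2 m hm hm0
  exact data_I_explicit (r := r) ht se0 se1 sf0 sf1 h00 h11 (H.orth_symm hf1e) he1f
    (H.orth_symm he1e) (H.orth_symm hf1f) ⟨m, hm, m', hm', hmm⟩ (fun v _ hv => hND v hv)


/-- **`Sp₄(2^a)`, `a ≥ 2`, and primes dividing `q² - 1`.** -/
theorem data_four [Finite F] [Finite V] (hF4 : 4 ≤ Nat.card F) (hA : Alt2 H)
    (hPall : ∀ w c, P.ok w c) {q : V → F} (hq : IsQ2 H q) {p : ℕ} (hp : p.Prime) (hp2 : p ≠ 2)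
    (hd : p ∣ (Nat.card F) ^ 2 - 1) (hND : ∀ v : V, v ≠ 0 → ∃ w, H.h v w ≠ 0)
    {e f e0 f0 : V} (hef : H.h e f = 1) (hef0 : H.h e0 f0 = 1)
    (hperp : perp H {e, f} = Submodule.span F {e0, f0}) :
    RadData 2 p 0 3 (SG P) := by
  have hodd : Odd p := hp.odd_of_ne_two hp2
  have hpF : (p : F) ≠ 0 := by
    obtain ⟨k, hk⟩ := hodd
    rw [hk]
    push_cast
    rw [hA.two, zero_mul, zero_add]
    exact one_ne_zero
  have hch : CharP F 2 := CharTwo.of_one_ne_zero_of_two_eq_zero one_ne_zero hA.two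
  obtain ⟨t, j, k, hj, hj0, ht⟩ := exists_good2' (F := F) hp hpF hd
  obtain rfl := hj0 hp2
  obtain ⟨x, hxK, hquad, hx2, htop⟩ := exists_quad (P := P) (t := t) (e := e) (f := f)
    (hPall _ _) (hPall _ _) hef (b := t - 2) (c := 1) (hPall _ _) (hPall _ _)
    (by rw [hA.eps]; ring)
  obtain ⟨hxi, hxok, -⟩ := SG_iso hxK
  have hxp : x ^ p ^ k = 1 := by
    ext v
    have hv : v ∈ Submodule.span F {e, f} ⊔ perp H {e, f} := by rw [htop]; trivial
    obtain ⟨a, ha, d, hd, rfl⟩ := Submodule.mem_sup.1 hv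
    rw [map_add, hquad.pow_eq ht a ha, pow_fix hx2 _ d hd]
    rfl
  obtain ⟨q', hq', hq'x⟩ := exists_inv hA (hodd.pow) hxp hxi hq
  obtain ⟨V1, hV1⟩ : ∃ V1, V1 = Submodule.span F ({e, f} : Set V) := ⟨_, rfl⟩
  rw [← hV1] at hquad htop
  have hfe0 : H.h f0 e0 = 1 := by rw [hA.comm e0 f0, hef0]
  have horth : ∀ m ∈ V1, ∀ v ∈ Submodule.span F {e0, f0}, H.h m v = 0 := by
    intro m hm v hv
    rw [← hperp] at hv
    rw [hV1] at hm
    exact perp_orth m hm v hv
  -- the lines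
  obtain ⟨u, hu⟩ : ∃ u : F → V, u = fun s => e0 + s • f0 := ⟨_, rfl⟩
  have hu2 : ∀ s, u s ∈ Submodule.span F ({e0, f0} : Set V) := by
    intro s
    rw [hu]
    exact Submodule.add_mem _ (Submodule.subset_span (by simp))
      (Submodule.smul_mem _ _ (Submodule.subset_span (by simp)))
  have huu : ∀ s s', H.h (u s) (u s') = s + s' := by
    intro s s'
    rw [hu]
    simp only [H.add_left, H.add_right, H.smul_left, H.smul_right, hA.alt, hA.sig, hef0, hfe0]
    ring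
  have hune : ∀ s s', s ≠ s' → H.h (u s) (u s') ≠ 0 := by
    intro s s' hne h
    rw [huu] at h
    apply hne
    have := hA.neg s'
    rw [← this]
    exact eq_neg_of_add_eq_zero_left h
  -- four parameters
  obtain ⟨ps, hps⟩ : ∃ ps : Fin 3 → F, Function.Injective ps := by
    have := Fintype.ofFinite F
    rw [Nat.card_eq_fintype_card] at hF4
    obtain ⟨g⟩ := Function.Embedding.nonempty_of_card_le (α := Fin 3) (β := F) (by
      rw [Fintype.card_fin]; omega)
    exact ⟨g, g.injective⟩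
  have hnd : ∃ m ∈ V1, ∃ m' ∈ V1, H.h m m' ≠ 0 := by
    refine ⟨e, hV1 ▸ Submodule.subset_span (by simp), f, hV1 ▸ Submodule.subset_span (by simp), ?_⟩
    rw [hef]
    exact one_ne_zero
  have hT1 : ∀ i, ∀ y ∈ Submodule.span F {u (ps i)}, ∀ w ∈ V1, H.h y w = 0 := by
    intro i y hy w hw
    obtain ⟨s, rfl⟩ := Submodule.mem_span_singleton.1 hy
    rw [H.smul_left, H.orth_symm (horth w hw _ (hu2 _)), mul_zero]
  have hTT : ∀ i, ∀ y ∈ Submodule.span F {u (ps i)}, ∀ w ∈ Submodule.span F {u (ps i)},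
      H.h y w = 0 := fun i => span_orth (by rintro y rfl w rfl; exact hA.alt _)
  refine ⟨x, k, Fin 3, inferInstance, fun i : Fin 3 => rad (P2 hA hq')
    (Submodule.span F {u (ps i)}) V1, hxK, hxp, ?_, ?_, ?_, by rw [Fintype.card_fin], ?_⟩
  · intro i
    apply rad_le
    intro y w c hy hw _ _ _
    exact sie_mem_SG P hy hw (hPall _ _) (hPall _ _)
  · intro i
    obtain ⟨A, B, hAB, hle⟩ := rad_le_flagU (P₁ := P2 hA hq') (hTT i) (hT1 i)
    have hfixu : ∀ y ∈ Submodule.span F {u (ps i)}, x y = y := by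
      intro y hy
      apply hx2
      rw [hperp]
      exact (Submodule.span_singleton_le_iff_mem _ _).2 (hu2 _) hy
    have hok1 : ∀ w c, (P2 hA hq').ok w c → (P2 hA hq').ok (x w) c := by
      intro w c hc
      rw [P2_ok] at hc ⊢
      rw [hq'x]; exact hc
    refine ⟨nilpotent_of_le_flagU (r := 2) hAB hle, ?_, ?_⟩
    · apply mem_normalizer_of_conj
      exact rad_conj hxi hok1 (fun y hy => by rw [hfixu y hy]; exact hy) hquad.inv
    · refine rad_commFull (isIso_pow hxi _) (pow_ok hok1 _) ?_ (pow_mem_sub hquad.inv _)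
        (hquad.surj ht) (hT1 i) (P2_lam hA hq') hnd
      intro y hy
      exact pow_fix hfixu _ y hy
  · intro i
    obtain ⟨A, B, hAB, hle⟩ := rad_le_flagU (P₁ := P2 hA hq') (hTT i) (hT1 i)
    exact isPGroup_of_le_flagU (r := 2) hAB hle
  · obtain ⟨D, hD⟩ : ∃ D, D = Subgroup.closure
      ({x} ∪ ⋃ i, ((rad (P2 hA hq') (Submodule.span F {u (ps i)}) V1 :
        Subgroup (V ≃ₗ[F] V)) : Set (V ≃ₗ[F] V))) := ⟨_, rfl⟩
    rw [← hD]
    obtain ⟨J, hJ⟩ : ∃ J : Set (Fin 3), J = Set.univ := ⟨_, rfl⟩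
    have hDi : ∀ i ∈ J, ∀ m ∈ V1, ∀ (h1 : H.h (u (ps i)) (u (ps i)) = 0)
        (h2 : H.h (u (ps i)) m = 0), H.sie (u (ps i)) m (q' m) h1 h2 ∈ D := by
      intro i _ m hm h1 h2
      rw [hD]
      apply Subgroup.subset_closure
      right
      rw [Set.mem_iUnion]
      exact ⟨i, sie_mem_rad h1 h2 (Submodule.mem_span_singleton_self _) hm rfl⟩
    -- three indices
    obtain ⟨a, ha, b, hb, c, hc, hab, hac, hbc⟩ : ∃ a ∈ J, ∃ b ∈ J, ∃ c ∈ J,
        a ≠ b ∧ a ≠ c ∧ b ≠ c := by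
      rw [hJ]
      exact ⟨0, trivial, 1, trivial, 2, trivial, by decide, by decide, by decide⟩
    have hpab := hps.ne hab
    have hpac := hps.ne hac
    have hpbc := hps.ne hbc
    have dec : ∀ s s' s'' : F, s ≠ s' → s'' ≠ s → s'' ≠ s' → ∃ α β : F, α ≠ 0 ∧ β ≠ 0 ∧
        u s'' = α • u s + β • u s' := by
      intro s s' s'' h1 h2 h3
      have h4 : s - s' ≠ 0 := sub_ne_zero.2 h1
      refine ⟨(s'' - s') / (s - s'), (s - s'') / (s - s'), div_ne_zero (sub_ne_zero.2 h3) h4,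
        div_ne_zero (sub_ne_zero.2 (Ne.symm h2)) h4, ?_⟩
      rw [hu]
      change e0 + s'' • f0 = ((s'' - s') / (s - s')) • (e0 + s • f0) +
        ((s - s'') / (s - s')) • (e0 + s' • f0)
      match_scalars <;> field_simp <;> ring
    have tops : ∀ s s' : F, s ≠ s' → ∀ v : V, ∃ m ∈ V1, ∃ α β : F,
        v = m + (α • u s + β • u s') := by
      intro s s' h1 v
      have h4 : s - s' ≠ 0 := sub_ne_zero.2 h1
      have hv : v ∈ V1 ⊔ perp H {e, f} := by rw [htop]; trivial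
      obtain ⟨m, hm, w, hw, rfl⟩ := Submodule.mem_sup.1 hv
      rw [hperp] at hw
      obtain ⟨y, z, rfl⟩ := Submodule.mem_span_pair.1 hw
      refine ⟨m, hm, (z - y * s') / (s - s'), (y * s - z) / (s - s'), ?_⟩
      rw [hu]
      change m + (y • e0 + z • f0) = m + (((z - y * s') / (s - s')) • (e0 + s • f0) +
        ((y * s - z) / (s - s')) • (e0 + s' • f0))
      match_scalars <;> field_simp <;> ring
    have hm1 : ∀ s, ∀ m ∈ V1, H.h m (u s) = 0 := fun s m hm => horth m hm _ (hu2 s)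
    have z : ∀ i ∈ J, ∀ i' ∈ J, ∀ i'' ∈ J, i ≠ i' → i'' ≠ i → i'' ≠ i' →
        Zt P D {0} (u (ps i'')) := by
      intro i hi i' hi' i'' hi'' h1 h2 h3
      obtain ⟨α, β, hα, hβ, hαβ⟩ := dec (ps i) (ps i') (ps i'') (hps.ne h1) (hps.ne h2) (hps.ne h3)
      exact zt_three (by omega) hA hq' (hune _ _ (hps.ne h1)) (hm1 _) (hm1 _)
        (tops _ _ (hps.ne h1)) hα hβ hαβ hND hnd (hDi i hi) (hDi i' hi') (hDi i'' hi'')
    have z1 := z b hb c hc a ha hbc hab hac
    have z2 := z a ha c hc b hb hac (Ne.symm hab) hbc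
    have zz : ∀ i ∈ J, ∀ i' ∈ J, i ≠ i' → Zt P D {0} (u (ps i)) →
        Zt P D Set.univ (u (ps i)) := by
      intro i hi i' hi' h1 hz w d h2 hw _ _
      obtain ⟨m, hm, α, β, rfl⟩ := tops (ps i) (ps i') (hps.ne h1) w
      have hum : H.h (u (ps i)) m = 0 := H.orth_symm (hm1 _ m hm)
      have hβ : β = 0 := by
        rw [H.add_right, H.add_right, H.smul_right, H.smul_right, hum, hA.alt, hA.sig, hA.sig,
          mul_zero, zero_add, zero_add] at hw
        exact (mul_eq_zero.1 hw).resolve_right (hune _ _ (hps.ne h1))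
      subst hβ
      have e1 : m + (α • u (ps i) + (0 : F) • u (ps i')) = m + α • u (ps i) := by
        rw [zero_smul, add_zero]
      have hw2 : H.h (u (ps i)) (m + α • u (ps i)) = 0 := by rw [← e1]; exact hw
      rw [H.sie_congr h2 hw h2 hw2 rfl e1 rfl, sie_add_self hA _ m d α h2 hum hw2]
      have k1 := hDi i hi m hm h2 hum
      have k2 := hz 0 (d - q' m) h2 (H.zero_right _) rfl (hPall _ _)
      have k3 := D.mul_mem k1 k2
      rwa [H.sie_mul, H.sie_congr _ _ h2 hum rfl (add_zero m) (c' := d)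
        (by rw [H.zero_left]; ring)] at k3
    exact all_of_pair (zz a ha b hb hab z1) (zz b hb a ha (Ne.symm hab) z2) (hPall _ _)
      (hPall _ _) (hune _ _ hpab.symm) (fun v _ hv => hND v hv)


end Cfsg.Agent.H110.Fpr
end

-- part: H110/Fpr/SharpSp
section
/-!
# The rows of S3578: dichotomy and symplectic groups
-/

set_option autoImplicit false

namespace Cfsg.Agent.H110.Fpr

open Cfsg Cfsg.Agent.ClassicalGeometry.SympBasic
open Cfsg.Agent.TitsThree.Siegel Cfsg.Agent.TitsThree.SiegelGen Cfsg.Agent.TitsThree.SpIdent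
open Cfsg.Agent.TitsThree.SpGen
open Cfsg.Agent.H398.FPR Cfsg.Agent.H409

section Gen

variable {F : Type*} [Field F] {V : Type*} [AddCommGroup V] [Module F V]
variable {H : HForm F V} {P : PQ H}

/-- **Dichotomy.** -/
theorem dich [Finite V] {r : ℕ} [Fact r.Prime] [CharP F r] {p : ℕ} (hp : p.Prime)
    (hp2 : p ≠ 2) (hpF : (p : F) ≠ 0) {x : V ≃ₗ[F] V} (hxi : H.IsIso x)
    (hxok : ∀ w c, P.ok w c → P.ok (x w) c) (hx : x ^ p = 1) (hx1 : x ≠ 1)
    (hK : ∀ y : V ≃ₗ[F] V, H.IsIso y → (∀ w c, P.ok w c → P.ok (y w) c) → y ^ p = 1 →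
      y ∈ SG P) (hND : ∀ v : V, v ≠ 0 → ∃ w, H.h v w ≠ 0)
    (hdim : (∀ T : Submodule F V, IsMin x T → T ≤ movS p x → 3 ≤ Module.finrank F T) ∨
      ∃ c, c ≠ 0 ∧ P.ok 0 c) :
    RadData r p 0 2 (SG P) ∨ ∃ (T : Submodule F V) (y : V ≃ₗ[F] V), IsMin x T ∧
      (∃ v ∈ T, x v ≠ v) ∧ (∃ v ∈ T, ∃ w ∈ T, H.h v w ≠ 0) ∧ SetupN P p T y := by
  by_cases hall : ∀ T : Submodule F V, IsMin x T → T ≤ movS p x → ∀ u ∈ T, ∀ v ∈ T, H.h u v = 0
  · exact Or.inl (master_L hp hp2 hpF hxi hxok hx hx1 hK hND hdim hall)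
  · push Not at hall
    obtain ⟨T, hT, hTU, v, hv, w, hw, hvw⟩ := hall
    obtain ⟨y, hy⟩ := exists_setupN hpF hxi hxok hx hK hND hT hTU ⟨v, hv, w, hw, hvw⟩
    refine Or.inr ⟨T, y, hT, ?_, ⟨v, hv, w, hw, hvw⟩, hy⟩
    refine ⟨v, hv, fun h => hvw ?_⟩
    rw [eq_zero_of_mem hpF (hTU hv) h]
    exact H.zero_left w

/-- an element of order `p` -/
theorem exists_order_p {K : Subgroup (V ≃ₗ[F] V)} [Finite K] {p : ℕ} (hp : p.Prime)
    (h : p ∣ Nat.card K) : ∃ x ∈ K, x ^ p = 1 ∧ x ≠ 1 := by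
  have := Fact.mk hp
  obtain ⟨x, hx⟩ := exists_prime_orderOf_dvd_card' p h
  refine ⟨x, x.2, ?_, ?_⟩
  · have h1 : x ^ p = 1 := by rw [← hx]; exact pow_orderOf_eq_one x
    exact congrArg Subtype.val h1
  · intro h1
    have h2 : x = 1 := Subtype.ext h1
    rw [h2, orderOf_one] at hx
    exact hp.one_lt.ne hx

theorem three_le_of_min [Finite F] [Finite V] {p : ℕ} (hp : p.Prime) (hpF : (p : F) ≠ 0)
    (hd : ¬ p ∣ Nat.card F ^ 2 - 1) {x : V ≃ₗ[F] V} (hx : x ^ p = 1) {T : Submodule F V}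
    (hT : IsMin x T) (hmov : ∃ v ∈ T, x v ≠ v) : 3 ≤ Module.finrank F T := by
  apply hT.le_finrank hp hx hmov hpF
  intro i hi hi3 h
  apply hd
  interval_cases i
  · rw [pow_one] at h
    have : Nat.card F - 1 ∣ Nat.card F ^ 2 - 1 := by
      have := Nat.sub_dvd_pow_sub_pow (Nat.card F) 1 2
      rwa [one_pow] at this
    exact h.trans this
  · exact h

/-- in characteristic two `2 p + 1` can be replaced by `3 p + 1` -/
theorem three_of_two {p r : ℕ} (hr2 : r = 2)
    (hM : ∀ t : ℕ, t ≠ 0 → r ^ t ≡ 1 [MOD p] → 2 * p + 1 ≤ r ^ t) (hp0 : 0 < p) {t : ℕ}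
    (ht : t ≠ 0) (h : r ^ t ≡ 1 [MOD p]) : 3 * p + 1 ≤ r ^ t := by
  have h1 := hM t ht h
  have h2 : p ∣ r ^ t - 1 := (Nat.modEq_iff_dvd' (by omega)).1 h.symm
  obtain ⟨c, hc⟩ := h2
  have h3 : 2 ∣ r ^ t := by rw [hr2]; exact dvd_pow_self 2 ht
  have h4 : 2 ≤ c := by
    by_contra h5
    have h6 : c ≤ 1 := by omega
    have : p * c ≤ p * 1 := Nat.mul_le_mul_left _ h6
    omega
  have h5 : c ≠ 2 := by
    rintro rfl
    omega
  have h6 : 3 ≤ c := by omega
  have h7 : p * 3 ≤ p * c := Nat.mul_le_mul_left _ h6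
  omega

theorem finrank_add_perp [Finite V] {T : Submodule F V} (htop : T ⊔ perp H (T : Set V) = ⊤)
    (hnd : ∀ v ∈ T, v ≠ 0 → ∃ w ∈ T, H.h v w ≠ 0) :
    Module.finrank F T + Module.finrank F (perp H (T : Set V)) = Module.finrank F V := by
  have : Module.Finite F V := Module.Finite.of_finite
  have h1 := Submodule.finrank_sup_add_finrank_inf_eq T (perp H (T : Set V))
  rw [htop, perp_inf hnd, finrank_bot, finrank_top] at h1
  omega

end Gen

variable {F : Type*} [Field F] {m : ℕ}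

/-- **The row of S3578 for the symplectic groups.** -/
theorem sharp_isos [Finite F] (hm : 2 ≤ m) (hm2 : m = 2 → 3 ≤ Nat.card F) {r : ℕ}
    [hrp : Fact r.Prime] [hr : CharP F r] {p : ℕ} (hp : p.Prime)
    (hp2 : p ≠ 2) (hpF : (p : F) ≠ 0)
    (hM : ∀ t : ℕ, t ≠ 0 → r ^ t ≡ 1 [MOD p] → 2 * p + 1 ≤ r ^ t)
    (hdvd : p ∣ Nat.card (SG (pq m F))) :
    FprRow (p + 1) 1 p (SG (pq m F)) ∨ ∀ k, p ∣ Nat.card F ^ k - 1 → 2 * m ∣ k := by
  have hfin : Finite ((Fin m ⊕ Fin m → F) ≃ₗ[F] (Fin m ⊕ Fin m → F)) := instFin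
  have hcardF := not_dvd_card hp hpF
  have hq1 : 1 ≤ Nat.card F := Nat.card_pos
  have hr2 : (2 : F) = 0 → r = 2 := by
    intro h
    have hch : CharP F 2 := CharTwo.of_one_ne_zero_of_two_eq_zero one_ne_zero h
    exact CharP.eq F hr hch
  by_cases hd : p ∣ (Nat.card F) ^ 2 - 1
  · left
    rcases Nat.lt_or_ge m 3 with h3 | h3
    · have h2 : m = 2 := by omega
      subst h2
      by_cases hF2 : (2 : F) = 0
      · have h4 : 4 ≤ Nat.card F := by
          have h3 := hm2 rfl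
          have h5 : 2 ∣ Nat.card F := by
            have hch : CharP F 2 := CharTwo.of_one_ne_zero_of_two_eq_zero one_ne_zero hF2
            have := Fintype.ofFinite F
            rw [Nat.card_eq_fintype_card, ← CharP.cast_eq_zero_iff F 2]
            exact Nat.cast_card_eq_zero F
          omega
        have h5 := data_four h4 (alt_form hF2) (fun _ _ => trivial) (isQ2_qS hF2) hp hp2 hd
          nd_form (P := pq 2 F) (e := e 2 F 0) (f := f 2 F 0) (e0 := e 2 F 1) (f0 := f 2 F 1)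
          (by rw [form_h, ef, if_pos rfl]) (by rw [form_h, ef, if_pos rfl]) (by
            rw [perp_sp4, ← Submodule.span_union]
            rfl)
        have hr2' := hr2 hF2
        refine h5.sharp hp Nat.prime_two (by norm_num) ?_
        intro t ht h
        rw [← hr2'] at h ⊢
        exact three_of_two hr2' hM hp.pos ht h
      · obtain ⟨t, j, k, hj, hj0, ht⟩ := exists_good2' (F := F) hp hpF hd
        obtain rfl := hj0 hp2
        refine (data_IV_explicit (r := r) (P := pq 2 F) ht (e := e 2 F 0) (f := f 2 F 0)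
          trivial trivial (by rw [form_h, ef, if_pos rfl]) (b := 2 - t) (c := 1) trivial trivial
          (by rw [form_ε]; ring) (lam_form hF2) perp_sp4 (fun _ _ => trivial) ?_
          (fun _ _ => trivial) ?_ ⟨e 2 F 1, Submodule.mem_span_singleton_self _, f 2 F 1,
            Submodule.mem_span_singleton_self _, by
              rw [form_h, ef, if_pos rfl]; exact one_ne_zero⟩ (fun v _ hv => nd_form v hv)).sharp
          hp hrp.out (by norm_num) hM
        · exact span_orth (by rintro u rfl v rfl; exact ee _ _)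
        · exact span_orth (by rintro u rfl v rfl; exact ff _ _)
    · obtain ⟨j, -, hj0, hD⟩ := data_small (r := r) hp hpF hd (κ := 1) (by norm_num) κ_form
        nd_form (V := Fin m ⊕ Fin m → F) (P := pq m F) (by rw [finrank_sp]; omega)
      obtain rfl := hj0 hp2
      exact hD.sharp hp hrp.out (by norm_num) hM
  · obtain ⟨x, hxK, hxp, hx1⟩ := exists_order_p hp hdvd
    obtain ⟨hxi, hxok, -⟩ := SG_iso hxK
    have hK : ∀ y : (Fin m ⊕ Fin m → F) ≃ₗ[F] (Fin m ⊕ Fin m → F), (form m F).IsIso y →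
        (∀ w c, (pq m F).ok w c → (pq m F).ok (y w) c) → y ^ p = 1 → y ∈ SG (pq m F) := by
      intro y hy _ _
      rw [SG_pq]
      exact hy
    rcases dich (r := r) hp hp2 hpF hxi hxok hxp hx1 hK nd_form
      (Or.inr ⟨1, one_ne_zero, trivial⟩) with h | ⟨T, y, hT, hmov, hTnd, hy⟩
    · exact Or.inl (h.sharp hp hrp.out (by norm_num) hM)
    · by_cases hW : ∃ w ∈ perp (form m F) (T : Set (Fin m ⊕ Fin m → F)), w ≠ 0
      · left
        have hdim := three_le_of_min hp hpF hd hxp hT hmov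
        obtain ⟨w, hw, hw0⟩ := hW
        by_cases hF2 : (2 : F) = 0
        · have h5 := master_N2 (alt_form hF2) (fun _ _ => trivial) (isQ2_qS hF2)
            (fun q hq A hA => exists_sing_q2 (alt_form hF2) hq A hA) hp hp2 hy hdim nd_form
            ⟨w, hw, hw0⟩
          have hr2' := hr2 hF2
          refine h5.sharp hp Nat.prime_two (by norm_num) ?_
          intro t ht h
          rw [← hr2'] at h ⊢
          exact three_of_two hr2' hM hp.pos ht h
        · exact (master_N (r := r) hy le_rfl κ_form (lam_form hF2) (by omega) nd_form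
            ⟨w, hw, hw0, trivial⟩).sharp hp hrp.out (by norm_num) hM
      · right
        push Not at hW
        intro k hk
        have h1 := hT.finrank_dvd hp hxp hmov hpF hk
        have h2 := finrank_add_perp hy.top hy.nd
        have h3 : perp (form m F) (T : Set (Fin m ⊕ Fin m → F)) = ⊥ := by
          rw [eq_bot_iff]
          intro w hw
          exact (Submodule.mem_bot F).2 (hW w hw)
        rw [h3, finrank_bot, add_zero, finrank_sp] at h2
        rwa [h2] at h1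

/-- **The row of S3578 for `PSp_{2m}(q)`, `m ≥ 2`.** -/
theorem sharp_PSp [Finite F] (hm : 2 ≤ m) (hm2 : m = 2 → 3 ≤ Nat.card F) {r : ℕ}
    [hrp : Fact r.Prime] [hr : CharP F r] {p : ℕ} (hp : p.Prime)
    (hp2 : p ≠ 2) (hpF : (p : F) ≠ 0)
    (hM : ∀ t : ℕ, t ≠ 0 → r ^ t ≡ 1 [MOD p] → 2 * p + 1 ≤ r ^ t)
    (hdvd : p ∣ Nat.card (PSp m F)) :
    FprRow (p + 1) 1 p (PSp m F) ∨ ∀ k, p ∣ Nat.card F ^ k - 1 → 2 * m ∣ k := by
  have hfin : Finite ((Fin m ⊕ Fin m → F) ≃ₗ[F] (Fin m ⊕ Fin m → F)) := instFin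
  let e : SG (pq m F) ≃* isos (form m F) := MulEquiv.subgroupCongr SG_pq
  let f : SG (pq m F) →* PSp m F := toPSp.comp e.toMonoidHom
  have hf : Function.Surjective f := toPSp_surjective.comp e.surjective
  refine (sharp_isos hm hm2 hp hp2 hpF hM (hdvd.trans ?_)).imp_left
    (FprRow.of_surjective hp f hf)
  exact Subgroup.card_dvd_of_surjective f hf

end Cfsg.Agent.H110.Fpr
end
end

-- part: H110/Fpr/FamO
section
set_option linter.all false
open scoped Cfsg.Agent.FastGrp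

/-!
# The rows for the orthogonal groups
-/

set_option autoImplicit false

namespace Cfsg.Agent.H110.Fpr

open Cfsg.Agent.TitsThree.Siegel Cfsg.Agent.TitsThree.SiegelGen Cfsg.Agent.TitsThree.KSideO
open Cfsg.Agent.LieClassical Cfsg.Agent.LieClassical.OrthCore Cfsg.Agent.LieClassical.OrthFinite
open Cfsg.Agent.LieClassical.OrthForms
open Cfsg.Agent.H409 QuadraticMap

theorem SG_PO {F V : Type*} [Field F] [AddCommGroup V] [Module F V] (Q : QuadraticForm F V) :
    SG (PO Q) = E Q := by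
  apply le_antisymm
  · exact SG_le _ fun u w c hu hw hus hwc => sie_mem hu hw hus hwc
  · rw [E, Subgroup.closure_le]
    rintro _ ⟨u, w, hu, hw, rfl⟩
    have huu : (HO Q).h u u = 0 := polar_self_of_sing hu
    have := sie_mem_SG (PO Q) (u := u) (w := w) (c := -Q w) huu hw ((sing_iff Q).2 hu) rfl
    rwa [sie_eq Q huu hw hu hw rfl] at this

/-- **The row for the orthogonal groups, `E Q`.** -/
theorem row_EQ {F V : Type*} [Field F] [Finite F] [AddCommGroup V] [Module F V] [Finite V]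
    {Q : QuadraticForm F V} (hQ : Nondeg Q) (hd : 5 ≤ Module.finrank F V) {p : ℕ}
    (hp : p.Prime) (hpF : (p : F) ≠ 0)
    (hE : p ∣ (Nat.card F) ^ 2 - 1 ∨ ∃ a ∈ E Q, ∃ b ∈ E Q, a * b = b * a ∧ a ^ p = 1 ∧
      b ^ p = 1 ∧ b ≠ 1 ∧ ∀ i : ℕ, a * b ^ i ≠ 1) :
    FprRow (2 * p - 1) (p - 1) p (E Q) := by
  obtain ⟨r, hr⟩ := CharP.exists F
  have hrp : Fact r.Prime := ⟨CharP.char_is_prime F r⟩
  have hND : ∀ v : V, v ≠ 0 → ∃ w, (HO Q).h v w ≠ 0 := by
    intro v hv
    by_contra hcon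
    push Not at hcon
    exact hv (hQ v hcon)
  have hκ : ∀ A : Submodule F V, 3 ≤ Module.finrank F A → ∃ w ∈ A, w ≠ 0 ∧ (PO Q).ok w 0 := by
    intro A hA
    obtain ⟨w, hw, hw0, hQw⟩ := exists_sing_mem (Q := Q) A hA
    exact ⟨w, hw, hw0, (sing_iff Q).2 hQw⟩
  rw [← SG_PO]
  by_cases hd2 : p ∣ (Nat.card F) ^ 2 - 1
  · exact row_small (r := r) hp hpF hd2 le_rfl hκ hND hd
  · obtain ⟨a, ha, b, hb, hab, hap, hbp, hb1, hind⟩ := hE.resolve_left hd2
    have hp5 : 5 ≤ p := by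
      -- 2 and 3 divide `q² - 1`
      by_contra hlt
      push Not at hlt
      have hcardF := not_dvd_card hp hpF
      apply hd2
      have h2 := hp.two_le
      have hq : 1 ≤ Nat.card F := Nat.card_pos
      have hq2 : Nat.card F ^ 2 - 1 = (Nat.card F - 1) * (Nat.card F + 1) := by
        obtain ⟨k, hk⟩ := Nat.exists_eq_add_of_le hq
        rw [hk]
        have : (1 + k) ^ 2 = k * (1 + k + 1) + 1 := by ring
        rw [this, Nat.add_sub_cancel, Nat.add_sub_cancel_left]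
      rw [hq2]
      interval_cases p
      · have h3 : Nat.card F % 2 = 1 := by omega
        exact Dvd.dvd.mul_right (by omega) _
      · have h3 : Nat.card F % 3 = 1 ∨ Nat.card F % 3 = 2 := by omega
        rcases h3 with h3 | h3
        · exact Dvd.dvd.mul_right (by omega) _
        · exact Dvd.dvd.mul_left (by omega) _
      · exact absurd hp (by norm_num)
    refine row_E (r := r) hp hp5 hpF (κ := 3) le_rfl hκ ?_ ?_ hND ((SG_PO Q).symm ▸ ha)
      ((SG_PO Q).symm ▸ hb) hab hap hbp hb1 hind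
    · intro i hi hi3 h
      apply hd2
      interval_cases i
      · rw [pow_one] at h
        have : Nat.card F - 1 ∣ Nat.card F ^ 2 - 1 := by
          have := Nat.sub_dvd_pow_sub_pow (Nat.card F) 1 2
          rwa [one_pow] at this
        exact h.trans this
      · exact h
    · intro c hc
      have hc' : c = -Q 0 := hc
      rw [QuadraticMap.map_zero, neg_zero] at hc'
      exact ⟨0, by rw [hc']; simp⟩

section Matrix

variable {ι : Type} [Fintype ι] [DecidableEq ι] {F : Type*} [Field F] [Finite F]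
  {Q : QuadraticForm F (ι → F)}

/-- **The row for `PΩ(Q)`**, `Q` nondegenerate in dimension at least five. -/
theorem row_POmega (hQ : Nondeg Q) (hd : 5 ≤ Module.finrank F (ι → F)) {p : ℕ}
    (hp : p.Prime) (hpF : (p : F) ≠ 0)
    (hE : p = 2 ∨ ∃ P : Sylow p (Cfsg.POmega F ⇑Q), ¬ IsCyclic P) :
    FprRow (2 * p - 1) (p - 1) p (Cfsg.POmega F ⇑Q) := by
  have hG := good_of_finite hQ hd
  have : Finite ((ι → F) ≃ₗ[F] (ι → F)) := instFin
  refine FprRow.of_surjective hp (toPOmega hG) (toPOmega_surjective hG) ?_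
  apply row_EQ hQ hd hp hpF
  rcases eq_or_ne p 2 with rfl | hp2
  · left
    have hcardF := not_dvd_card hp hpF
    have hq : 1 ≤ Nat.card F := Nat.card_pos
    have h1 : Nat.card F % 2 = 1 := by omega
    have h2 : Nat.card F ^ 2 % 2 = 1 := by rw [Nat.pow_mod, h1]
    omega
  · right
    obtain ⟨P, hP⟩ := hE.resolve_left hp2
    have := Fact.mk hp
    obtain ⟨a, b, hab, ha, hb, hb1, hind⟩ := exists_rank_two hp2 (toPOmega hG)
      (toPOmega_surjective hG) P hP
    refine ⟨a, a.2, b, b.2, congrArg Subtype.val hab, congrArg Subtype.val ha,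
      congrArg Subtype.val hb, fun h => hb1 (Subtype.ext h), fun i h => hind i (Subtype.ext h)⟩

end Matrix

/-- Groups of type `PΩ` in dimension at least seven (all three families). -/
theorem row_POmegaOdd {F : Type} [Field F] [Fintype F] {m : ℕ} (hm : 3 ≤ m)
    (hodd : Odd (Fintype.card F)) {p : ℕ} (hp : p.Prime) (hpF : (p : F) ≠ 0)
    (hE : p = 2 ∨ ∃ P : Sylow p (Cfsg.POmega F (Cfsg.quadFormOdd m F)), ¬ IsCyclic P) :
    FprRow (2 * p - 1) (p - 1) p (Cfsg.POmega F (Cfsg.quadFormOdd m F)) := by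
  rw [← coe_oddForm] at hE ⊢
  have h2 : (2 : F) ≠ 0 := by
    intro h
    have h3 : CharP F 2 := by
      have := CharTwo.of_one_ne_zero_of_two_eq_zero (R := F) one_ne_zero h
      exact this
    have h4 := (FiniteField.even_card_iff_char_two (F := F)).1 (ringChar.eq F 2)
    rw [← Nat.even_iff] at h4
    exact (Nat.not_even_iff_odd.2 hodd) h4
  refine row_POmega (nondeg_oddForm m F h2) ?_ hp hpF hE
  rw [Module.finrank_fintype_fun_eq_card, Fintype.card_sum, Fintype.card_sum, Fintype.card_fin,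
    Fintype.card_unit]
  omega

theorem row_POmegaPlus {F : Type} [Field F] [Fintype F] {m : ℕ} (hm : 4 ≤ m)
    {p : ℕ} (hp : p.Prime) (hpF : (p : F) ≠ 0)
    (hE : p = 2 ∨ ∃ P : Sylow p (Cfsg.POmega F (Cfsg.quadFormPlus m F)), ¬ IsCyclic P) :
    FprRow (2 * p - 1) (p - 1) p (Cfsg.POmega F (Cfsg.quadFormPlus m F)) := by
  rw [← coe_plusForm] at hE ⊢
  refine row_POmega (nondeg_plusForm m F) ?_ hp hpF hE
  rw [Module.finrank_fintype_fun_eq_card, Fintype.card_sum, Fintype.card_fin]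
  omega

theorem row_POmegaMinus {F : Type} [Field F] [Fintype F] {m : ℕ} (hm : 4 ≤ m) {a b : F}
    (hab : ∀ z₁ z₂ : F, z₁ ^ 2 + a * z₁ * z₂ + b * z₂ ^ 2 = 0 → z₁ = 0 ∧ z₂ = 0)
    {p : ℕ} (hp : p.Prime) (hpF : (p : F) ≠ 0)
    (hE : p = 2 ∨ ∃ P : Sylow p (Cfsg.POmega F (Cfsg.quadFormMinus (m - 1) F a b)),
      ¬ IsCyclic P) :
    FprRow (2 * p - 1) (p - 1) p (Cfsg.POmega F (Cfsg.quadFormMinus (m - 1) F a b)) := by
  rw [← coe_minusForm] at hE ⊢
  refine row_POmega (nondeg_minusForm (m - 1) F a b hab) ?_ hp hpF hE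
  rw [Module.finrank_fintype_fun_eq_card, Fintype.card_sum, Fintype.card_sum, Fintype.card_fin,
    Fintype.card_fin]
  omega

end Cfsg.Agent.H110.Fpr
end

-- part: H435/Fpr/AltSets_mg
section
prune_inst 0xc1304a40030002040000a000c0200014500004200000000028a00040010022208d82a040000020041a00800100050008100000100000000000000000000401001000120421400108000098000100000000000000000000000000000000010000000000000
set_option linter.all false
open scoped Cfsg.Agent.FastGrp

-- part: H435/Fpr/AltSets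
section
/-!
# The action of the alternating group on subsets: 2-elements with few fixed subsets
-/

set_option autoImplicit false
open Subgroup MulAction
open scoped Pointwise

namespace Cfsg.Agent.H435.Fpr

theorem le_choose {s j : ℕ} (h1 : 1 ≤ j) (h2 : j < s) : s ≤ s.choose j := by
  induction s generalizing j with
  | zero => omega
  | succ s ih =>
    obtain ⟨i, rfl⟩ : ∃ i, j = i + 1 := ⟨j - 1, by omega⟩
    rw [Nat.choose_succ_succ']
    have h3 : 1 ≤ s.choose i := Nat.choose_pos (by omega)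
    rcases Nat.lt_or_ge (i + 1) s with h | h
    · have := ih (j := i + 1) (by omega) h
      omega
    · have h4 : i + 1 = s := by omega
      rw [h4, Nat.choose_self]
      have h5 : s.choose i = s := by
        have : i = s - 1 := by omega
        rw [this, Nat.choose_symm (by omega), Nat.choose_one_right]
      omega

theorem three_choose {s j : ℕ} (h1 : 1 ≤ j) (h2 : j < s) :
    3 * s.choose j ≤ (2 * s).choose (2 * j) := by
  rcases Nat.lt_or_ge s 3 with h | h
  · have h3 : s = 2 := by omega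
    have h4 : j = 1 := by omega
    subst h3 h4
    decide
  · have h3 := le_choose h1 h2
    have h4 : s.choose j * s.choose j ≤ (2 * s).choose (2 * j) := by
      rw [two_mul s, Nat.add_choose_eq]
      have hmem : (j, j) ∈ (Finset.HasAntidiagonal.antidiagonal (2 * j) : Finset (ℕ × ℕ)) := by
        rw [Finset.HasAntidiagonal.mem_antidiagonal]
        change j + j = 2 * j
        omega
      exact Finset.single_le_sum (f := fun ij : ℕ × ℕ => s.choose ij.1 * s.choose ij.2)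
        (fun _ _ => Nat.zero_le _) hmem
    nlinarith only [h, h3, h4]

theorem three_choose' {s ε k : ℕ} (hs : 2 ≤ s) (hε : ε ≤ 1) (hk : 1 ≤ k) (hk2 : k < 2 * s + ε)
    (hpar : ε = 0 → Even k) : 3 * s.choose (k / 2) ≤ (2 * s + ε).choose k := by
  rcases Nat.even_or_odd k with he | ho
  · obtain ⟨j, rfl⟩ := he
    have h1 : (j + j) / 2 = j := by omega
    rw [h1, ← two_mul]
    rcases Nat.lt_or_ge j s with h | h
    · exact (three_choose (by omega) h).trans (Nat.choose_le_choose _ (by omega))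
    · have h2 : j = s := by omega
      have h3 : ε = 1 := by omega
      subst h2 h3
      rw [Nat.choose_self, Nat.choose_symm_add (a := 2 * j) (b := 1), Nat.choose_one_right]
      omega
  · obtain ⟨j, rfl⟩ := ho
    have hε1 : ε = 1 := by
      by_contra hne
      have h0 : ε = 0 := by omega
      have := hpar h0
      rw [Nat.even_iff] at this
      omega
    subst hε1
    have h1 : (2 * j + 1) / 2 = j := by omega
    rw [h1, Nat.choose_succ_succ']
    rcases Nat.eq_zero_or_pos j with h0 | h0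
    · subst h0
      simp
      omega
    · have := three_choose h0 (show j < s by omega)
      omega

/-- A 2-element pairing up the points. -/
structure Pairing (n s ε : ℕ) (x : alternatingGroup (Fin n)) (e : (Fin s × Bool) ⊕ Fin ε ≃ Fin n) :
    Prop where
  inv : ∀ A : Finset (Fin n), (∀ i, i ∈ A ↔ x • i ∈ A) → ∀ i : Fin s,
    (e (Sum.inl (i, true)) ∈ A ↔ e (Sum.inl (i, false)) ∈ A)
  two : ∃ k : ℕ, orderOf x = 2 ^ k

theorem exists_pairing {n s ε : ℕ} (hn : n = 2 * s + ε) (hs : 2 ≤ s) :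
    ∃ (x : alternatingGroup (Fin n)) (e : (Fin s × Bool) ⊕ Fin ε ≃ Fin n), Pairing n s ε x e := by
  classical
  let e : (Fin s × Bool) ⊕ Fin ε ≃ Fin n := Fintype.equivFinOfCardEq (by simp only [_root_.Fintype.card_sum, _root_.Fintype.card_prod, _root_.Fintype.card_fin, _root_.Fintype.card_bool]; omega)
  let y : Equiv.Perm (Fin s × Bool) := Equiv.prodCongr (Equiv.refl _) Equiv.boolNot
  let w : Equiv.Perm (Fin s × Bool) := Equiv.swap (⟨0, by omega⟩, false) (⟨1, by omega⟩, false)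
  have hy2 : y * y = 1 := by
    ext ⟨a, b⟩ <;> simp only [y, _root_.Equiv.Perm.coe_mul, _root_.Equiv.prodCongr_apply, _root_.Equiv.coe_refl, _root_.Function.comp_apply, _root_.Prod.map_apply, _root_.id_eq, _root_.Equiv.boolNot_apply, _root_.Bool.not_not, _root_.Equiv.Perm.coe_one]
  have hex : ∃ z : Equiv.Perm (Fin s × Bool), Equiv.Perm.sign z = 1 ∧ z ^ 4 = 1 ∧
      ∀ P : Fin s × Bool → Prop, (∀ a, P a ↔ P (z a)) → ∀ i, (P (i, true) ↔ P (i, false)) := by
    rcases Int.units_eq_one_or (Equiv.Perm.sign y) with h | h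
    · refine ⟨y, h, ?_, ?_⟩
      · rw [show (4 : ℕ) = 2 + 2 from rfl, pow_add, pow_two, hy2, one_mul]
      · intro P hP i
        exact hP (i, true)
    · have h0 : ∀ i : Fin s, i ≠ ⟨0, by omega⟩ → i ≠ ⟨1, by omega⟩ → ∀ b, (y * w) (i, b) = (i, !b) := by
        intro i h0 h1 b
        have : w (i, b) = (i, b) := by
          apply Equiv.swap_apply_of_ne_of_ne
          · intro h; exact h0 (Prod.mk.inj h).1
          · intro h; exact h1 (Prod.mk.inj h).1
        rw [Equiv.Perm.mul_apply, this]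
        rfl
      have a1 : (y * w) (⟨0, by omega⟩, false) = (⟨1, by omega⟩, true) := by
        rw [Equiv.Perm.mul_apply, show w (⟨0, by omega⟩, false) = (⟨1, by omega⟩, false) from
          Equiv.swap_apply_left _ _]
        rfl
      have a2 : (y * w) (⟨1, by omega⟩, true) = (⟨1, by omega⟩, false) := by
        rw [Equiv.Perm.mul_apply, show w (⟨1, by omega⟩, true) = (⟨1, by omega⟩, true) from
          Equiv.swap_apply_of_ne_of_ne (by simp) (by simp)]
        rfl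
      have a3 : (y * w) (⟨1, by omega⟩, false) = (⟨0, by omega⟩, true) := by
        rw [Equiv.Perm.mul_apply, show w (⟨1, by omega⟩, false) = (⟨0, by omega⟩, false) from
          Equiv.swap_apply_right _ _]
        rfl
      have a4 : (y * w) (⟨0, by omega⟩, true) = (⟨0, by omega⟩, false) := by
        rw [Equiv.Perm.mul_apply, show w (⟨0, by omega⟩, true) = (⟨0, by omega⟩, true) from
          Equiv.swap_apply_of_ne_of_ne (by simp) (by simp)]
        rfl
      refine ⟨y * w, ?_, ?_, ?_⟩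
      · rw [Equiv.Perm.sign_mul, h, Equiv.Perm.sign_swap (by simp)]
        rfl
      · apply Equiv.ext
        rintro ⟨i, b⟩
        have h4 : ((y * w) ^ 4) (i, b) = (y * w) ((y * w) ((y * w) ((y * w) (i, b)))) := rfl
        rw [h4, Equiv.Perm.one_apply]
        by_cases hi0 : i = ⟨0, by omega⟩
        · subst hi0
          cases b
          · rw [a1, a2, a3, a4]
          · rw [a4, a1, a2, a3]
        · by_cases hi1 : i = ⟨1, by omega⟩
          · subst hi1
            cases b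
            · rw [a3, a4, a1, a2]
            · rw [a2, a3, a4, a1]
          · rw [h0 i hi0 hi1, h0 i hi0 hi1, h0 i hi0 hi1, h0 i hi0 hi1]
            simp
      · intro P hP i
        have b1 := hP (⟨0, by omega⟩, false)
        have b2 := hP (⟨1, by omega⟩, true)
        have b3 := hP (⟨1, by omega⟩, false)
        rw [a1] at b1
        rw [a2] at b2
        rw [a3] at b3
        by_cases hi0 : i = ⟨0, by omega⟩
        · rw [hi0]; (clear * - b1 b2 b3; tauto)
        · by_cases hi1 : i = ⟨1, by omega⟩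
          · rw [hi1]; (clear * - b2; tauto)
          · have := hP (i, true)
            rwa [h0 i hi0 hi1] at this
  obtain ⟨z, hzs, hz4, hzP⟩ := hex
  let Z : Equiv.Perm ((Fin s × Bool) ⊕ Fin ε) := Equiv.Perm.sumCongr z 1
  have hZs : Equiv.Perm.sign (e.permCongrHom Z) = 1 := by
    have h1 : Equiv.Perm.sign (e.permCongrHom Z) = Equiv.Perm.sign Z :=
      Equiv.Perm.sign_permCongr e Z
    rw [h1]
    change Equiv.Perm.sign (Equiv.Perm.sumCongr z 1) = 1
    rw [Equiv.Perm.sign_sumCongr, hzs]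
    simp
  refine ⟨⟨e.permCongrHom Z, Equiv.Perm.mem_alternatingGroup.2 hZs⟩, e, ⟨?_, ?_⟩⟩
  · intro A hA i
    refine hzP (fun a => e (Sum.inl a) ∈ A) ?_ i
    intro a
    rw [hA]
    change e (Z (e.symm (e (Sum.inl a)))) ∈ A ↔ _
    rw [e.symm_apply_apply]
    rfl
  · have h1 : orderOf (⟨e.permCongrHom Z, Equiv.Perm.mem_alternatingGroup.2 hZs⟩ :
        alternatingGroup (Fin n)) ∣ 2 ^ 2 := by
      apply orderOf_dvd_of_pow_eq_one
      apply Subtype.ext
      change (e.permCongrHom Z) ^ (2 ^ 2) = 1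
      rw [← map_pow]
      have : Z ^ (2 ^ 2) = 1 := by
        have h2 : ∀ k : ℕ, Z ^ k = Equiv.Perm.sumCongr (z ^ k) 1 := by
          intro k
          induction k with
          | zero => simp
          | succ k ih =>
            rw [pow_succ, ih, pow_succ]
            change _ * Equiv.Perm.sumCongr z 1 = _
            rw [Equiv.Perm.sumCongr_mul, one_mul]
        rw [h2]
        norm_num [hz4]
      rw [this, map_one]
    obtain ⟨k, -, hk⟩ := (Nat.dvd_prime_pow Nat.prime_two).1 h1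
    exact ⟨k, hk⟩

/-- The number of `k`-sets fixed by `x`. -/
theorem Pairing.card_le {n s ε : ℕ} {x : alternatingGroup (Fin n)}
    {e : (Fin s × Bool) ⊕ Fin ε ≃ Fin n} (h : Pairing n s ε x e) (hε : ε ≤ 1) (k : ℕ) :
    Nat.card (fixedBy (Set.powersetCard (Fin n) k) x) ≤ s.choose (k / 2) ∧
      (ε = 0 → ¬ Even k → Nat.card (fixedBy (Set.powersetCard (Fin n) k) x) = 0) := by
  classical
  have hA : ∀ A : fixedBy (Set.powersetCard (Fin n) k) x, ∀ i : Fin n,
      (i ∈ (A.1 : Finset (Fin n)) ↔ x • i ∈ (A.1 : Finset (Fin n))) := by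
    rintro ⟨A, hA⟩ i
    have h1 : x • (A : Finset (Fin n)) = A := by
      rw [← Set.powersetCard.coe_smul]
      exact congrArg (fun z : Set.powersetCard (Fin n) k => (z : Finset (Fin n))) hA
    constructor
    · intro hi
      rw [← h1]
      exact Finset.smul_mem_smul_finset hi
    · intro hi
      rw [← h1] at hi
      exact (Finset.smul_mem_smul_finset_iff x).1 hi
  let I : fixedBy (Set.powersetCard (Fin n) k) x → Finset (Fin s) := fun A =>
    Finset.univ.filter (fun i => e (Sum.inl (i, false)) ∈ (A.1 : Finset (Fin n)))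
  let J : fixedBy (Set.powersetCard (Fin n) k) x → Finset (Fin ε) := fun A =>
    Finset.univ.filter (fun i => e (Sum.inr i) ∈ (A.1 : Finset (Fin n)))
  have hcard : ∀ A, k = 2 * (I A).card + (J A).card := by
    intro A
    have h1 : ((A.1 : Finset (Fin n))).card = k := A.1.2
    have h2 : (A.1 : Finset (Fin n)) =
        ((I A ×ˢ (Finset.univ : Finset Bool)).disjSum (J A)).map e.toEmbedding := by
      ext j
      obtain ⟨a, rfl⟩ := e.surjective j
      rw [Finset.mem_map_equiv, e.symm_apply_apply]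
      rcases a with ⟨i, b⟩ | i
      · rw [Finset.inl_mem_disjSum, Finset.mem_product]
        simp only [Finset.mem_univ, and_true, I, Finset.mem_filter, true_and]
        cases b
        · rfl
        · exact h.inv _ (hA A) i
      · rw [Finset.inr_mem_disjSum]
        simp only [J, _root_.Finset.mem_filter, _root_.Finset.mem_univ, _root_.true_and]
    rw [← h1, h2, Finset.card_map, Finset.card_disjSum, Finset.card_product, Finset.card_univ,
      Fintype.card_bool]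
    ring
  have hJ : ∀ A, (J A).card ≤ ε := by
    intro A
    have := Finset.card_le_univ (J A)
    rwa [Fintype.card_fin] at this
  constructor
  · have hI : ∀ A, (I A).card = k / 2 := by
      intro A
      have h1 := hcard A
      have h2 := hJ A
      omega
    have h3 : Nat.card (Set.powersetCard (Fin s) (k / 2)) = s.choose (k / 2) := by
      rw [Set.powersetCard.card, Nat.card_eq_fintype_card, Fintype.card_fin]
    rw [← h3]
    refine Nat.card_le_card_of_injective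
      (fun A => (⟨I A, hI A⟩ : Set.powersetCard (Fin s) (k / 2))) ?_
    intro A A' hAA
    have h4 : I A = I A' := congrArg (fun z : Set.powersetCard (Fin s) (k / 2) => (z : Finset (Fin s))) hAA
    have h5 : J A = J A' := by
      have h6 := hcard A
      have h7 := hcard A'
      rw [h4] at h6
      have h8 : (J A).card = (J A').card := by omega
      have h9 : ε = 0 ∨ ε = 1 := by omega
      rcases h9 with rfl | rfl
      · ext i
        exact i.elim0
      · ext i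
        have hi : i = 0 := Subsingleton.elim _ _
        have k1 : ∀ K : Finset (Fin 1), i ∈ K ↔ K.card = 1 := by
          intro K
          rw [hi]
          revert K
          decide
        rw [k1, k1, h8]
    apply Subtype.ext
    apply Subtype.ext
    ext j
    obtain ⟨a, rfl⟩ := e.surjective j
    rcases a with ⟨i, b⟩ | i
    · have h6 : e (Sum.inl (i, false)) ∈ (A.1 : Finset (Fin n)) ↔
          e (Sum.inl (i, false)) ∈ (A'.1 : Finset (Fin n)) := by
        have := congrArg (fun K : Finset (Fin s) => i ∈ K) h4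
        simpa only [I, _root_.Finset.mem_filter, _root_.Finset.mem_univ, _root_.true_and, _root_.eq_iff_iff] using this
      cases b
      · exact h6
      · have h7 := h.inv _ (hA A) i
        have h8 := h.inv _ (hA A') i
        exact h7.trans (h6.trans h8.symm)
    · have := congrArg (fun K : Finset (Fin ε) => i ∈ K) h5
      simpa only [J, _root_.Finset.mem_filter, _root_.Finset.mem_univ, _root_.true_and, _root_.eq_iff_iff] using this
  · rintro rfl hk
    rw [Nat.card_eq_zero]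
    left
    constructor
    intro A
    apply hk
    have h1 := hcard A
    have h2 := hJ A
    exact ⟨(I A).card, by omega⟩

theorem row_sets {n k : ℕ} (hn : 5 ≤ n) (hk : 1 ≤ k) (hkn : k < n) :
    ∃ x : alternatingGroup (Fin n), (∃ k : ℕ, orderOf x = 2 ^ k) ∧
      3 * Nat.card (fixedBy (Set.powersetCard (Fin n) k) x) ≤
        1 * Nat.card (Set.powersetCard (Fin n) k) := by
  obtain ⟨x, e, h⟩ := exists_pairing (n := n) (s := n / 2) (ε := n % 2) (by omega) (by omega)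
  refine ⟨x, h.two, ?_⟩
  have hcard : Nat.card (Set.powersetCard (Fin n) k) = n.choose k := by
    rw [Set.powersetCard.card, Nat.card_eq_fintype_card, Fintype.card_fin]
  obtain ⟨h1, h2⟩ := h.card_le (by omega) k
  rw [hcard, one_mul]
  by_cases hpar : n % 2 = 0 → Even k
  · have h3 := three_choose' (s := n / 2) (ε := n % 2) (k := k) (by omega) (by omega) hk (by omega)
      hpar
    have h4 : 2 * (n / 2) + n % 2 = n := by omega
    rw [h4] at h3
    omega
  · push Not at hpar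
    rw [h2 hpar.1 (by simpa only [_root_.Nat.not_even_iff_odd] using hpar.2)]
    simp

end Cfsg.Agent.H435.Fpr
end

-- part: H452/FprPsuN
section
/-!
# `PSU_n(q)`, `q` even, `3 ∣ q + 1`, `n ≥ 4`, `(n, q) ≠ (4, 2)`: ratio `1 / 4` for `p = 3`
-/

set_option autoImplicit false
open Subgroup MulAction

namespace Cfsg.Agent.H452.FprPsuN

open Cfsg Cfsg.Agent.H398.FPR Cfsg.Agent.H452.FprHeis Cfsg.Agent.H110.Fpr Cfsg.Agent.H409
open Cfsg.Agent.TitsThree.Siegel Cfsg.Agent.TitsThree.SiegelGen Cfsg.Agent.TitsThree.KSideU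
open Cfsg.Agent.LieClassical.HermBasic Cfsg.Agent.LieClassical.HermSiegel

/-- The full list of hypotheses on a Heisenberg radical. -/
structure HeisG {G : Type*} [Group G] (x : G) (Q Z : Subgroup G) : Prop extends Heis x Q Z where
  comm : ∀ z ∈ Z, ∃ a ∈ Q, ∃ b ∈ Q, z = a * b * a⁻¹ * b⁻¹
  cen : ∀ g ∈ Q, (∀ a ∈ Q, g * a = a * g) → g ∈ Z
  big : 8 * Nat.card Z ^ 3 ≤ Nat.card Q

theorem HeisG.subgroupOf {A : Type*} [Group A] {K : Subgroup A} {x : A} (hxK : x ∈ K)
    {Q Z : Subgroup A} (h : HeisG x Q Z) (hQ : Q ≤ K) :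
    HeisG (⟨x, hxK⟩ : K) (Q.subgroupOf K) (Z.subgroupOf K) where
  le := fun z hz => h.le hz
  cent := fun z hz g hg => Subtype.ext (h.cent z hz g hg)
  der := fun a ha b hb => h.der a ha b hb
  norm := by
    rw [mem_normalizer_iff]
    intro g
    rw [mem_subgroupOf, mem_subgroupOf]
    exact mem_normalizer_iff.1 h.norm g
  fixZ := fun z hz => Subtype.ext (h.fixZ z hz)
  free := fun r hr hr2 => h.free r hr hr2
  comm := by
    intro z hz
    obtain ⟨a, ha, b, hb, hab⟩ := h.comm z hz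
    exact ⟨⟨a, hQ ha⟩, ha, ⟨b, hQ hb⟩, hb, Subtype.ext hab⟩
  cen := by
    intro g hg hc
    apply h.cen g hg
    intro a ha
    exact congrArg Subtype.val (hc ⟨a, hQ ha⟩ ha)
  big := by
    have h1 : Nat.card (Q.subgroupOf K) = Nat.card Q :=
      Nat.card_congr (Subgroup.subgroupOfEquivOfLe hQ).toEquiv
    have h2 : Nat.card (Z.subgroupOf K) = Nat.card Z :=
      Nat.card_congr (Subgroup.subgroupOfEquivOfLe (h.le.trans hQ)).toEquiv
    rw [h1, h2]
    exact h.big

theorem heis_quarter_sub {A : Type*} [Group A] [Finite A] {K : Subgroup A} {x : A} (hxK : x ∈ K)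
    {Q1 Q2 Z1 Z2 : Subgroup A} {k : ℕ} (hx : x ^ 3 ^ k = 1) (h1 : HeisG x Q1 Z1)
    (h2 : HeisG x Q2 Z2) (hQ1 : Q1 ≤ K) (hQ2 : Q2 ≤ K)
    (hg1 : ∀ D : Subgroup A, Q1 ≤ D → ∀ z ∈ Z2, z ≠ 1 → z ∈ D → K ≤ D)
    (hg2 : ∀ D : Subgroup A, Q2 ≤ D → ∀ z ∈ Z1, z ≠ 1 → z ∈ D → K ≤ D) :
    UGood 1 4 (⟨x, hxK⟩ : K) := by
  have k1 := h1.subgroupOf hxK hQ1
  have k2 := h2.subgroupOf hxK hQ2
  have aux : ∀ Q Z : Subgroup A, Q ≤ K →
      (∀ D : Subgroup A, Q ≤ D → ∀ z ∈ Z, z ≠ 1 → z ∈ D → K ≤ D) →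
      ∀ H : Subgroup K, Q.subgroupOf K ≤ H → ∀ z ∈ Z.subgroupOf K, z ≠ 1 → z ∈ H → H = ⊤ := by
    intro Q Z hQ hg H hQH z hz hz1 hzH
    have h3 := hg (H.map K.subtype) (by
      intro a ha
      exact ⟨⟨a, hQ ha⟩, hQH ha, rfl⟩) z hz (fun h => hz1 (Subtype.ext h)) ⟨z, hzH, rfl⟩
    rw [eq_top_iff]
    intro a _
    obtain ⟨b, hb, hba⟩ := h3 a.2
    have : b = a := Subtype.ext hba
    rwa [← this]
  exact heis_quarter (k := k) (Subtype.ext hx) k1.toHeis k2.toHeis k1.comm k2.comm k1.cen k2.cen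
    k1.big k2.big (aux Q1 Z2 hQ1 hg1) (aux Q2 Z1 hQ2 hg2)

section Siegel

variable {F : Type*} [Field F] {V : Type*} [AddCommGroup V] [Module F V]
variable {H : HForm F V} {P : PQ H}

/-- The radical of the singular vector `u`. -/
def QU (P : PQ H) (u : V) (hu : P.ok u 0) : Subgroup (V ≃ₗ[F] V) where
  carrier := {g | ∃ (w : V) (c : F) (hw : H.h u w = 0), P.ok w c ∧
    g = H.sie u w c (P.iso hu) hw}
  one_mem' := ⟨0, 0, H.zero_right u, P.zero, (H.sie_zero u _).symm⟩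
  mul_mem' := by
    rintro _ _ ⟨w, c, hw, hc, rfl⟩ ⟨w', c', hw', hc', rfl⟩
    exact ⟨w + w', c + c' - H.ε⁻¹ * H.h w' w, by rw [H.add_right, hw, hw', add_zero],
      P.add hc hc', H.sie_mul _ _ _ _ _ _ _ _⟩
  inv_mem' := by
    rintro _ ⟨w, c, hw, hc, rfl⟩
    exact ⟨-w, -c - H.ε⁻¹ * H.h w w, by rw [H.neg_right, hw, neg_zero], P.inv hc,
      H.sie_inv _ _ _ _ _⟩

/-- The centre of the radical. -/
def ZU (P : PQ H) (u : V) (hu : P.ok u 0) : Subgroup (V ≃ₗ[F] V) where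
  carrier := {g | ∃ c : F, P.ok 0 c ∧ g = H.sie u 0 c (P.iso hu) (H.zero_right u)}
  one_mem' := ⟨0, P.zero, (H.sie_zero u _).symm⟩
  mul_mem' := by
    rintro _ _ ⟨c, hc, rfl⟩ ⟨c', hc', rfl⟩
    refine ⟨c + c' - H.ε⁻¹ * H.h 0 0, ?_, ?_⟩
    · have := P.add hc hc'
      rwa [add_zero] at this
    · rw [H.sie_mul]
      exact H.sie_congr _ _ _ _ rfl (add_zero 0) rfl
  inv_mem' := by
    rintro _ ⟨c, hc, rfl⟩
    refine ⟨-c - H.ε⁻¹ * H.h 0 0, ?_, ?_⟩
    · have := P.inv hc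
      rwa [neg_zero] at this
    · rw [H.sie_inv]
      exact H.sie_congr _ _ _ _ rfl neg_zero rfl

variable {u : V} {hu : P.ok u 0}

theorem ZU_le : ZU P u hu ≤ QU P u hu := by
  rintro _ ⟨c, hc, rfl⟩
  exact ⟨0, c, H.zero_right u, hc, rfl⟩

theorem QU_le_SG : QU P u hu ≤ SG P := by
  rintro _ ⟨w, c, hw, hc, rfl⟩
  exact sie_mem_SG P _ _ hu hc

/-- Extraction. -/
theorem sie_eq {v w w' : V} {c c' : F} (huu : H.h u u = 0) {hw : H.h u w = 0} {hw' : H.h u w' = 0}
    (hv : H.h v u ≠ 0) (h : H.sie u w c huu hw = H.sie u w' c' huu hw') :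
    ∃ a : F, w - w' = a • u := by
  have h1 := congrArg (fun g : V ≃ₗ[F] V => g v) h
  simp only [H.sie_apply] at h1
  refine ⟨(H.h v u)⁻¹ * (H.ε⁻¹ * H.h v w - c * H.h v u - H.ε⁻¹ * H.h v w' + c' * H.h v u), ?_⟩
  have h2 : H.h v u • (w - w') =
      (H.ε⁻¹ * H.h v w - c * H.h v u - H.ε⁻¹ * H.h v w' + c' * H.h v u) • u := by
    have h3 : H.h v u • w - H.h v u • w' = (H.ε⁻¹ * H.h v w) • u - (c * H.h v u) • u -
        (H.ε⁻¹ * H.h v w') • u + (c' * H.h v u) • u := by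
      have h4 : (v + H.h v u • w - (H.ε⁻¹ * H.h v w) • u + (c * H.h v u) • u) -
          (v + H.h v u • w' - (H.ε⁻¹ * H.h v w') • u + (c' * H.h v u) • u) = 0 := sub_eq_zero.2 h1
      rw [← sub_eq_zero]
      rw [← h4]
      abel
    rw [smul_sub, h3]
    module
  rw [← smul_smul, ← h2, smul_smul, inv_mul_cancel₀ hv, one_smul]

theorem sie_zero_eq {v : V} {c c' : F} (huu : H.h u u = 0)
    (hv : H.h v u ≠ 0) (h : H.sie u 0 c huu (H.zero_right u) = H.sie u 0 c' huu (H.zero_right u)) :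
    c = c' := by
  have h1 := congrArg (fun g : V ≃ₗ[F] V => g v) h
  simp only [H.sie_apply] at h1
  have hu0 : u ≠ 0 := by
    rintro rfl
    exact hv (H.zero_right v)
  have h2 : ((c - c') * H.h v u) • u = 0 := by
    have h4 : (v + H.h v u • (0 : V) - (H.ε⁻¹ * H.h v 0) • u + (c * H.h v u) • u) -
          (v + H.h v u • (0 : V) - (H.ε⁻¹ * H.h v 0) • u + (c' * H.h v u) • u) = 0 :=
      sub_eq_zero.2 h1
    rw [← h4]
    module
  have h3 := (smul_eq_zero.1 h2).resolve_right hu0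
  exact sub_eq_zero.1 ((mul_eq_zero.1 h3).resolve_right hv)

/-- elements of `QU` with `w` a multiple of `u` -/
theorem mem_ZU_of_smul {a c : F} {hw : H.h u (a • u) = 0} (hc : P.ok (a • u) c) :
    H.sie u (a • u) c (P.iso hu) hw ∈ ZU P u hu := by
  refine ⟨c + a - H.ε⁻¹ * H.σ a, ?_, ?_⟩
  · have h1 := P.sub hc (P.sing_smul hu a)
    rw [sub_zero] at h1
    exact P.lam a h1
  · rw [← H.sie_add_smul u 0 c a (P.iso hu) (H.zero_right u)]
    exact H.sie_congr _ _ _ _ rfl (zero_add _).symm rfl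

theorem heis_of {x : V ≃ₗ[F] V} (hxi : H.IsIso x) (hxok : ∀ w c, P.ok w c → P.ok (x w) c)
    (hxok' : ∀ w c, P.ok w c → P.ok (x⁻¹ w) c) (hxu : x u = u) {v : V} (hv : H.h v u ≠ 0)
    (hfree : ∀ w, H.h u w = 0 → ∀ a : F, x w - w = a • u → ∃ b : F, w = b • u) :
    Heis x (QU P u hu) (ZU P u hu) where
  le := ZU_le
  cent := by
    rintro _ ⟨c, hc, rfl⟩ _ ⟨w, d, hw, hd, rfl⟩
    rw [H.sie_mul, H.sie_mul]
    apply H.sie_congr _ _ _ _ rfl
    · rw [add_comm]
    · rw [H.zero_left, H.zero_right]; ring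
  der := by
    rintro _ ⟨A, e, hA, he, rfl⟩ _ ⟨B, d, hB, hd, rfl⟩
    refine ⟨_, ?_, comm_same (P.iso hu) hA hB⟩
    have := P.lam (H.σ (H.h B A)) P.zero
    rw [H.σσ, zero_add] at this
    exact this
  norm := by
    have hxu' : x⁻¹ u = u := by
      have : x⁻¹ (x u) = u := x.symm_apply_apply u
      rwa [hxu] at this
    have aux : ∀ y : V ≃ₗ[F] V, H.IsIso y → (∀ w c, P.ok w c → P.ok (y w) c) → y u = u →
        ∀ g ∈ QU P u hu, y * g * y⁻¹ ∈ QU P u hu := by
      rintro y hy hyok hyu _ ⟨w, c, hw, hc, rfl⟩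
      rw [H.conj_sie hy]
      refine ⟨y w, c, by rw [← hyu, hy, hw], hyok w c hc, ?_⟩
      exact H.sie_congr _ _ _ _ hyu rfl rfl
    rw [mem_normalizer_iff]
    intro g
    constructor
    · exact aux x hxi hxok hxu g
    · intro hg
      have h2 := aux x⁻¹ (HForm.IsIso.inv H hxi) hxok' hxu' _ hg
      have h3 : x⁻¹ * (x * g * x⁻¹) * x⁻¹⁻¹ = g := by group
      rwa [h3] at h2
  fixZ := by
    rintro _ ⟨c, hc, rfl⟩
    rw [← mul_inv_eq_iff_eq_mul, H.conj_sie hxi]
    exact H.sie_congr _ _ _ _ hxu (map_zero x) rfl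
  free := by
    rintro _ ⟨w, c, hw, hc, rfl⟩ ⟨d, hd, hxd⟩
    rw [H.conj_sie hxi, H.sie_inv, H.sie_congr _ _ (P.iso hu) (by rw [← hxu, hxi, hw] :
      H.h u (x w) = 0) hxu rfl rfl, H.sie_mul] at hxd
    obtain ⟨a, ha⟩ := sie_eq (P.iso hu) hv hxd
    rw [sub_zero, ← sub_eq_add_neg] at ha
    obtain ⟨b, hb⟩ := hfree w hw a ha
    subst hb
    exact mem_ZU_of_smul hc

theorem comm_of (hlam : ∀ c, P.ok 0 c → ∃ m, c = m - H.ε⁻¹ * H.σ m) {e : V} (hue : H.h u e = 0)
    (hee : H.h e e ≠ 0) : ∀ z ∈ ZU P u hu, ∃ a ∈ QU P u hu, ∃ b ∈ QU P u hu,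
      z = a * b * a⁻¹ * b⁻¹ := by
  rintro _ ⟨c, hc, rfl⟩
  obtain ⟨m, rfl⟩ := hlam c hc
  obtain ⟨d1, hd1⟩ := P.ex e
  obtain ⟨d2, hd2⟩ := P.ex ((H.σ m / H.h e e) • e)
  have h1 : H.h u ((H.σ m / H.h e e) • e) = 0 := by rw [H.smul_right, hue, mul_zero]
  refine ⟨_, ⟨e, d1, hue, hd1, rfl⟩, _, ⟨_, d2, h1, hd2, rfl⟩, ?_⟩
  rw [comm_same (P.iso hu) hue h1]
  apply H.sie_congr _ _ _ _ rfl rfl
  rw [H.smul_left, div_mul_cancel₀ _ hee, H.σσ]

theorem cen_of {v : V} (hv : H.h v u ≠ 0)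
    (hcen : ∀ w, H.h u w = 0 → (∀ A, H.h u A = 0 → H.σ (H.h A w) = H.ε⁻¹ * H.h A w) →
      ∃ b : F, w = b • u) :
    ∀ g ∈ QU P u hu, (∀ a ∈ QU P u hu, g * a = a * g) → g ∈ ZU P u hu := by
  rintro _ ⟨w, c, hw, hc, rfl⟩ hcomm
  obtain ⟨b, hb⟩ := hcen w hw (fun A hA => by
    obtain ⟨d, hd⟩ := P.ex A
    have h1 := hcomm _ ⟨A, d, hA, hd, rfl⟩
    have h2 := comm_same (e := c) (d := d) (P.iso hu) hw hA
    rw [h1] at h2
    have h3 : H.sie u A d (P.iso hu) hA * H.sie u w c (P.iso hu) hw *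
      (H.sie u w c (P.iso hu) hw)⁻¹ * (H.sie u A d (P.iso hu) hA)⁻¹ = 1 := by group
    rw [h3, ← H.sie_zero u (P.iso hu)] at h2
    exact sub_eq_zero.1 (sie_zero_eq (P.iso hu) hv h2).symm)
  subst hb
  exact mem_ZU_of_smul hc

/-- Generation. -/
theorem gen_of {u' : V} {hu' : P.ok u' 0} (huu' : H.h u u' ≠ 0)
    (hnd : ∀ v : V, P.ok v 0 → v ≠ 0 → ∃ w, H.h v w ≠ 0) (D : Subgroup (V ≃ₗ[F] V))
    (hQ : QU P u hu ≤ D) : ∀ z ∈ ZU P u' hu', z ≠ 1 → z ∈ D → SG P ≤ D := by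
  rintro z hzZ hz1 hzD
  obtain ⟨c, hc, hzc⟩ := hzZ
  have hc0 : c ≠ 0 := by
    rintro rfl
    apply hz1
    rw [hzc]
    exact H.sie_zero u' _
  have hzS : z ∈ SG P := by
    rw [hzc]
    exact sie_mem_SG P _ _ hu' hc
  obtain ⟨hzi, hzok, hzok'⟩ := SG_iso hzS
  have hzu : z u = u + (c * H.h u u') • u' := by
    rw [hzc, H.sie_apply, H.zero_right]; simp
  have hu'u : H.h u' u ≠ 0 := fun h => huu' (H.orth_symm h)
  refine all_of_pair (p := u) (r := z u) ?_ ?_ hu (hzok u 0 hu) ?_ hnd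
  · intro w d huu huw _ hd
    exact hQ ⟨w, d, huw, hd, rfl⟩
  · intro w d hvv hvw _ hd
    have hzw : z (z⁻¹ w) = w := z.apply_symm_apply w
    have h1 : H.h u (z⁻¹ w) = 0 := by rw [← hzi, hzw, hvw]
    exact conj_mem hzD hzi (P.iso hu) h1 (hQ ⟨_, d, h1, hzok' w d hd, rfl⟩) hvv hvw rfl hzw
  · rw [hzu, H.add_left, H.smul_left, P.iso hu, zero_add]
    exact mul_ne_zero (mul_ne_zero hc0 huu') hu'u

end Siegel

section Coord

variable {F : Type*} [Field F] [Fintype F] {q m : ℕ}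

/-- The vector `e₀ + a e₁`. -/
def uv (a : F) : Fin (m + 2) → F := Fin.cons 1 (Fin.cons a 0)

theorem uv_zero (a : F) : (uv a : Fin (m + 2) → F) 0 = 1 := rfl
theorem uv_one (a : F) : (uv a : Fin (m + 2) → F) 1 = a := rfl
theorem uv_succ (a : F) (i : Fin m) : (uv a : Fin (m + 2) → F) i.succ.succ = 0 := rfl

theorem herm_expand (v w : Fin (m + 2) → F) : hermForm (m + 2) F q v w =
    v 0 * w 0 ^ q + (v 1 * w 1 ^ q + ∑ i : Fin m, v i.succ.succ * w i.succ.succ ^ q) := by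
  rw [herm_def, Fin.sum_univ_succ, Fin.sum_univ_succ]
  rfl

theorem herm_uv_right (hF : Fintype.card F = q ^ 2) (v : Fin (m + 2) → F) (a : F) :
    hermForm (m + 2) F q v (uv a) = v 0 + v 1 * a ^ q := by
  rw [herm_expand]
  simp only [uv_zero, uv_one, uv_succ, one_pow, mul_one, zero_pow_q hF, mul_zero,
    Finset.sum_const_zero, add_zero]

theorem herm_uv_left (v : Fin (m + 2) → F) (a : F) :
    hermForm (m + 2) F q (uv a) v = v 0 ^ q + a * v 1 ^ q := by
  rw [herm_expand]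
  simp only [uv_zero, uv_one, uv_succ, one_mul, zero_mul, Finset.sum_const_zero, add_zero]

theorem herm_uv_uv (a b : F) : hermForm (m + 2) F q (uv a) (uv b) = 1 + a * b ^ q := by
  rw [herm_uv_left, uv_zero, uv_one, one_pow]

/-- vectors of the plane orthogonal to `u` -/
theorem in_plane (hF : Fintype.card F = q ^ 2) {a : F} (ha : a * a ^ q = -1)
    {w : Fin (m + 2) → F} (hw : hermForm (m + 2) F q (uv a) w = 0)
    (h0 : ∀ i : Fin m, w i.succ.succ = 0) : ∃ b : F, w = b • uv a := by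
  have h1 := herm_eq_zero_swap hF hw
  rw [herm_uv_right hF] at h1
  have h2 : w 1 = a * w 0 := by linear_combination (-a) * h1 + w 1 * ha
  refine ⟨w 0, ?_⟩
  funext i
  refine Fin.cases ?_ (fun i => ?_) i
  · rw [Pi.smul_apply, uv_zero, smul_eq_mul, mul_one]
  · refine Fin.cases ?_ (fun i => ?_) i
    · change w 1 = w 0 * a
      rw [h2, mul_comm]
    · rw [h0, Pi.smul_apply, uv_succ, smul_zero]

theorem uv_ok (hF : Fintype.card F = q ^ 2) {a : F} (ha : a * a ^ q = -1) :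
    (PU hF (m + 2)).ok (uv a) 0 := by
  rw [sing_iff, herm_uv_uv, ha, add_neg_cancel]

theorem herm_single_two (hF : Fintype.card F = q ^ 2) (a b : F) (i : Fin m) :
    hermForm (m + 2) F q (uv a) (Pi.single i.succ.succ b) = 0 := by
  rw [herm_single_right hF, uv_succ, zero_mul]

/-- centre of the radical -/
theorem cen_coord (hF : Fintype.card F = q ^ 2) {a : F} (ha : a * a ^ q = -1)
    (w : Fin (m + 2) → F) (hw : hermForm (m + 2) F q (uv a) w = 0)
    (h : ∀ A : Fin (m + 2) → F, hermForm (m + 2) F q (uv a) A = 0 →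
      (hermForm (m + 2) F q A w) ^ q = hermForm (m + 2) F q A w) : ∃ b : F, w = b • uv a := by
  apply in_plane hF ha hw
  intro i
  obtain ⟨y, hy⟩ := exists_not_fixed hF
  have h1 := h (Pi.single i.succ.succ 1) (herm_single_two hF a 1 i)
  have h2 := h (Pi.single i.succ.succ y) (herm_single_two hF a y i)
  rw [herm_single_left] at h1 h2
  rw [one_mul] at h1
  rw [mul_pow, h1] at h2
  by_contra h0
  have h3 : w i.succ.succ ^ q ≠ 0 := fun h => h0 ((pow_q_eq_zero hF).1 h)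
  exact hy (mul_right_cancel₀ h3 h2)

/-- The size of the centre. -/
theorem card_ZU_le (hF : Fintype.card F = q ^ 2) [CharP F 2] {a : F} (ha : a * a ^ q = -1) :
    Nat.card (ZU (PU hF (m + 2)) (uv a) (uv_ok hF ha)) ≤ q := by
  have h2 : ∀ c : F, c + c = 0 := fun c => CharTwo.add_self_eq_zero c
  refine le_trans (Nat.card_le_card_of_surjective (fun c : {x : F // x ^ q = x} =>
    (⟨(HU hF (m + 2)).sie (uv a) 0 c ((PU hF (m + 2)).iso (uv_ok hF ha))
      ((HU hF (m + 2)).zero_right _), c, ?_, rfl⟩ :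
      ZU (PU hF (m + 2)) (uv a) (uv_ok hF ha))) ?_) (card_fixed hF).le
  · rw [ok_iff, herm_zero_left, neg_zero, c.2]
    exact h2 _
  · rintro ⟨_, c, hc, rfl⟩
    refine ⟨⟨c, ?_⟩, rfl⟩
    rw [ok_iff, herm_zero_left, neg_zero] at hc
    have h3 := h2 c
    linear_combination hc - h3

/-- the vector with zero first coordinates -/
def wv (f : Fin m → F) : Fin (m + 2) → F := Fin.cons 0 (Fin.cons 0 f)

theorem wv_zero (f : Fin m → F) : wv f 0 = 0 := rfl
theorem wv_one (f : Fin m → F) : wv f 1 = 0 := rfl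
theorem wv_succ (f : Fin m → F) (i : Fin m) : wv f i.succ.succ = f i := rfl

theorem herm_uv_wv (hF : Fintype.card F = q ^ 2) (a : F) (f : Fin m → F) :
    hermForm (m + 2) F q (uv a) (wv f) = 0 := by
  rw [herm_uv_left, wv_zero, wv_one, zero_pow_q hF, mul_zero, add_zero]

/-- The size of the radical. -/
theorem card_QU_ge (hF : Fintype.card F = q ^ 2) {a : F} (ha : a * a ^ q = -1)
    {v : Fin (m + 2) → F} (hv : hermForm (m + 2) F q v (uv a) ≠ 0) :
    q ^ (2 * m) * Nat.card (ZU (PU hF (m + 2)) (uv a) (uv_ok hF ha)) ≤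
      Nat.card (QU (PU hF (m + 2)) (uv a) (uv_ok hF ha)) := by
  classical
  have hfin : Finite ((Fin (m + 2) → F) ≃ₗ[F] (Fin (m + 2) → F)) := instFin
  have h1 : q ^ (2 * m) = Nat.card (Fin m → F) := by
    rw [Nat.card_eq_fintype_card, Fintype.card_fun, hF, Fintype.card_fin, ← pow_mul]
  rw [h1, ← Nat.card_prod]
  have huu := (PU hF (m + 2)).iso (uv_ok hF ha)
  choose d hd using (fun f : Fin m → F => (PU hF (m + 2)).ex (wv f))
  let g : (Fin m → F) → QU (PU hF (m + 2)) (uv a) (uv_ok hF ha) := fun f =>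
    ⟨(HU hF (m + 2)).sie (uv a) (wv f) (d f) huu (herm_uv_wv hF a f),
      wv f, d f, herm_uv_wv hF a f, hd f, rfl⟩
  refine Nat.card_le_card_of_injective
    (fun fz : (Fin m → F) × ZU (PU hF (m + 2)) (uv a) (uv_ok hF ha) =>
      g fz.1 * ⟨fz.2, ZU_le fz.2.2⟩) ?_
  rintro ⟨f, ⟨z, c, hc, rfl⟩⟩ ⟨f', ⟨z', c', hc', rfl⟩⟩ hff
  have h2 := congrArg Subtype.val hff
  change (HU hF (m + 2)).sie (uv a) (wv f) (d f) huu (herm_uv_wv hF a f) *
    (HU hF (m + 2)).sie (uv a) 0 c huu (HForm.zero_right _ _) = (HU hF (m + 2)).sie (uv a) (wv f') (d f') huu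
      (herm_uv_wv hF a f') * (HU hF (m + 2)).sie (uv a) 0 c' huu
      (HForm.zero_right _ _) at h2
  have h2' := h2
  have e1 := (HU hF (m + 2)).sie_mul (uv a) (wv f) 0 (d f) c huu (herm_uv_wv hF a f)
    (HForm.zero_right _ _)
  have e2 := (HU hF (m + 2)).sie_mul (uv a) (wv f') 0 (d f') c' huu (herm_uv_wv hF a f')
    (HForm.zero_right _ _)
  obtain ⟨b, hb⟩ := sie_eq huu (v := v) hv ((e1.symm.trans h2).trans e2)
  rw [add_zero, add_zero] at hb
  have hb0 : b = 0 := by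
    have := congrFun hb 0
    rw [Pi.sub_apply, wv_zero, wv_zero, sub_zero, Pi.smul_apply, uv_zero, smul_eq_mul,
      mul_one] at this
    exact this.symm
  have hf : f = f' := by
    funext i
    have := congrFun hb i.succ.succ
    rw [Pi.sub_apply, wv_succ, wv_succ, hb0, zero_smul, Pi.zero_apply] at this
    exact sub_eq_zero.1 this
  subst hf
  have h3 := mul_left_cancel h2'
  rw [Prod.mk.injEq]
  exact ⟨rfl, Subtype.ext h3⟩

/-- The radical is a Heisenberg group with all properties. -/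
theorem heisG (hF : Fintype.card F = q ^ 2) [CharP F 2] (hm : 2 ≤ m) (hq : m = 2 → 3 ≤ q)
    {a : F} (ha : a * a ^ q = -1) {x : (Fin (m + 2) → F) ≃ₗ[F] (Fin (m + 2) → F)}
    (hx : x ∈ SG (PU hF (m + 2))) {l : Fin m → F} (hl : ∀ i, l i ≠ 1)
    (hx0 : ∀ v, x v 0 = v 0) (hx1 : ∀ v, x v 1 = v 1)
    (hx2 : ∀ v, ∀ i : Fin m, x v i.succ.succ = l i * v i.succ.succ) :
    HeisG x (QU (PU hF (m + 2)) (uv a) (uv_ok hF ha)) (ZU (PU hF (m + 2)) (uv a) (uv_ok hF ha)) := by
  obtain ⟨hxi, hxok, hxok'⟩ := SG_iso hx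
  have hq2 := two_le hF
  obtain ⟨v, hv⟩ : ∃ v, (HU hF (m + 2)).h v (uv a) ≠ 0 := by
    obtain ⟨w, hw⟩ := nd_HU hF (uv a) (fun h => one_ne_zero (α := F) ((uv_zero (m := m) a).symm.trans (congrFun h 0)))
    exact ⟨w, fun h => hw ((HU hF (m + 2)).orth_symm h)⟩
  have hxu : x (uv a) = uv a := by
    funext i
    refine Fin.cases (hx0 _) (fun i => ?_) i
    refine Fin.cases (hx1 _) (fun i => ?_) i
    rw [hx2, uv_succ, mul_zero]
  refine ⟨heis_of hxi hxok hxok' hxu hv ?_, ?_, ?_, ?_⟩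
  · intro w hw b hb
    apply in_plane hF ha hw
    have hb0 : b = 0 := by
      have := congrFun hb 0
      rw [Pi.sub_apply, hx0, sub_self, Pi.smul_apply, uv_zero, smul_eq_mul, mul_one] at this
      exact this.symm
    intro i
    have := congrFun hb i.succ.succ
    rw [Pi.sub_apply, hx2, hb0, zero_smul, Pi.zero_apply] at this
    have h3 : (l i - 1) * w i.succ.succ = 0 := by rw [sub_mul, one_mul]; exact this
    exact (mul_eq_zero.1 h3).resolve_left (sub_ne_zero.2 (hl i))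
  · have i0 : Fin m := ⟨0, by omega⟩
    apply comm_of (lam_PU hF) (e := Pi.single i0.succ.succ 1)
    · exact herm_single_two hF a 1 i0
    · rw [HU_h, herm_single_left, Pi.single_eq_same, one_pow, mul_one]
      exact one_ne_zero
  · apply cen_of hv
    intro w hw h
    apply cen_coord hF ha w hw
    intro A hA
    have := h A hA
    rw [HU_ε, inv_one, one_mul] at this
    exact this
  · have h1 := card_QU_ge hF ha (v := v) hv
    have h2 := card_ZU_le (m := m) hF ha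
    obtain ⟨z, hz⟩ : ∃ z, z = Nat.card (ZU (PU hF (m + 2)) (uv a) (uv_ok hF ha)) := ⟨_, rfl⟩
    rw [← hz] at h1 h2 ⊢
    have h3 : 8 * z ^ 2 ≤ q ^ (2 * m) := by
      have h4 : z ^ 2 ≤ q ^ 2 := Nat.pow_le_pow_left h2 2
      have h5 : 8 * q ^ 2 ≤ q ^ (2 * m) := by
        rcases Nat.lt_or_ge 2 m with hm3 | hm3
        · have e1 : q ^ 6 ≤ q ^ (2 * m) := Nat.pow_le_pow_right (by omega) (by omega)
          have e2 : 8 * q ^ 2 ≤ q ^ 6 := by
            have e3 : 2 ^ 4 ≤ q ^ 4 := Nat.pow_le_pow_left hq2 4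
            calc 8 * q ^ 2 ≤ q ^ 4 * q ^ 2 := Nat.mul_le_mul_right _ (by omega)
              _ = q ^ 6 := by ring
          exact e2.trans e1
        · have hm2 : m = 2 := by omega
          have hq3 := hq hm2
          rw [hm2]
          have e3 : 3 ^ 2 ≤ q ^ 2 := Nat.pow_le_pow_left hq3 2
          calc 8 * q ^ 2 ≤ q ^ 2 * q ^ 2 := Nat.mul_le_mul_right _ (by omega)
            _ = q ^ (2 * 2) := by ring
      omega
    calc 8 * z ^ 3 = 8 * z ^ 2 * z := by ring
      _ ≤ q ^ (2 * m) * z := Nat.mul_le_mul_right _ h3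
      _ ≤ _ := h1

/-- exponents -/
theorem exists_exp : ∀ m : ℕ, 2 ≤ m → ∃ f : Fin m → ℕ, (∀ i, f i = 1 ∨ f i = 2) ∧
    3 ∣ ∑ i, f i := by
  intro m
  induction m using Nat.strong_induction_on with
  | _ m ih =>
    intro hm
    rcases Nat.lt_or_ge m 4 with h | h
    · interval_cases m
      · exact ⟨![1, 2], by decide, by decide⟩
      · exact ⟨![1, 1, 1], by decide, by decide⟩
    · obtain ⟨k, rfl⟩ : ∃ k, m = k + 2 := ⟨m - 2, by omega⟩
      obtain ⟨f, hf, hs⟩ := ih k (by omega) (by omega)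
      refine ⟨Fin.cons 1 (Fin.cons 2 f), ?_, ?_⟩
      · intro i
        refine Fin.cases (Or.inl rfl) (fun i => ?_) i
        refine Fin.cases (Or.inr rfl) (fun i => ?_) i
        exact hf i
      · rw [Fin.sum_univ_succ, Fin.sum_univ_succ]
        change 3 ∣ 1 + (2 + ∑ i : Fin k, f i)
        omega

/-- **The row for `SU`.** -/
theorem uGood_SG (hF : Fintype.card F = q ^ 2) [CharP F 2] (h3 : 3 ∣ q + 1) (hm : 2 ≤ m)
    (hq : m = 2 → 3 ≤ q) : ∃ x : SG (PU hF (m + 2)), x ^ 3 = 1 ∧ UGood 1 4 x := by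
  classical
  have hfin : Finite ((Fin (m + 2) → F) ≃ₗ[F] (Fin (m + 2) → F)) := instFin
  have hm1 : (-1 : F) = 1 := by
    have := CharTwo.add_self_eq_zero (1 : F)
    linear_combination (-1) * this
  -- a cube root of unity
  obtain ⟨w, hw3, hw1⟩ : ∃ w : F, w ^ 3 = 1 ∧ w ≠ 1 := by
    have h4 : 3 ∣ Nat.card Fˣ := by
      rw [card_units_eq hF]
      exact Dvd.dvd.mul_right h3 _
    have := Fact.mk Nat.prime_three
    obtain ⟨g, hg⟩ := exists_prime_orderOf_dvd_card' 3 h4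
    refine ⟨g, ?_, ?_⟩
    · have := pow_orderOf_eq_one g
      rw [hg] at this
      have h5 := congrArg Units.val this
      simpa only [_root_.Units.val_pow_eq_pow_val, _root_.Units.val_one] using h5
    · intro h
      have : g = 1 := Units.ext h
      rw [this, orderOf_one] at hg
      norm_num at hg
  have hwq : w ^ (q + 1) = 1 := by
    obtain ⟨c, hc⟩ := h3
    rw [hc, pow_mul, hw3, one_pow]
  obtain ⟨f, hf, hs⟩ := exists_exp m hm
  obtain ⟨lam, hlam⟩ : ∃ lam : Fin (m + 2) → F,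
    lam = fun i => w ^ ((Fin.cons 0 (Fin.cons 0 f) : Fin (m + 2) → ℕ) i) := ⟨_, rfl⟩
  have hd : ∏ i, lam i = 1 := by
    rw [hlam]
    rw [Fin.prod_univ_succ, Fin.prod_univ_succ]
    change w ^ 0 * (w ^ 0 * ∏ i : Fin m, w ^ f i) = 1
    rw [pow_zero, one_mul, one_mul, Finset.prod_pow_eq_pow_sum]
    obtain ⟨c, hc⟩ := hs
    rw [hc, pow_mul, hw3, one_pow]
  have ha : ∀ i, lam i ^ (q + 1) = 1 := by
    intro i
    rw [hlam]
    change (w ^ _) ^ (q + 1) = 1
    rw [← pow_mul, mul_comm, pow_mul, hwq, one_pow]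
  obtain ⟨X, hX⟩ : ∃ X, X = toLin F q (m + 2) (Cfsg.Agent.LieClassical.SUBasic.suDiag q lam hd ha) :=
    ⟨_, rfl⟩
  have hXv : ∀ v i, X v i = lam i * v i := by
    intro v i
    rw [hX, toLin_apply, act_def]
    exact Matrix.mulVec_diagonal _ _ _
  have hXS : X ∈ SG (PU hF (m + 2)) := by
    rw [SG_PU hF (by omega), hX]
    exact ⟨_, rfl⟩
  have hl : ∀ i, w ^ f i ≠ 1 := by
    intro i h
    rcases hf i with h1 | h1
    · rw [h1, pow_one] at h
      exact hw1 h
    · rw [h1] at h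
      apply hw1
      have : w ^ 3 = w ^ 2 * w := by ring
      rw [h, one_mul, hw3] at this
      exact this.symm
  have hx0 : ∀ v, X v 0 = v 0 := by
    intro v
    rw [hXv, hlam]
    change w ^ 0 * v 0 = v 0
    rw [pow_zero, one_mul]
  have hx1 : ∀ v, X v 1 = v 1 := by
    intro v
    rw [hXv, hlam]
    change w ^ 0 * v 1 = v 1
    rw [pow_zero, one_mul]
  have hx2 : ∀ v, ∀ i : Fin m, X v i.succ.succ = w ^ f i * v i.succ.succ := by
    intro v i
    rw [hXv, hlam]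
    rfl
  have hX3 : X ^ 3 = 1 := by
    ext v i
    have h4 : ∀ n : ℕ, (X ^ n) v i = lam i ^ n * v i := by
      intro n
      induction n with
      | zero => rw [pow_zero, pow_zero, one_mul]; rfl
      | succ n ih =>
        rw [pow_succ']
        change X ((X ^ n) v) i = _
        rw [hXv, ih, pow_succ']
        ring
    rw [h4, hlam]
    change (w ^ _) ^ 3 * v i = v i
    rw [← pow_mul, mul_comm _ 3, pow_mul, hw3, one_pow, one_mul]
  -- the two isotropic vectors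
  have ha1 : (1 : F) * 1 ^ q = -1 := by rw [hm1, one_pow, mul_one]
  have haw : w * w ^ q = -1 := by rw [hm1, ← pow_succ', hwq]
  have H1 := heisG hF hm hq ha1 hXS hl hx0 hx1 hx2
  have H2 := heisG hF hm hq haw hXS hl hx0 hx1 hx2
  have hh : hermForm (m + 2) F q (uv 1) (uv w) ≠ 0 := by
    rw [herm_uv_uv, one_mul]
    intro h
    apply hw1
    have h5 : w ^ q = 1 := by linear_combination h + hm1
    rw [h5, mul_one, hm1] at haw
    exact haw
  have hh' : hermForm (m + 2) F q (uv w) (uv 1) ≠ 0 := fun h => hh (herm_eq_zero_swap hF h)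
  refine ⟨⟨X, hXS⟩, Subtype.ext hX3, ?_⟩
  refine heis_quarter_sub (k := 1) hXS (by rw [pow_one]; exact hX3) H1 H2 QU_le_SG QU_le_SG ?_ ?_
  · exact fun D hD z hz hz1 hzD => gen_of hh (fun v _ hv => nd_HU hF v hv) D hD z hz hz1 hzD
  · exact fun D hD z hz hz1 hzD => gen_of hh' (fun v _ hv => nd_HU hF v hv) D hD z hz hz1 hzD

/-- **The row for `PSU_n(q)`**, `q` even, `3 ∣ q + 1`, `n ≥ 4`, `(n, q) ≠ (4, 2)`, `p = 3`. -/
theorem row_psu_three {n : ℕ} (hF : Fintype.card F = q ^ 2) [CharP F 2] (h3 : 3 ∣ q + 1)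
    (hn : 4 ≤ n) (hnq : ¬ (n = 4 ∧ q = 2)) : FprRow 4 1 3 (PSU n F q) := by
  obtain ⟨m, rfl⟩ : ∃ m, n = m + 2 := ⟨n - 2, by omega⟩
  have hfin : Finite ((Fin (m + 2) → F) ≃ₗ[F] (Fin (m + 2) → F)) := instFin
  have hq2 := two_le hF
  obtain ⟨x, hx3, hx⟩ := uGood_SG (m := m) hF h3 (by omega) (by
    intro hm
    by_contra hcon
    exact hnq ⟨by omega, by omega⟩)
  have e : SG (PU hF (m + 2)) ≃* SU (m + 2) F q :=
    ((MonoidHom.ofInjective (toLin_injective (F := F) (q := q) (N := m + 2))).trans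
      (MulEquiv.subgroupCongr (SG_PU hF (by omega)).symm)).symm
  let f : SG (PU hF (m + 2)) →* PSU (m + 2) F q :=
    (QuotientGroup.mk' (Subgroup.center (SU (m + 2) F q))).comp e.toMonoidHom
  have hf : Function.Surjective f := (QuotientGroup.mk'_surjective _).comp e.surjective
  refine FprRow.of_surjective Nat.prime_three f hf ?_
  intro H hH
  refine ⟨x, ?_, hx H hH⟩
  have h4 : orderOf x ∣ 3 ^ 1 := by
    rw [pow_one]
    exact orderOf_dvd_of_pow_eq_one hx3
  obtain ⟨k, -, hk⟩ := (Nat.dvd_prime_pow Nat.prime_three).1 h4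
  exact ⟨k, hk⟩

end Coord

end Cfsg.Agent.H452.FprPsuN
end

-- part: H452/FprTT
section
/-!
# The radical of a totally singular plane in characteristic two, `p = 3`

`x` acts on `T = ⟨e₁, e₂⟩` as an element of order three of `SL(T)`, and trivially on
`M = ⟨e₁, e₂, f₁, f₂⟩^⊥`.
-/

set_option autoImplicit false
open Subgroup MulAction

namespace Cfsg.Agent.H452.FprTT

open Cfsg.Agent.H398.FPR Cfsg.Agent.H452.FprHeis Cfsg.Agent.H452.FprPsuN Cfsg.Agent.H110.Fpr
open Cfsg.Agent.TitsThree.Siegel Cfsg.Agent.TitsThree.SiegelGen Cfsg.Agent.H409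

variable {F : Type*} [Field F] {V : Type*} [AddCommGroup V] [Module F V]
variable {H : HForm F V} {P : PQ H}

/-- Two hyperbolic pairs. -/
structure Fr (P : PQ H) (e1 e2 f1 f2 : V) : Prop where
  se1 : P.ok e1 0
  se2 : P.ok e2 0
  sf1 : P.ok f1 0
  sf2 : P.ok f2 0
  h11 : H.h e1 f1 = 1
  h22 : H.h e2 f2 = 1
  h12 : H.h e1 f2 = 0
  h21 : H.h e2 f1 = 0
  hee : H.h e1 e2 = 0
  hff : H.h f1 f2 = 0

theorem sw (hA : Alt2 H) (v w : V) : H.h w v = H.h v w := by
  rw [H.swap v w, hA.eps, hA.sig, one_mul]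

theorem neg_eq (hA : Alt2 H) (x : F) : -x = x := by
  have := hA.add_self x
  linear_combination -this

/-- the opposite frame -/
theorem Fr.symm {e1 e2 f1 f2 : V} (hA : Alt2 H) (h : Fr P e1 e2 f1 f2) : Fr P f1 f2 e1 e2 where
  se1 := h.sf1
  se2 := h.sf2
  sf1 := h.se1
  sf2 := h.se2
  h11 := by rw [sw hA, h.h11]
  h22 := by rw [sw hA, h.h22]
  h12 := by rw [sw hA, h.h21]
  h21 := by rw [sw hA, h.h12]
  hee := h.hff
  hff := h.hee

/-- membership in `M` -/
def InM (H : HForm F V) (e1 e2 f1 f2 m : V) : Prop :=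
  H.h m e1 = 0 ∧ H.h m e2 = 0 ∧ H.h m f1 = 0 ∧ H.h m f2 = 0

section

variable {e1 e2 f1 f2 : V}

/-- Projection on `M`. -/
theorem Fr.proj (hA : Alt2 H) (h : Fr P e1 e2 f1 f2) (v : V) : ∃ m, InM H e1 e2 f1 f2 m ∧
    v = m + (H.h v f1 • e1 + H.h v f2 • e2 + H.h v e1 • f1 + H.h v e2 • f2) := by
  have he11 := P.iso h.se1
  have he22 := P.iso h.se2
  have hf11 := P.iso h.sf1
  have hf22 := P.iso h.sf2
  refine ⟨v - (H.h v f1 • e1 + H.h v f2 • e2 + H.h v e1 • f1 + H.h v e2 • f2), ?_, by abel⟩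
  refine ⟨?_, ?_, ?_, ?_⟩
  · simp only [H.sub_left, H.add_left, H.smul_left, he11, sw hA e1 e2, h.hee, sw hA e1 f1, h.h11,
      sw hA e1 f2, h.h12]
    ring
  · simp only [H.sub_left, H.add_left, H.smul_left, he22, h.hee, sw hA e2 f1, h.h21,
      sw hA e2 f2, h.h22]
    ring
  · simp only [H.sub_left, H.add_left, H.smul_left, hf11, h.h11, h.h21, sw hA f1 f2, h.hff]
    ring
  · simp only [H.sub_left, H.add_left, H.smul_left, hf22, h.h12, h.h22, h.hff]
    ring

/-- Coordinates of an element of the radical. -/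
structure Dat (H : HForm F V) (e1 e2 f1 f2 : V) (g : V ≃ₗ[F] V) (m1 m2 : V) (a b c d : F) :
    Prop where
  i1 : InM H e1 e2 f1 f2 m1
  i2 : InM H e1 e2 f1 f2 m2
  ge1 : g e1 = e1
  ge2 : g e2 = e2
  gf1 : g f1 = f1 + m1 + a • e1 + b • e2
  gf2 : g f2 = f2 + m2 + c • e1 + d • e2
  gm : ∀ m, InM H e1 e2 f1 f2 m → g m = m + H.h m m1 • e1 + H.h m m2 • e2

/-- Linear maps agreeing on the frame and `M` are equal. -/
theorem Fr.ext (hA : Alt2 H) (h : Fr P e1 e2 f1 f2) {g g' : V ≃ₗ[F] V} (he1 : g e1 = g' e1)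
    (he2 : g e2 = g' e2) (hf1 : g f1 = g' f1) (hf2 : g f2 = g' f2)
    (hm : ∀ m, InM H e1 e2 f1 f2 m → g m = g' m) : g = g' := by
  apply LinearEquiv.ext
  intro v
  obtain ⟨m, hm', hv⟩ := h.proj hA v
  rw [hv]
  simp only [map_add, map_smul, he1, he2, hf1, hf2, hm m hm']

theorem Dat.ext (hA : Alt2 H) (h : Fr P e1 e2 f1 f2) {g g' : V ≃ₗ[F] V} {m1 m2 : V} {a b c d : F}
    (hg : Dat H e1 e2 f1 f2 g m1 m2 a b c d) (hg' : Dat H e1 e2 f1 f2 g' m1 m2 a b c d) :
    g = g' := by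
  apply h.ext hA
  · rw [hg.ge1, hg'.ge1]
  · rw [hg.ge2, hg'.ge2]
  · rw [hg.gf1, hg'.gf1]
  · rw [hg.gf2, hg'.gf2]
  · intro m hm
    rw [hg.gm m hm, hg'.gm m hm]

theorem InM.add {m m' : V} (h : InM H e1 e2 f1 f2 m) (h' : InM H e1 e2 f1 f2 m') :
    InM H e1 e2 f1 f2 (m + m') := by
  refine ⟨?_, ?_, ?_, ?_⟩
  · rw [H.add_left, h.1, h'.1, add_zero]
  · rw [H.add_left, h.2.1, h'.2.1, add_zero]
  · rw [H.add_left, h.2.2.1, h'.2.2.1, add_zero]
  · rw [H.add_left, h.2.2.2, h'.2.2.2, add_zero]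

theorem InM.smul {m : V} (s : F) (h : InM H e1 e2 f1 f2 m) : InM H e1 e2 f1 f2 (s • m) := by
  refine ⟨?_, ?_, ?_, ?_⟩
  · rw [H.smul_left, h.1, mul_zero]
  · rw [H.smul_left, h.2.1, mul_zero]
  · rw [H.smul_left, h.2.2.1, mul_zero]
  · rw [H.smul_left, h.2.2.2, mul_zero]

theorem InM.zero : InM H e1 e2 f1 f2 0 :=
  ⟨H.zero_left _, H.zero_left _, H.zero_left _, H.zero_left _⟩

theorem InM.neg {m : V} (h : InM H e1 e2 f1 f2 m) : InM H e1 e2 f1 f2 (-m) := by
  refine ⟨?_, ?_, ?_, ?_⟩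
  · rw [H.neg_left, h.1, neg_zero]
  · rw [H.neg_left, h.2.1, neg_zero]
  · rw [H.neg_left, h.2.2.1, neg_zero]
  · rw [H.neg_left, h.2.2.2, neg_zero]

/-- Product of two elements. -/
theorem Dat.mul {g g' : V ≃ₗ[F] V} {m1 m2 m1' m2' : V} {a b c d a' b' c' d' : F}
    (hg : Dat H e1 e2 f1 f2 g m1 m2 a b c d) (hg' : Dat H e1 e2 f1 f2 g' m1' m2' a' b' c' d') :
    Dat H e1 e2 f1 f2 (g * g') (m1 + m1') (m2 + m2') (a + a' + H.h m1' m1) (b + b' + H.h m1' m2)
      (c + c' + H.h m2' m1) (d + d' + H.h m2' m2) where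
  i1 := hg.i1.add hg'.i1
  i2 := hg.i2.add hg'.i2
  ge1 := by
    change g (g' e1) = e1
    rw [hg'.ge1, hg.ge1]
  ge2 := by
    change g (g' e2) = e2
    rw [hg'.ge2, hg.ge2]
  gf1 := by
    change g (g' f1) = _
    rw [hg'.gf1]
    simp only [map_add, map_smul, hg.ge1, hg.ge2, hg.gf1, hg.gm _ hg'.i1]
    module
  gf2 := by
    change g (g' f2) = _
    rw [hg'.gf2]
    simp only [map_add, map_smul, hg.ge1, hg.ge2, hg.gf2, hg.gm _ hg'.i2]
    module
  gm m hm := by
    change g (g' m) = _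
    rw [hg'.gm m hm]
    simp only [map_add, map_smul, hg.ge1, hg.ge2, hg.gm _ hm, H.add_right]
    module

theorem Dat.one : Dat H e1 e2 f1 f2 1 0 0 0 0 0 0 where
  i1 := InM.zero
  i2 := InM.zero
  ge1 := rfl
  ge2 := rfl
  gf1 := by
    change f1 = _
    module
  gf2 := by
    change f2 = _
    module
  gm m _ := by
    change m = _
    rw [H.zero_right]
    module

/-- Inverse. -/
theorem Dat.inv (hA : Alt2 H) {g : V ≃ₗ[F] V} {m1 m2 : V} {a b c d : F}
    (hg : Dat H e1 e2 f1 f2 g m1 m2 a b c d) :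
    Dat H e1 e2 f1 f2 g⁻¹ (-m1) (-m2) (-a) (H.h m1 m2 - b) (H.h m2 m1 - c) (-d) := by
  have key : ∀ v w : V, g w = v → g⁻¹ v = w := by
    rintro v w rfl
    exact g.symm_apply_apply w
  have i1' := hg.i1.neg
  have i2' := hg.i2.neg
  refine ⟨hg.i1.neg, hg.i2.neg, key _ _ hg.ge1, key _ _ hg.ge2, key _ _ ?_, key _ _ ?_, ?_⟩
  · simp only [map_add, map_smul, hg.ge1, hg.ge2, hg.gf1, hg.gm _ hg.i1.neg, H.neg_left, hA.alt]
    module
  · simp only [map_add, map_smul, hg.ge1, hg.ge2, hg.gf2, hg.gm _ hg.i2.neg, H.neg_left, hA.alt]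
    module
  · intro m hm
    apply key
    simp only [map_add, map_smul, hg.ge1, hg.ge2, hg.gm _ hm, H.neg_right]
    module

/-- Coordinates of a Siegel element with `u = s e₁ + t e₂`, `w = m₀ + a e₁ + b e₂`. -/
theorem dat_sie (hA : Alt2 H) (h : Fr P e1 e2 f1 f2) (s t a b c : F) {m u w : V}
    (hm : InM H e1 e2 f1 f2 m) (hu : u = s • e1 + t • e2) (hw : w = m + a • e1 + b • e2)
    (huu : H.h u u = 0) (huw : H.h u w = 0) :
    Dat H e1 e2 f1 f2 (H.sie u w c huu huw) (s • m) (t • m)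
      (c * s * s) (s * b + a * t + c * s * t) (t * a + b * s + c * t * s) (c * t * t) := by
  subst hu hw
  have he11 := P.iso h.se1
  have he22 := P.iso h.se2
  have he21 : H.h e2 e1 = 0 := by rw [sw hA, h.hee]
  have hm' : ∀ {v}, H.h m v = 0 → H.h v m = 0 := fun hv => by rw [sw hA, hv]
  have hf1e1 : H.h f1 e1 = 1 := by rw [sw hA, h.h11]
  have hf1e2 : H.h f1 e2 = 0 := by rw [sw hA, h.h21]
  have hf2e1 : H.h f2 e1 = 0 := by rw [sw hA, h.h12]
  have hf2e2 : H.h f2 e2 = 1 := by rw [sw hA, h.h22]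
  have ca : ∀ x : F, x + x = 0 := hA.add_self
  constructor
  · exact hm.smul s
  · exact hm.smul t
  · rw [H.sie_apply]
    simp only [H.add_right, H.smul_right, he11, h.hee, hm' hm.1, mul_zero, add_zero, zero_smul,
      sub_zero]
  · rw [H.sie_apply]
    simp only [H.add_right, H.smul_right, he21, he22, hm' hm.2.1, mul_zero, add_zero, zero_smul,
      sub_zero]
  · rw [H.sie_apply]
    simp only [H.add_right, H.smul_right, hf1e1, hf1e2, hm' hm.2.2.1, hA.sig, hA.eps, inv_one,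
      one_mul, mul_zero, mul_one, add_zero, zero_add]
    rw [sub_eq_add_neg, ← neg_smul, neg_eq hA]
    have e1' : c * s * s = c * s * s + (s * a + a * s) := by
      have := ca (s * a)
      linear_combination -this
    rw [e1']
    module
  · rw [H.sie_apply]
    simp only [H.add_right, H.smul_right, hf2e1, hf2e2, hm' hm.2.2.2, hA.sig, hA.eps, inv_one,
      one_mul, mul_zero, mul_one, add_zero, zero_add]
    rw [sub_eq_add_neg, ← neg_smul, neg_eq hA]
    have e1' : c * t * t = c * t * t + (t * b + b * t) := by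
      have := ca (t * b)
      linear_combination -this
    rw [e1']
    module
  · intro v hv
    rw [H.sie_apply]
    simp only [H.add_right, H.smul_right, hv.1, hv.2.1, hA.sig, hA.eps, inv_one,
      one_mul, mul_zero, mul_one, add_zero, zero_add, zero_smul]
    rw [sub_eq_add_neg, ← neg_smul, neg_eq hA]
    module

/-- Uniqueness of the coordinates. -/
theorem Dat.uniq (hA : Alt2 H) (h : Fr P e1 e2 f1 f2) {g : V ≃ₗ[F] V} {m1 m2 m1' m2' : V}
    {a b c d a' b' c' d' : F}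
    (hg : Dat H e1 e2 f1 f2 g m1 m2 a b c d) (hg' : Dat H e1 e2 f1 f2 g m1' m2' a' b' c' d') :
    m1 = m1' ∧ m2 = m2' ∧ a = a' ∧ b = b' ∧ c = c' ∧ d = d' := by
  have hf11 := P.iso h.sf1
  have hf22 := P.iso h.sf2
  have hf21 : H.h f2 f1 = 0 := by rw [sw hA, h.hff]
  have key : ∀ {n1 n2 : V} {p q r s : F}, Dat H e1 e2 f1 f2 g n1 n2 p q r s →
      H.h (g f1) f1 = p ∧ H.h (g f1) f2 = q ∧ H.h (g f2) f1 = r ∧ H.h (g f2) f2 = s := by
    intro n1 n2 p q r s hd
    refine ⟨?_, ?_, ?_, ?_⟩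
    · rw [hd.gf1]
      simp only [H.add_left, H.smul_left, hf11, hd.i1.2.2.1, h.h11, h.h21]; ring
    · rw [hd.gf1]
      simp only [H.add_left, H.smul_left, h.hff, hd.i1.2.2.2, h.h12, h.h22]; ring
    · rw [hd.gf2]
      simp only [H.add_left, H.smul_left, hf21, hd.i2.2.2.1, h.h11, h.h21]; ring
    · rw [hd.gf2]
      simp only [H.add_left, H.smul_left, hf22, hd.i2.2.2.2, h.h12, h.h22]; ring
  obtain ⟨k1, k2, k3, k4⟩ := key hg
  obtain ⟨l1, l2, l3, l4⟩ := key hg'
  have ea : a = a' := by rw [← k1, ← l1]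
  have eb : b = b' := by rw [← k2, ← l2]
  have ec : c = c' := by rw [← k3, ← l3]
  have ed : d = d' := by rw [← k4, ← l4]
  subst ea eb ec ed
  refine ⟨?_, ?_, rfl, rfl, rfl, rfl⟩
  · have h1 := hg.gf1
    rw [hg'.gf1] at h1
    exact (add_left_cancel (add_right_cancel (add_right_cancel h1))).symm
  · have h1 := hg.gf2
    rw [hg'.gf2] at h1
    exact (add_left_cancel (add_right_cancel (add_right_cancel h1))).symm

/-- The radical. -/
def QT (hA : Alt2 H) (P : PQ H) (e1 e2 f1 f2 : V) : Subgroup (V ≃ₗ[F] V) where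
  carrier := {g | g ∈ SG P ∧ ∃ (m1 m2 : V) (a b c d : F), Dat H e1 e2 f1 f2 g m1 m2 a b c d}
  one_mem' := ⟨one_mem _, _, _, _, _, _, _, Dat.one⟩
  mul_mem' := by
    rintro g g' ⟨hg, _, _, _, _, _, _, h⟩ ⟨hg', _, _, _, _, _, _, h'⟩
    exact ⟨mul_mem hg hg', _, _, _, _, _, _, h.mul h'⟩
  inv_mem' := by
    rintro g ⟨hg, _, _, _, _, _, _, h⟩
    exact ⟨inv_mem hg, _, _, _, _, _, _, h.inv hA⟩

theorem okT (hA : Alt2 H) (h : Fr P e1 e2 f1 f2) (s t : F) : P.ok (s • e1 + t • e2) 0 := by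
  refine P.congr (P.add (P.sing_smul h.se1 s) (P.sing_smul h.se2 t)) rfl ?_
  rw [H.smul_left, H.smul_right, sw hA, h.hee]
  ring

/-- the elements `z(t)` -/
theorem hz (hA : Alt2 H) (h : Fr P e1 e2 f1 f2) (t : F) : H.h e1 (t • e2) = 0 := by
  rw [H.smul_right, h.hee, mul_zero]

/-- The commutator subgroup of the radical. -/
def ZT (hA : Alt2 H) (h : Fr P e1 e2 f1 f2) : Subgroup (V ≃ₗ[F] V) where
  carrier := {g | ∃ t : F, g = H.sie e1 (t • e2) 0 (P.iso h.se1) (hz hA h t)}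
  one_mem' := ⟨0, by
    rw [← H.sie_zero e1 (P.iso h.se1)]
    exact H.sie_congr _ _ _ _ rfl (zero_smul F e2).symm rfl⟩
  mul_mem' := by
    rintro _ _ ⟨t, rfl⟩ ⟨s, rfl⟩
    refine ⟨t + s, ?_⟩
    rw [H.sie_mul]
    apply H.sie_congr _ _ _ _ rfl (add_smul t s e2).symm
    rw [H.smul_left, H.smul_right, P.iso h.se2]
    ring
  inv_mem' := by
    rintro _ ⟨t, rfl⟩
    refine ⟨-t, ?_⟩
    rw [H.sie_inv]
    apply H.sie_congr _ _ _ _ rfl (neg_smul t e2).symm
    rw [H.smul_left, H.smul_right, P.iso h.se2]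
    ring

theorem dat_z (hA : Alt2 H) (h : Fr P e1 e2 f1 f2) (t : F) :
    Dat H e1 e2 f1 f2 (H.sie e1 (t • e2) 0 (P.iso h.se1) (hz hA h t)) 0 0 0 t t 0 := by
  have h1 := dat_sie hA h 1 0 0 t 0 (m := 0) (u := e1) (w := t • e2) InM.zero (by module)
    (by module) (P.iso h.se1) (hz hA h t)
  rw [smul_zero, smul_zero] at h1
  have e1 : (0 : F) * 1 * 1 = 0 := by ring
  have e2 : (1 : F) * t + 0 * 0 + 0 * 1 * 0 = t := by ring
  have e3 : (0 : F) * 0 + t * 1 + 0 * 0 * 1 = t := by ring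
  have e4 : (0 : F) * 0 * 0 = 0 := by ring
  rwa [e1, e2, e3, e4] at h1

theorem z_mem_ZT (hA : Alt2 H) (h : Fr P e1 e2 f1 f2) {g : V ≃ₗ[F] V} {t : F}
    (hg : Dat H e1 e2 f1 f2 g 0 0 0 t t 0) : g ∈ ZT hA h :=
  ⟨t, hg.ext hA h (dat_z hA h t)⟩

theorem ZT_le (hA : Alt2 H) (h : Fr P e1 e2 f1 f2) : ZT hA h ≤ QT hA P e1 e2 f1 f2 := by
  rintro _ ⟨t, rfl⟩
  exact ⟨sie_mem_SG P _ _ h.se1 (P.sing_smul h.se2 t), _, _, _, _, _, _, dat_z hA h t⟩

/-- The commutator formula. -/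
theorem comm_formula (hA : Alt2 H) (h : Fr P e1 e2 f1 f2) {g g' : V ≃ₗ[F] V}
    {m1 m2 m1' m2' : V} {a b c d a' b' c' d' : F}
    (hg : Dat H e1 e2 f1 f2 g m1 m2 a b c d) (hg' : Dat H e1 e2 f1 f2 g' m1' m2' a' b' c' d') :
    g * g' = H.sie e1 ((H.h m1' m2 + H.h m1 m2') • e2) 0 (P.iso h.se1) (hz hA h _) * (g' * g) := by
  have h1 := hg.mul hg'
  have h2 := (dat_z hA h (H.h m1' m2 + H.h m1 m2')).mul (hg'.mul hg)
  obtain ⟨t, ht⟩ : ∃ t, t = H.h m1' m2 + H.h m1 m2' := ⟨_, rfl⟩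
  rw [← ht] at h2 ⊢
  apply h1.ext hA h
  have e1 : (0 : V) + (m1' + m1) = m1 + m1' := by abel
  have e2 : (0 : V) + (m2' + m2) = m2 + m2' := by abel
  rw [e1, e2] at h2
  simp only [H.zero_right, add_zero, zero_add] at h2
  have e3 : a' + a + H.h m1 m1' = a + a' + H.h m1' m1 := by rw [sw hA m1 m1']; ring
  have e4 : t + (b' + b + H.h m1 m2') = b + b' + H.h m1' m2 := by
    rw [ht]
    have := hA.add_self (H.h m1 m2')
    linear_combination this
  have e5 : t + (c' + c + H.h m2 m1') = c + c' + H.h m2' m1 := by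
    rw [ht, sw hA m1' m2, sw hA m1 m2']
    have := hA.add_self (H.h m1' m2)
    linear_combination this
  have e6 : d' + d + H.h m2 m2' = d + d' + H.h m2' m2 := by rw [sw hA m2 m2']; ring
  rwa [e3, e4, e5, e6] at h2

/-! ### The element of order three -/

section three

/-- the element `x` -/
def xT (hA : Alt2 H) (h : Fr P e1 e2 f1 f2) : V ≃ₗ[F] V :=
  H.sie e2 f1 0 (P.iso h.se2) h.h21 * H.sie e1 f2 0 (P.iso h.se1) h.h12

theorem xT_apply (hA : Alt2 H) (h : Fr P e1 e2 f1 f2) (v : V) : xT hA h v =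
    H.sie e2 f1 0 (P.iso h.se2) h.h21 (H.sie e1 f2 0 (P.iso h.se1) h.h12 v) := rfl

theorem xT_mem (hA : Alt2 H) (h : Fr P e1 e2 f1 f2) : xT hA h ∈ SG P :=
  mul_mem (sie_mem_SG P _ _ h.se2 h.sf1) (sie_mem_SG P _ _ h.se1 h.sf2)

theorem xT_e1 (hA : Alt2 H) (h : Fr P e1 e2 f1 f2) : xT hA h e1 = e1 + e2 := by
  rw [xT_apply, H.sie_apply, H.sie_apply]
  simp only [P.iso h.se1, h.h12, h.h11, h.hee, hA.eps, inv_one, zero_smul, mul_zero,
    add_zero, sub_zero, mul_one, one_smul, zero_mul]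
  rw [sub_eq_add_neg, ← neg_one_smul F e2, neg_eq hA, one_smul]

theorem xT_e2 (hA : Alt2 H) (h : Fr P e1 e2 f1 f2) : xT hA h e2 = e1 := by
  have he21 : H.h e2 e1 = 0 := by rw [sw hA, h.hee]
  rw [xT_apply]
  have h1 : H.sie e1 f2 0 (P.iso h.se1) h.h12 e2 = e2 + e1 := by
    rw [H.sie_apply]
    simp only [he21, h.h22, hA.eps, inv_one, zero_smul, mul_zero,
      add_zero, mul_one, one_smul]
    rw [sub_eq_add_neg, ← neg_one_smul F e1, neg_eq hA, one_smul]
  rw [h1, H.sie_apply]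
  simp only [H.add_left, P.iso h.se2, h.h21, h.h11, h.hee, hA.eps, inv_one, zero_smul, mul_zero,
    add_zero, mul_one, one_smul, zero_add]
  abel

theorem xT_f1 (hA : Alt2 H) (h : Fr P e1 e2 f1 f2) : xT hA h f1 = f2 := by
  have hf1e1 : H.h f1 e1 = 1 := by rw [sw hA, h.h11]
  have hf1e2 : H.h f1 e2 = 0 := by rw [sw hA, h.h21]
  have hf2e2 : H.h f2 e2 = 1 := by rw [sw hA, h.h22]
  have hf21 : H.h f2 f1 = 0 := by rw [sw hA, h.hff]
  rw [xT_apply]
  have h1 : H.sie e1 f2 0 (P.iso h.se1) h.h12 f1 = f1 + f2 := by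
    rw [H.sie_apply]
    simp only [hf1e1, h.hff, hA.eps, inv_one, zero_smul, mul_zero,
      add_zero, mul_one, one_smul, sub_zero]
  rw [h1, H.sie_apply]
  simp only [H.add_left, P.iso h.sf1, hf1e2, hf2e2, hf21, hA.eps, inv_one, zero_smul, mul_zero,
    add_zero, mul_one, one_smul, zero_add, sub_zero]
  have : f1 + f1 = 0 := by
    have h2 : ((1 : F) + 1) • f1 = 0 := by rw [hA.add_self, zero_smul]
    rwa [add_smul, one_smul] at h2
  calc f1 + f2 + f1 = f1 + f1 + f2 := by abel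
    _ = f2 := by rw [this, zero_add]

theorem xT_f2 (hA : Alt2 H) (h : Fr P e1 e2 f1 f2) : xT hA h f2 = f1 + f2 := by
  have hf2e1 : H.h f2 e1 = 0 := by rw [sw hA, h.h12]
  have hf2e2 : H.h f2 e2 = 1 := by rw [sw hA, h.h22]
  have hf21 : H.h f2 f1 = 0 := by rw [sw hA, h.hff]
  rw [xT_apply]
  have h1 : H.sie e1 f2 0 (P.iso h.se1) h.h12 f2 = f2 := by
    rw [H.sie_apply]
    simp only [hf2e1, P.iso h.sf2, zero_smul, mul_zero, add_zero, sub_zero]
  rw [h1, H.sie_apply]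
  simp only [hf2e2, hf21, hA.eps, inv_one, zero_smul, mul_zero,
    add_zero, mul_one, one_smul, sub_zero]
  rw [add_comm]

theorem xT_m (hA : Alt2 H) (h : Fr P e1 e2 f1 f2) {m : V} (hm : InM H e1 e2 f1 f2 m) :
    xT hA h m = m := by
  rw [xT_apply]
  have h1 : H.sie e1 f2 0 (P.iso h.se1) h.h12 m = m := by
    rw [H.sie_apply]
    simp only [hm.1, hm.2.2.2, zero_smul, mul_zero, add_zero, sub_zero]
  rw [h1, H.sie_apply]
  simp only [hm.2.1, hm.2.2.1, zero_smul, mul_zero, add_zero, sub_zero]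

theorem xT_three (hA : Alt2 H) (h : Fr P e1 e2 f1 f2) : xT hA h ^ 3 = 1 := by
  have h2 : ∀ v : V, v + v = 0 := by
    intro v
    have h2 : ((1 : F) + 1) • v = 0 := by rw [hA.add_self, zero_smul]
    rwa [add_smul, one_smul] at h2
  have e : ∀ v, (xT hA h ^ 3) v = xT hA h (xT hA h (xT hA h v)) := by
    intro v
    rw [pow_succ, pow_succ, pow_one]
    rfl
  apply h.ext hA
  · rw [e, xT_e1, map_add, xT_e1, xT_e2, map_add, map_add, xT_e1, xT_e2]
    change e1 + e2 + e1 + (e1 + e2) = e1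
    calc e1 + e2 + e1 + (e1 + e2) = (e1 + e1) + (e2 + e2) + e1 := by abel
      _ = e1 := by rw [h2, h2, zero_add, zero_add]
  · rw [e, xT_e2, xT_e1, map_add, xT_e1, xT_e2]
    change e1 + e2 + e1 = e2
    calc e1 + e2 + e1 = (e1 + e1) + e2 := by abel
      _ = e2 := by rw [h2, zero_add]
  · rw [e, xT_f1, xT_f2, map_add, xT_f1, xT_f2]
    change f2 + (f1 + f2) = f1
    calc f2 + (f1 + f2) = (f2 + f2) + f1 := by abel
      _ = f1 := by rw [h2, zero_add]
  · rw [e, xT_f2, map_add, xT_f1, xT_f2, map_add, map_add, xT_f1, xT_f2]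
    change f1 + f2 + (f2 + (f1 + f2)) = f2
    calc f1 + f2 + (f2 + (f1 + f2)) = (f1 + f1) + (f2 + f2) + f2 := by abel
      _ = f2 := by rw [h2, h2, zero_add, zero_add]
  · intro m hm
    rw [e, xT_m hA h hm, xT_m hA h hm, xT_m hA h hm]
    rfl

/-- Conjugation by `x`. -/
theorem dat_conj (hA : Alt2 H) (h : Fr P e1 e2 f1 f2) {g : V ≃ₗ[F] V} {m1 m2 : V}
    {a b c d : F} (hg : Dat H e1 e2 f1 f2 g m1 m2 a b c d) :
    Dat H e1 e2 f1 f2 (xT hA h * g * (xT hA h)⁻¹) (m1 + m2) m1 (a + b + c + d) (a + c)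
      (a + b) a := by
  have h2 : ∀ v : V, v + v = 0 := by
    intro v
    have h2 : ((1 : F) + 1) • v = 0 := by rw [hA.add_self, zero_smul]
    rwa [add_smul, one_smul] at h2
  obtain ⟨x, hx⟩ : ∃ x, x = xT hA h := ⟨_, rfl⟩
  have xe1 := xT_e1 hA h
  have xe2 := xT_e2 hA h
  have xf1 := xT_f1 hA h
  have xf2 := xT_f2 hA h
  have xm := fun {m : V} (hm : InM H e1 e2 f1 f2 m) => xT_m hA h hm
  rw [← hx] at xe1 xe2 xf1 xf2 xm ⊢
  have key : ∀ v w : V, x w = v → (x * g * x⁻¹) v = x (g w) := by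
    rintro v w rfl
    change x (g (x⁻¹ (x w))) = _
    have : x⁻¹ (x w) = w := x.symm_apply_apply w
    rw [this]
  have k1 : x (f1 + f2) = f1 := by
    rw [map_add, xf1, xf2]
    calc f2 + (f1 + f2) = (f2 + f2) + f1 := by abel
      _ = f1 := by rw [h2, zero_add]
  have k2 : x (e1 + e2) = e2 := by
    rw [map_add, xe1, xe2]
    calc e1 + e2 + e1 = (e1 + e1) + e2 := by abel
      _ = e2 := by rw [h2, zero_add]
  refine ⟨hg.i1.add hg.i2, hg.i1, ?_, ?_, ?_, ?_, ?_⟩
  · rw [key e1 e2 xe2, hg.ge2, xe2]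
  · rw [key e2 _ k2, map_add, hg.ge1, hg.ge2, k2]
  · rw [key f1 _ k1, map_add, hg.gf1, hg.gf2]
    simp only [map_add, map_smul, xe1, xe2, xf1, xf2, xm hg.i1, xm hg.i2]
    have h3 := h2 f2
    have h4 : f2 + m1 + a • (e1 + e2) + b • e1 + (f1 + f2 + m2 + c • (e1 + e2) + d • e1) =
      (f2 + f2) + (f1 + (m1 + m2) + (a + b + c + d) • e1 + (a + c) • e2) := by module
    rw [h4, h3, zero_add]
  · rw [key f2 _ xf1, hg.gf1]
    simp only [map_add, map_smul, xe1, xe2, xf1, xm hg.i1]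
    module
  · intro m hm
    rw [key m m (xm hm), hg.gm m hm]
    simp only [map_add, map_smul, xe1, xe2, xm hm, H.add_right]
    module

theorem heisT [Finite (V ≃ₗ[F] V)] (hA : Alt2 H) (h : Fr P e1 e2 f1 f2) :
    Heis (xT hA h) (QT hA P e1 e2 f1 f2) (ZT hA h) where
  le := ZT_le hA h
  cent := by
    rintro _ ⟨t, rfl⟩ g ⟨hg, m1, m2, a, b, c, d, hd⟩
    rw [comm_formula hA h (dat_z hA h t) hd]
    have e1' : (H.h m1 0 + H.h 0 m2) = 0 := by rw [H.zero_left, H.zero_right, add_zero]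
    have e2' : H.sie e1 ((H.h m1 0 + H.h 0 m2) • e2) 0 (P.iso h.se1) (hz hA h _) = 1 := by
      rw [← H.sie_zero e1 (P.iso h.se1)]
      apply H.sie_congr _ _ _ _ rfl _ rfl
      rw [e1', zero_smul]
    rw [e2', one_mul]
  der := by
    rintro g ⟨hg, m1, m2, a, b, c, d, hd⟩ g' ⟨hg', m1', m2', a', b', c', d', hd'⟩
    refine ⟨H.h m1' m2 + H.h m1 m2', ?_⟩
    rw [mul_inv_eq_iff_eq_mul, mul_inv_eq_iff_eq_mul, mul_assoc]
    exact comm_formula hA h hd hd'
  norm := by
    apply mem_normalizer_of_conj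
    rintro g ⟨hg, m1, m2, a, b, c, d, hd⟩
    exact ⟨mul_mem (mul_mem (xT_mem hA h) hg) (inv_mem (xT_mem hA h)), _, _, _, _, _, _,
      dat_conj hA h hd⟩
  fixZ := by
    rintro _ ⟨t, rfl⟩
    rw [← mul_inv_eq_iff_eq_mul]
    have h1 := dat_conj hA h (dat_z hA h t)
    have e1' : (0 : F) + t + t + 0 = 0 := by
      have := hA.add_self t
      linear_combination this
    rw [e1', zero_add, zero_add] at h1
    exact h1.ext hA h (dat_z hA h t)
  free := by
    rintro g ⟨hg, m1, m2, a, b, c, d, hd⟩ ⟨t, ht⟩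
    have h1 := dat_conj hA h hd
    rw [mul_inv_eq_iff_eq_mul] at ht
    rw [ht] at h1
    have h2 := (dat_z hA h t).mul hd
    obtain ⟨k1, k2, k3, k4, k5, k6⟩ := h1.uniq hA h h2
    rw [zero_add] at k1 k2
    have hm2 : m2 = 0 := by
      have : m1 + m2 = m1 + 0 := by rw [k1, add_zero]
      exact add_left_cancel this
    have hm1 : m1 = 0 := by rw [k2, hm2]
    subst hm2 hm1
    simp only [H.zero_left, add_zero, zero_add] at k3 k4 k5 k6
    obtain ⟨hgi, -, -⟩ := SG_iso hg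
    have h3 := hgi f1 f2
    rw [hd.gf1, hd.gf2, h.hff] at h3
    simp only [H.add_left, H.add_right, H.smul_left, H.smul_right, H.zero_left, H.zero_right,
      h.hff, P.iso h.se1, P.iso h.se2, h.hee, sw hA e1 e2, sw hA e1 f1, sw hA e2 f1, h.h11,
      h.h21, h.h12, h.h22, hA.sig, mul_zero, mul_one, add_zero, zero_add] at h3
    have hbc : c = b := by
      have := hA.add_self b
      linear_combination h3 - this
    subst hbc
    have ha : a = 0 := by
      have := hA.add_self c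
      linear_combination k3 + k6 - this
    subst ha
    subst k6
    exact z_mem_ZT hA h hd

end three

/-! ### The remaining hypotheses -/

section rest

/-- nondegeneracy of `M` -/
theorem ndM (hA : Alt2 H) (h : Fr P e1 e2 f1 f2) (hND : ∀ v : V, v ≠ 0 → ∃ w, H.h v w ≠ 0)
    {m : V} (hm : InM H e1 e2 f1 f2 m) (hm0 : ∀ m', InM H e1 e2 f1 f2 m' → H.h m m' = 0) :
    m = 0 := by
  by_contra h0
  obtain ⟨w, hw⟩ := hND m h0
  obtain ⟨m', hm', hw'⟩ := h.proj hA w
  apply hw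
  rw [hw']
  simp only [H.add_right, H.smul_right, hm.1, hm.2.1, hm.2.2.1, hm.2.2.2, hm0 m' hm', mul_zero,
    add_zero]

/-- the elements `sie e₁ m c` -/
theorem dat1 (hA : Alt2 H) (h : Fr P e1 e2 f1 f2) {m : V} (hm : InM H e1 e2 f1 f2 m) (c : F)
    (hw : H.h e1 m = 0) : ∃ p q r s : F,
    Dat H e1 e2 f1 f2 (H.sie e1 m c (P.iso h.se1) hw) m 0 p q r s := by
  have h1 := dat_sie hA h 1 0 0 0 c (m := m) (u := e1) (w := m) hm (by module) (by module)
    (P.iso h.se1) hw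
  rw [one_smul, zero_smul] at h1
  exact ⟨_, _, _, _, h1⟩

theorem dat2 (hA : Alt2 H) (h : Fr P e1 e2 f1 f2) {m : V} (hm : InM H e1 e2 f1 f2 m) (c : F)
    (hw : H.h e2 m = 0) : ∃ p q r s : F,
    Dat H e1 e2 f1 f2 (H.sie e2 m c (P.iso h.se2) hw) 0 m p q r s := by
  have h1 := dat_sie hA h 0 1 0 0 c (m := m) (u := e2) (w := m) hm (by module) (by module)
    (P.iso h.se2) hw
  rw [one_smul, zero_smul] at h1
  exact ⟨_, _, _, _, h1⟩

theorem InM.le1 (hA : Alt2 H) {m : V} (hm : InM H e1 e2 f1 f2 m) : H.h e1 m = 0 := by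
  rw [sw hA, hm.1]

theorem InM.le2 (hA : Alt2 H) {m : V} (hm : InM H e1 e2 f1 f2 m) : H.h e2 m = 0 := by
  rw [sw hA, hm.2.1]

theorem commT (hA : Alt2 H) (h : Fr P e1 e2 f1 f2) {m m' : V} (hm : InM H e1 e2 f1 f2 m)
    (hm' : InM H e1 e2 f1 f2 m') (hmm : H.h m m' ≠ 0) :
    ∀ z ∈ ZT hA h, ∃ a ∈ QT hA P e1 e2 f1 f2, ∃ b ∈ QT hA P e1 e2 f1 f2,
      z = a * b * a⁻¹ * b⁻¹ := by
  rintro _ ⟨t, rfl⟩
  obtain ⟨c, hc⟩ := P.ex m
  obtain ⟨s, hs⟩ : ∃ s : F, s * H.h m m' = t := ⟨t / H.h m m', div_mul_cancel₀ _ hmm⟩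
  have hm'' := hm'.smul s
  obtain ⟨c', hc'⟩ := P.ex (s • m')
  obtain ⟨p, q, r, u, hd⟩ := dat1 hA h hm c (hm.le1 hA)
  obtain ⟨p', q', r', u', hd'⟩ := dat2 hA h hm'' c' (hm''.le2 hA)
  refine ⟨_, ⟨sie_mem_SG P _ _ h.se1 hc, _, _, _, _, _, _, hd⟩, _,
    ⟨sie_mem_SG P _ _ h.se2 hc', _, _, _, _, _, _, hd'⟩, ?_⟩
  rw [eq_mul_inv_iff_mul_eq, eq_mul_inv_iff_mul_eq, mul_assoc, comm_formula hA h hd hd']
  congr 1
  apply H.sie_congr _ _ _ _ rfl _ rfl
  rw [H.zero_left, H.smul_right, hA.sig, hs, zero_add]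

/-- The elements fixing `M`. -/
def WT (hA : Alt2 H) (P : PQ H) (e1 e2 f1 f2 : V) : Subgroup (V ≃ₗ[F] V) where
  carrier := {g | g ∈ QT hA P e1 e2 f1 f2 ∧ ∃ a b c d : F, Dat H e1 e2 f1 f2 g 0 0 a b c d}
  one_mem' := ⟨one_mem _, _, _, _, _, Dat.one⟩
  mul_mem' := by
    rintro g g' ⟨hg, _, _, _, _, h⟩ ⟨hg', _, _, _, _, h'⟩
    have h1 := h.mul h'
    rw [add_zero] at h1
    exact ⟨mul_mem hg hg', _, _, _, _, h1⟩
  inv_mem' := by
    rintro g ⟨hg, _, _, _, _, h⟩
    have h1 := h.inv hA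
    rw [neg_zero] at h1
    exact ⟨inv_mem hg, _, _, _, _, h1⟩

theorem cenT (hA : Alt2 H) (h : Fr P e1 e2 f1 f2) (hND : ∀ v : V, v ≠ 0 → ∃ w, H.h v w ≠ 0) :
    ∀ g ∈ QT hA P e1 e2 f1 f2, (∀ a ∈ QT hA P e1 e2 f1 f2, g * a = a * g) →
      g ∈ WT hA P e1 e2 f1 f2 := by
  rintro g hgQ hcomm
  obtain ⟨hg, m1, m2, a, b, c, d, hd⟩ := hgQ
  have hm2 : m2 = 0 := by
    apply ndM hA h hND hd.i2
    intro m hm
    obtain ⟨c0, hc0⟩ := P.ex m
    obtain ⟨p, q, r, u, hd'⟩ := dat1 hA h hm c0 (hm.le1 hA)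
    have h1 := hcomm _ ⟨sie_mem_SG P _ _ h.se1 hc0, _, _, _, _, _, _, hd'⟩
    have h2 := hd.mul hd'
    rw [h1] at h2
    obtain ⟨-, -, -, k, -, -⟩ := (hd'.mul hd).uniq hA h h2
    rw [H.zero_right] at k
    rw [sw hA]
    linear_combination -k
  have hm1 : m1 = 0 := by
    apply ndM hA h hND hd.i1
    intro m hm
    obtain ⟨c0, hc0⟩ := P.ex m
    obtain ⟨p, q, r, u, hd'⟩ := dat2 hA h hm c0 (hm.le2 hA)
    have h1 := hcomm _ ⟨sie_mem_SG P _ _ h.se2 hc0, _, _, _, _, _, _, hd'⟩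
    have h2 := hd.mul hd'
    rw [h1] at h2
    obtain ⟨-, -, -, -, k, -⟩ := (hd'.mul hd).uniq hA h h2
    rw [H.zero_right] at k
    rw [sw hA]
    linear_combination -k
  subst hm1 hm2
  exact ⟨⟨hg, _, _, _, _, _, _, hd⟩, _, _, _, _, hd⟩

/-- The size of the radical. -/
theorem card_QT [Finite (V ≃ₗ[F] V)] (hA : Alt2 H) (h : Fr P e1 e2 f1 f2) :
    Nat.card {m // InM H e1 e2 f1 f2 m} ^ 2 * Nat.card (WT hA P e1 e2 f1 f2) ≤
      Nat.card (QT hA P e1 e2 f1 f2) := by
  rw [pow_two, ← Nat.card_prod, ← Nat.card_prod]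
  have k1 : ∀ m : {m // InM H e1 e2 f1 f2 m}, ∃ g ∈ QT hA P e1 e2 f1 f2, ∃ p q r s : F,
      Dat H e1 e2 f1 f2 g m 0 p q r s := by
    intro m
    obtain ⟨c, hc⟩ := P.ex (m : V)
    obtain ⟨p, q, r, u, hd⟩ := dat1 hA h m.2 c (m.2.le1 hA)
    exact ⟨_, ⟨sie_mem_SG P _ _ h.se1 hc, _, _, _, _, _, _, hd⟩, _, _, _, _, hd⟩
  have k2 : ∀ m : {m // InM H e1 e2 f1 f2 m}, ∃ g ∈ QT hA P e1 e2 f1 f2, ∃ p q r s : F,
      Dat H e1 e2 f1 f2 g 0 m p q r s := by
    intro m
    obtain ⟨c, hc⟩ := P.ex (m : V)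
    obtain ⟨p, q, r, u, hd⟩ := dat2 hA h m.2 c (m.2.le2 hA)
    exact ⟨_, ⟨sie_mem_SG P _ _ h.se2 hc, _, _, _, _, _, _, hd⟩, _, _, _, _, hd⟩
  choose g1 hg1 p1 q1 r1 s1 hd1 using k1
  choose g2 hg2 p2 q2 r2 s2 hd2 using k2
  refine Nat.card_le_card_of_injective (fun y : ({m // InM H e1 e2 f1 f2 m} ×
    {m // InM H e1 e2 f1 f2 m}) × WT hA P e1 e2 f1 f2 => (⟨g1 y.1.1 * g2 y.1.2 * y.2,
      mul_mem (mul_mem (hg1 _) (hg2 _)) y.2.2.1⟩ : QT hA P e1 e2 f1 f2)) ?_
  rintro ⟨⟨m, n⟩, w, ⟨hw, a, b, c, d, hwd⟩⟩ ⟨⟨m', n'⟩, w', ⟨hw', a', b', c', d', hwd'⟩⟩ heq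
  have h1 : g1 m * g2 n * w = g1 m' * g2 n' * w' := congrArg Subtype.val heq
  have h2 := ((hd1 m).mul (hd2 n)).mul hwd
  have h3 := ((hd1 m').mul (hd2 n')).mul hwd'
  rw [h1] at h2
  obtain ⟨j1, j2, -⟩ := h2.uniq hA h h3
  rw [add_zero, add_zero, add_zero, add_zero] at j1
  rw [add_zero, add_zero, zero_add, zero_add] at j2
  have e1' : m = m' := Subtype.ext j1
  have e2' : n = n' := Subtype.ext j2
  subst e1' e2'
  have h4 := mul_left_cancel h1
  subst h4
  rfl

theorem card_ZT [Finite F] (hA : Alt2 H) (h : Fr P e1 e2 f1 f2) :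
    Nat.card (ZT hA h) ≤ Nat.card F := by
  refine Nat.card_le_card_of_surjective (fun t : F =>
    (⟨H.sie e1 (t • e2) 0 (P.iso h.se1) (hz hA h t), t, rfl⟩ : ZT hA h)) ?_
  rintro ⟨_, t, rfl⟩
  exact ⟨t, rfl⟩

theorem InM.symm {m : V} (hm : InM H e1 e2 f1 f2 m) : InM H f1 f2 e1 e2 m :=
  ⟨hm.2.2.1, hm.2.2.2, hm.1, hm.2.1⟩

/-- Generation. -/
theorem genT (hA : Alt2 H) (h : Fr P e1 e2 f1 f2) (hND : ∀ v : V, v ≠ 0 → ∃ w, H.h v w ≠ 0)
    {m m' : V} (hm : InM H e1 e2 f1 f2 m) (hm' : InM H e1 e2 f1 f2 m') (hmm : H.h m m' ≠ 0)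
    (D : Subgroup (V ≃ₗ[F] V)) (hQ : QT hA P e1 e2 f1 f2 ≤ D) :
    ∀ z ∈ ZT hA (h.symm hA), z ≠ 1 → z ∈ D → SG P ≤ D := by
  rintro z ⟨t, hzt⟩ hz1 hzD
  have hzS : z ∈ SG P := by
    rw [hzt]
    exact sie_mem_SG P _ _ h.sf1 (P.sing_smul h.sf2 t)
  obtain ⟨hzi, hzok, hzok'⟩ := SG_iso hzS
  have ht0 : t ≠ 0 := by
    rintro rfl
    apply hz1
    rw [hzt, ← H.sie_zero f1 (P.iso h.sf1)]
    exact H.sie_congr _ _ _ _ rfl (zero_smul F f2) rfl
  have hz_e1 : z e1 = e1 + t • f2 := by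
    rw [hzt, H.sie_apply]
    simp only [H.smul_right, h.h11, h.h12, hA.eps, hA.sig, inv_one, zero_smul, mul_zero,
      add_zero, sub_zero, zero_mul, one_smul]
  have hz_e2 : z e2 = e2 + t • f1 := by
    rw [hzt, H.sie_apply]
    simp only [H.smul_right, h.h21, h.h22, hA.eps, hA.sig, inv_one, zero_smul, mul_zero,
      add_zero, mul_one, one_mul, zero_mul]
    rw [sub_eq_add_neg, ← neg_smul, neg_eq hA]
  have hz_m : ∀ n, InM H e1 e2 f1 f2 n → z n = n := by
    intro n hn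
    rw [hzt, H.sie_apply]
    simp only [H.smul_right, hn.2.2.1, hn.2.2.2, hA.eps, hA.sig, inv_one, zero_smul, mul_zero,
      add_zero, mul_one, one_mul, zero_mul, sub_zero]
  obtain ⟨T, hT⟩ : ∃ T, T = Submodule.span F ({e1, e2} : Set V) := ⟨_, rfl⟩
  obtain ⟨T', hT'⟩ : ∃ T', T' = Submodule.span F ({z e1, z e2} : Set V) := ⟨_, rfl⟩
  obtain ⟨M, hM⟩ : ∃ M, M = perp H ({e1, e2, f1, f2} : Set V) := ⟨_, rfl⟩
  have memT : ∀ v, v ∈ T ↔ ∃ a b : F, a • e1 + b • e2 = v := by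
    intro v; rw [hT, Submodule.mem_span_pair]
  have memT' : ∀ v, v ∈ T' ↔ ∃ a b : F, a • z e1 + b • z e2 = v := by
    intro v; rw [hT', Submodule.mem_span_pair]
  have memM : ∀ v, v ∈ M ↔ InM H e1 e2 f1 f2 v := by
    intro v
    rw [hM, mem_perp]
    simp only [Set.mem_insert_iff, Set.mem_singleton_iff, forall_eq_or_imp, forall_eq]
    rfl
  have hTs : ∀ u ∈ T, P.ok u 0 := by
    intro u hu
    obtain ⟨a, b, rfl⟩ := (memT u).1 hu
    exact okT hA h a b
  have hTT : ∀ u ∈ T, ∀ u' ∈ T, H.h u u' = 0 := by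
    intro u hu u' hu'
    obtain ⟨a, b, rfl⟩ := (memT u).1 hu
    obtain ⟨c, d, rfl⟩ := (memT u').1 hu'
    simp only [H.add_left, H.add_right, H.smul_left, H.smul_right, P.iso h.se1, P.iso h.se2,
      h.hee, sw hA e1 e2, mul_zero, add_zero]
  have hTM : ∀ u ∈ T, ∀ w ∈ M, H.h u w = 0 := by
    intro u hu w hw
    obtain ⟨a, b, rfl⟩ := (memT u).1 hu
    have hw' := (memM w).1 hw
    simp only [H.add_left, H.smul_left, hw'.le1 hA, hw'.le2 hA, mul_zero, add_zero]
  -- elements of `T'` are images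
  have himg : ∀ u ∈ T', ∃ u0 ∈ T, z u0 = u := by
    intro u hu
    obtain ⟨a, b, rfl⟩ := (memT' u).1 hu
    exact ⟨a • e1 + b • e2, (memT _).2 ⟨a, b, rfl⟩, by rw [map_add, map_smul, map_smul]⟩
  have himgW : ∀ w ∈ T' ⊔ M, ∃ w0 ∈ T ⊔ M, z w0 = w := by
    intro w hw
    obtain ⟨u, hu, n, hn, rfl⟩ := Submodule.mem_sup.1 hw
    obtain ⟨u0, hu0, rfl⟩ := himg u hu
    exact ⟨u0 + n, Submodule.add_mem_sup hu0 hn, by rw [map_add, hz_m n ((memM n).1 hn)]⟩
  have hrad : rad P T (T ⊔ M) ≤ D := by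
    apply rad_le
    intro u w c hu hw huT hwW hc
    apply hQ
    refine ⟨sie_mem_SG P _ _ (hTs u huT) hc, ?_⟩
    obtain ⟨a, b, hab⟩ := (memT u).1 huT
    obtain ⟨v, hv, n, hn, hvn⟩ := Submodule.mem_sup.1 hwW
    obtain ⟨a', b', hab'⟩ := (memT v).1 hv
    exact ⟨_, _, _, _, _, _, dat_sie hA h a b a' b' c ((memM n).1 hn) hab.symm
      (by rw [← hvn, ← hab']; abel) hu hw⟩
  have hrad' : rad P T' (T' ⊔ M) ≤ D := by
    apply rad_le
    intro u w c hu hw huT hwW hc
    obtain ⟨u0, hu0, rfl⟩ := himg u huT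
    obtain ⟨w0, hw0, rfl⟩ := himgW w hwW
    have h1 : H.h u0 u0 = 0 := hTT u0 hu0 u0 hu0
    have h2 : H.h u0 w0 = 0 := by rw [← hzi, hw]
    have hc0 : P.ok w0 c := by
      have := hzok' _ c hc
      have e : z⁻¹ (z w0) = w0 := z.symm_apply_apply w0
      rwa [e] at this
    exact conj_mem hzD hzi h1 h2 (hrad (sie_mem_rad h1 h2 hu0 hw0 hc0)) hu hw rfl rfl
  refine radI_gen hrad hrad' ?_ hTs hTT ?_ ?_ hTM ?_ ⟨m, (memM m).2 hm, m', (memM m').2 hm', hmm⟩
    ⟨e2, (memT _).2 ⟨0, 1, by module⟩, z e1, (memT' _).2 ⟨1, 0, by module⟩, ?_⟩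
    (fun v _ hv => hND v hv)
  · rw [eq_top_iff]
    intro v _
    obtain ⟨n, hn, hv⟩ := h.proj hA v
    rw [hv]
    have he1 : e1 ∈ T ⊔ M ⊔ T' := (le_sup_left.trans le_sup_left : T ≤ _) ((memT _).2
      ⟨1, 0, by module⟩)
    have he2 : e2 ∈ T ⊔ M ⊔ T' := (le_sup_left.trans le_sup_left : T ≤ _) ((memT _).2
      ⟨0, 1, by module⟩)
    have hf2 : f2 ∈ T ⊔ M ⊔ T' := by
      have e : f2 = t⁻¹ • (z e1 - e1) := by
        rw [hz_e1, add_sub_cancel_left, smul_smul, inv_mul_cancel₀ ht0, one_smul]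
      rw [e]
      exact Submodule.smul_mem _ _ (Submodule.sub_mem _ ((le_sup_right : T' ≤ _) ((memT' _).2
        ⟨1, 0, by module⟩)) he1)
    have hf1 : f1 ∈ T ⊔ M ⊔ T' := by
      have e : f1 = t⁻¹ • (z e2 - e2) := by
        rw [hz_e2, add_sub_cancel_left, smul_smul, inv_mul_cancel₀ ht0, one_smul]
      rw [e]
      exact Submodule.smul_mem _ _ (Submodule.sub_mem _ ((le_sup_right : T' ≤ _) ((memT' _).2
        ⟨0, 1, by module⟩)) he2)
    refine Submodule.add_mem _ ((le_sup_right.trans le_sup_left : M ≤ _) ((memM n).2 hn)) ?_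
    exact Submodule.add_mem _ (Submodule.add_mem _ (Submodule.add_mem _
      (Submodule.smul_mem _ _ he1) (Submodule.smul_mem _ _ he2)) (Submodule.smul_mem _ _ hf1))
      (Submodule.smul_mem _ _ hf2)
  · intro u hu
    obtain ⟨u0, hu0, rfl⟩ := himg u hu
    exact hzok _ _ (hTs u0 hu0)
  · intro u hu u' hu'
    obtain ⟨u0, hu0, rfl⟩ := himg u hu
    obtain ⟨u0', hu0', rfl⟩ := himg u' hu'
    rw [hzi]
    exact hTT u0 hu0 u0' hu0'
  · intro u hu w hw
    obtain ⟨u0, hu0, rfl⟩ := himg u hu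
    rw [← hz_m w ((memM w).1 hw), hzi]
    exact hTM u0 hu0 w hw
  · rw [hz_e1, H.add_left, H.smul_left, h.hee, sw hA e2 f2, h.h22, zero_add, mul_one]
    exact ht0

/-! ### The other frame -/

theorem Fr.swp (hA : Alt2 H) (h : Fr P e1 e2 f1 f2) : Fr P e2 e1 f2 f1 where
  se1 := h.se2
  se2 := h.se1
  sf1 := h.sf2
  sf2 := h.sf1
  h11 := h.h22
  h22 := h.h11
  h12 := h.h21
  h21 := h.h12
  hee := by rw [sw hA, h.hee]
  hff := by rw [sw hA, h.hff]

theorem InM.swp {m : V} (hm : InM H e1 e2 f1 f2 m) : InM H e2 e1 f2 f1 m :=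
  ⟨hm.2.1, hm.1, hm.2.2.2, hm.2.2.1⟩

theorem ZT_swp_le (hA : Alt2 H) (h : Fr P e1 e2 f1 f2) : ZT hA (h.swp hA) ≤ ZT hA h := by
  rintro _ ⟨t, rfl⟩
  have h1 := dat_sie hA h 0 1 t 0 0 (m := 0) (u := e2) (w := t • e1) InM.zero (by module)
    (by module) (P.iso h.se2) (hz hA (h.swp hA) t)
  rw [smul_zero, smul_zero] at h1
  have e1 : (0 : F) * 0 * 0 = 0 := by ring
  have e2 : (0 : F) * 0 + t * 1 + 0 * 0 * 1 = t := by ring
  have e3 : (1 : F) * t + 0 * 0 + 0 * 1 * 0 = t := by ring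
  have e4 : (0 : F) * 1 * 1 = 0 := by ring
  rw [e1, e2, e3, e4] at h1
  exact z_mem_ZT hA h h1

theorem xT_opp (hA : Alt2 H) (h : Fr P e1 e2 f1 f2) :
    xT hA ((h.symm hA).swp hA) = xT hA h := by
  apply h.ext hA
  · rw [xT_f2 hA ((h.symm hA).swp hA), xT_e1, add_comm]
  · rw [xT_f1 hA ((h.symm hA).swp hA), xT_e2]
  · rw [xT_e2 hA ((h.symm hA).swp hA), xT_f1]
  · rw [xT_e1 hA ((h.symm hA).swp hA), xT_f2, add_comm]
  · intro m hm
    rw [xT_m hA h hm, xT_m hA ((h.symm hA).swp hA) hm.symm.swp]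

end rest

end

/-- The subgroup version. -/
theorem heis_quarter_sub' {A : Type*} [Group A] [Finite A] {K : Subgroup A} {x : A} (hxK : x ∈ K)
    {Q1 Q2 Z1 Z2 W1 W2 : Subgroup A} {k : ℕ} (hx : x ^ 3 ^ k = 1) (h1 : Heis x Q1 Z1)
    (h2 : Heis x Q2 Z2)
    (hcomm1 : ∀ z ∈ Z1, ∃ a ∈ Q1, ∃ b ∈ Q1, z = a * b * a⁻¹ * b⁻¹)
    (hcomm2 : ∀ z ∈ Z2, ∃ a ∈ Q2, ∃ b ∈ Q2, z = a * b * a⁻¹ * b⁻¹)
    (hcen1 : ∀ g ∈ Q1, (∀ a ∈ Q1, g * a = a * g) → g ∈ W1)
    (hcen2 : ∀ g ∈ Q2, (∀ a ∈ Q2, g * a = a * g) → g ∈ W2)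
    (hW1 : W1 ≤ Q1) (hW2 : W2 ≤ Q2)
    (hbig1 : 8 * (Nat.card Z1 ^ 2 * Nat.card W1) ≤ Nat.card Q1)
    (hbig2 : 8 * (Nat.card Z2 ^ 2 * Nat.card W2) ≤ Nat.card Q2)
    (hQ1 : Q1 ≤ K) (hQ2 : Q2 ≤ K)
    (hg1 : ∀ D : Subgroup A, Q1 ≤ D → ∀ z ∈ Z2, z ≠ 1 → z ∈ D → K ≤ D)
    (hg2 : ∀ D : Subgroup A, Q2 ≤ D → ∀ z ∈ Z1, z ≠ 1 → z ∈ D → K ≤ D) :
    UGood 1 4 (⟨x, hxK⟩ : K) := by
  have hh : ∀ Q Z : Subgroup A, Heis x Q Z → Heis (⟨x, hxK⟩ : K) (Q.subgroupOf K)
      (Z.subgroupOf K) := by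
    intro Q Z h
    exact {
      le := fun z hz => h.le hz
      cent := fun z hz g hg => Subtype.ext (h.cent z hz g hg)
      der := fun a ha b hb => h.der a ha b hb
      norm := by
        rw [mem_normalizer_iff]
        intro g
        rw [mem_subgroupOf, mem_subgroupOf]
        exact mem_normalizer_iff.1 h.norm g
      fixZ := fun z hz => Subtype.ext (h.fixZ z hz)
      free := fun r hr hr2 => h.free r hr hr2 }
  have cc : ∀ Q Z : Subgroup A, Q ≤ K → (∀ z ∈ Z, ∃ a ∈ Q, ∃ b ∈ Q, z = a * b * a⁻¹ * b⁻¹) →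
      ∀ z ∈ Z.subgroupOf K, ∃ a ∈ Q.subgroupOf K, ∃ b ∈ Q.subgroupOf K,
        z = a * b * a⁻¹ * b⁻¹ := by
    intro Q Z hQ h z hz
    obtain ⟨a, ha, b, hb, hab⟩ := h z hz
    exact ⟨⟨a, hQ ha⟩, ha, ⟨b, hQ hb⟩, hb, Subtype.ext hab⟩
  have ce : ∀ Q W : Subgroup A, Q ≤ K → (∀ g ∈ Q, (∀ a ∈ Q, g * a = a * g) → g ∈ W) →
      ∀ g ∈ Q.subgroupOf K, (∀ a ∈ Q.subgroupOf K, g * a = a * g) → g ∈ W.subgroupOf K := by
    intro Q W hQ h g hg hc
    apply h g hg
    intro a ha
    exact congrArg Subtype.val (hc ⟨a, hQ ha⟩ ha)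
  have cb : ∀ Q Z W : Subgroup A, Q ≤ K → Z ≤ Q → W ≤ Q →
      8 * (Nat.card Z ^ 2 * Nat.card W) ≤ Nat.card Q →
      8 * (Nat.card (Z.subgroupOf K) ^ 2 * Nat.card (W.subgroupOf K)) ≤
        Nat.card (Q.subgroupOf K) := by
    intro Q Z W hQ hZ hW h
    rw [Nat.card_congr (Subgroup.subgroupOfEquivOfLe hQ).toEquiv,
      Nat.card_congr (Subgroup.subgroupOfEquivOfLe (hZ.trans hQ)).toEquiv,
      Nat.card_congr (Subgroup.subgroupOfEquivOfLe (hW.trans hQ)).toEquiv]
    exact h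
  have aux : ∀ Q Z : Subgroup A, Q ≤ K →
      (∀ D : Subgroup A, Q ≤ D → ∀ z ∈ Z, z ≠ 1 → z ∈ D → K ≤ D) →
      ∀ H : Subgroup K, Q.subgroupOf K ≤ H → ∀ z ∈ Z.subgroupOf K, z ≠ 1 → z ∈ H → H = ⊤ := by
    intro Q Z hQ hg H hQH z hz hz1 hzH
    have h3 := hg (H.map K.subtype) (by
      intro a ha
      exact ⟨⟨a, hQ ha⟩, hQH ha, rfl⟩) z hz (fun h => hz1 (Subtype.ext h)) ⟨z, hzH, rfl⟩
    rw [eq_top_iff]
    intro a _
    obtain ⟨b, hb, hba⟩ := h3 a.2
    have : b = a := Subtype.ext hba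
    rwa [← this]
  exact heis_quarter' (k := k) (Subtype.ext hx) (hh _ _ h1) (hh _ _ h2) (cc _ _ hQ1 hcomm1)
    (cc _ _ hQ2 hcomm2) (ce _ _ hQ1 hcen1) (ce _ _ hQ2 hcen2) (cb _ _ _ hQ1 h1.le hW1 hbig1)
    (cb _ _ _ hQ2 h2.le hW2 hbig2) (aux Q1 Z2 hQ1 hg1) (aux Q2 Z1 hQ2 hg2)

/-- **The ratio `1 / 4` for `x`.** -/
theorem uGood_TT [Finite F] [Finite V] (hA : Alt2 H) {e1 e2 f1 f2 : V} (h : Fr P e1 e2 f1 f2)
    (hND : ∀ v : V, v ≠ 0 → ∃ w, H.h v w ≠ 0)
    {m m' : V} (hm : InM H e1 e2 f1 f2 m) (hm' : InM H e1 e2 f1 f2 m') (hmm : H.h m m' ≠ 0)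
    (hbig : 8 * Nat.card F ^ 2 ≤ Nat.card {m // InM H e1 e2 f1 f2 m} ^ 2) :
    UGood 1 4 (⟨xT hA h, xT_mem hA h⟩ : SG P) := by
  have hfin : Finite (V ≃ₗ[F] V) := instFin
  obtain ⟨h', hh'⟩ : ∃ h' : Fr P f2 f1 e2 e1, h' = (h.symm hA).swp hA := ⟨_, rfl⟩
  have hx2 : Heis (xT hA h) (QT hA P f2 f1 e2 e1) (ZT hA h') := by
    have := heisT hA h'
    rwa [hh', xT_opp hA h] at this
  have cardM : Nat.card {m // InM H f2 f1 e2 e1 m} = Nat.card {m // InM H e1 e2 f1 f2 m} :=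
    Nat.card_congr (Equiv.subtypeEquivRight fun m =>
      ⟨fun hm => hm.symm.swp, fun hm => hm.symm.swp⟩)
  have big : ∀ {a b c d : V} (k : Fr P a b c d), 8 * Nat.card F ^ 2 ≤
      Nat.card {m // InM H a b c d m} ^ 2 → 8 * (Nat.card (ZT hA k) ^ 2 *
        Nat.card (WT hA P a b c d)) ≤ Nat.card (QT hA P a b c d) := by
    intro a b c d k hb
    calc 8 * (Nat.card (ZT hA k) ^ 2 * Nat.card (WT hA P a b c d)) =
          (8 * Nat.card (ZT hA k) ^ 2) * Nat.card (WT hA P a b c d) := by ring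
      _ ≤ (8 * Nat.card F ^ 2) * Nat.card (WT hA P a b c d) := by
        gcongr
        exact card_ZT hA k
      _ ≤ Nat.card {m // InM H a b c d m} ^ 2 * Nat.card (WT hA P a b c d) := by gcongr
      _ ≤ _ := card_QT hA k
  refine heis_quarter_sub' (k := 1) (xT_mem hA h) (by rw [pow_one]; exact xT_three hA h)
    (heisT hA h) hx2 (commT hA h hm hm' hmm) (commT hA h' hm.symm.swp hm'.symm.swp hmm)
    (cenT hA h hND) (cenT hA h' hND) (fun g hg => hg.1) (fun g hg => hg.1) (big h hbig)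
    (big h' (by rw [cardM]; exact hbig)) (fun g hg => hg.1) (fun g hg => hg.1) ?_ ?_
  · intro D hD z hz hz1 hzD
    refine genT hA h hND hm hm' hmm D hD z ?_ hz1 hzD
    rw [hh'] at hz
    exact ZT_swp_le hA (h.symm hA) hz
  · intro D hD z hz hz1 hzD
    refine genT hA h' hND hm.symm.swp hm'.symm.swp hmm D hD z ?_ hz1 hzD
    exact ZT_swp_le hA (h.swp hA) hz

/-- **The row.** -/
theorem row_SG [Finite F] [Finite V] (hA : Alt2 H) {κ : ℕ} (hκ3 : κ ≤ 3)
    (hκ : ∀ A : Submodule F V, κ ≤ Module.finrank F A → ∃ w ∈ A, w ≠ 0 ∧ P.ok w 0)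
    (hND : ∀ v : V, v ≠ 0 → ∃ w, H.h v w ≠ 0)
    (hdim : 8 ≤ Module.finrank F V ∨ (6 ≤ Module.finrank F V ∧ 4 ≤ Nat.card F)) :
    FprRow 4 1 3 (SG P) := by
  have hd6 : 6 ≤ Module.finrank F V := by omega
  have hnd0 : ∀ v ∈ (⊤ : Submodule F V), v ≠ 0 → ∃ w ∈ (⊤ : Submodule F V), H.h v w ≠ 0 := by
    intro v _ hv
    obtain ⟨w, hw⟩ := hND v hv
    exact ⟨w, trivial, hw⟩
  have hfr : Module.finrank F (⊤ : Submodule F V) = Module.finrank F V := finrank_top F V
  obtain ⟨e0, he0, he0n, se0⟩ := hκ ⊤ (by omega)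
  obtain ⟨f0, hf0, sf0, h00⟩ := exists_hyp hnd0 he0 se0 he0n
  obtain ⟨hnd1, hd1⟩ := split_hyp hnd0 he0 hf0 se0 sf0 h00
  rw [top_inf_eq] at hnd1 hd1
  obtain ⟨e1, he1, he1n, se1⟩ := hκ (perp H {e0, f0}) (by omega)
  obtain ⟨f1, hf1, sf1, h11⟩ := exists_hyp hnd1 he1 se1 he1n
  obtain ⟨hnd2, hd2⟩ := split_hyp hnd1 he1 hf1 se1 sf1 h11
  have he1e : H.h e1 e0 = 0 := he1 e0 (by simp)
  have he1f : H.h e1 f0 = 0 := he1 f0 (by simp)
  have hf1e : H.h f1 e0 = 0 := hf1 e0 (by simp)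
  have hf1f : H.h f1 f0 = 0 := hf1 f0 (by simp)
  have hperp : perp H {e0, f0} ⊓ perp H {e1, f1} = perp H {e0, e1, f0, f1} := by
    ext w
    rw [Submodule.mem_inf, mem_perp, mem_perp, mem_perp]
    simp only [Set.mem_insert_iff, Set.mem_singleton_iff, forall_eq_or_imp, forall_eq]
    (clear * -; tauto)
  rw [hperp] at hnd2 hd2
  have hin : ∀ w, w ∈ perp H {e0, e1, f0, f1} ↔ InM H e0 e1 f0 f1 w := by
    intro w
    rw [mem_perp]
    simp only [Set.mem_insert_iff, Set.mem_singleton_iff, forall_eq_or_imp, forall_eq]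
    rfl
  obtain ⟨m, hm, hm0⟩ : ∃ m ∈ perp H {e0, e1, f0, f1}, m ≠ 0 := by
    by_contra hcon
    push Not at hcon
    have : perp H {e0, e1, f0, f1} = ⊥ := by
      rw [eq_bot_iff]
      intro v hv
      exact hcon v hv
    rw [this, finrank_bot] at hd2
    omega
  obtain ⟨m', hm', hmm⟩ := hnd2 m hm hm0
  have hfr : Fr P e0 e1 f0 f1 := ⟨se0, se1, sf0, sf1, h00, h11, H.orth_symm hf1e, he1f,
    H.orth_symm he1e, H.orth_symm hf1f⟩
  have hq2 : 2 ≤ Nat.card F := by
    have := Finite.one_lt_card (α := F)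
    omega
  have hcard : Nat.card {m // InM H e0 e1 f0 f1 m} =
      Nat.card F ^ Module.finrank F (perp H {e0, e1, f0, f1}) := by
    rw [← Module.natCard_eq_pow_finrank (K := F) (V := perp H {e0, e1, f0, f1})]
    exact Nat.card_congr (Equiv.subtypeEquivRight fun w => (hin w).symm)
  have hU := uGood_TT hA hfr hND ((hin m).1 hm) ((hin m').1 hm') hmm (by
    rw [hcard, ← pow_mul]
    obtain ⟨q, hq⟩ : ∃ q, q = Nat.card F := ⟨_, rfl⟩
    rw [← hq] at hq2 hdim ⊢
    rcases hdim with hd | ⟨hd, hq4⟩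
    · calc 8 * q ^ 2 ≤ q ^ 6 * q ^ 2 := by
            gcongr
            calc 8 ≤ 2 ^ 6 := by norm_num
              _ ≤ q ^ 6 := Nat.pow_le_pow_left hq2 6
        _ = q ^ 8 := by ring
        _ ≤ _ := Nat.pow_le_pow_right (by omega) (by omega)
    · calc 8 * q ^ 2 ≤ q ^ 2 * q ^ 2 := by
            gcongr
            calc 8 ≤ 4 ^ 2 := by norm_num
              _ ≤ q ^ 2 := Nat.pow_le_pow_left hq4 2
        _ = q ^ 4 := by ring
        _ ≤ _ := Nat.pow_le_pow_right (by omega) (by omega))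
  intro D hD
  refine ⟨_, ?_, hU D hD⟩
  have h4 : orderOf (⟨xT hA hfr, xT_mem hA hfr⟩ : SG P) ∣ 3 ^ 1 := by
    rw [pow_one]
    exact orderOf_dvd_of_pow_eq_one (Subtype.ext (xT_three hA hfr))
  obtain ⟨k, -, hk⟩ := (Nat.dvd_prime_pow Nat.prime_three).1 h4
  exact ⟨k, hk⟩

end Cfsg.Agent.H452.FprTT
end

-- part: H452/FprTTRow
section
/-!
# Rows for `p = 3` in characteristic two: orthogonal and symplectic groups
-/

set_option autoImplicit false

namespace Cfsg.Agent.H452.FprTTRow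

open Cfsg Cfsg.Agent.H398.FPR Cfsg.Agent.H452.FprTT Cfsg.Agent.H110.Fpr Cfsg.Agent.H409
open Cfsg.Agent.TitsThree.Siegel Cfsg.Agent.TitsThree.SiegelGen Cfsg.Agent.TitsThree.KSideO
open Cfsg.Agent.TitsThree.SpIdent Cfsg.Agent.TitsThree.SpGen
open Cfsg.Agent.LieClassical Cfsg.Agent.LieClassical.OrthCore Cfsg.Agent.LieClassical.OrthFinite
open Cfsg.Agent.LieClassical.OrthForms
open QuadraticMap

theorem alt_HO {F V : Type*} [Field F] [AddCommGroup V] [Module F V] (h2 : (2 : F) = 0)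
    (Q : QuadraticForm F V) : Alt2 (HO Q) where
  two := h2
  eps := rfl
  sig x := rfl
  alt v := by
    change polar Q v v = 0
    rw [polar_self]
    have : (2 : ℕ) • Q v = (2 : F) * Q v := by rw [nsmul_eq_mul]; rfl
    rw [this, h2, zero_mul]

/-- `E Q`. -/
theorem row_EQ {F V : Type*} [Field F] [Finite F] [AddCommGroup V] [Module F V] [Finite V]
    (h2 : (2 : F) = 0) {Q : QuadraticForm F V} (hQ : Nondeg Q)
    (hd : 8 ≤ Module.finrank F V ∨ (6 ≤ Module.finrank F V ∧ 4 ≤ Nat.card F)) :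
    FprRow 4 1 3 (E Q) := by
  have hND : ∀ v : V, v ≠ 0 → ∃ w, (HO Q).h v w ≠ 0 := by
    intro v hv
    by_contra hcon
    push Not at hcon
    exact hv (hQ v hcon)
  have hκ : ∀ A : Submodule F V, 3 ≤ Module.finrank F A → ∃ w ∈ A, w ≠ 0 ∧ (PO Q).ok w 0 := by
    intro A hA
    obtain ⟨w, hw, hw0, hQw⟩ := exists_sing_mem (Q := Q) A hA
    exact ⟨w, hw, hw0, (sing_iff Q).2 hQw⟩
  rw [← SG_PO]
  exact row_SG (alt_HO h2 Q) le_rfl hκ hND hd

theorem two_eq_zero {F : Type*} [Field F] [Finite F] (h : Even (Nat.card F)) : (2 : F) = 0 := by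
  have := Fintype.ofFinite F
  rw [Nat.card_eq_fintype_card] at h
  have h4 := (FiniteField.even_card_iff_char_two (F := F)).2 (Nat.even_iff.1 h)
  have h5 : CharP F 2 := by rw [← h4]; exact ringChar.charP F
  exact CharTwo.two_eq_zero

section Matrix

variable {ι : Type} [Fintype ι] [DecidableEq ι] {F : Type*} [Field F] [Finite F]
  {Q : QuadraticForm F (ι → F)}

theorem row_POmega (h2 : (2 : F) = 0) (hQ : Nondeg Q)
    (hd : 8 ≤ Module.finrank F (ι → F) ∨ (6 ≤ Module.finrank F (ι → F) ∧ 4 ≤ Nat.card F)) :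
    FprRow 4 1 3 (Cfsg.POmega F ⇑Q) := by
  have hG := good_of_finite hQ (by omega)
  have : Finite ((ι → F) ≃ₗ[F] (ι → F)) := instFin
  exact FprRow.of_surjective Nat.prime_three (toPOmega hG) (toPOmega_surjective hG)
    (row_EQ h2 hQ hd)

end Matrix

/-- `PΩ⁺_{2m}(q)`, `q` even, `m ≥ 4`, or `m = 3` and `q ≥ 4`. -/
theorem row_POmegaPlus {F : Type} [Field F] [Fintype F] {m : ℕ} (h2 : Even (Nat.card F))
    (hm : 4 ≤ m ∨ (3 ≤ m ∧ 4 ≤ Nat.card F)) :
    FprRow 4 1 3 (Cfsg.POmega F (Cfsg.quadFormPlus m F)) := by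
  rw [← coe_plusForm]
  refine row_POmega (two_eq_zero h2) (nondeg_plusForm m F) ?_
  rw [Module.finrank_fintype_fun_eq_card, Fintype.card_sum, Fintype.card_fin]
  omega

/-- `PΩ⁻_{2m}(q)`, `q` even, `m ≥ 4`, or `m = 3` and `q ≥ 4`. -/
theorem row_POmegaMinus {F : Type} [Field F] [Fintype F] {m : ℕ} (h2 : Even (Nat.card F))
    (hm : 4 ≤ m ∨ (3 ≤ m ∧ 4 ≤ Nat.card F)) {a b : F}
    (hab : ∀ z₁ z₂ : F, z₁ ^ 2 + a * z₁ * z₂ + b * z₂ ^ 2 = 0 → z₁ = 0 ∧ z₂ = 0) :
    FprRow 4 1 3 (Cfsg.POmega F (Cfsg.quadFormMinus (m - 1) F a b)) := by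
  rw [← coe_minusForm]
  refine row_POmega (two_eq_zero h2) (nondeg_minusForm (m - 1) F a b hab) ?_
  rw [Module.finrank_fintype_fun_eq_card, Fintype.card_sum, Fintype.card_sum, Fintype.card_fin,
    Fintype.card_fin]
  omega

/-- `PSp_{2m}(q)`, `q` even, `m ≥ 4`, or `m = 3` and `q ≥ 4`. -/
theorem row_PSp {F : Type*} [Field F] [Finite F] {m : ℕ} (h2 : Even (Nat.card F))
    (hm : 4 ≤ m ∨ (3 ≤ m ∧ 4 ≤ Nat.card F)) : FprRow 4 1 3 (PSp m F) := by
  have hfin : Finite ((Fin m ⊕ Fin m → F) ≃ₗ[F] (Fin m ⊕ Fin m → F)) := instFin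
  let e : SG (pq m F) ≃* isos (form m F) := MulEquiv.subgroupCongr SG_pq
  let f : SG (pq m F) →* PSp m F := toPSp.comp e.toMonoidHom
  have hf : Function.Surjective f := toPSp_surjective.comp e.surjective
  refine FprRow.of_surjective Nat.prime_three f hf ?_
  refine row_SG (alt_form (two_eq_zero h2)) (κ := 1) (by norm_num) κ_form nd_form ?_
  rw [finrank_sp]
  omega

end Cfsg.Agent.H452.FprTTRow
end
end

-- part: H452/FprJ1
section
set_option linter.all false
open scoped Cfsg.Agent.FastGrp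

/-!
# Fixed point ratios: elements of order 3 in `SL₂(q)`, `q` even, `3 ∣ q + 1`: ratio at most `1/7`
-/

set_option autoImplicit false
open Subgroup MulAction Matrix

namespace Cfsg.Agent.H452.FprJ1

open Cfsg.Agent.H409 Cfsg.Agent.H452.FprCyc Cfsg.Agent.H452.FprRank Cfsg.Agent.H452.FprPsl2
open Cfsg.Agent.H398.FPR (UGood)

/-- In a maximal dihedral subgroup: normalisers of subgroups of odd prime order. -/
theorem normalizer_of_dihedral {S : Type*} [Group S] [Finite S] [IsSimpleGroup S] {p : ℕ}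
    [Fact p.Prime] (hp2 : p ≠ 2) {k : ℕ} {M : Subgroup S}
    (hM : IsCoatom M) (e : M ≃* DihedralGroup k) (hcard : Nat.card S ≠ p) {z : S} (hz : z ∈ M)
    (hzo : orderOf z = p) : normalizer ((zpowers z : Subgroup S) : Set S) = M := by
  have hp : p.Prime := Fact.out
  have hy : orderOf (e ⟨z, hz⟩) = p := by
    rw [MulEquiv.orderOf_eq, Subgroup.orderOf_mk, hzo]
  have h1 : M ≤ normalizer ((zpowers z : Subgroup S) : Set S) := by
    intro g hg
    have h2 : g * z * g⁻¹ ∈ zpowers z := by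
      have h3 := dihedral_zpowers_normal hp hp2 hy (e ⟨g, hg⟩)
      obtain ⟨j, hj⟩ := h3
      refine ⟨j, ?_⟩
      have h4 : (⟨z, hz⟩ : M) ^ j = ⟨g, hg⟩ * ⟨z, hz⟩ * ⟨g, hg⟩⁻¹ := by
        apply e.injective
        rw [map_zpow, map_mul, map_mul, map_inv]
        exact hj
      have h5 := congrArg (fun a : M => (a : S)) h4
      simpa using h5
    rw [mem_normalizer_iff_map_conj_eq]
    have h8 : (zpowers z).map (MulAut.conj g).toMonoidHom ≤ zpowers z := by
      rw [MonoidHom.map_zpowers, zpowers_le]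
      exact h2
    apply Subgroup.eq_of_le_of_card_ge h8
    exact (Nat.card_congr ((zpowers z).equivMapOfInjective _ (MulAut.conj g).injective).toEquiv).le
  rcases h1.eq_or_lt with h2 | h2
  · exact h2.symm
  · exfalso
    have h3 := hM.2 _ h2
    have h4 : (zpowers z).Normal := normalizer_eq_top_iff.1 h3
    have h5 : Nat.card (zpowers z) = p := by rw [Nat.card_zpowers, hzo]
    rcases h4.eq_bot_or_eq_top with h6 | h6
    · rw [h6, Subgroup.card_bot] at h5
      exact hp.one_lt.ne h5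
    · rw [h6, Subgroup.card_top] at h5
      exact hcard h5

/-- An element of odd prime order fixes at most one coset of a maximal dihedral subgroup. -/
theorem fix_le_one {S : Type*} [Group S] [Finite S] [IsSimpleGroup S] {p : ℕ}
    [Fact p.Prime] (hp2 : p ≠ 2) {k : ℕ} {M : Subgroup S}
    (hM : IsCoatom M) (e : M ≃* DihedralGroup k) (hcard : Nat.card S ≠ p) {x : S}
    (hx : orderOf x = p) : Nat.card (fixedBy (S ⧸ M) x) ≤ 1 := by
  have hp : p.Prime := Fact.out
  rw [Finite.card_le_one_iff_subsingleton]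
  have hmem : ∀ g : S, x • (g : S ⧸ M) = (g : S ⧸ M) → g⁻¹ * x * g ∈ M := by
    intro g hg
    have h2 : ((x * g : S) : S ⧸ M) = (g : S ⧸ M) := hg
    rw [eq_comm, QuotientGroup.eq] at h2
    rwa [mul_assoc]
  have hord : ∀ g : S, orderOf (g⁻¹ * x * g) = p := by
    intro g
    rw [← hx]
    have h5 : g⁻¹ * x * g = MulAut.conj g⁻¹ x := by simp [MulAut.conj_apply]
    rw [h5]
    exact orderOf_injective (MulAut.conj g⁻¹).toMonoidHom (MulAut.conj g⁻¹).injective x
  have hnorm : ∀ g : S, x • (g : S ⧸ M) = (g : S ⧸ M) →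
      normalizer ((zpowers x : Subgroup S) : Set S) = M.map (MulAut.conj g).toMonoidHom := by
    intro g hg
    have h1 := normalizer_of_dihedral hp2 hM e hcard (hmem g hg) (hord g)
    have h2 := map_equiv_normalizer_eq (zpowers (g⁻¹ * x * g)) (MulAut.conj g)
    rw [MonoidHom.map_zpowers] at h2
    have h3 : (MulAut.conj g).toMonoidHom (g⁻¹ * x * g) = x := by
      change g * (g⁻¹ * x * g) * g⁻¹ = x
      group
    rw [h3] at h2
    rw [← h2]
    exact congrArg (Subgroup.map (MulAut.conj g).toMonoidHom) h1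
  have hNM : normalizer (M : Set S) = M := by
    have h1 : M ≤ normalizer (M : Set S) := le_normalizer
    rcases h1.eq_or_lt with h2 | h2
    · exact h2.symm
    · exfalso
      have h3 := hM.2 _ h2
      have h4 : M.Normal := normalizer_eq_top_iff.1 h3
      rcases h4.eq_bot_or_eq_top with h6 | h6
      · -- `M = ⊥` is maximal: then `S` is cyclic of prime order
        have h7 : (zpowers x : Subgroup S) = ⊤ := by
          apply hM.2
          rw [h6, bot_lt_iff_ne_bot]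
          intro h8
          have h9 := congrArg (fun K : Subgroup S => Nat.card K) h8
          simp only [Nat.card_zpowers, hx, Subgroup.card_bot] at h9
          exact hp.one_lt.ne' h9
        apply hcard
        rw [← hx, ← Nat.card_zpowers, h7, Subgroup.card_top]
      · exact hM.1 h6
  constructor
  rintro ⟨w₁, hw₁⟩ ⟨w₂, hw₂⟩
  obtain ⟨g₁, rfl⟩ := QuotientGroup.mk_surjective w₁
  obtain ⟨g₂, rfl⟩ := QuotientGroup.mk_surjective w₂
  have h1 := hnorm g₁ hw₁
  have h2 := hnorm g₂ hw₂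
  apply Subtype.ext
  change (g₁ : S ⧸ M) = (g₂ : S ⧸ M)
  rw [QuotientGroup.eq, ← hNM, mem_normalizer_iff_map_conj_eq]
  have h3 : M.map (MulAut.conj g₂).toMonoidHom = M.map (MulAut.conj g₁).toMonoidHom := by
    rw [← h1, ← h2]
  have h4 := congrArg (Subgroup.map (MulAut.conj g₁⁻¹).toMonoidHom) h3
  rw [Subgroup.map_map, Subgroup.map_map] at h4
  have h5 : (MulAut.conj g₁⁻¹).toMonoidHom.comp (MulAut.conj g₂).toMonoidHom =
      (MulAut.conj (g₁⁻¹ * g₂)).toMonoidHom := by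
    ext1 z
    change g₁⁻¹ * (g₂ * z * g₂⁻¹) * g₁⁻¹⁻¹ = (g₁⁻¹ * g₂) * z * (g₁⁻¹ * g₂)⁻¹
    group
  have h6 : (MulAut.conj g₁⁻¹).toMonoidHom.comp (MulAut.conj g₁).toMonoidHom = MonoidHom.id S := by
    ext1 z
    change g₁⁻¹ * (g₁ * z * g₁⁻¹) * g₁⁻¹⁻¹ = z
    group
  rw [h5, h6, Subgroup.map_id] at h4
  exact h4

theorem UGood.of_coatom {a b : ℕ} {S : Type*} [Group S] [Finite S] {x : S}
    (h : ∀ H : Subgroup S, IsCoatom H →
      b * Nat.card (fixedBy (S ⧸ H) x) ≤ a * Nat.card (S ⧸ H)) : UGood a b x := by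
  intro H hH
  obtain ⟨K, hK, hHK⟩ := (eq_top_or_exists_le_coatom H).resolve_left hH
  exact fix_mono hHK x (h K hK)

theorem UGood.of_mulEquiv {a b : ℕ} {G S : Type*} [Group G] [Finite G] [Group S] [Finite S]
    (e : G ≃* S) {x : G} (h : UGood a b (e x)) : UGood a b x := by
  intro H hH
  have hH' : H.map e.toMonoidHom ≠ ⊤ := by
    intro h1
    apply hH
    rw [eq_top_iff]
    intro g _
    have h2 : e g ∈ H.map e.toMonoidHom := by rw [h1]; trivial
    obtain ⟨g', hg', hgg⟩ := h2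
    have h3 : g' = g := e.injective hgg
    rwa [← h3]
  let φ : (G ⧸ H) → (S ⧸ H.map e.toMonoidHom) := Quotient.map' e (fun g g' hg => by
    rw [QuotientGroup.leftRel_apply] at hg ⊢
    exact ⟨_, hg, by rw [map_mul, map_inv]; rfl⟩)
  refine fix_le_of_map (Ω := G ⧸ H) e.toMonoidHom e.surjective φ ?_ x (h _ hH')
  intro g ω
  obtain ⟨w, rfl⟩ := QuotientGroup.mk_surjective ω
  change ((e (g * w) : S) : S ⧸ H.map e.toMonoidHom) = ((e g * e w : S) : S ⧸ H.map e.toMonoidHom)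
  rw [map_mul]

/-- `PSL₂(q)`, `q ≥ 8` even, `3 ∣ q + 1`. -/
theorem psl_ugood {F : Type*} [Field F] [Fintype F] (heven : Even (Fintype.card F))
    (h8 : 8 ≤ Fintype.card F) (h3 : 3 ∣ Fintype.card F + 1)
    {x : Matrix.ProjectiveSpecialLinearGroup (Fin 2) F} (hx : orderOf x = 3) : UGood 1 7 x := by
  have hp3 : Fact (Nat.Prime 3) := ⟨Nat.prime_three⟩
  have hfin := pfin (F := F)
  have hs : IsSimpleGroup (Matrix.ProjectiveSpecialLinearGroup (Fin 2) F) :=
    Matrix.ProjectiveSpecialLinearGroup.rank_two_simple (by rw [Nat.card_eq_fintype_card]; omega)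
  have hnq : ¬ 3 ∣ Fintype.card F := by omega
  have hcyc := fun P => psl_cyclic (F := F) (p := 3) (by norm_num) hnq P
  have hcard := Cfsg.Agent.H394.SqPsl2.card_psl (F := F)
  have hfac := Cfsg.Agent.H394.SqPsl2.sub_mul_self (q := Fintype.card F) (by omega)
  obtain ⟨M, hM, ⟨e⟩⟩ := Cfsg.Agent.S0811.result (F := F) rfl (by
    simp only [Finset.mem_insert, Finset.mem_singleton, not_or]
    obtain ⟨a, ha⟩ := heven
    omega)
  have h5893 := Cfsg.Agent.S5893.result (F := F)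
  obtain ⟨q, hq⟩ : ∃ q, Fintype.card F = q := ⟨_, rfl⟩
  rw [hq] at heven h8 h3 hnq hcard hfac e h5893
  obtain ⟨c, hc1, hc2⟩ : ∃ c, q - 1 = c ∧ q = c + 1 := ⟨q - 1, rfl, by omega⟩
  have hg : Nat.gcd 2 (q - 1) = 1 := by
    rw [← Nat.coprime_iff_gcd_eq_one, Nat.coprime_two_left]
    exact Nat.Even.sub_odd (by omega) heven odd_one
  rw [hg, one_mul, hfac] at hcard
  rw [hg, Nat.div_one] at e
  have hcardne : Nat.card (Matrix.ProjectiveSpecialLinearGroup (Fin 2) F) ≠ 3 := by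
    intro h
    rw [h] at hcard
    have h3 : 1 * ((q + 1) * 2) ≤ q * ((q + 1) * (q - 1)) :=
      Nat.mul_le_mul (by omega) (Nat.mul_le_mul_left _ (by omega))
    omega
  obtain ⟨x', hx', hN'⟩ := exists_of_dihedral (p := 3) (by norm_num) (by omega) h3 hM e hcardne
  have hN : Nat.card (normalizer ((zpowers x : Subgroup (Matrix.ProjectiveSpecialLinearGroup (Fin 2) F)) :
      Set (Matrix.ProjectiveSpecialLinearGroup (Fin 2) F))) = 2 * (q + 1) := by
    rw [← hN']
    exact card_normalizer_eq hcyc hx hx'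
  apply UGood.of_coatom
  intro H hH
  rw [one_mul]
  have hmul := H.card_mul_index
  rw [hcard] at hmul
  have hind : Nat.card (Matrix.ProjectiveSpecialLinearGroup (Fin 2) F ⧸ H) = H.index := rfl
  rw [hind]
  have h3p : Nat.Prime 3 := Nat.prime_three
  rcases h5893 heven (by omega) H hH with h | ⟨⟨f⟩⟩ | ⟨⟨f⟩⟩ | ⟨K, _, _, r, hr, hK2, hKr, ⟨f⟩⟩
  · rw [fixedBy_empty h3p hx]
    · simp
    · rw [h, h3p.dvd_mul]
      omega
  · rw [fixedBy_empty h3p hx]
    · simp
    · rw [Nat.card_congr f.toEquiv, DihedralGroup.nat_card, h3p.dvd_mul]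
      omega
  · have h1 := fix_le_one (p := 3) (by norm_num) hH f hcardne hx
    rw [Nat.card_congr f.toEquiv, DihedralGroup.nat_card] at hmul
    have h2 : 2 * H.index = q * (q - 1) := by
      apply Nat.eq_of_mul_eq_mul_left (show 0 < q + 1 by omega)
      linarith
    have h4 : 8 * 7 ≤ q * (q - 1) := Nat.mul_le_mul h8 (by omega)
    omega
  · have h1 := Cfsg.Agent.H394.SqPsl2.card_psl (F := K)
    obtain ⟨q0, hq0⟩ : ∃ q0, Fintype.card K = q0 := ⟨_, rfl⟩
    have hq01 : 1 < q0 := hq0 ▸ Fintype.one_lt_card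
    rw [hq0] at h1 hK2 hKr
    have hg0 : Nat.gcd 2 (q0 - 1) = 1 := by
      rw [← Nat.coprime_iff_gcd_eq_one, Nat.coprime_two_left]
      refine Nat.Even.sub_odd (by omega) ?_ odd_one
      rw [hKr] at heven
      exact (Nat.even_pow.1 heven).1
    rw [hg0, one_mul, ← Nat.card_congr f.toEquiv] at h1
    by_cases hr2 : r = 2
    · subst hr2
      rw [fixedBy_empty h3p hx]
      · simp
      · rw [h1, ← hKr, h3p.dvd_mul, not_or]
        refine ⟨?_, by omega⟩
        intro h2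
        exact hnq (hKr ▸ h2.trans (dvd_pow_self q0 (by norm_num)))
    · have hr3 : 3 ≤ r := by
        have := hr.two_le
        omega
      have h2 : Nat.card H ≤ q := by
        rw [h1, hKr]
        calc q0 * (q0 ^ 2 - 1) ≤ q0 * q0 ^ 2 := Nat.mul_le_mul_left _ (Nat.sub_le _ _)
          _ = q0 ^ 3 := by ring
          _ ≤ q0 ^ r := Nat.pow_le_pow_right (by omega) hr3
      have h4 : (q + 1) * (q - 1) ≤ H.index := by
        apply Nat.le_of_mul_le_mul_left _ (show 0 < q by omega)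
        rw [← hmul]
        exact Nat.mul_le_mul_right _ h2
      have h5 := cyclic_fix hcyc hx H
      rw [hN] at h5
      have h6 : (q + 1) * 7 ≤ (q + 1) * (q - 1) := Nat.mul_le_mul_left _ (by omega)
      omega

/-- **(J1)** `SL₂(q)`, `q ≥ 8` even, `3 ∣ q + 1`: the elements of order `3` have fixed point ratio
at most `1/7`. -/
theorem sl_ugood {F : Type*} [Field F] [Fintype F] [CharP F 2]
    (h8 : 8 ≤ Fintype.card F) (h3 : 3 ∣ Fintype.card F + 1)
    {x : Matrix.SpecialLinearGroup (Fin 2) F} (hx : orderOf x = 3) : UGood 1 7 x := by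
  have heven : Even (Fintype.card F) := by
    obtain ⟨n, -, hn⟩ := FiniteField.card F 2
    rw [hn]
    exact (Nat.even_pow.2 ⟨even_two, n.2.ne'⟩)
  have hfin := pfin (F := F)
  -- the center is trivial
  let f : Matrix.SpecialLinearGroup (Fin 2) F →* Matrix.ProjectiveSpecialLinearGroup (Fin 2) F :=
    QuotientGroup.mk' (center (SpecialLinearGroup (Fin 2) F))
  have hinj : Function.Injective f := by
    rw [injective_iff_map_eq_one]
    intro g hg
    have h1 : g ∈ center (SpecialLinearGroup (Fin 2) F) := (QuotientGroup.eq_one_iff g).1 hg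
    rw [Matrix.SpecialLinearGroup.mem_center_iff] at h1
    obtain ⟨r, hr, hrg⟩ := h1
    rw [Fintype.card_fin] at hr
    have h2 : r = 1 := by
      have h4 : (2 : F) = 0 := by
        have := CharP.cast_eq_zero F 2
        exact_mod_cast this
      have h3 : (r - 1) ^ 2 = 0 := by linear_combination hr + (1 - r) * h4
      exact sub_eq_zero.1 (pow_eq_zero_iff (by norm_num) |>.1 h3)
    apply Subtype.ext
    rw [← hrg, h2, map_one]
    rfl
  let e : Matrix.SpecialLinearGroup (Fin 2) F ≃* Matrix.ProjectiveSpecialLinearGroup (Fin 2) F :=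
    MulEquiv.ofBijective f ⟨hinj, QuotientGroup.mk'_surjective _⟩
  apply UGood.of_mulEquiv e
  exact psl_ugood heven h8 h3 (by rw [MulEquiv.orderOf_eq, hx])

end Cfsg.Agent.H452.FprJ1
end

-- part: H441/FPR/Tor
section
set_option linter.all false
open scoped Cfsg.Agent.FastGrp

-- part: H441/FPR/ETab
section
/-!
# Tables of subgroups `SL_n(K)` and their natural modules in the groups of type `E`
-/

set_option autoImplicit false
set_option maxRecDepth 100000

namespace Cfsg.Agent.H441.FPR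

open Cfsg.Lie Cfsg.Agent.ChevalleyStructure Cfsg.Agent.ChevalleyStructure.Elts Cfsg.Agent.H79.SimpleGen Matrix
open Cfsg.Agent.TitsThree.KExcRT Cfsg.Agent.ChevalleyStructure.RootVec Cfsg.Agent.Nodes.RGDChev

namespace Fc

def frc {α : Type} (x : ℕ) (f : ℕ → α) : α := Nat.rec (f 0) (fun k _ => f (Nat.succ k)) x

theorem frc_eq {α : Type} (x : ℕ) (f : ℕ → α) : frc x f = f x := by cases x <;> rfl

def nth {α : Type} (d : α) (l : List α) : ℕ → α :=
  List.rec (fun _ => d) (fun a _ ih n => Nat.rec a (fun k _ => ih k) n) l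

theorem nth_eq {α : Type} (d : α) (l : List α) (n : ℕ) : nth d l n = l.getD n d := by
  induction l generalizing n with
  | nil => rfl
  | cons a l ih => cases n with
    | zero => rfl
    | succ k => exact ih k

theorem nth_arr {α : Type} (d : α) (a : Array α) (n : ℕ) : a.getD n d = nth d a.toList n := by
  rw [nth_eq, List.getD_eq_getElem?_getD, Array.getD_eq_getD_getElem?, Array.getElem?_toList]

def row (D : ChevalleyDatum) (r : ℕ) : List (ℕ × Array (ℕ × ℤ)) := (nth #[] D.chain.toList r).toList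

def fnd (s : ℕ) (l : List (ℕ × Array (ℕ × ℤ))) : List (ℕ × ℤ) :=
  List.rec [] (fun e _ ih => Bool.rec ih e.2.toList (Nat.beq e.1 s)) l

theorem ce_eq (D : ChevalleyDatum) (r s : ℕ) : D.chainEntry r s = fnd s (row D r) := by
  unfold ChevalleyDatum.chainEntry row
  rw [nth_arr]
  generalize (nth #[] D.chain.toList r).toList = l
  induction l with
  | nil => rfl
  | cons e l ih =>
    show _ = (Bool.rec (fnd s l) e.2.toList (Nat.beq e.1 s) : List (ℕ × ℤ))
    by_cases h : e.1 = s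
    · rw [List.find?_cons_of_pos (by simpa using h), Nat.beq_eq.mpr h]
    · rw [List.find?_cons_of_neg (by simpa using h), ih, Bool.eq_false_iff.2 fun h1 => h (Nat.eq_of_beq_eq_true h1)]

def msk (l : List (ℕ × Array (ℕ × ℤ))) : ℕ := List.rec 0 (fun e _ ih => Nat.lor ih (Nat.shiftLeft 1 e.1)) l

theorem fnd_nil {s : ℕ} {l : List (ℕ × Array (ℕ × ℤ))} (h : (msk l).testBit s = false) : fnd s l = [] := by
  induction l with
  | nil => rfl
  | cons e l ih =>
    have h1 : (msk l ||| 1 <<< e.1).testBit s = false := h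
    rw [Nat.testBit_or, Bool.or_eq_false_iff, Nat.one_shiftLeft, Nat.testBit_two_pow] at h1
    show (Bool.rec (fnd s l) e.2.toList (Nat.beq e.1 s) : List (ℕ × ℤ)) = []
    rw [Bool.eq_false_iff.2 fun h2 => of_decide_eq_false h1.2 (Nat.eq_of_beq_eq_true h2)]
    exact ih h1.1

def fc2 (D : ChevalleyDatum) (r s : ℕ) : List (ℕ × ℤ) → List (ℕ × ℤ) → List (ℕ × ℤ × ℕ × ℕ)
  | [x], [_] => [(x.1, x.2, 1, 1)]
  | _, _ => D.commTerms r s

def fct (D : ChevalleyDatum) (r s : ℕ) : List (ℕ × ℤ × ℕ × ℕ) :=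
  frc r fun r => frc s fun s =>
    Bool.rec (fc2 D r s (fnd s (row D r)) (fnd r (row D s))) []
      (Nat.beq (Nat.land (Nat.lor (Nat.shiftRight (msk (row D r)) s) (Nat.shiftRight (msk (row D s)) r)) 1) 0)

theorem ct_eq (D : ChevalleyDatum) : D.commTerms = fct D := by
  funext r s
  rw [fct, frc_eq, frc_eq]
  cases h : Nat.beq (Nat.land (Nat.lor (Nat.shiftRight (msk (row D r)) s) (Nat.shiftRight (msk (row D s)) r)) 1) 0
  · show _ = fc2 D r s _ _
    rw [← ce_eq, ← ce_eq]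
    unfold fc2
    split
    · rename_i h1 h2
      unfold ChevalleyDatum.commTerms ChevalleyDatum.chainRoot ChevalleyDatum.chainM
      rw [h1, h2]; rfl
    · rfl
  · have h1 : ((msk (row D r) >>> s ||| msk (row D s) >>> r)).testBit 0 = false := by
      have h2 : (msk (row D r) >>> s ||| msk (row D s) >>> r) &&& 1 = 0 := Nat.eq_of_beq_eq_true h
      rw [Nat.and_one_is_mod] at h2
      rw [Nat.testBit_zero, h2]; rfl
    rw [Nat.testBit_or, Bool.or_eq_false_iff, Nat.testBit_shiftRight, Nat.testBit_shiftRight, Nat.add_zero, Nat.add_zero] at h1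
    show _ = []
    unfold ChevalleyDatum.commTerms ChevalleyDatum.chainRoot ChevalleyDatum.chainM
    rw [ce_eq D r s, ce_eq D s r, fnd_nil h1.1, fnd_nil h1.2]; rfl

def fng (D : ChevalleyDatum) (r : ℕ) : ℕ := frc r (nth 0 D.negIdx.toList)

theorem ng_eq (D : ChevalleyDatum) : D.neg = fng D := by
  funext r
  rw [fng, frc_eq]
  exact nth_arr _ _ _

def alf (n : ℕ) (p : Fin n → Bool) : Bool := List.rec true (fun a _ ih => Bool.rec false ih (p a)) (List.finRange n)

theorem alf_of {n : ℕ} {p : Fin n → Bool} (h : alf n p = true) (a : Fin n) : p a = true := by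
  have h1 : ∀ l : List (Fin n), (List.rec true (fun a _ ih => Bool.rec false ih (p a)) l : Bool) = true → ∀ a ∈ l, p a = true := by
    intro l
    induction l with
    | nil => intro _ a ha; cases ha
    | cons b l ih =>
      intro h2 a ha
      cases hb : p b
      · simp only [hb] at h2; cases h2
      · simp only [hb] at h2
        rcases List.mem_cons.1 ha with rfl | ha
        · exact hb
        · exact ih h2 a ha
  exact h1 _ h a (List.mem_finRange a)

def cz (D : ChevalleyDatum) (r s : ℕ) (l : List (ℕ × ℤ × ℕ × ℕ)) : Bool :=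
  frc r fun r => frc s fun s => Bool.rec (Bool.rec (decide (fct D r s = l)) false (Nat.beq s (fng D r))) false (Nat.beq s r)

theorem cz_of {D : ChevalleyDatum} {r s : ℕ} {l : List (ℕ × ℤ × ℕ × ℕ)} (h : cz D r s l = true) :
    s ≠ r ∧ s ≠ D.neg r ∧ D.commTerms r s = l := by
  rw [cz, frc_eq, frc_eq] at h
  rw [ct_eq, ng_eq]
  cases h1 : Nat.beq s r
  · cases h2 : Nat.beq s (fng D r)
    · rw [h1, h2] at h
      exact ⟨Nat.ne_of_beq_eq_false h1, Nat.ne_of_beq_eq_false h2, of_decide_eq_true h⟩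
    · rw [h1, h2] at h; cases h
  · rw [h1] at h; cases h

def ore {n : ℕ} (a b : Fin n) (x : Bool) : Bool := Bool.rec x true (Nat.beq a b)

theorem ore_of {n : ℕ} {a b : Fin n} {x : Bool} (h : ore a b x = true) (hab : a ≠ b) : x = true := by
  rwa [ore, Bool.eq_false_iff.2 fun h1 => hab (Fin.ext (Nat.eq_of_beq_eq_true h1))] at h

theorem rtb_of {D : ChevalleyDatum} {n : ℕ} {r : Fin n → Fin n → ℕ} {s : Fin n → Fin n → ℤ}
    (h : (alf n fun a => alf n fun b => ore a b (alf n fun c => ore b c (ore a c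
      (cz D (r a b) (r b c) [(r a c, s a b * s b c * s a c, 1, 1)])))) = true) : RTb D r s := fun a b c h1 =>
  cz_of (ore_of (ore_of (alf_of (ore_of (alf_of (alf_of h a) b) h1.1) c) h1.2.1) h1.2.2)

theorem rtc_of {D : ChevalleyDatum} {n : ℕ} {r : Fin n → Fin n → ℕ}
    (h : (alf n fun a => alf n fun b => ore a b (alf n fun c => ore b c (alf n fun d => ore c d (ore a d
      (ore a c (cz D (r a b) (r c d) []) && ore b d (cz D (r a b) (r c d) [])))))) = true) : RTc D r := fun a b c d h1 => by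
  have h2 := Bool.and_eq_true_iff.1
    (ore_of (ore_of (alf_of (ore_of (alf_of (ore_of (alf_of (alf_of h a) b) h1.1) c) h1.2.2.1) d) h1.2.1) h1.2.2.2.1)
  by_cases h3 : a = c
  · exact cz_of (ore_of h2.2 fun h4 => h1.2.2.2.2 ⟨h3, h4⟩)
  · exact cz_of (ore_of h2.1 h3)

def natb (D : ChevalleyDatum) {n : ℕ} (r : Fin n → Fin n → ℕ) (ε : ℤ) (g : Fin n → ℕ) (u : Fin n → ℤ) : Bool :=
  decide (NatA D g u ∧ ε * ε = 1) && alf n fun a => alf n fun b => ore a b (cz D (g a) (g b) [] &&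
    (cz D (r a b) (g b) [(g a, ε * u b * u a, 1, 1)] && alf n fun j => ore j b (cz D (r a b) (g j) [])))

theorem nat_of {D : ChevalleyDatum} {n m : ℕ} {r : Fin n → Fin n → ℕ} {ε : ℤ} {g : Fin m → Fin n → ℕ}
    {u : Fin m → Fin n → ℤ} (h : (alf m fun i => natb D r ε (g i) (u i)) = true) (i : Fin m) : NatOK D r ε (g i) (u i) := by
  obtain ⟨h1, h2⟩ := Bool.and_eq_true_iff.1 (alf_of h i)
  have h3 := fun a b hab => Bool.and_eq_true_iff.1 (ore_of (alf_of (alf_of h2 a) b) hab)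
  have h4 := of_decide_eq_true h1
  exact ⟨h4.1, fun a b hab => cz_of (h3 a b hab).1, fun a b hab => cz_of (Bool.and_eq_true_iff.1 (h3 a b hab).2).1,
    fun a b j hab => cz_of (ore_of (alf_of (Bool.and_eq_true_iff.1 (h3 a b hab.1).2).2 j) hab.2), h4.2⟩

def fca (D : ChevalleyDatum) (i s : ℕ) : ℤ := frc i fun i => frc s (nth 0 (nth #[] D.cartanSR.toList i).toList)

theorem ca_eq (D : ChevalleyDatum) : D.cartan = fca D := by
  funext i s
  rw [fca, frc_eq, frc_eq, ← nth_arr, ← nth_arr]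
  rfl

def fsi (D : ChevalleyDatum) (i : ℕ) : ℕ := frc i (nth 0 D.simpleIdx.toList)

theorem si_eq (D : ChevalleyDatum) : D.simple = fsi D := by
  funext r
  rw [fsi, frc_eq]
  exact nth_arr _ _ _

def fco (D : ChevalleyDatum) (r : ℕ) : List ℤ := frc r fun r => (nth #[] D.coroot.toList r).toList

theorem pos_of {D : ChevalleyDatum} {k : ℕ} (h : (k < D.nroots ∧ ∀ c ∈ fco D k, 0 ≤ c) ∧
    fng D k < D.nroots ∧ ∀ c ∈ fco D (fng D k), c ≤ 0) : D.IsPosRoot k ∧ D.IsNegRoot (D.neg k) := by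
  rw [fco, fco, frc_eq, frc_eq, ← nth_arr, ← nth_arr, ← ng_eq] at h
  exact h

end Fc

open Fc

/-- table of an `SL_n` and natural modules -/
structure TabOK (D : ChevalleyDatum) {n m : ℕ} (r : Fin n → Fin n → ℕ) (g : Fin m → Fin n → ℕ)
    (steps : List (ℕ × ℕ)) : Prop where
  ra : RTa D r
  rb : RTb D r fun _ _ => 1
  rc : RTc D r
  rn : ∀ i j, i ≠ j → r j i = D.neg (r i j)
  crit : CritOK D r 1 g (fun _ _ => 1) (fun _ _ => 1) steps

/-! ### `E₆` -/

def r6a : Fin 4 → Fin 4 → ℕ := ![![0, 36, 38, 41], ![35, 0, 37, 40], ![33, 34, 0, 39], ![30, 31, 32, 0]]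
def g6a : Fin 3 → Fin 4 → ℕ := ![![45, 44, 43, 42], ![49, 48, 47, 46], ![60, 59, 58, 57]]
def s6a : List (ℕ × ℕ) := [(60, 26), (45, 11), (43, 29), (42, 28), (44, 28), (43, 27), (45, 27), (44, 26)]

theorem t6a : TabOK chevE6 r6a g6a s6a where
  ra := by decide +kernel
  rb := Fc.rtb_of (by decide +kernel)
  rc := Fc.rtc_of (by decide +kernel)
  rn := by rw [Fc.ng_eq]; decide +kernel
  crit :=
    { rlt := by decide +kernel
      nat := Fc.nat_of (by decide +kernel)
      dual := Fc.nat_of (by rw [Fc.ng_eq]; decide +kernel)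
      pos := fun i a => Fc.pos_of (by revert i a; decide +kernel)
      gen := by unfold GenOK gall gstep; rw [Fc.ct_eq, Fc.ng_eq]; decide +kernel }

def r6b : Fin 3 → Fin 3 → ℕ := ![![0, 36, 38], ![35, 0, 37], ![33, 34, 0]]
def g6b : Fin 4 → Fin 3 → ℕ := ![![41, 40, 39], ![45, 44, 43], ![49, 48, 47], ![60, 59, 58]]
def s6b : List (ℕ × ℕ) := [(60, 26), (45, 11), (49, 30), (41, 22), (45, 30), (41, 26), (40, 32), (39, 31),
  (41, 31), (40, 30)]

theorem t6b : TabOK chevE6 r6b g6b s6b where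
  ra := by decide +kernel
  rb := Fc.rtb_of (by decide +kernel)
  rc := Fc.rtc_of (by decide +kernel)
  rn := by rw [Fc.ng_eq]; decide +kernel
  crit :=
    { rlt := by decide +kernel
      nat := Fc.nat_of (by decide +kernel)
      dual := Fc.nat_of (by rw [Fc.ng_eq]; decide +kernel)
      pos := fun i a => Fc.pos_of (by revert i a; decide +kernel)
      gen := by unfold GenOK gall gstep; rw [Fc.ct_eq, Fc.ng_eq]; decide +kernel }

/-! ### `E₇` -/

def r7a : Fin 4 → Fin 4 → ℕ := ![![0, 63, 65, 68], ![62, 0, 64, 67], ![60, 61, 0, 66], ![57, 58, 59, 0]]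
def g7a : Fin 4 → Fin 4 → ℕ := ![![72, 71, 70, 69], ![77, 76, 75, 74], ![82, 81, 80, 79], ![98, 97, 96, 95]]
def s7a : List (ℕ × ℕ) := [(98, 48), (77, 27), (82, 53), (72, 43), (77, 53), (72, 48), (70, 56), (69, 55),
  (71, 55), (70, 54), (72, 54), (71, 53)]

theorem t7a : TabOK chevE7 r7a g7a s7a where
  ra := by decide +kernel
  rb := Fc.rtb_of (by decide +kernel)
  rc := Fc.rtc_of (by decide +kernel)
  rn := by rw [Fc.ng_eq]; decide +kernel
  crit :=
    { rlt := by decide +kernel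
      nat := Fc.nat_of (by decide +kernel)
      dual := Fc.nat_of (by rw [Fc.ng_eq]; decide +kernel)
      pos := fun i a => Fc.pos_of (by revert i a; decide +kernel)
      gen := by unfold GenOK gall gstep; rw [Fc.ct_eq, Fc.ng_eq]; decide +kernel }

def r7b : Fin 3 → Fin 3 → ℕ := ![![0, 63, 65], ![62, 0, 64], ![60, 61, 0]]
def g7b : Fin 5 → Fin 3 → ℕ := ![![68, 67, 66], ![72, 71, 70], ![77, 76, 75], ![82, 81, 80], ![98, 97, 96]]
def s7b : List (ℕ × ℕ) := [(98, 48), (77, 27), (82, 53), (72, 43), (77, 53), (72, 48), (72, 57), (68, 53),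
  (67, 59), (66, 58), (68, 58), (67, 57)]

theorem t7b : TabOK chevE7 r7b g7b s7b where
  ra := by decide +kernel
  rb := Fc.rtb_of (by decide +kernel)
  rc := Fc.rtc_of (by decide +kernel)
  rn := by rw [Fc.ng_eq]; decide +kernel
  crit :=
    { rlt := by decide +kernel
      nat := Fc.nat_of (by decide +kernel)
      dual := Fc.nat_of (by rw [Fc.ng_eq]; decide +kernel)
      pos := fun i a => Fc.pos_of (by revert i a; decide +kernel)
      gen := by unfold GenOK gall gstep; rw [Fc.ct_eq, Fc.ng_eq]; decide +kernel }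

/-! ### `E₈` -/

def r8a : Fin 6 → Fin 6 → ℕ := ![![0, 120, 122, 125, 129, 134], ![119, 0, 121, 124, 128, 133],
  ![117, 118, 0, 123, 127, 132], ![114, 115, 116, 0, 126, 131], ![110, 111, 112, 113, 0, 130],
  ![105, 106, 107, 108, 109, 0]]
def g8a : Fin 3 → Fin 6 → ℕ := ![![140, 139, 138, 137, 136, 135], ![146, 145, 144, 143, 142, 141],
  ![168, 167, 166, 165, 164, 163]]
def s8a : List (ℕ × ℕ) := [(168, 99), (140, 71), (136, 104), (135, 103), (137, 103), (136, 102), (138, 102),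
  (137, 101), (139, 101), (138, 100), (140, 100), (139, 99)]

private noncomputable def _root_.Cfsg.Agent.LsF.fb546b9_0 : {f // @Cfsg.Agent.H441.FPR.Fc.alf = f} := ⟨_, by first | (delta Cfsg.Agent.H441.FPR.Fc.alf; rewrite [Cfsg.Agent.LsF.finRange_eq]; exact rfl) | exact rfl⟩
private noncomputable def _root_.Cfsg.Agent.LsF.fb546b9_1 : {f // @Cfsg.Lie.ChevalleyDatum.chainEntry = f} := ⟨_, by first | (delta Cfsg.Lie.ChevalleyDatum.chainEntry; rewrite [Cfsg.Agent.LsF.instDecEq_eq, Cfsg.Agent.LsF.find?_eq, Cfsg.Agent.LsF.agetD_eq, Cfsg.Agent.LsF.decide_eq]; (try delta Cfsg.Lie.ChevalleyDatum.chainEntry.match_1); (try delta Option.casesOn); exact rfl) | exact rfl⟩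
private noncomputable def _root_.Cfsg.Agent.LsF.fb546b9_2 : {f // @Cfsg.Lie.ChevalleyDatum.chainRoot = f} := ⟨_, by first | (delta Cfsg.Lie.ChevalleyDatum.chainRoot Option.map; rewrite [Cfsg.Agent.LsF.fb546b9_1.2, Cfsg.Agent.LsF.nsub_pat, Cfsg.Agent.LsF.instGetElem?_eq]; (try delta Option.getD.match_1); (try delta Option.casesOn); exact rfl) | exact rfl⟩
private noncomputable def _root_.Cfsg.Agent.LsF.fb546b9_3 : {f // @Cfsg.Lie.ChevalleyDatum.chainM = f} := ⟨_, by first | (delta Cfsg.Lie.ChevalleyDatum.chainM Option.map; rewrite [Cfsg.Agent.LsF.fb546b9_1.2, Cfsg.Agent.LsF.nsub_pat, Cfsg.Agent.LsF.instGetElem?_eq, Cfsg.Agent.LsF.ogetD_eq]; (try delta Option.getD.match_1); (try delta Option.casesOn); exact rfl) | exact rfl⟩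
private noncomputable def _root_.Cfsg.Agent.LsF.fb546b9_4 : {f // @Cfsg.Lie.ChevalleyDatum.commTerms = f} := ⟨_, by first | (delta Cfsg.Lie.ChevalleyDatum.commTerms Option.bind Option.map; rewrite [Cfsg.Agent.LsF.fb546b9_2.2, Cfsg.Agent.LsF.fb546b9_3.2, Cfsg.Agent.LsF.imul_pat, Cfsg.Agent.LsF.ineg_pat, Cfsg.Agent.LsF.filterMap_eq, Cfsg.Agent.LsF.ogetD_eq]; (try delta Option.bind.match_1); (try delta Option.getD.match_1); (try delta Option.casesOn); exact rfl) | exact rfl⟩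
private noncomputable def _root_.Cfsg.Agent.LsF.fb546b9_5 : {f // @Cfsg.Agent.H441.FPR.Fc.fc2 = f} := ⟨_, by first | (delta Cfsg.Agent.H441.FPR.Fc.fc2; rewrite [Cfsg.Agent.LsF.fb546b9_4.2]; (try delta Cfsg.Agent.H441.FPR.Fc.fc2.match_1); (try delta Cfsg.Agent.H441.FPR.Fc.fc2._sparseCasesOn_1); (try delta Cfsg.Agent.H441.FPR.Fc.fc2._sparseCasesOn_2); exact rfl) | exact rfl⟩
private noncomputable def _root_.Cfsg.Agent.LsF.fb546b9_6 : {f // @Cfsg.Agent.H441.FPR.Fc.fct = f} := ⟨_, by first | (delta Cfsg.Agent.H441.FPR.Fc.fct; rewrite [Cfsg.Agent.LsF.fb546b9_5.2]; exact rfl) | exact rfl⟩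
private noncomputable def _root_.Cfsg.Agent.LsF.fb546b9_7 : {f // @Cfsg.Agent.H441.FPR.Fc.cz = f} := ⟨_, by first | (delta Cfsg.Agent.H441.FPR.Fc.cz; rewrite [Cfsg.Agent.LsF.fb546b9_6.2, Cfsg.Agent.LsF.dProdEq_eq, Cfsg.Agent.LsF.instDecEq_eq, Cfsg.Agent.LsF.instIDecEq_eq, Cfsg.Agent.LsF.dListEq_eq, Cfsg.Agent.LsF.decide_eq]; exact rfl) | exact rfl⟩
private noncomputable def _root_.Cfsg.Agent.LsF.fb546b9_8 : {f // @Cfsg.Agent.H441.FPR.r8a = f} := ⟨_, by first | (delta Cfsg.Agent.H441.FPR.r8a; rewrite [Cfsg.Agent.LsF.vecCons_eq]; exact rfl) | exact rfl⟩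
private noncomputable def _root_.Cfsg.Agent.LsF.fb546b9_9 : {f // @Cfsg.Agent.H441.FPR.Fc.natb = f} := ⟨_, by first | (delta Cfsg.Agent.H441.FPR.Fc.natb Cfsg.Agent.H441.FPR.NatA Cfsg.Agent.H441.FPR.instDecidableNatA; rewrite [Cfsg.Agent.LsF.fb546b9_0.2, Cfsg.Agent.LsF.fb546b9_7.2, Cfsg.Agent.LsF.imul_pat, Cfsg.Agent.LsF.and_eq, Cfsg.Agent.LsF.decLt_eq, Cfsg.Agent.LsF.instIDecEq_eq, Cfsg.Agent.LsF.dAnd_eq, Cfsg.Agent.LsF.dForallFin_eq, Cfsg.Agent.LsF.decide_eq]; exact rfl) | exact rfl⟩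
private noncomputable def _root_.Cfsg.Agent.LsF.fb546b9_10 : {f // @Cfsg.Agent.H441.FPR.g8a = f} := ⟨_, by first | (delta Cfsg.Agent.H441.FPR.g8a; rewrite [Cfsg.Agent.LsF.vecCons_eq]; exact rfl) | exact rfl⟩
theorem t8a : TabOK chevE8 r8a g8a s8a where
  ra := by decide +kernel
  rb := Fc.rtb_of (by ((try (rewrite [Cfsg.Agent.LsF.fb546b9_0.2, Cfsg.Agent.LsF.fb546b9_7.2, Cfsg.Agent.LsF.fb546b9_8.2, Cfsg.Agent.LsF.imul_pat])); decide +kernel))
  rc := Fc.rtc_of (by ((try (rewrite [Cfsg.Agent.LsF.fb546b9_0.2, Cfsg.Agent.LsF.fb546b9_7.2, Cfsg.Agent.LsF.fb546b9_8.2, Cfsg.Agent.LsF.and_eq])); decide +kernel))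
  rn := by rw [Fc.ng_eq]; decide +kernel
  crit :=
    { rlt := by decide +kernel
      nat := Fc.nat_of (by ((try (rewrite [Cfsg.Agent.LsF.fb546b9_0.2, Cfsg.Agent.LsF.fb546b9_9.2, Cfsg.Agent.LsF.fb546b9_8.2, Cfsg.Agent.LsF.fb546b9_10.2])); decide +kernel))
      dual := Fc.nat_of (by rw [Fc.ng_eq]; ((try (rewrite [Cfsg.Agent.LsF.fb546b9_0.2, Cfsg.Agent.LsF.fb546b9_9.2, Cfsg.Agent.LsF.fb546b9_8.2, Cfsg.Agent.LsF.fb546b9_10.2, Cfsg.Agent.LsF.ineg_pat])); decide +kernel))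
      pos := fun i a => Fc.pos_of (by revert i a; decide +kernel)
      gen := by unfold GenOK gall gstep; rw [Fc.ct_eq, Fc.ng_eq]; decide +kernel }

def r8b : Fin 5 → Fin 5 → ℕ := ![![0, 120, 122, 125, 129], ![119, 0, 121, 124, 128], ![117, 118, 0, 123, 127],
  ![114, 115, 116, 0, 126], ![110, 111, 112, 113, 0]]
def g8b : Fin 4 → Fin 5 → ℕ := ![![134, 133, 132, 131, 130], ![140, 139, 138, 137, 136],
  ![146, 145, 144, 143, 142], ![168, 167, 166, 165, 164]]
def s8b : List (ℕ × ℕ) := [(168, 99), (140, 71), (146, 105), (134, 93), (140, 105), (134, 99), (131, 109),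
  (130, 108), (132, 108), (131, 107), (133, 107), (132, 106), (134, 106), (133, 105)]

private noncomputable def _root_.Cfsg.Agent.LsF.fb546b9_11 : {f // @Cfsg.Agent.H441.FPR.r8b = f} := ⟨_, by first | (delta Cfsg.Agent.H441.FPR.r8b; rewrite [Cfsg.Agent.LsF.vecCons_eq]; exact rfl) | exact rfl⟩
private noncomputable def _root_.Cfsg.Agent.LsF.fb546b9_12 : {f // @Cfsg.Agent.H441.FPR.g8b = f} := ⟨_, by first | (delta Cfsg.Agent.H441.FPR.g8b; rewrite [Cfsg.Agent.LsF.vecCons_eq]; exact rfl) | exact rfl⟩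
theorem t8b : TabOK chevE8 r8b g8b s8b where
  ra := by decide +kernel
  rb := Fc.rtb_of (by decide +kernel)
  rc := Fc.rtc_of (by decide +kernel)
  rn := by rw [Fc.ng_eq]; decide +kernel
  crit :=
    { rlt := by decide +kernel
      nat := Fc.nat_of (by ((try (rewrite [Cfsg.Agent.LsF.fb546b9_0.2, Cfsg.Agent.LsF.fb546b9_9.2, Cfsg.Agent.LsF.fb546b9_11.2, Cfsg.Agent.LsF.fb546b9_12.2])); decide +kernel))
      dual := Fc.nat_of (by rw [Fc.ng_eq]; ((try (rewrite [Cfsg.Agent.LsF.fb546b9_0.2, Cfsg.Agent.LsF.fb546b9_9.2, Cfsg.Agent.LsF.fb546b9_11.2, Cfsg.Agent.LsF.fb546b9_12.2, Cfsg.Agent.LsF.ineg_pat])); decide +kernel))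
      pos := fun i a => Fc.pos_of (by revert i a; decide +kernel)
      gen := by unfold GenOK gall gstep; rw [Fc.ct_eq, Fc.ng_eq]; decide +kernel }

def r8c : Fin 4 → Fin 4 → ℕ := ![![0, 120, 122, 125], ![119, 0, 121, 124], ![117, 118, 0, 123],
  ![114, 115, 116, 0]]
def g8c : Fin 5 → Fin 4 → ℕ := ![![129, 128, 127, 126], ![134, 133, 132, 131], ![140, 139, 138, 137],
  ![146, 145, 144, 143], ![168, 167, 166, 165]]
def s8c : List (ℕ × ℕ) := [(168, 99), (140, 71), (146, 105), (134, 93), (140, 105), (134, 99), (134, 110),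
  (129, 105), (127, 113), (126, 112), (128, 112), (127, 111), (129, 111), (128, 110)]

private noncomputable def _root_.Cfsg.Agent.LsF.fb546b9_13 : {f // @Cfsg.Agent.H441.FPR.r8c = f} := ⟨_, by first | (delta Cfsg.Agent.H441.FPR.r8c; rewrite [Cfsg.Agent.LsF.vecCons_eq]; exact rfl) | exact rfl⟩
private noncomputable def _root_.Cfsg.Agent.LsF.fb546b9_14 : {f // @Cfsg.Agent.H441.FPR.g8c = f} := ⟨_, by first | (delta Cfsg.Agent.H441.FPR.g8c; rewrite [Cfsg.Agent.LsF.vecCons_eq]; exact rfl) | exact rfl⟩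
theorem t8c : TabOK chevE8 r8c g8c s8c where
  ra := by decide +kernel
  rb := Fc.rtb_of (by decide +kernel)
  rc := Fc.rtc_of (by decide +kernel)
  rn := by rw [Fc.ng_eq]; decide +kernel
  crit :=
    { rlt := by decide +kernel
      nat := Fc.nat_of (by ((try (rewrite [Cfsg.Agent.LsF.fb546b9_0.2, Cfsg.Agent.LsF.fb546b9_9.2, Cfsg.Agent.LsF.fb546b9_13.2, Cfsg.Agent.LsF.fb546b9_14.2])); decide +kernel))
      dual := Fc.nat_of (by rw [Fc.ng_eq]; ((try (rewrite [Cfsg.Agent.LsF.fb546b9_0.2, Cfsg.Agent.LsF.fb546b9_9.2, Cfsg.Agent.LsF.fb546b9_13.2, Cfsg.Agent.LsF.fb546b9_14.2, Cfsg.Agent.LsF.ineg_pat])); decide +kernel))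
      pos := fun i a => Fc.pos_of (by revert i a; decide +kernel)
      gen := by unfold GenOK gall gstep; rw [Fc.ct_eq, Fc.ng_eq]; decide +kernel }

end Cfsg.Agent.H441.FPR
end

-- part: H441/FPR/Blk
section
/-!
# Elements of `SL_n(K)` acting without fixed vectors; the rows for the tables
-/

set_option autoImplicit false

namespace Cfsg.Agent.H441.FPR

open Cfsg.Lie Cfsg.Agent.ChevalleyStructure Cfsg.Agent.ChevalleyStructure.Elts Cfsg.Agent.H79.SimpleGen Matrix
open Cfsg.Agent.TitsThree.KExcRT Cfsg.Agent.ChevalleyStructure.RootVec Cfsg.Agent.Nodes.RGDChev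
open Cfsg.Agent.H398.FPR Cfsg.Agent.H162.GaussExcMain Cfsg.Agent.KFacts.RgdChevCoord

universe u

variable {K : Type u} [Field K]

/-- fixed vectors and determinants -/
theorem free_of_det {n : ℕ} {A : Matrix (Fin n) (Fin n) K} (h : (A - 1).det ≠ 0) :
    ∀ v : Fin n → K, A.mulVec v = v → v = 0 := by
  intro v hv
  by_contra hne
  apply h
  rw [← Matrix.exists_mulVec_eq_zero_iff]
  exact ⟨v, hne, by rw [Matrix.sub_mulVec, Matrix.one_mulVec, hv, sub_self]⟩

/-- block sums -/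
theorem exists_block (m : ℕ) {B : Matrix (Fin 2) (Fin 2) K} (hdet : B.det = 1) {k : ℕ} (hk : B ^ k = 1) {s : ℕ}
    (hs : (B ^ s - 1).det ≠ 0) : ∃ A : SpecialLinearGroup (Fin (2 * m)) K, A ^ k = 1 ∧
      ∀ v : Fin (2 * m) → K, ((A ^ s : SpecialLinearGroup (Fin (2 * m)) K) : Matrix _ _ K).mulVec v = v → v = 0 := by
  let f : Matrix (Fin 2 × Fin m) (Fin 2 × Fin m) K ≃ₐ[K] Matrix (Fin (2 * m)) (Fin (2 * m)) K :=
    Matrix.reindexAlgEquiv K K finProdFinEquiv
  have hf : ∀ M, (f M).det = M.det := fun M => Matrix.det_reindexAlgEquiv K K finProdFinEquiv M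
  let A0 : Matrix (Fin 2 × Fin m) (Fin 2 × Fin m) K := Matrix.blockDiagonal fun _ => B
  have hA0 : (f A0).det = 1 := by
    rw [hf, Matrix.det_blockDiagonal]
    simp [hdet]
  have hpow : ∀ i : ℕ, A0 ^ i = Matrix.blockDiagonal fun _ : Fin m => B ^ i := by
    intro i
    exact (Matrix.blockDiagonal_pow (fun _ : Fin m => B) i).symm
  refine ⟨⟨f A0, hA0⟩, ?_, ?_⟩
  · apply Subtype.ext
    change (f A0) ^ k = 1
    rw [← map_pow, hpow, hk]
    have h1 : (Matrix.blockDiagonal fun _ : Fin m => (1 : Matrix (Fin 2) (Fin 2) K)) = 1 :=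
      Matrix.blockDiagonal_one
    rw [h1, map_one]
  · apply free_of_det
    change ((f A0) ^ s - 1).det ≠ 0
    rw [← map_pow, ← map_one f, ← map_sub, hf, hpow]
    have h1 : (Matrix.blockDiagonal fun _ : Fin m => (1 : Matrix (Fin 2) (Fin 2) K)) = 1 :=
      Matrix.blockDiagonal_one
    rw [← h1, ← Matrix.blockDiagonal_sub, Matrix.det_blockDiagonal]
    simp only [Pi.sub_apply, Finset.prod_const, Finset.card_univ, Fintype.card_fin]
    exact pow_ne_zero _ hs

/-- the case `p = 2` -/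
theorem exists_two (m : ℕ) (h2 : (2 : K) ≠ 0) : ∃ A : SpecialLinearGroup (Fin (2 * m)) K, A ^ 2 ^ 2 = 1 ∧
      ∀ v : Fin (2 * m) → K, ((A ^ 2 ^ 1 : SpecialLinearGroup (Fin (2 * m)) K) : Matrix _ _ K).mulVec v = v →
        v = 0 := by
  have hB : (!![0, 1; -1, 0] : Matrix (Fin 2) (Fin 2) K) ^ 2 = -1 := by
    rw [pow_two]
    ext i j
    fin_cases i <;> fin_cases j <;> simp [Matrix.mul_apply, Fin.sum_univ_two]
  apply exists_block m (B := !![0, 1; -1, 0])
  · simp [Matrix.det_fin_two]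
  · rw [show (2 ^ 2 : ℕ) = 2 * 2 from rfl, pow_mul, hB]
    simp
  · rw [pow_one, hB]
    have h3 : (-1 - 1 : Matrix (Fin 2) (Fin 2) K) = (-2 : K) • 1 := by
      ext i j
      fin_cases i <;> fin_cases j <;> simp <;> norm_num
    rw [h3, Matrix.det_smul]
    simp [h2]

/-- the case of a `p`-th root of unity -/
theorem exists_diag (m : ℕ) {p : ℕ} {ζ : K} (h1 : ζ ≠ 1) (hp : ζ ^ p = 1) (hp0 : p ≠ 0) :
    ∃ A : SpecialLinearGroup (Fin (2 * m)) K, A ^ p ^ 1 = 1 ∧
      ∀ v : Fin (2 * m) → K, ((A ^ p ^ 0 : SpecialLinearGroup (Fin (2 * m)) K) : Matrix _ _ K).mulVec v = v →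
        v = 0 := by
  have hζ : ζ ≠ 0 := by
    rintro rfl
    rw [zero_pow hp0] at hp
    exact zero_ne_one hp
  have hpow : ∀ i : ℕ, (!![ζ, 0; 0, ζ⁻¹] : Matrix (Fin 2) (Fin 2) K) ^ i = !![ζ ^ i, 0; 0, ζ⁻¹ ^ i] := by
    intro i
    have h3 : (!![ζ, 0; 0, ζ⁻¹] : Matrix (Fin 2) (Fin 2) K) = Matrix.diagonal ![ζ, ζ⁻¹] := by
      ext i j
      fin_cases i <;> fin_cases j <;> simp
    rw [h3, Matrix.diagonal_pow]
    ext i j
    fin_cases i <;> fin_cases j <;> simp
  apply exists_block m (B := !![ζ, 0; 0, ζ⁻¹])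
  · simp [Matrix.det_fin_two, hζ]
  · rw [hpow, pow_one, inv_pow, hp, inv_one]
    ext i j
    fin_cases i <;> fin_cases j <;> simp
  · rw [pow_zero, pow_one]
    rw [Matrix.det_fin_two]
    simp only [Matrix.sub_apply, Matrix.of_apply, Matrix.cons_val', Matrix.cons_val_zero, Matrix.cons_val_one,
      Matrix.one_apply_eq, Matrix.cons_val_fin_one, ne_eq]
    have h4 : (1 : Matrix (Fin 2) (Fin 2) K) 0 1 = 0 := rfl
    have h5 : (1 : Matrix (Fin 2) (Fin 2) K) 1 0 = 0 := rfl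
    rw [h4, h5, sub_zero, mul_zero, sub_zero]
    apply mul_ne_zero (sub_ne_zero.2 h1)
    rw [sub_ne_zero]
    intro h6
    exact h1 (by rw [← inv_inv ζ, h6, inv_one])

/-- **The rows of the tables.** -/
theorem TabOK.tr [Finite K] {r0 : ℕ} [Fact r0.Prime] [CharP K r0] {D : ChevalleyDatum} {l : ℕ} {M : CoxeterMatrix (Fin l)} (hp : IsType D l M)
    {n m : ℕ} {r : Fin (n + 3) → Fin (n + 3) → ℕ} {g : Fin m → Fin (n + 3) → ℕ} {steps : List (ℕ × ℕ)}
    (T : TabOK D r g steps) {p j k : ℕ} (hj : p = 2 → 1 ≤ j)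
    {A : SpecialLinearGroup (Fin (n + 3)) K} (hAp : A ^ p ^ k = 1)
    (hA : ∀ v : Fin (n + 3) → K,
      ((A ^ p ^ j : SpecialLinearGroup (Fin (n + 3)) K) : Matrix _ _ K).mulVec v = v → v = 0) :
    TR r0 p ↥(D.group K) := by
  obtain ⟨φ, hφ⟩ := exists_hom_D hp (K := K) (ε := 1) (by norm_num) T.ra T.rb T.rc T.rn
  have hφ' : ∀ a b (hab : a ≠ b) c, φ (SpecialLinearGroup.transvection hab c) =
      xS hp.inList (r a b) (((1 : ℤ) : K) * c) := by
    intro a b hab c
    rw [hφ]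
    apply Subtype.ext
    rw [coe_xc hp (T.ra a b hab)]
    rfl
  exact T.crit.tr hp.inList hφ' hj hAp hA

/-- a prime dividing `|K|` is the characteristic -/
theorem cast_eq_zero_of_dvd [Fintype K] {p : ℕ} (hp : p.Prime) (h : p ∣ Fintype.card K) : (p : K) = 0 := by
  obtain ⟨p', hp'⟩ := CharP.exists K
  obtain ⟨n, hn1, hn2⟩ := FiniteField.card K p'
  rw [hn2] at h
  have h1 := (Nat.prime_dvd_prime_iff_eq hp hn1).1 (hp.dvd_of_dvd_pow h)
  rw [h1]
  exact CharP.cast_eq_zero K p'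

/-- the order of `q` modulo `2` -/
theorem ne_two_of_ord [Fintype K] {p : ℕ} (hp' : p.Prime) (hpK : (p : K) ≠ 0)
    (h1 : orderOf (Fintype.card K : ZMod p) ≠ 1) : p ≠ 2 := by
  rintro rfl
  apply h1
  rw [orderOf_eq_one_iff]
  have h3 : (Fintype.card K : ZMod 2) ≠ 0 := by
    intro h4
    rw [ZMod.natCast_eq_zero_iff] at h4
    exact hpK (cast_eq_zero_of_dvd Nat.prime_two h4)
  generalize (Fintype.card K : ZMod 2) = z at h3 ⊢
  revert z
  decide

/-- the case of a nontrivial order of `q` modulo `p` dividing `n` -/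
theorem TabOK.tr_ord [Fintype K] {r0 : ℕ} [Fact r0.Prime] [CharP K r0] {D : ChevalleyDatum} {l : ℕ} {M : CoxeterMatrix (Fin l)} (hp : IsType D l M)
    {n m : ℕ} {r : Fin (n + 3) → Fin (n + 3) → ℕ} {g : Fin m → Fin (n + 3) → ℕ} {steps : List (ℕ × ℕ)}
    (T : TabOK D r g steps) {p : ℕ} (hp' : p.Prime) (hpK : (p : K) ≠ 0)
    (h1 : orderOf (Fintype.card K : ZMod p) ≠ 1) (hn : orderOf (Fintype.card K : ZMod p) ∣ n + 3) :
    TR r0 p ↥(D.group K) := by
  have : Fact p.Prime := ⟨hp'⟩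
  obtain ⟨x, hx1, hx2, hx3⟩ := Cfsg.Agent.H956.FreeElt.exists_free (F := K) rfl hpK h1 hn
  obtain ⟨A, hA⟩ : ∃ A : SpecialLinearGroup (Fin (n + 3)) K,
      (A : Matrix (Fin (n + 3)) (Fin (n + 3)) K) = x := ⟨⟨x, hx1⟩, rfl⟩
  refine T.tr hp (j := 0) (k := 1) (fun h => absurd h (ne_two_of_ord hp' hpK h1))
    (A := A) ?_ ?_
  · apply Subtype.ext
    rw [pow_one]
    change (A : Matrix (Fin (n + 3)) (Fin (n + 3)) K) ^ p = 1
    rw [hA]
    exact congrArg Units.val hx2
  · intro v hv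
    rw [pow_zero, pow_one, hA] at hv
    exact hx3 v hv

/-- the case `p = 2` -/
theorem TabOK.tr_two [Fintype K] {r0 : ℕ} [Fact r0.Prime] [CharP K r0] {D : ChevalleyDatum} {l : ℕ} {M : CoxeterMatrix (Fin l)} (hp : IsType D l M)
    {n m : ℕ} {r : Fin (2 * (n + 2)) → Fin (2 * (n + 2)) → ℕ} {g : Fin m → Fin (2 * (n + 2)) → ℕ}
    {steps : List (ℕ × ℕ)} (T : TabOK D r g steps) (hpK : (2 : K) ≠ 0) : TR r0 2 ↥(D.group K) := by
  obtain ⟨A, hA1, hA2⟩ := exists_two (K := K) (n + 2) hpK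
  exact TabOK.tr (n := 2 * n + 1) hp T (p := 2) (j := 1) (k := 2) (fun _ => le_rfl) hA1 hA2

/-- the case of an odd prime dividing `q - 1` -/
theorem TabOK.tr_one [Fintype K] {r0 : ℕ} [Fact r0.Prime] [CharP K r0] {D : ChevalleyDatum} {l : ℕ} {M : CoxeterMatrix (Fin l)} (hp : IsType D l M)
    {n m : ℕ} {r : Fin (2 * (n + 2)) → Fin (2 * (n + 2)) → ℕ} {g : Fin m → Fin (2 * (n + 2)) → ℕ}
    {steps : List (ℕ × ℕ)} (T : TabOK D r g steps) {p : ℕ} (hp' : p.Prime) (hp2 : p ≠ 2)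
    (h1 : p ∣ Fintype.card K - 1) : TR r0 p ↥(D.group K) := by
  classical
  have : Fact p.Prime := ⟨hp'⟩
  have h2 : p ∣ Fintype.card Kˣ := by rwa [Fintype.card_units]
  obtain ⟨t, ht⟩ := exists_prime_orderOf_dvd_card p h2
  obtain ⟨A, hA1, hA2⟩ := exists_diag (K := K) (n + 2) (p := p) (ζ := (t : K))
    (fun h => hp'.ne_one (by rw [← ht, orderOf_eq_one_iff]; exact Units.ext h))
    (by rw [← Units.val_pow_eq_pow_val, ← ht, pow_orderOf_eq_one, Units.val_one]) hp'.ne_zero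
  exact TabOK.tr (n := 2 * n + 1) hp T (p := p) (j := 0) (k := 1) (fun h => absurd h hp2) hA1 hA2

end Cfsg.Agent.H441.FPR
end

-- part: H441/FPR/NC
section
/-!
# Radicals `[U, x]` and normal closures in the Levi subgroup
-/

set_option autoImplicit false

namespace Cfsg.Agent.H441.FPR

open Cfsg.Lie Cfsg.Agent.ChevalleyStructure Cfsg.Agent.ChevalleyStructure.Elts Cfsg.Agent.H79.SimpleGen Matrix
open Cfsg.Agent.H398.FPR
open scoped commutatorElement

universe u

variable {K : Type u} [Field K] {D : ChevalleyDatum} (hD : InList D)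

/-! ### Words -/

/-- the word of the commutator formula -/
noncomputable def wd (hD : InList D) (l : List (ℕ × ℤ × ℕ × ℕ)) (t u : K) : ↥(D.group K) :=
  (l.map fun c => xS hD c.1 ((c.2.1 : K) * (-t) ^ c.2.2.1 * u ^ c.2.2.2)).prod

theorem mat_wd (l : List (ℕ × ℤ × ℕ × ℕ)) (t u : K) :
    (((wd hD l t u : ↥(D.group K)) : GL D.Idx K) : Matrix D.Idx D.Idx K) =
      D.wordMat K (l.map fun c => (c.1, (c.2.1 : K) * (-t) ^ c.2.2.1 * u ^ c.2.2.2)) := by
  induction l with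
  | nil =>
    rw [List.map_nil, wordMat_nil]
    rfl
  | cons c l ih =>
    rw [List.map_cons, wordMat_cons, ← ih]
    rfl

theorem xS_word {r s : ℕ} (hr : r < D.nroots) (hs : s < D.nroots) (hrs : s ≠ r) (hneg : s ≠ D.neg r) (t u : K) :
    xS hD s u * xS hD r t = xS hD r t * xS hD s u * wd hD (D.commTerms r s) t u := by
  apply Subtype.ext
  apply Units.ext
  have h1 := Cfsg.Agent.S1025.result (F := K) D hD r s hr hs hrs hneg t u
  change D.x K s u * D.x K r t = D.x K r t * D.x K s u * _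
  rw [h1, mat_wd]
  rfl

theorem wd_mem {M : Subgroup ↥(D.group K)} {l : List (ℕ × ℤ × ℕ × ℕ)}
    (h : ∀ c ∈ l, ∀ t : K, xS hD c.1 t ∈ M) (t u : K) : wd hD l t u ∈ M := by
  apply Subgroup.list_prod_mem
  intro x hx
  obtain ⟨c, hc, rfl⟩ := List.mem_map.1 hx
  exact h c hc _

theorem wd_append (l l' : List (ℕ × ℤ × ℕ × ℕ)) (t u : K) : wd hD (l ++ l') t u = wd hD l t u * wd hD l' t u := by
  unfold wd
  rw [List.map_append, List.prod_append]

theorem wd_cons (c : ℕ × ℤ × ℕ × ℕ) (l : List (ℕ × ℤ × ℕ × ℕ)) (t u : K) :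
    wd hD (c :: l) t u = xS hD c.1 ((c.2.1 : K) * (-t) ^ c.2.2.1 * u ^ c.2.2.2) * wd hD l t u := by
  unfold wd
  rw [List.map_cons, List.prod_cons]

/-- the word as a commutator -/
theorem wd_of_comm {M : Subgroup ↥(D.group K)} {r s : ℕ} (hr : r < D.nroots) (hs : s < D.nroots) (hrs : s ≠ r)
    (hneg : s ≠ D.neg r)
    (h : ∀ t u : K, xS hD s u * xS hD r t * (xS hD s u)⁻¹ * (xS hD r t)⁻¹ ∈ M) (t u : K) :
    wd hD (D.commTerms r s) t u ∈ M := by
  have h1 := xS_word hD hr hs hrs hneg t u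
  have h2 := h (-t) (-u)
  rw [← xS_inv hD s u, ← xS_inv hD r t, inv_inv, inv_inv] at h2
  have h3 : (xS hD s u)⁻¹ * (xS hD r t)⁻¹ * xS hD s u * xS hD r t = wd hD (D.commTerms r s) t u := by
    rw [mul_assoc ((xS hD s u)⁻¹ * (xS hD r t)⁻¹), h1]
    group
  rwa [h3] at h2

/-- conjugation by a root element -/
theorem conj_word {r s : ℕ} (hr : r < D.nroots) (hs : s < D.nroots) (hrs : s ≠ r) (hneg : s ≠ D.neg r) (t u : K) :
    xS hD r t * xS hD s u * (xS hD r t)⁻¹ = xS hD s u * wd hD (D.commTerms r s) (-t) u := by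
  rw [xS_inv, mul_assoc, xS_word hD hr hs hrs hneg (-t) u, ← xS_inv]
  group

/-! ### Closure steps -/

/-- the unique term outside `S` -/
def pick (S : List ℕ) : List (ℕ × ℤ × ℕ × ℕ) → Option (ℕ × ℤ × ℕ × ℕ)
  | [] => none
  | c :: l => if c.1 ∈ S then pick S l else if ∀ d ∈ l, d.1 ∈ S then some c else none

theorem pick_spec {S : List ℕ} {l : List (ℕ × ℤ × ℕ × ℕ)} {c : ℕ × ℤ × ℕ × ℕ} (h : pick S l = some c) :
    ∃ l1 l2, l = l1 ++ c :: l2 ∧ (∀ d ∈ l1, d.1 ∈ S) ∧ ∀ d ∈ l2, d.1 ∈ S := by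
  induction l with
  | nil => simp [pick] at h
  | cons a l ih =>
    unfold pick at h
    split_ifs at h with h1 h2
    · obtain ⟨l1, l2, h3, h4, h5⟩ := ih h
      refine ⟨a :: l1, l2, by rw [h3]; rfl, ?_, h5⟩
      intro d hd
      rcases List.mem_cons.1 hd with rfl | hd
      · exact h1
      · exact h4 d hd
    · rw [Option.some_inj] at h
      subst h
      exact ⟨[], l, rfl, fun d hd => absurd hd (List.not_mem_nil), h2⟩

/-- one step of the closure -/
def gst (D : ChevalleyDatum) (L Γ S : List ℕ) (rs : ℕ × ℕ) : List ℕ :=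
  if ((rs.1 ∈ S ∧ rs.2 ∈ S) ∨ (rs.1 ∈ L ∧ rs.2 ∈ Γ)) ∧ rs.1 < D.nroots ∧ rs.2 < D.nroots ∧ rs.2 ≠ rs.1 ∧
      rs.2 ≠ D.neg rs.1 then
    match pick S (D.commTerms rs.1 rs.2) with
    | some (k, N, i, j) => if N * N = 1 ∧ (i = 1 ∨ j = 1) then k :: S else S
    | none => S
  else S

theorem gst_sound {M : Subgroup ↥(D.group K)} {L Γ S : List ℕ}
    (hL : ∀ r ∈ L, ∀ s ∈ Γ, ∀ t u : K, xS hD s u * xS hD r t * (xS hD s u)⁻¹ * (xS hD r t)⁻¹ ∈ M)
    (hS : ∀ k ∈ S, ∀ t : K, xS hD k t ∈ M) (rs : ℕ × ℕ) : ∀ k ∈ gst D L Γ S rs, ∀ t : K, xS hD k t ∈ M := by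
  unfold gst
  split_ifs with h
  · obtain ⟨h1, h3, h4, h5, h6⟩ := h
    have hc : ∀ t u : K, xS hD rs.2 u * xS hD rs.1 t * (xS hD rs.2 u)⁻¹ * (xS hD rs.1 t)⁻¹ ∈ M := by
      rcases h1 with ⟨h1, h2⟩ | ⟨h1, h2⟩
      · intro t u
        exact mul_mem (mul_mem (mul_mem (hS _ h2 _) (hS _ h1 _)) (inv_mem (hS _ h2 _))) (inv_mem (hS _ h1 _))
      · exact hL _ h1 _ h2
    have hw := wd_of_comm hD h3 h4 h5 h6 hc
    split
    · rename_i k N i j hk
      split_ifs with hN
      · obtain ⟨l1, l2, h7, h8, h9⟩ := pick_spec hk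
        rw [h7] at hw
        have hw2 : ∀ t u : K, xS hD k ((N : K) * (-t) ^ i * u ^ j) ∈ M := by
          intro t u
          have h10 := hw t u
          rw [wd_append, wd_cons] at h10
          have h11 := (Subgroup.mul_mem_cancel_left M (wd_mem hD (fun c hc t => hS _ (h8 c hc) t) t u)).1 h10
          exact (Subgroup.mul_mem_cancel_right M (wd_mem hD (fun c hc t => hS _ (h9 c hc) t) t u)).1 h11
        have hNK : (N : K) * (N : K) = 1 := by rw [← Int.cast_mul, hN.1, Int.cast_one]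
        intro k' hk' c
        rcases List.mem_cons.1 hk' with rfl | hk'
        · rcases hN.2 with rfl | rfl
          · have h12 := hw2 (-((N : K) * c)) 1
            rwa [neg_neg, pow_one, one_pow, mul_one, ← mul_assoc, hNK, one_mul] at h12
          · have h12 := hw2 (-1) ((N : K) * c)
            rwa [neg_neg, one_pow, mul_one, pow_one, ← mul_assoc, hNK, one_mul] at h12
        · exact hS _ hk' c
      · exact hS
    · exact hS
  · exact hS

/-- the closure along a list of steps -/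
def gal (D : ChevalleyDatum) (L Γ S : List ℕ) (steps : List (ℕ × ℕ)) : List ℕ := steps.foldl (gst D L Γ) S

theorem gal_sound {M : Subgroup ↥(D.group K)} {L Γ : List ℕ}
    (hL : ∀ r ∈ L, ∀ s ∈ Γ, ∀ t u : K, xS hD s u * xS hD r t * (xS hD s u)⁻¹ * (xS hD r t)⁻¹ ∈ M)
    (steps : List (ℕ × ℕ)) : ∀ {S : List ℕ}, (∀ k ∈ S, ∀ t : K, xS hD k t ∈ M) →
      ∀ k ∈ gal D L Γ S steps, ∀ t : K, xS hD k t ∈ M := by
  induction steps with
  | nil => intro S hS; exact hS
  | cons a steps ih =>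
    intro S hS
    unfold gal
    rw [List.foldl_cons]
    exact ih (gst_sound hD hL hS a)

/-- all fundamental roots and their negatives -/
def AllS (D : ChevalleyDatum) (S : List ℕ) : Prop := ∀ i < D.rank, D.simple i ∈ S ∧ D.neg (D.simple i) ∈ S

instance (S : List ℕ) : Decidable (AllS D S) := by
  unfold AllS; infer_instance

/-! ### Unipotent subgroups of lists of roots -/

/-- the subgroup generated by the root subgroups of a list -/
def UG (hD : InList D) (K : Type u) [Field K] (Γ : List ℕ) : Subgroup ↥(D.group K) :=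
  Subgroup.closure {g | ∃ k ∈ Γ, ∃ t : K, g = xS hD k t}

theorem xS_mem_UG {Γ : List ℕ} {k : ℕ} (hk : k ∈ Γ) (t : K) : xS hD k t ∈ UG hD K Γ :=
  Subgroup.subset_closure ⟨k, hk, t, rfl⟩

theorem UG_le {Γ : List ℕ} {M : Subgroup ↥(D.group K)} (h : ∀ k ∈ Γ, ∀ t : K, xS hD k t ∈ M) :
    UG hD K Γ ≤ M := by
  unfold UG
  rw [Subgroup.closure_le]
  rintro _ ⟨k, hk, t, rfl⟩
  exact h k hk t

theorem UG_pos [Finite K] (r0 : ℕ) [Fact r0.Prime] [CharP K r0] {Γ : List ℕ} (h : ∀ k ∈ Γ, D.IsPosRoot k) :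
    IsPGroup r0 ↥(UG hD K Γ) := by
  refine pgroup_of_map ?_ (pgroup_pos hD r0)
  rw [Subgroup.map_le_iff_le_comap]
  exact UG_le hD fun k hk t => xS_pos hD (h k hk) t

theorem UG_neg [Finite K] (r0 : ℕ) [Fact r0.Prime] [CharP K r0] {Γ : List ℕ} (h : ∀ k ∈ Γ, D.IsNegRoot k) :
    IsPGroup r0 ↥(UG hD K Γ) := by
  refine pgroup_of_map ?_ (pgroup_neg hD r0)
  rw [Subgroup.map_le_iff_le_comap]
  exact UG_le hD fun k hk t => xS_neg hD (h k hk) t

/-- the list `Γ` is stable under the root `r` -/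
def Inv (D : ChevalleyDatum) (Γ : List ℕ) (r : ℕ) : Prop :=
  r < D.nroots ∧ ∀ k ∈ Γ, k < D.nroots ∧ k ≠ r ∧ k ≠ D.neg r ∧ ∀ c ∈ D.commTerms r k, c.1 ∈ Γ

instance (Γ : List ℕ) (r : ℕ) : Decidable (Inv D Γ r) := by
  unfold Inv; infer_instance

theorem Inv.conj_mem {Γ : List ℕ} {r : ℕ} (h : Inv D Γ r) (t : K) {y : ↥(D.group K)} (hy : y ∈ UG hD K Γ) :
    xS hD r t * y * (xS hD r t)⁻¹ ∈ UG hD K Γ := by
  have h1 : UG hD K Γ ≤ (UG hD K Γ).comap (MulAut.conj (xS hD r t)).toMonoidHom := by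
    apply UG_le
    intro k hk u
    obtain ⟨h2, h3, h4, h5⟩ := h.2 k hk
    change xS hD r t * xS hD k u * (xS hD r t)⁻¹ ∈ UG hD K Γ
    rw [conj_word hD h.1 h2 h3 h4]
    exact mul_mem (xS_mem_UG hD hk u) (wd_mem hD (fun c hc t => xS_mem_UG hD (h5 c hc) t) _ _)
  exact h1 hy

/-- stability under `SL_n(K)` -/
theorem conj_UG [Finite K] {n : ℕ} {r : Fin n → Fin n → ℕ} {ε : ℤ}
    {φ : SpecialLinearGroup (Fin n) K →* ↥(D.group K)}
    (hφ : ∀ a b (hab : a ≠ b) c, φ (SpecialLinearGroup.transvection hab c) = xS hD (r a b) ((ε : K) * c))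
    {Γ L : List ℕ} {st : List (ℕ × ℕ)} (h : ∀ k ∈ L, Inv D Γ k)
    (hst : ∀ a b, a ≠ b → r a b ∈ gal D [] [] L st) (A : SpecialLinearGroup (Fin n) K) :
    ∀ y ∈ UG hD K Γ, φ A * y * (φ A)⁻¹ ∈ UG hD K Γ := by
  have h2 : ∀ k ∈ L, ∀ t : K, xS hD k t ∈ Subgroup.normalizer (UG hD K Γ : Set ↥(D.group K)) :=
    fun k hk t => mem_norm_of_conj fun y hy => (h k hk).conj_mem hD t hy
  have h3 := gal_sound hD (L := []) (Γ := []) (fun r hr => absurd hr List.not_mem_nil) st h2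
  have h1 : (⊤ : Subgroup (SpecialLinearGroup (Fin n) K)) ≤
      (Subgroup.normalizer (UG hD K Γ : Set ↥(D.group K))).comap φ := by
    rw [← Cfsg.Agent.LieClassical.SLGen.closure_transvections, Subgroup.closure_le]
    rintro _ ⟨a, b, hab, c, rfl⟩
    change φ _ ∈ Subgroup.normalizer (UG hD K Γ : Set ↥(D.group K))
    rw [hφ]
    exact h3 _ (hst a b hab) _
  intro y hy
  exact (Subgroup.mem_normalizer_iff.1 (h1 (Subgroup.mem_top A)) y).1 hy

/-! ### The normal closure argument -/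

theorem nc_mem {G L : Type*} [Group G] [Group L] {φ : L →* G} {U M : Subgroup G}
    (hU : ∀ z, ∀ u ∈ U, φ z * u * (φ z)⁻¹ ∈ U) (hM : ∀ z, φ z ∈ M) {y : L}
    (hy : ∀ u ∈ U, φ y * u * (φ y)⁻¹ * u⁻¹ ∈ M) (hnc : ∀ N : Subgroup L, N.Normal → y ∈ N → N = ⊤) (z : L) :
    ∀ u ∈ U, φ z * u * (φ z)⁻¹ * u⁻¹ ∈ M := by
  have hUc : ∀ z, ∀ u ∈ U, φ z * u * (φ z)⁻¹ * u⁻¹ ∈ U := fun z u hu => mul_mem (hU z u hu) (inv_mem hu)
  let N : Subgroup L :=
    { carrier := {z | ∀ u ∈ U, φ z * u * (φ z)⁻¹ * u⁻¹ ∈ M}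
      one_mem' := by
        intro u _
        rw [map_one]
        simp
      mul_mem' := by
        intro a b ha hb u hu
        have h1 : φ (a * b) * u * (φ (a * b))⁻¹ * u⁻¹ =
            (φ a * (φ b * u * (φ b)⁻¹ * u⁻¹) * (φ a)⁻¹ * (φ b * u * (φ b)⁻¹ * u⁻¹)⁻¹) *
              (φ b * u * (φ b)⁻¹ * u⁻¹) * (φ a * u * (φ a)⁻¹ * u⁻¹) := by
          rw [map_mul]; group
        rw [h1]
        exact mul_mem (mul_mem (ha _ (hUc b u hu)) (hb u hu)) (ha u hu)
      inv_mem' := by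
        intro a ha u hu
        have h1 := ha ((φ a)⁻¹ * u * φ a) (by
          have := hU a⁻¹ u hu
          rwa [map_inv, inv_inv] at this)
        have h2 : φ a⁻¹ * u * (φ a⁻¹)⁻¹ * u⁻¹ =
            (φ a * ((φ a)⁻¹ * u * φ a) * (φ a)⁻¹ * ((φ a)⁻¹ * u * φ a)⁻¹)⁻¹ := by
          rw [map_inv]; group
        rw [h2]
        exact inv_mem h1 }
  have hN : N.Normal := by
    constructor
    intro a ha g u hu
    have h1 := ha ((φ g)⁻¹ * u * φ g) (by
      have := hU g⁻¹ u hu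
      rwa [map_inv, inv_inv] at this)
    have h2 : φ (g * a * g⁻¹) * u * (φ (g * a * g⁻¹))⁻¹ * u⁻¹ =
        φ g * (φ a * ((φ g)⁻¹ * u * φ g) * (φ a)⁻¹ * ((φ g)⁻¹ * u * φ g)⁻¹) * (φ g)⁻¹ := by
      rw [map_mul, map_mul, map_inv]; group
    rw [h2]
    exact mul_mem (mul_mem (hM g) h1) (inv_mem (hM g))
  have h3 := hnc N hN hy
  have h4 : z ∈ N := by rw [h3]; trivial
  exact h4

/-! ### The radicals `[U, x]` -/

theorem comm_le_of {G : Type*} [Group G] [Finite G] {R R' : Subgroup G} {x : G}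
    (hn : ∀ y ∈ R, x * y * x⁻¹ ∈ R) (h : ∀ r ∈ R, x * r * x⁻¹ * r⁻¹ ∈ R') :
    ⁅R, Subgroup.zpowers x⁆ ≤ R' := by
  have hpow : ∀ m : ℕ, ∀ r ∈ R, x ^ m * r * (x ^ m)⁻¹ * r⁻¹ ∈ R' := by
    intro m
    induction m with
    | zero => intro r _; simp
    | succ m ih =>
      intro r hr
      have h1 := ih _ (hn r hr)
      have h2 : x ^ (m + 1) * r * (x ^ (m + 1))⁻¹ * r⁻¹ =
          (x ^ m * (x * r * x⁻¹) * (x ^ m)⁻¹ * (x * r * x⁻¹)⁻¹) * (x * r * x⁻¹ * r⁻¹) := by
        rw [pow_succ]; group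
      rw [h2]
      exact mul_mem h1 (h r hr)
  rw [Subgroup.commutator_comm, Subgroup.commutator_le]
  intro y hy r hr
  have hy' : y ∈ Submonoid.powers x := mem_powers_iff_mem_zpowers.2 hy
  obtain ⟨m, rfl⟩ := hy'
  exact hpow m r hr

/-- **The radical `[U, x]`.** -/
theorem pair_comm {G : Type*} [Group G] [Finite G] {p k r : ℕ} (hp : p.Prime) (hr : r.Prime) (hpr : p ≠ r)
    {x : G} (hx : x ^ p ^ k = 1) {U : Subgroup G} (hU : IsPGroup r U) (hxU : ∀ y ∈ U, x * y * x⁻¹ ∈ U) :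
    Pair p 0 x ⁅U, Subgroup.zpowers x⁆ ∧ IsPGroup r ↥⁅U, Subgroup.zpowers x⁆ := by
  have : Fact p.Prime := ⟨hp⟩
  have : Fact r.Prime := ⟨hr⟩
  have hnorm : x ∈ Subgroup.normalizer (U : Set G) := mem_norm_of_conj hxU
  have hz : Subgroup.zpowers x ≤ Subgroup.normalizer (U : Set G) := by
    rwa [Subgroup.zpowers_le]
  have hle : ⁅U, Subgroup.zpowers x⁆ ≤ U := by
    rw [Subgroup.commutator_le]
    intro u hu y hy
    have h1 := (Subgroup.mem_normalizer_iff.1 (hz hy) u⁻¹).1 (inv_mem hu)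
    have h2 : ⁅u, y⁆ = u * (y * u⁻¹ * y⁻¹) := by rw [commutatorElement_def]; group
    rw [h2]
    exact mul_mem hu h1
  have hpg : IsPGroup r ↥⁅U, Subgroup.zpowers x⁆ := hU.to_le hle
  have hcop : (Nat.card (Subgroup.zpowers x)).Coprime (Nat.card U) := by
    obtain ⟨m, hm⟩ := IsPGroup.iff_card.1 hU
    rw [hm, Nat.card_zpowers]
    obtain ⟨i, -, hi⟩ := (Nat.dvd_prime_pow hp).1 (orderOf_dvd_of_pow_eq_one hx)
    rw [hi]
    exact Nat.Coprime.pow _ _ ((Nat.coprime_primes hp hr).2 hpr)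
  have hcc := Cfsg.Agent.Lib.CoprimeCommutator.commutator_commutator_eq (Subgroup.zpowers x) U hz hcop
  have hnR : ∀ y ∈ ⁅U, Subgroup.zpowers x⁆, x * y * x⁻¹ ∈ ⁅U, Subgroup.zpowers x⁆ := by
    have h1 : ⁅U, Subgroup.zpowers x⁆ ≤ (⁅U, Subgroup.zpowers x⁆).comap (MulAut.conj x).toMonoidHom := by
      rw [Subgroup.commutator_le]
      intro u hu y hy
      change x * ⁅u, y⁆ * x⁻¹ ∈ ⁅U, Subgroup.zpowers x⁆
      have h2 : x * ⁅u, y⁆ * x⁻¹ = ⁅x * u * x⁻¹, x * y * x⁻¹⁆ := by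
        simp only [commutatorElement_def]; group
      rw [h2]
      exact Subgroup.commutator_mem_commutator (hxU u hu)
        (mul_mem (mul_mem (Subgroup.mem_zpowers x) hy) (inv_mem (Subgroup.mem_zpowers x)))
    exact fun y hy => h1 hy
  refine ⟨⟨hpg.isNilpotent, mem_norm_of_conj hnR, ?_⟩, hpg⟩
  intro R' hR' hc
  rw [pow_zero, pow_one] at hc
  have h1 := comm_le_of hnR hc
  rw [hcc] at h1
  exact absurd hR' (not_lt_of_ge h1)

theorem mem_comm_zpowers {G : Type*} [Group G] {U : Subgroup G} {x u : G} (hu : u ∈ U) :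
    x * u * x⁻¹ * u⁻¹ ∈ ⁅U, Subgroup.zpowers x⁆ := by
  rw [Subgroup.commutator_comm]
  exact Subgroup.commutator_mem_commutator (Subgroup.mem_zpowers x) hu

end Cfsg.Agent.H441.FPR
end

-- part: H441/FPR/CB
section
/-!
# The criterion with normal closures
-/

set_option autoImplicit false

namespace Cfsg.Agent.H441.FPR

open Cfsg.Lie Cfsg.Agent.ChevalleyStructure Cfsg.Agent.ChevalleyStructure.Elts Cfsg.Agent.H79.SimpleGen Matrix
open Cfsg.Agent.H398.FPR Cfsg.Agent.TitsThree.KExcRT Cfsg.Agent.ChevalleyStructure.RootVec Cfsg.Agent.Nodes.RGDChev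
open Cfsg.Agent.H162.GaussExcMain Cfsg.Agent.KFacts.RgdChevCoord

universe u

variable {K : Type u} [Field K] {D : ChevalleyDatum} (hD : InList D)

/-- the starting list of roots -/
def S0 (D : ChevalleyDatum) {n m : ℕ} (g : Fin m → Fin n → ℕ) (supp : Fin n → Bool) : List ℕ :=
  (List.finRange m).flatMap fun i => ((List.finRange n).filter supp).flatMap fun a => [g i a, D.neg (g i a)]

/-- the roots of `SL_n` -/
def LL {n : ℕ} (r : Fin n → Fin n → ℕ) : List ℕ :=
  (List.finRange n).flatMap fun a => ((List.finRange n).filter fun b => a ≠ b).map fun b => r a b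

theorem mem_LL {n : ℕ} {r : Fin n → Fin n → ℕ} {k : ℕ} : k ∈ LL r ↔ ∃ a b, a ≠ b ∧ k = r a b := by
  unfold LL
  simp only [List.mem_flatMap, List.mem_finRange, true_and, List.mem_map, List.mem_filter, decide_eq_true_eq]
  constructor
  · rintro ⟨a, b, h1, h2⟩
    exact ⟨a, b, h1, h2.symm⟩
  · rintro ⟨a, b, h1, h2⟩
    exact ⟨a, b, h1, h2.symm⟩

theorem mem_S0 {n m : ℕ} {g : Fin m → Fin n → ℕ} {supp : Fin n → Bool} {k : ℕ} (h : k ∈ S0 D g supp) :
    ∃ i a, supp a = true ∧ (k = g i a ∨ k = D.neg (g i a)) := by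
  unfold S0 at h
  simp only [List.mem_flatMap, List.mem_finRange, true_and, List.mem_filter, List.mem_cons, List.not_mem_nil,
    or_false] at h
  obtain ⟨i, a, h1, h2⟩ := h
  exact ⟨i, a, h1, h2⟩

/-- the table check; `g` : natural modules, `h` : dual modules -/
structure CB (D : ChevalleyDatum) {n m m' : ℕ} (r : Fin n → Fin n → ℕ) (ε : ℤ) (g : Fin m → Fin n → ℕ)
    (u u' : Fin m → Fin n → ℤ) (h : Fin m' → Fin n → ℕ) (v v' : Fin m' → Fin n → ℤ)
    (Γ : List ℕ) (supp : Fin n → Bool) (Lg : List ℕ) (stg st0 st1 : List (ℕ × ℕ)) : Prop where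
  rlt : ∀ a b, a ≠ b → r a b < D.nroots
  nat : ∀ i, NatOK D r ε (g i) (u i)
  dual : ∀ i, NatOK D (fun a b => r b a) (-ε) (fun a => D.neg (g i a)) (u' i)
  nat' : ∀ i, NatOK D (fun a b => r b a) (-ε) (h i) (v i)
  dual' : ∀ i, NatOK D r ε (fun a => D.neg (h i a)) (v' i)
  gmem : ∀ i a, g i a ∈ Γ
  hmem : ∀ i a, h i a ∈ Γ
  pos : ∀ k ∈ Γ, D.IsPosRoot k ∧ D.IsNegRoot (D.neg k)
  inv : ∀ k ∈ Lg, Inv D Γ k
  inv' : ∀ k ∈ Lg, Inv D (Γ.map D.neg) k
  lg : ∀ a b, a ≠ b → r a b ∈ gal D [] [] Lg stg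
  chain : ∀ a b, a ≠ b → r a b ∈ gal D [] [] (S0 D g supp ++ S0 D h supp) st0
  gen : AllS D (gal D (LL r) (Γ ++ Γ.map D.neg) (gal D [] [] (S0 D g supp ++ S0 D h supp) st0) st1)

theorem natpart {n : ℕ} {r : Fin n → Fin n → ℕ} {ε : ℤ} {g : Fin n → ℕ} {u : Fin n → ℤ} (h : NatOK D r ε g u)
    (hr : ∀ a b, a ≠ b → r a b < D.nroots)
    {φ : SpecialLinearGroup (Fin n) K →* ↥(D.group K)}
    (hφ : ∀ a b (hab : a ≠ b) c, φ (SpecialLinearGroup.transvection hab c) = xS hD (r a b) ((ε : K) * c))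
    {A : SpecialLinearGroup (Fin n) K} {a : Fin n}
    (hA : ∀ t : K, ∃ w : Fin n → K, (A : Matrix (Fin n) (Fin n) K).mulVec w - w = Pi.single a t)
    {U : Subgroup ↥(D.group K)} (hU : ∀ a, ∀ t : K, xS hD (g a) t ∈ U) (t : K) :
    ∃ y ∈ U, φ A * y * (φ A)⁻¹ * y⁻¹ = xS hD (g a) t := by
  obtain ⟨w, hw⟩ := hA ((u a : K) * t)
  refine ⟨e hD h w, (QQ_le hD (h := h) hU) ((mem_QQ hD h).2 ⟨w, rfl⟩), ?_⟩
  rw [act hD h hr hφ, ← e_neg, ← e_add, ← sub_eq_add_neg, hw, e_single, ← mul_assoc, ← Int.cast_mul, (h.1 a).2,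
    Int.cast_one, one_mul]

/-- **The criterion.** -/
theorem CB.tr [Finite K] {r0 : ℕ} [Fact r0.Prime] [CharP K r0] {n m m' : ℕ} {r : Fin n → Fin n → ℕ} {ε : ℤ}
    {g : Fin m → Fin n → ℕ} {u u' : Fin m → Fin n → ℤ} {h : Fin m' → Fin n → ℕ} {v v' : Fin m' → Fin n → ℤ}
    {Γ : List ℕ} {supp : Fin n → Bool} {Lg : List ℕ}
    {stg st0 st1 : List (ℕ × ℕ)} (C : CB D r ε g u u' h v v' Γ supp Lg stg st0 st1) (hε : ε * ε = 1)
    {φ : SpecialLinearGroup (Fin n) K →* ↥(D.group K)}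
    (hφ : ∀ a b (hab : a ≠ b) c, φ (SpecialLinearGroup.transvection hab c) = xS hD (r a b) ((ε : K) * c))
    {p : ℕ} (hp : p.Prime) (hpr : p ≠ r0) (hp2 : p ≠ 2) {A : SpecialLinearGroup (Fin n) K} {k : ℕ}
    (hAp : A ^ p ^ k = 1)
    (hA : ∀ a, supp a = true → ∀ t : K, ∃ w : Fin n → K, (A : Matrix (Fin n) (Fin n) K).mulVec w - w = Pi.single a t)
    (hA' : ∀ a, supp a = true → ∀ t : K,
      ∃ w : Fin n → K, (itr n K A : Matrix (Fin n) (Fin n) K).mulVec w - w = Pi.single a t)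
    (hnc : ∀ N : Subgroup (SpecialLinearGroup (Fin n) K), N.Normal → A ∈ N → N = ⊤) :
    TR r0 p ↥(D.group K) := by
  have hfin : Finite ↥(D.group K) := inferInstance
  have hx : φ A ^ p ^ k = 1 := by rw [← map_pow, hAp, map_one]
  have hr0 : r0.Prime := Fact.out
  have hεK : (ε : K) * (ε : K) = 1 := by rw [← Int.cast_mul, hε, Int.cast_one]
  -- the dual homomorphism
  let φ' : SpecialLinearGroup (Fin n) K →* ↥(D.group K) := φ.comp (itr n K)
  have hφ' : ∀ a b (hab : a ≠ b) c, φ' (SpecialLinearGroup.transvection hab c) =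
      xS hD (r b a) (((-ε : ℤ) : K) * c) := by
    intro a b hab c
    change φ (itr n K _) = _
    rw [itr_transvection, hφ, Int.cast_neg]
    congr 1
    ring
  have hxA : φ A = φ' (itr n K A) := by
    change _ = φ (itr n K (itr n K A))
    rw [itr_itr]
  have hrlt := C.rlt
  have hr' : ∀ a b, a ≠ b → r b a < D.nroots := fun a b hab => hrlt b a hab.symm
  obtain ⟨U1, hU1⟩ : ∃ U1, U1 = UG hD K Γ := ⟨_, rfl⟩
  obtain ⟨U2, hU2⟩ : ∃ U2, U2 = UG hD K (Γ.map D.neg) := ⟨_, rfl⟩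
  have hc1 : ∀ z, ∀ y ∈ U1, φ z * y * (φ z)⁻¹ ∈ U1 := by
    intro z
    rw [hU1]
    exact conj_UG hD hφ C.inv C.lg z
  have hc2 : ∀ z, ∀ y ∈ U2, φ z * y * (φ z)⁻¹ ∈ U2 := by
    intro z
    rw [hU2]
    exact conj_UG hD hφ C.inv' C.lg z
  have hp1 : IsPGroup r0 U1 := by
    rw [hU1]
    exact UG_pos hD r0 fun k hk => (C.pos k hk).1
  have hp2' : IsPGroup r0 U2 := by
    rw [hU2]
    refine UG_neg hD r0 fun k hk => ?_
    obtain ⟨k', hk', rfl⟩ := List.mem_map.1 hk
    exact (C.pos k' hk').2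
  obtain ⟨P1, Q1⟩ := pair_comm hp hr0 hpr hx hp1 (hc1 A)
  obtain ⟨P2, Q2⟩ := pair_comm hp hr0 hpr hx hp2' (hc2 A)
  refine ⟨0, k, φ A, _, _, hx, fun h => absurd h hp2, P1, P2, Q1, Q2, ?_⟩
  obtain ⟨M, hM⟩ : ∃ M, M = Subgroup.closure (({φ A} ∪
    ((⁅U1, Subgroup.zpowers (φ A)⁆ : Subgroup ↥(D.group K)) : Set ↥(D.group K))) ∪
    ((⁅U2, Subgroup.zpowers (φ A)⁆ : Subgroup ↥(D.group K)) : Set ↥(D.group K))) := ⟨_, rfl⟩
  rw [← hM]
  have hM1 : ∀ y ∈ U1, φ A * y * (φ A)⁻¹ * y⁻¹ ∈ M := by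
    intro y hy
    rw [hM]
    exact Subgroup.subset_closure (Or.inl (Or.inr (mem_comm_zpowers hy)))
  have hM2 : ∀ y ∈ U2, φ A * y * (φ A)⁻¹ * y⁻¹ ∈ M := by
    intro y hy
    rw [hM]
    exact Subgroup.subset_closure (Or.inr (mem_comm_zpowers hy))
  have hS0 : ∀ k ∈ S0 D g supp ++ S0 D h supp, ∀ t : K, xS hD k t ∈ M := by
    intro k hk t
    rcases List.mem_append.1 hk with hk | hk
    all_goals obtain ⟨i, a, ha, rfl | rfl⟩ := mem_S0 hk
    · obtain ⟨y, hy, hyt⟩ := natpart hD (C.nat i) hrlt hφ (hA a ha) (U := U1)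
        (fun b t => by rw [hU1]; exact xS_mem_UG hD (C.gmem i b) t) t
      rw [← hyt]
      exact hM1 y hy
    · obtain ⟨y, hy, hyt⟩ := natpart hD (C.dual i) hr' hφ' (hA' a ha) (U := U2)
        (fun b t => by rw [hU2]; exact xS_mem_UG hD (List.mem_map_of_mem (C.gmem i b)) t) t
      rw [← hyt, ← hxA]
      exact hM2 y hy
    · obtain ⟨y, hy, hyt⟩ := natpart hD (C.nat' i) hr' hφ' (hA' a ha) (U := U1)
        (fun b t => by rw [hU1]; exact xS_mem_UG hD (C.hmem i b) t) t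
      rw [← hyt, ← hxA]
      exact hM1 y hy
    · obtain ⟨y, hy, hyt⟩ := natpart hD (C.dual' i) hrlt hφ (hA a ha) (U := U2)
        (fun b t => by rw [hU2]; exact xS_mem_UG hD (List.mem_map_of_mem (C.hmem i b)) t) t
      rw [← hyt]
      exact hM2 y hy
  have hS1 := gal_sound hD (M := M) (L := []) (Γ := []) (fun r hr => absurd hr List.not_mem_nil) st0 hS0
  have hφM : ∀ z, φ z ∈ M := by
    intro z
    have h1 : (⊤ : Subgroup (SpecialLinearGroup (Fin n) K)) ≤ M.comap φ := by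
      rw [← Cfsg.Agent.LieClassical.SLGen.closure_transvections, Subgroup.closure_le]
      rintro _ ⟨a, b, hab, c, rfl⟩
      change φ _ ∈ M
      rw [hφ]
      exact hS1 _ (C.chain a b hab) _
    exact h1 (Subgroup.mem_top z)
  have hn1 := nc_mem hc1 hφM hM1 hnc
  have hn2 := nc_mem hc2 hφM hM2 hnc
  have hL : ∀ r' ∈ LL r, ∀ s ∈ Γ ++ Γ.map D.neg, ∀ t u : K,
      xS hD s u * xS hD r' t * (xS hD s u)⁻¹ * (xS hD r' t)⁻¹ ∈ M := by
    intro r' hr'' s hs t v
    obtain ⟨a, b, hab, rfl⟩ := mem_LL.1 hr''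
    have h1 : xS hD (r a b) t = φ (SpecialLinearGroup.transvection hab ((ε : K) * t)) := by
      rw [hφ, ← mul_assoc, hεK, one_mul]
    have h2 : xS hD s v * xS hD (r a b) t * (xS hD s v)⁻¹ * (xS hD (r a b) t)⁻¹ =
        (xS hD (r a b) t * xS hD s v * (xS hD (r a b) t)⁻¹ * (xS hD s v)⁻¹)⁻¹ := by group
    rw [h2, h1]
    apply inv_mem
    rcases List.mem_append.1 hs with hs | hs
    · exact hn1 _ _ (by rw [hU1]; exact xS_mem_UG hD hs v)
    · exact hn2 _ _ (by rw [hU2]; exact xS_mem_UG hD hs v)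
  have hfinal := gal_sound hD (M := M) hL st1 hS1
  exact eq_top_of_simple hD M (fun i hi => hfinal _ (C.gen i hi).1) (fun i hi => hfinal _ (C.gen i hi).2)

/-! ### Normal closures in `SL_n(K)` -/

/-- a normal subgroup containing a nonscalar element is everything -/
theorem nc_top {n : ℕ} (hn : 3 ≤ n) {A : SpecialLinearGroup (Fin n) K}
    (hA : A ∉ Subgroup.center (SpecialLinearGroup (Fin n) K)) :
    ∀ N : Subgroup (SpecialLinearGroup (Fin n) K), N.Normal → A ∈ N → N = ⊤ := by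
  intro N hN hAN
  have h3 : 3 ≤ Fintype.card (Fin n) := by rwa [Fintype.card_fin]
  rcases Cfsg.Agent.S2540.normal_dichotomy (Cfsg.Agent.LieClassical.SLGen.commutator_eq_top h3)
    (Cfsg.Agent.LieClassical.SLGen.psl_isSimpleGroup h3) N with h | h
  · exact absurd (h hAN) hA
  · exact h

/-- an element of order `p` without fixed vectors is not scalar if `p` does not divide `q - 1` -/
theorem not_center_of_free [Fintype K] {n : ℕ} [NeZero n] {p k : ℕ} (hp : p.Prime) (hpq : ¬ p ∣ Fintype.card K - 1)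
    {A : SpecialLinearGroup (Fin n) K} (hAp : A ^ p ^ k = 1)
    (hA : ∀ v : Fin n → K, (A : Matrix (Fin n) (Fin n) K).mulVec v = v → v = 0) :
    A ∉ Subgroup.center (SpecialLinearGroup (Fin n) K) := by
  intro h
  obtain ⟨c, -, hc⟩ := Matrix.SpecialLinearGroup.mem_center_iff.1 h
  have h1 : c ^ p ^ k = 1 := by
    have h2 : (A : Matrix (Fin n) (Fin n) K) ^ p ^ k = 1 := congrArg Subtype.val hAp
    rw [← hc, ← map_pow] at h2
    have h3 := congrFun (congrFun h2 0) 0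
    rwa [Matrix.scalar_apply, Matrix.diagonal_apply_eq, Matrix.one_apply_eq] at h3
  have hc0 : c ≠ 0 := by
    rintro rfl
    rw [zero_pow (pow_ne_zero _ hp.ne_zero)] at h1
    exact zero_ne_one h1
  have h2 : c ^ (Fintype.card K - 1) = 1 := FiniteField.pow_card_sub_one_eq_one c hc0
  have h3 : (p ^ k).Coprime (Fintype.card K - 1) := ((Nat.Prime.coprime_iff_not_dvd hp).2 hpq).pow_left k
  have h4 : c = 1 := by
    have h5 : orderOf c ∣ Nat.gcd (p ^ k) (Fintype.card K - 1) :=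
      Nat.dvd_gcd (orderOf_dvd_of_pow_eq_one h1) (orderOf_dvd_of_pow_eq_one h2)
    rw [h3, Nat.dvd_one, orderOf_eq_one_iff] at h5
    exact h5
  have h5 : (A : Matrix (Fin n) (Fin n) K) = 1 := by
    rw [← hc, h4, map_one]
  have h6 := hA (Pi.single 0 1) (by rw [h5, Matrix.one_mulVec])
  have h7 := congrFun h6 0
  rw [Pi.single_eq_same] at h7
  exact one_ne_zero h7

end Cfsg.Agent.H441.FPR
end

-- part: H441/FPR/ETabB
section
/-!
# Table: `SL_6` in `E₇`
-/

set_option autoImplicit false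
set_option maxRecDepth 100000

namespace Cfsg.Agent.H441.FPR

open Cfsg.Lie Cfsg.Agent.ChevalleyStructure Cfsg.Agent.ChevalleyStructure.Elts Cfsg.Agent.H79.SimpleGen Matrix
open Cfsg.Agent.H398.FPR Cfsg.Agent.TitsThree.KExcRT

/-- the simple roots of the block and their negatives -/
def mkL (R : List (List ℕ)) (n : ℕ) : List ℕ :=
  (List.range (n - 1)).flatMap fun a => [(R.getD a []).getD (a + 1) 0, (R.getD (a + 1) []).getD a 0]

/-- the steps to all roots of the block -/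
def mkst (R : List (List ℕ)) (n : ℕ) : List (ℕ × ℕ) :=
  (List.range n).flatMap fun len => if len < 2 then [] else (List.range (n - len)).flatMap fun a =>
    [((R.getD a []).getD (a + len - 1) 0, (R.getD (a + len - 1) []).getD (a + len) 0),
      ((R.getD (a + len) []).getD (a + len - 1) 0, (R.getD (a + len - 1) []).getD a 0)]

/-! ### `E₇` -/

def R7c : List (List ℕ) := [[0, 63, 65, 68, 72, 77], [62, 0, 64, 67, 71, 76], [60, 61, 0, 66, 70, 75],
  [57, 58, 59, 0, 69, 74], [53, 54, 55, 56, 0, 73], [48, 49, 50, 51, 52, 0]]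
def r7c : Fin 6 → Fin 6 → ℕ := ![![0, 63, 65, 68, 72, 77], ![62, 0, 64, 67, 71, 76], ![60, 61, 0, 66, 70, 75],
  ![57, 58, 59, 0, 69, 74], ![53, 54, 55, 56, 0, 73], ![48, 49, 50, 51, 52, 0]]
def g7c : Fin 1 → Fin 6 → ℕ := ![![98, 97, 96, 95, 94, 93]]
def h7c : Fin 0 → Fin 6 → ℕ := ![]
def Γ7c : List ℕ := List.range' 78 48
def st7c : List (ℕ × ℕ) := [98, 97, 96, 95, 94, 93].flatMap fun a => [98, 97, 96, 95, 94, 93].map fun b => (a, 125 - b)

private noncomputable def _root_.Cfsg.Agent.LsF.fb546b9_15 : {f // @Cfsg.Agent.H441.FPR.mkL = f} := ⟨_, by first | (delta Cfsg.Agent.H441.FPR.mkL; rewrite [Cfsg.Agent.LsF.nadd_pat, Cfsg.Agent.LsF.nsub_pat, Cfsg.Agent.LsF.flatMap_eq, Cfsg.Agent.LsF.range_eq, Cfsg.Agent.LsF.getD_eq]; exact rfl) | exact rfl⟩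
private noncomputable def _root_.Cfsg.Agent.LsF.fb546b9_16 : {f // @Cfsg.Agent.H441.FPR.Γ7c = f} := ⟨_, by first | (delta Cfsg.Agent.H441.FPR.Γ7c; rewrite [Cfsg.Agent.LsF.range'_eq]; exact rfl) | exact rfl⟩
private noncomputable def _root_.Cfsg.Agent.LsF.fb546b9_17 : {f // @Cfsg.Agent.H441.FPR.pick = f} := ⟨_, by first | (delta Cfsg.Agent.H441.FPR.pick List.brecOn List.brecOn.go Cfsg.Agent.H441.FPR.pick._f; rewrite [Cfsg.Agent.LsF.dMemE_pat, Cfsg.Agent.LsF.instDecEq_eq, Cfsg.Agent.LsF.dBAll_eq, Cfsg.Agent.LsF.ite_eq]; (try delta Cfsg.Agent.H441.FPR.pick.match_1); (try delta List.casesOn); first | dsimp -zeta only | exact rfl) | exact rfl⟩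
private noncomputable def _root_.Cfsg.Agent.LsF.fb546b9_18 : {f // @Cfsg.Agent.H441.FPR.g7c = f} := ⟨_, by first | (delta Cfsg.Agent.H441.FPR.g7c; rewrite [Cfsg.Agent.LsF.vecCons_eq]; exact rfl) | exact rfl⟩
private noncomputable def _root_.Cfsg.Agent.LsF.fb546b9_19 : {f // @Cfsg.Agent.H441.FPR.st7c = f} := ⟨_, by first | (delta Cfsg.Agent.H441.FPR.st7c; rewrite [Cfsg.Agent.LsF.nsub_pat, Cfsg.Agent.LsF.map_eq, Cfsg.Agent.LsF.flatMap_eq]; exact rfl) | exact rfl⟩
private noncomputable def _root_.Cfsg.Agent.LsF.fb546b9_20 : {f // @Cfsg.Agent.H441.FPR.r7c = f} := ⟨_, by first | (delta Cfsg.Agent.H441.FPR.r7c; rewrite [Cfsg.Agent.LsF.vecCons_eq]; exact rfl) | exact rfl⟩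
private noncomputable def _root_.Cfsg.Agent.LsF.fb546b9_21 : {f // @Cfsg.Agent.H441.FPR.LL = f} := ⟨_, by first | (delta Cfsg.Agent.H441.FPR.LL; rewrite [Cfsg.Agent.LsF.map_eq, Cfsg.Agent.LsF.flatMap_eq, Cfsg.Agent.LsF.filter_eq, Cfsg.Agent.LsF.dNot_eq, Cfsg.Agent.LsF.dFinEq_eq, Cfsg.Agent.LsF.finRange_eq, Cfsg.Agent.LsF.decide_eq]; exact rfl) | exact rfl⟩
private noncomputable def _root_.Cfsg.Agent.LsF.fb546b9_22 : {f // @Cfsg.Lie.ChevalleyDatum.neg = f} := ⟨_, by first | (delta Cfsg.Lie.ChevalleyDatum.neg; rewrite [Cfsg.Agent.LsF.agetD_eq]; exact rfl) | exact rfl⟩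
private noncomputable def _root_.Cfsg.Agent.LsF.fb546b9_23 : {f // @Cfsg.Agent.H441.FPR.S0 = f} := ⟨_, by first | (delta Cfsg.Agent.H441.FPR.S0; rewrite [Cfsg.Agent.LsF.fb546b9_22.2, Cfsg.Agent.LsF.flatMap_eq, Cfsg.Agent.LsF.filter_eq, Cfsg.Agent.LsF.finRange_eq]; exact rfl) | exact rfl⟩
private noncomputable def _root_.Cfsg.Agent.LsF.fb546b9_24 : {f // @Cfsg.Lie.ChevalleyDatum.simple = f} := ⟨_, by first | (delta Cfsg.Lie.ChevalleyDatum.simple; rewrite [Cfsg.Agent.LsF.agetD_eq]; exact rfl) | exact rfl⟩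
theorem t7c : CB chevE7 r7c 1 g7c (fun _ _ => 1) (fun _ _ => 1) h7c (fun _ _ => 1) (fun _ _ => 1) Γ7c (fun _ => true)
    (mkL R7c 6) (mkst R7c 6) st7c [(56, 79), (69, 46)] where
  rlt := by decide +kernel
  nat := Fc.nat_of (by decide +kernel)
  dual := Fc.nat_of (by rw [Fc.ng_eq]; decide +kernel)
  nat' := Fc.nat_of (by decide +kernel)
  dual' := Fc.nat_of (by rw [Fc.ng_eq]; decide +kernel)
  gmem := by decide +kernel
  hmem := by decide +kernel
  pos := fun k hk => Fc.pos_of (by revert k; decide +kernel)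
  inv := by unfold Inv; rw [Fc.ct_eq, Fc.ng_eq]; (refine of_decide_eq_true ?_; (try (rewrite [Cfsg.Agent.LsF.dMemE_pat, Cfsg.Agent.LsF.fb546b9_15.2, Cfsg.Agent.LsF.fb546b9_16.2, Cfsg.Agent.LsF.fb546b9_6.2, Cfsg.Agent.LsF.instDecEq_eq, Cfsg.Agent.LsF.decLt_eq, Cfsg.Agent.LsF.dAnd_eq, Cfsg.Agent.LsF.dNot_eq, Cfsg.Agent.LsF.dBAll_eq, Cfsg.Agent.LsF.decide_eq])); decide +kernel)
  inv' := by unfold Inv; rw [Fc.ct_eq, Fc.ng_eq]; (refine of_decide_eq_true ?_; (try (rewrite [Cfsg.Agent.LsF.dMemE_pat, Cfsg.Agent.LsF.fb546b9_15.2, Cfsg.Agent.LsF.fb546b9_16.2, Cfsg.Agent.LsF.fb546b9_6.2, Cfsg.Agent.LsF.instDecEq_eq, Cfsg.Agent.LsF.decLt_eq, Cfsg.Agent.LsF.map_eq, Cfsg.Agent.LsF.dAnd_eq, Cfsg.Agent.LsF.dNot_eq, Cfsg.Agent.LsF.dBAll_eq, Cfsg.Agent.LsF.decide_eq])); decide +kernel)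
  lg := by unfold gal gst; rw [Fc.ct_eq, Fc.ng_eq]; decide +kernel
  chain := by unfold gal gst S0; rw [Fc.ct_eq, Fc.ng_eq]; (refine of_decide_eq_true ?_; (try (rewrite [Cfsg.Agent.LsF.dMemE_pat, Cfsg.Agent.LsF.fb546b9_17.2, Cfsg.Agent.LsF.fb546b9_6.2, Cfsg.Agent.LsF.fb546b9_18.2, Cfsg.Agent.LsF.fb546b9_19.2, Cfsg.Agent.LsF.fb546b9_20.2, Cfsg.Agent.LsF.imul_pat, Cfsg.Agent.LsF.lappend_pat, Cfsg.Agent.LsF.instDecEq_eq, Cfsg.Agent.LsF.decLt_eq, Cfsg.Agent.LsF.foldl_eq, Cfsg.Agent.LsF.flatMap_eq, Cfsg.Agent.LsF.filter_eq, Cfsg.Agent.LsF.instIDecEq_eq, Cfsg.Agent.LsF.dAnd_eq, Cfsg.Agent.LsF.dOr_eq, Cfsg.Agent.LsF.dNot_eq, Cfsg.Agent.LsF.dFinEq_eq, Cfsg.Agent.LsF.dForallFin_eq, Cfsg.Agent.LsF.finRange_eq, Cfsg.Agent.LsF.dAllP_eq, Cfsg.Agent.LsF.ite_eq, Cfsg.Agent.LsF.decide_eq])); decide +kernel)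
  gen := by unfold AllS gal gst; rw [Fc.ct_eq, Fc.ng_eq]; (refine of_decide_eq_true ?_; (try (rewrite [Cfsg.Agent.LsF.dMemE_pat, Cfsg.Agent.LsF.fb546b9_21.2, Cfsg.Agent.LsF.fb546b9_20.2, Cfsg.Agent.LsF.fb546b9_16.2, Cfsg.Agent.LsF.fb546b9_17.2, Cfsg.Agent.LsF.fb546b9_6.2, Cfsg.Agent.LsF.fb546b9_23.2, Cfsg.Agent.LsF.fb546b9_18.2, Cfsg.Agent.LsF.fb546b9_19.2, Cfsg.Agent.LsF.fb546b9_24.2, Cfsg.Agent.LsF.imul_pat, Cfsg.Agent.LsF.lappend_pat, Cfsg.Agent.LsF.instDecEq_eq, Cfsg.Agent.LsF.decLt_eq, Cfsg.Agent.LsF.map_eq, Cfsg.Agent.LsF.foldl_eq, Cfsg.Agent.LsF.instIDecEq_eq, Cfsg.Agent.LsF.dAnd_eq, Cfsg.Agent.LsF.dOr_eq, Cfsg.Agent.LsF.dNot_eq, Cfsg.Agent.LsF.dBallLT_eq, Cfsg.Agent.LsF.ite_eq, Cfsg.Agent.LsF.decide_eq])); decide +kernel)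

theorem rt7c : RTa chevE7 r7c ∧ (RTb chevE7 r7c fun _ _ => 1) ∧ RTc chevE7 r7c ∧
    ∀ i j, i ≠ j → r7c j i = chevE7.neg (r7c i j) :=
  ⟨by decide +kernel, Fc.rtb_of (by decide +kernel), Fc.rtc_of (by decide +kernel), by rw [Fc.ng_eq]; decide +kernel⟩

end Cfsg.Agent.H441.FPR
end

-- part: H441/FPR/FTab
section
/-!
# Tables: long `SL_3` in `F₄`
-/

set_option autoImplicit false
set_option maxRecDepth 100000

namespace Cfsg.Agent.H441.FPR

open Cfsg.Lie Cfsg.Agent.ChevalleyStructure Cfsg.Agent.ChevalleyStructure.Elts Cfsg.Agent.H79.SimpleGen Matrix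
open Cfsg.Agent.H398.FPR Cfsg.Agent.TitsThree.KExcRT

def R4 : List (List ℕ) := [[0, 25, 26], [22, 0, 24], [21, 23, 0]]
def r4 : Fin 3 → Fin 3 → ℕ := ![![0, 25, 26], ![22, 0, 24], ![21, 23, 0]]
def g4 : Fin 2 → Fin 3 → ℕ := ![![32, 31, 30], ![43, 42, 41]]
def h4 : Fin 1 → Fin 3 → ℕ := ![![45, 46, 47]]
def u4 : Fin 2 → Fin 3 → ℤ := fun _ => ![1, -1, 1]
def Γ4 : List ℕ := List.range' 27 21
def st4a : List (ℕ × ℕ) := [(32, 16), (31, 15), (31, 17), (30, 16), (32, 17), (30, 15)]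
def st4b : List (ℕ × ℕ) := [(31, 17), (16, 30), (30, 42), (17, 5), (46, 2), (1, 45), (25, 24), (22, 23)]
def st4c : List (ℕ × ℕ) := [(22, 28), (25, 19), (22, 35), (25, 12), (34, 20), (13, 27)]

theorem t4a : CB chevF4 r4 (-1) g4 u4 u4 h4 (fun _ _ => 1) (fun _ _ => 1) Γ4 (fun _ => true)
    (mkL R4 3) (mkst R4 3) st4a st4c where
  rlt := by decide +kernel
  nat := Fc.nat_of (by decide +kernel)
  dual := Fc.nat_of (by rw [Fc.ng_eq]; decide +kernel)
  nat' := Fc.nat_of (by decide +kernel)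
  dual' := Fc.nat_of (by rw [Fc.ng_eq]; decide +kernel)
  gmem := by decide +kernel
  hmem := by decide +kernel
  pos := fun k hk => Fc.pos_of (by revert k; decide +kernel)
  inv := by unfold Inv; rw [Fc.ct_eq, Fc.ng_eq]; decide +kernel
  inv' := by unfold Inv; rw [Fc.ct_eq, Fc.ng_eq]; decide +kernel
  lg := by unfold gal gst; rw [Fc.ct_eq, Fc.ng_eq]; decide +kernel
  chain := by unfold gal gst S0; rw [Fc.ct_eq, Fc.ng_eq]; decide +kernel
  gen := by unfold AllS gal gst; rw [Fc.ct_eq, Fc.ng_eq]; decide +kernel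

theorem t4b : CB chevF4 r4 (-1) g4 u4 u4 h4 (fun _ _ => 1) (fun _ _ => 1) Γ4 ![false, true, true]
    (mkL R4 3) (mkst R4 3) st4b st4c where
  rlt := by decide +kernel
  nat := Fc.nat_of (by decide +kernel)
  dual := Fc.nat_of (by rw [Fc.ng_eq]; decide +kernel)
  nat' := Fc.nat_of (by decide +kernel)
  dual' := Fc.nat_of (by rw [Fc.ng_eq]; decide +kernel)
  gmem := by decide +kernel
  hmem := by decide +kernel
  pos := fun k hk => Fc.pos_of (by revert k; decide +kernel)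
  inv := by unfold Inv; rw [Fc.ct_eq, Fc.ng_eq]; decide +kernel
  inv' := by unfold Inv; rw [Fc.ct_eq, Fc.ng_eq]; decide +kernel
  lg := by unfold gal gst; rw [Fc.ct_eq, Fc.ng_eq]; decide +kernel
  chain := by unfold gal gst S0; rw [Fc.ct_eq, Fc.ng_eq]; decide +kernel
  gen := by unfold AllS gal gst; rw [Fc.ct_eq, Fc.ng_eq]; decide +kernel

theorem rt4 : RTa chevF4 r4 ∧ (RTb chevF4 r4 fun _ _ => -1) ∧ RTc chevF4 r4 ∧
    ∀ i j, i ≠ j → r4 j i = chevF4.neg (r4 i j) :=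
  ⟨by decide +kernel, Fc.rtb_of (by decide +kernel), Fc.rtc_of (by decide +kernel), by rw [Fc.ng_eq]; decide +kernel⟩

end Cfsg.Agent.H441.FPR
end

-- part: H441/FPR/SLB
section
/-!
# Rows from the criterion with normal closures
-/

set_option autoImplicit false

namespace Cfsg.Agent.H441.FPR

open Cfsg.Lie Cfsg.Agent.ChevalleyStructure Cfsg.Agent.ChevalleyStructure.Elts Cfsg.Agent.H79.SimpleGen Matrix
open Cfsg.Agent.H398.FPR Cfsg.Agent.TitsThree.KExcRT Cfsg.Agent.ChevalleyStructure.RootVec Cfsg.Agent.Nodes.RGDChev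
open Cfsg.Agent.H162.GaussExcMain Cfsg.Agent.KFacts.RgdChevCoord

universe u

variable {K : Type u} [Field K] {D : ChevalleyDatum}

/-- the homomorphism of `SL_n(K)` -/
theorem exists_hom {l : ℕ} {M : CoxeterMatrix (Fin l)} (hp : IsType D l M) {n : ℕ}
    {r : Fin (n + 3) → Fin (n + 3) → ℕ} {ε : ℤ} (hε : ε * ε = 1)
    (ha : RTa D r) (hb : RTb D r fun _ _ => ε) (hc : RTc D r) (hneg : ∀ i j, i ≠ j → r j i = D.neg (r i j)) :
    ∃ φ : SpecialLinearGroup (Fin (n + 3)) K →* ↥(D.group K), ∀ a b (hab : a ≠ b) c,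
      φ (SpecialLinearGroup.transvection hab c) = xS hp.inList (r a b) ((ε : K) * c) := by
  obtain ⟨φ, hφ⟩ := exists_hom_D hp (K := K) hε ha hb hc hneg
  refine ⟨φ, fun a b hab c => ?_⟩
  rw [hφ]
  apply Subtype.ext
  rw [coe_xc hp (ha a b hab)]
  rfl

/-- `p` divides `q - 1` iff the order is `1` -/
theorem not_dvd_of_ord [Fintype K] {p : ℕ} (h1 : orderOf (Fintype.card K : ZMod p) ≠ 1) :
    ¬ p ∣ Fintype.card K - 1 := by
  intro h
  apply h1
  rw [orderOf_eq_one_iff]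
  have h2 : ((Fintype.card K - 1 : ℕ) : ZMod p) = 0 := (ZMod.natCast_eq_zero_iff _ _).2 h
  rw [Nat.cast_sub Fintype.card_pos, Nat.cast_one, sub_eq_zero] at h2
  exact h2

theorem ne_char [Fintype K] {p r0 : ℕ} [CharP K r0] (hpK : (p : K) ≠ 0) : p ≠ r0 := by
  rintro rfl
  exact hpK (CharP.cast_eq_zero K p)

/-- an element of `SL_n(K)` -/
theorem exists_sl_free [Fintype K] {p : ℕ} (hp' : p.Prime) (hpK : (p : K) ≠ 0)
    (h1 : orderOf (Fintype.card K : ZMod p) ≠ 1) {n : ℕ} (hn : orderOf (Fintype.card K : ZMod p) ∣ n) :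
    ∃ A : SpecialLinearGroup (Fin n) K, A ^ p ^ 1 = 1 ∧
      ∀ v : Fin n → K, (A : Matrix (Fin n) (Fin n) K).mulVec v = v → v = 0 := by
  have : Fact p.Prime := ⟨hp'⟩
  obtain ⟨x, hx1, hx2, hx3⟩ := Cfsg.Agent.H956.FreeElt.exists_free (F := K) rfl hpK h1 hn
  obtain ⟨A, hA⟩ : ∃ A : SpecialLinearGroup (Fin n) K,
      (A : Matrix (Fin n) (Fin n) K) = x := ⟨⟨x, hx1⟩, rfl⟩
  refine ⟨A, ?_, fun v hv => hx3 v (by rwa [hA] at hv)⟩
  apply Subtype.ext
  rw [pow_one]
  change (A : Matrix (Fin n) (Fin n) K) ^ p = 1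
  rw [hA]
  exact congrArg Units.val hx2

/-- the full case -/
theorem CB.tr_ord [Fintype K] {r0 : ℕ} [Fact r0.Prime] [CharP K r0] {l : ℕ} {M : CoxeterMatrix (Fin l)}
    (hp : IsType D l M) {n m m' : ℕ}
    {r : Fin (n + 3) → Fin (n + 3) → ℕ} {ε : ℤ} (hε : ε * ε = 1)
    (ha : RTa D r) (hb : RTb D r fun _ _ => ε) (hc : RTc D r) (hneg : ∀ i j, i ≠ j → r j i = D.neg (r i j))
    {g : Fin m → Fin (n + 3) → ℕ} {u u' : Fin m → Fin (n + 3) → ℤ} {h : Fin m' → Fin (n + 3) → ℕ}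
    {v v' : Fin m' → Fin (n + 3) → ℤ} {Γ Lg : List ℕ} {stg st0 st1 : List (ℕ × ℕ)}
    (C : CB D r ε g u u' h v v' Γ (fun _ => true) Lg stg st0 st1) {p : ℕ} (hp' : p.Prime) (hpK : (p : K) ≠ 0)
    (h1 : orderOf (Fintype.card K : ZMod p) ≠ 1) (hn : orderOf (Fintype.card K : ZMod p) ∣ n + 3) :
    TR r0 p ↥(D.group K) := by
  obtain ⟨φ, hφ⟩ := exists_hom (K := K) hp hε ha hb hc hneg
  obtain ⟨A, hA1, hA2⟩ := exists_sl_free hp' hpK h1 hn
  exact C.tr hp.inList hε hφ hp' (ne_char hpK) (ne_two_of_ord hp' hpK h1) hA1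
    (fun a _ t => exists_sub hA2 _) (fun a _ t => exists_sub (itr_free hA2) _)
    (nc_top (by omega) (not_center_of_free hp' (not_dvd_of_ord h1) hA1 hA2))

/-! ### `1 ⊕ B` -/

/-- `1 ⊕ B` as a matrix -/
def embM (B : Matrix (Fin 2) (Fin 2) K) : Matrix (Fin 3) (Fin 3) K := !![1, 0, 0; 0, B 0 0, B 0 1; 0, B 1 0, B 1 1]

theorem embM_mul (B C : Matrix (Fin 2) (Fin 2) K) : embM (B * C) = embM B * embM C := by
  ext i j
  fin_cases i <;> fin_cases j <;> simp [embM, Matrix.mul_apply, Fin.sum_univ_three, Fin.sum_univ_two]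

theorem embM_one : embM (1 : Matrix (Fin 2) (Fin 2) K) = 1 := by
  ext i j
  fin_cases i <;> fin_cases j <;> simp [embM]

theorem embM_transpose (B : Matrix (Fin 2) (Fin 2) K) : (embM B)ᵀ = embM Bᵀ := by
  ext i j
  fin_cases i <;> fin_cases j <;> simp [embM]

theorem embM_det (B : Matrix (Fin 2) (Fin 2) K) : (embM B).det = B.det := by
  rw [Matrix.det_fin_two, Matrix.det_fin_three]
  simp [embM]

/-- `1 ⊕ B` -/
def emb (K : Type u) [Field K] : SpecialLinearGroup (Fin 2) K →* SpecialLinearGroup (Fin 3) K where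
  toFun B := ⟨embM B, by rw [embM_det]; exact B.2⟩
  map_one' := Subtype.ext embM_one
  map_mul' B C := Subtype.ext (embM_mul _ _)

theorem coe_emb (B : SpecialLinearGroup (Fin 2) K) : (emb K B : Matrix (Fin 3) (Fin 3) K) = embM B := rfl

theorem emb_transpose (B : SpecialLinearGroup (Fin 2) K) : (emb K B).transpose = emb K B.transpose :=
  Subtype.ext (embM_transpose _)

theorem itr_emb (B : SpecialLinearGroup (Fin 2) K) : itr 3 K (emb K B) = emb K (itr 2 K B) := by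
  change ((emb K B)⁻¹).transpose = emb K ((B⁻¹).transpose)
  rw [← map_inv, emb_transpose]

theorem emb_mulVec (B : SpecialLinearGroup (Fin 2) K) (w : Fin 3 → K) :
    (emb K B : Matrix (Fin 3) (Fin 3) K).mulVec w =
      ![w 0, (B : Matrix (Fin 2) (Fin 2) K).mulVec ![w 1, w 2] 0, (B : Matrix (Fin 2) (Fin 2) K).mulVec ![w 1, w 2] 1] := by
  rw [coe_emb]
  ext i
  fin_cases i <;> simp [embM, Matrix.mulVec, dotProduct, Fin.sum_univ_three, Fin.sum_univ_two]

theorem emb_sub {B : SpecialLinearGroup (Fin 2) K}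
    (hB : ∀ v : Fin 2 → K, (B : Matrix (Fin 2) (Fin 2) K).mulVec v = v → v = 0) (a : Fin 3)
    (ha : ![false, true, true] a = true) (t : K) :
    ∃ w : Fin 3 → K, (emb K B : Matrix (Fin 3) (Fin 3) K).mulVec w - w = Pi.single a t := by
  have key : ∀ s : Fin 2 → K, ∃ w : Fin 3 → K, (emb K B : Matrix (Fin 3) (Fin 3) K).mulVec w - w = ![0, s 0, s 1] := by
    intro s
    obtain ⟨v, hv⟩ := exists_sub hB s
    refine ⟨![0, v 0, v 1], ?_⟩
    rw [emb_mulVec]
    have h1 : ![(![0, v 0, v 1] : Fin 3 → K) 1, (![0, v 0, v 1] : Fin 3 → K) 2] = v := by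
      ext i; fin_cases i <;> rfl
    rw [h1, ← hv]
    ext i
    fin_cases i <;> simp
  fin_cases a
  · simp at ha
  · obtain ⟨w, hw⟩ := key ![t, 0]
    refine ⟨w, ?_⟩
    rw [hw]
    ext i
    fin_cases i <;> simp
  · obtain ⟨w, hw⟩ := key ![0, t]
    refine ⟨w, ?_⟩
    rw [hw]
    ext i
    fin_cases i <;> simp

theorem emb_not_center {B : SpecialLinearGroup (Fin 2) K}
    (hB : ∀ v : Fin 2 → K, (B : Matrix (Fin 2) (Fin 2) K).mulVec v = v → v = 0) :
    emb K B ∉ Subgroup.center (SpecialLinearGroup (Fin 3) K) := by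
  intro h
  obtain ⟨c, -, hc⟩ := Matrix.SpecialLinearGroup.mem_center_iff.1 h
  have h1 : c = 1 := by
    have h3 := congrFun (congrFun hc 0) 0
    rw [Matrix.scalar_apply, Matrix.diagonal_apply_eq] at h3
    rw [h3]
    rfl
  rw [h1, map_one, coe_emb] at hc
  have h2 : (B : Matrix (Fin 2) (Fin 2) K) = 1 := by
    ext i j
    have h3 := congrFun (congrFun hc i.succ) j.succ
    fin_cases i <;> fin_cases j <;> simpa [embM] using h3.symm
  have h6 := hB (Pi.single 0 1) (by rw [h2, Matrix.one_mulVec])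
  have h7 := congrFun h6 0
  rw [Pi.single_eq_same] at h7
  exact one_ne_zero h7

/-- the case `1 ⊕ B` -/
theorem CB.tr_emb [Fintype K] {r0 : ℕ} [Fact r0.Prime] [CharP K r0] {l : ℕ} {M : CoxeterMatrix (Fin l)}
    (hp : IsType D l M) {m m' : ℕ}
    {r : Fin 3 → Fin 3 → ℕ} {ε : ℤ} (hε : ε * ε = 1)
    (ha : RTa D r) (hb : RTb D r fun _ _ => ε) (hc : RTc D r) (hneg : ∀ i j, i ≠ j → r j i = D.neg (r i j))
    {g : Fin m → Fin 3 → ℕ} {u u' : Fin m → Fin 3 → ℤ} {h : Fin m' → Fin 3 → ℕ}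
    {v v' : Fin m' → Fin 3 → ℤ} {Γ Lg : List ℕ} {stg st0 st1 : List (ℕ × ℕ)}
    (C : CB D r ε g u u' h v v' Γ ![false, true, true] Lg stg st0 st1) {p : ℕ} (hp' : p.Prime) (hpK : (p : K) ≠ 0)
    (h1 : orderOf (Fintype.card K : ZMod p) ≠ 1) (hn : orderOf (Fintype.card K : ZMod p) ∣ 2) :
    TR r0 p ↥(D.group K) := by
  obtain ⟨φ, hφ⟩ := exists_hom (K := K) (n := 0) hp hε ha hb hc hneg
  obtain ⟨B, hB1, hB2⟩ := exists_sl_free hp' hpK h1 hn
  refine C.tr hp.inList hε hφ hp' (ne_char hpK) (ne_two_of_ord hp' hpK h1) (A := emb K B) (k := 1)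
    (by rw [← map_pow, hB1, map_one]) (emb_sub hB2) ?_ (nc_top le_rfl (emb_not_center hB2))
  rw [itr_emb]
  exact emb_sub (itr_free hB2)

end Cfsg.Agent.H441.FPR
end

-- part: H441/FPR/Tor
section
/-!
# Torus elements
-/

set_option autoImplicit false
set_option maxRecDepth 100000

namespace Cfsg.Agent.H441.FPR

open Cfsg.Lie Cfsg.Agent.ChevalleyStructure Cfsg.Agent.ChevalleyStructure.Elts Cfsg.Agent.H79.SimpleGen Matrix
open Cfsg.Agent.H398.FPR Cfsg.Agent.TitsThree.KExcRT Cfsg.Agent.ChevalleyStructure.RootVec Cfsg.Agent.Nodes.RGDChev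
open Cfsg.Agent.KFacts.RgdChevCoord
open Cfsg.Agent.FixBN.FieldRGD (uu vv dd ww)

universe u

variable {K : Type u} [Field K] {D : ChevalleyDatum}

/-- the table check -/
structure TorOK (D : ChevalleyDatum) (i : ℕ) (S : List ℕ) (st : List (ℕ × ℕ)) : Prop where
  rk : i < D.rank
  pos : ∀ s ∈ S, D.IsPosRoot s ∧ D.IsNegRoot (D.neg s)
  lt : ∀ s ∈ S ++ S.map D.neg, s < D.nroots ∧ (D.cartan i s = 1 ∨ D.cartan i s = -1)
  refl : ∀ s ∈ S, D.reflectRoot i s ∈ S
  refl' : ∀ s ∈ S.map D.neg, D.reflectRoot i s ∈ S.map D.neg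
  gen : AllS D (gal D [] [] (S ++ S.map D.neg) st)

theorem mem_UG_single (hD : InList D) {s : ℕ} {y : ↥(D.group K)} :
    y ∈ UG hD K [s] ↔ ∃ t : K, y = xS hD s t := by
  constructor
  · intro hy
    let X : Subgroup ↥(D.group K) :=
      { carrier := {y | ∃ t : K, y = xS hD s t}
        one_mem' := ⟨0, (xS_zero hD s).symm⟩
        mul_mem' := by
          rintro _ _ ⟨t, rfl⟩ ⟨u, rfl⟩
          exact ⟨t + u, xS_mul hD s t u⟩
        inv_mem' := by
          rintro _ ⟨t, rfl⟩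
          exact ⟨-t, xS_inv hD s t⟩ }
    have h1 : UG hD K [s] ≤ X := by
      apply UG_le
      intro k hk t
      rw [List.mem_singleton.1 hk]
      exact ⟨t, rfl⟩
    exact h1 hy
  · rintro ⟨t, rfl⟩
    exact xS_mem_UG hD (List.mem_singleton.2 rfl) t

/-- a pair from an element acting by scalars -/
theorem pair_UG [Finite K] (hD : InList D) {r0 : ℕ} [Fact r0.Prime] {p j : ℕ} {x : ↥(D.group K)} {S : List ℕ}
    (hpg : IsPGroup r0 ↥(UG hD K S))
    (h1 : ∀ s ∈ S, ∀ t : K, x * xS hD s t * x⁻¹ ∈ UG hD K S)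
    (h2 : ∀ s ∈ S, ∃ c : K, c ≠ 1 ∧ ∀ t : K, x ^ p ^ j * xS hD s t * (x ^ p ^ j)⁻¹ = xS hD s (c * t)) :
    Pair p j x (UG hD K S) := by
  have hfin : Finite ↥(D.group K) := inferInstance
  refine ⟨hpg.isNilpotent, ?_, ?_⟩
  · apply mem_norm_of_conj
    have h3 : UG hD K S ≤ (UG hD K S).comap (MulAut.conj x).toMonoidHom := UG_le hD h1
    exact fun y hy => h3 hy
  · refine commFull_of_le_iSup (Q := fun s : {s // s ∈ S} => UG hD K [s.1]) ?_ ?_ ?_ ?_
    · rintro ⟨s, hs⟩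
      apply UG_le
      intro k hk t
      rw [List.mem_singleton.1 hk]
      exact xS_mem_UG hD hs t
    · apply UG_le
      intro s hs t
      exact (le_iSup (fun s : {s // s ∈ S} => UG hD K [s.1]) ⟨s, hs⟩)
        (xS_mem_UG hD (List.mem_singleton.2 rfl) t)
    · rintro ⟨s, hs⟩ y hy
      obtain ⟨t, rfl⟩ := (mem_UG_single hD).1 hy
      obtain ⟨c, -, hc⟩ := h2 s hs
      rw [hc]
      exact (mem_UG_single hD).2 ⟨_, rfl⟩
    · rintro ⟨s, hs⟩
      obtain ⟨c, hc1, hc⟩ := h2 s hs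
      apply commFull_of_surj
      intro q hq
      obtain ⟨t, rfl⟩ := (mem_UG_single hD).1 hq
      refine ⟨xS hD s (t / (c - 1)), (mem_UG_single hD).2 ⟨_, rfl⟩, ?_⟩
      rw [hc, xS_inv, xS_mul]
      congr 1
      have h5 : c - 1 ≠ 0 := sub_ne_zero.2 hc1
      field_simp
      ring

variable {l : ℕ} {M : CoxeterMatrix (Fin l)} (hp : IsType D l M)

include hp in
/-- **Torus elements.** -/
theorem TorOK.tr [Finite K] {r0 : ℕ} [Fact r0.Prime] [CharP K r0] {i : ℕ} {S : List ℕ} {st : List (ℕ × ℕ)}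
    (T : TorOK D i S st) {p j k : ℕ} (hj : p = 2 → 1 ≤ j) {x : ↥(D.group K)} (hx : x ^ p ^ k = 1)
    (hx1 : ∀ s ∈ S, ∀ t : K, x * xS hp.inList s t * x⁻¹ ∈ UG hp.inList K S)
    (hx2 : ∀ s ∈ S.map D.neg, ∀ t : K, x * xS hp.inList s t * x⁻¹ ∈ UG hp.inList K (S.map D.neg))
    {c : K} (hc0 : c ≠ 0) (hc : c ≠ 1)
    (hy : ((x ^ p ^ j : ↥(D.group K)) : GL D.Idx K) = hG hp.inList (D.simple i) c) : TR r0 p ↥(D.group K) := by
  have hfin : Finite ↥(D.group K) := inferInstance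
  have key : ∀ s ∈ S ++ S.map D.neg, ∃ c : K, c ≠ 1 ∧
      ∀ t : K, x ^ p ^ j * xS hp.inList s t * (x ^ p ^ j)⁻¹ = xS hp.inList s (c * t) := by
    intro s hs
    obtain ⟨h1, h2⟩ := T.lt s hs
    refine ⟨c ^ D.cartan i s, ?_, fun t => ?_⟩
    · rcases h2 with h2 | h2
      · rw [h2, zpow_one]; exact hc
      · rw [h2, _root_.zpow_neg_one]
        intro h3
        exact hc (by rw [← inv_inv c, h3, inv_one])
    · apply Subtype.ext
      have h3 := BruhatSplit.hG_simple_conj (F := K) hp.inList T.rk h1 hc0 t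
      rw [← hy] at h3
      exact h3
  have hp1 : IsPGroup r0 ↥(UG hp.inList K S) := UG_pos hp.inList r0 fun k hk => (T.pos k hk).1
  have hp2 : IsPGroup r0 ↥(UG hp.inList K (S.map D.neg)) := by
    refine UG_neg hp.inList r0 fun k hk => ?_
    obtain ⟨k', hk', rfl⟩ := List.mem_map.1 hk
    exact (T.pos k' hk').2
  refine ⟨j, k, x, _, _, hx, hj,
    pair_UG hp.inList hp1 hx1 fun s hs => key s (List.mem_append_left _ hs),
    pair_UG hp.inList hp2 hx2 fun s hs => key s (List.mem_append_right _ hs), hp1, hp2, ?_⟩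
  obtain ⟨M, hM⟩ : ∃ M, M = Subgroup.closure (({x} ∪ (UG hp.inList K S : Set ↥(D.group K))) ∪
    (UG hp.inList K (S.map D.neg) : Set ↥(D.group K))) := ⟨_, rfl⟩
  rw [← hM]
  have hS : ∀ k ∈ S ++ S.map D.neg, ∀ t : K, xS hp.inList k t ∈ M := by
    intro k hk t
    rw [hM]
    rcases List.mem_append.1 hk with hk | hk
    · exact Subgroup.subset_closure (Or.inl (Or.inr (xS_mem_UG hp.inList hk t)))
    · exact Subgroup.subset_closure (Or.inr (xS_mem_UG hp.inList hk t))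
  have hfinal := gal_sound hp.inList (M := M) (L := []) (Γ := []) (fun r hr => absurd hr List.not_mem_nil) st hS
  exact eq_top_of_simple hp.inList M (fun i hi => hfinal _ (T.gen i hi).1) (fun i hi => hfinal _ (T.gen i hi).2)

include hp in
/-- the case `p = 2` -/
theorem TorOK.tr_two [Finite K] {r0 : ℕ} [Fact r0.Prime] [CharP K r0] {i : ℕ} {S : List ℕ} {st : List (ℕ × ℕ)}
    (T : TorOK D i S st) (h2 : (2 : K) ≠ 0) : TR r0 2 ↥(D.group K) := by
  obtain ⟨φ, -, -, hφn, hφh, -⟩ := Cfsg.Agent.OddHalf.NI.ModelChev.exists_sl hp (K := K) (simple_lt hp.inList T.rk)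
  have hw2 : (ww (1 : K) one_ne_zero) ^ 2 = dd (-1) (neg_ne_zero.2 one_ne_zero) := by
    apply Subtype.ext
    rw [pow_two]
    change !![(0 : K), 1; -1⁻¹, 0] * !![(0 : K), 1; -1⁻¹, 0] = !![(-1 : K), 0; 0, (-1)⁻¹]
    ext a b
    fin_cases a <;> fin_cases b <;> simp [Matrix.mul_apply, Fin.sum_univ_two]
  have hw4 : (ww (1 : K) one_ne_zero) ^ 2 ^ 2 = 1 := by
    rw [show (2 ^ 2 : ℕ) = 2 * 2 from rfl, pow_mul, hw2]
    apply Subtype.ext
    rw [pow_two]
    change !![(-1 : K), 0; 0, (-1)⁻¹] * !![(-1 : K), 0; 0, (-1)⁻¹] = 1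
    ext a b
    fin_cases a <;> fin_cases b <;> simp [Matrix.mul_apply, Fin.sum_univ_two]
  have hn : φ (ww (1 : K) one_ne_zero) = nS hp.inList (D.simple i) 1 := Subtype.ext (hφn 1 one_ne_zero)
  have hconj : ∀ s, s < D.nroots → ∀ t : K, ∃ t' : K, φ (ww (1 : K) one_ne_zero) * xS hp.inList s t *
      (φ (ww (1 : K) one_ne_zero))⁻¹ = xS hp.inList (D.reflectRoot i s) t' := by
    intro s hs t
    refine ⟨((NSimple.eta D i s : ℤ) : K) * t, ?_⟩
    rw [hn, nS_mul_xS hp.inList T.rk hs, mul_inv_cancel_right]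
  refine T.tr hp (p := 2) (j := 1) (k := 2) (fun _ => le_rfl) (x := φ (ww 1 one_ne_zero)) ?_ ?_ ?_
    (c := -1) (neg_ne_zero.2 one_ne_zero) ?_ ?_
  · rw [← map_pow, hw4, map_one]
  · intro s hs t
    obtain ⟨t', ht'⟩ := hconj s (T.lt s (List.mem_append_left _ hs)).1 t
    rw [ht']
    exact xS_mem_UG hp.inList (T.refl s hs) t'
  · intro s hs t
    obtain ⟨t', ht'⟩ := hconj s (T.lt s (List.mem_append_right _ hs)).1 t
    rw [ht']
    exact xS_mem_UG hp.inList (T.refl' s hs) t'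
  · intro h3
    apply h2
    have h4 : (2 : K) = 1 - (-1) := by norm_num
    rw [h4, h3, sub_self]
  · rw [pow_one, ← map_pow, hw2]
    exact hφh (-1) (neg_ne_zero.2 one_ne_zero)

include hp in
/-- the case of an odd prime dividing `q - 1` -/
theorem TorOK.tr_one [Fintype K] {r0 : ℕ} [Fact r0.Prime] [CharP K r0] {i : ℕ} {S : List ℕ} {st : List (ℕ × ℕ)}
    (T : TorOK D i S st) {p : ℕ} (hp' : p.Prime) (hp2 : p ≠ 2) (h1 : p ∣ Fintype.card K - 1) :
    TR r0 p ↥(D.group K) := by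
  classical
  have : Fact p.Prime := ⟨hp'⟩
  have h2 : p ∣ Fintype.card Kˣ := by rwa [Fintype.card_units]
  obtain ⟨t, ht⟩ := exists_prime_orderOf_dvd_card p h2
  obtain ⟨φ, -, -, -, hφh, -⟩ := Cfsg.Agent.OddHalf.NI.ModelChev.exists_sl hp (K := K) (simple_lt hp.inList T.rk)
  have ht1 : (t : K) ≠ 1 := fun h => hp'.ne_one (by rw [← ht, orderOf_eq_one_iff]; exact Units.ext h)
  have htp : (t : K) ^ p = 1 := by rw [← Units.val_pow_eq_pow_val, ← ht, pow_orderOf_eq_one, Units.val_one]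
  have hd : (dd (t : K) t.ne_zero) ^ p = 1 := by
    have h3 : ∀ m : ℕ, ((dd (t : K) t.ne_zero ^ m : SpecialLinearGroup (Fin 2) K) : Matrix (Fin 2) (Fin 2) K) =
        !![(t : K) ^ m, 0; 0, ((t : K)⁻¹) ^ m] := by
      intro m
      induction m with
      | zero =>
        ext a b
        fin_cases a <;> fin_cases b <;> simp
      | succ m ih =>
        rw [pow_succ]
        change ((dd (t : K) t.ne_zero ^ m : SpecialLinearGroup (Fin 2) K) : Matrix (Fin 2) (Fin 2) K) *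
          !![(t : K), 0; 0, (t : K)⁻¹] = _
        rw [ih]
        ext a b
        fin_cases a <;> fin_cases b <;> simp [Matrix.mul_apply, Fin.sum_univ_two, pow_succ]
    apply Subtype.ext
    rw [h3, inv_pow, htp, inv_one]
    ext a b
    fin_cases a <;> fin_cases b <;> simp
  have hcoe : ((φ (dd (t : K) t.ne_zero) : ↥(D.group K)) : GL D.Idx K) = hG hp.inList (D.simple i) (t : K) :=
    hφh t t.ne_zero
  have hconj : ∀ s, s < D.nroots → ∀ u : K, φ (dd (t : K) t.ne_zero) * xS hp.inList s u *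
      (φ (dd (t : K) t.ne_zero))⁻¹ = xS hp.inList s ((t : K) ^ D.cartan i s * u) := by
    intro s hs u
    apply Subtype.ext
    have h3 := BruhatSplit.hG_simple_conj (F := K) hp.inList T.rk hs t.ne_zero u
    rw [← hcoe] at h3
    exact h3
  refine T.tr hp (p := p) (j := 0) (k := 1) (fun h => absurd h hp2) (x := φ (dd (t : K) t.ne_zero)) ?_ ?_ ?_
    (c := (t : K)) t.ne_zero ht1 ?_
  · rw [← map_pow, pow_one, hd, map_one]
  · intro s hs u
    rw [hconj s (T.lt s (List.mem_append_left _ hs)).1]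
    exact xS_mem_UG hp.inList hs _
  · intro s hs u
    rw [hconj s (T.lt s (List.mem_append_right _ hs)).1]
    exact xS_mem_UG hp.inList hs _
  · rw [pow_zero, pow_one]
    exact hcoe

end Cfsg.Agent.H441.FPR
end

private theorem dce_00c61bb77d3a : _root_.True := by
  try have : _root_.True := by simp only [_root_.Cfsg.Agent.H441.FPR.pick.eq_2]
  try have : _root_.True := by simp only [_root_.Cfsg.Agent.H441.FPR.embM.eq_1]
  try have : _root_.True := by simp only [_root_.Cfsg.Agent.H441.FPR.wd.congr_simp]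
  try have : _root_.True := by simp only [_root_.Cfsg.Agent.H441.FPR.pick.eq_1]
  try have : _root_.True := by simp only [_root_.Cfsg.Agent.FixBN.FieldRGD.dd.congr_simp]
  try have : _root_.True := by simp only [_root_.Cfsg.Agent.H441.FPR.pick.eq_def]
  exact _root_.True.intro
end

-- part: H441/FPR/Even
section
prune_inst 0x111069044f2202040018a58251201c16b60004b0004b0000c84003400788ec622d832e61842010060a3a204520350068111000900200000000000000011d01800000100491480008000098000100000000000000000000000000000000010004000000000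
set_option linter.all false
open scoped Cfsg.Agent.FastGrp

-- part: H441/FPR/Dich
section
/-!
# Sections with scalars: a `p`-element centralises them or has few fixed points
-/

set_option autoImplicit false

namespace Cfsg.Agent.H441.FPR

universe u

/-- fixed points of a `p`-element on a subgroup -/
theorem card_fix_modEq {G : Type*} [Group G] [Finite G] {p k : ℕ} [Fact p.Prime] {x : G} (hx : x ^ p ^ k = 1)
    (A : Subgroup G) (hA : ∀ a ∈ A, x * a * x⁻¹ ∈ A) :
    Nat.card A ≡ Nat.card ↥(A ⊓ Subgroup.centralizer ({x} : Set G)) [MOD p] := by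
  classical
  have := Fintype.ofFinite G
  let f : Function.End A := fun a => ⟨x * a * x⁻¹, hA a a.2⟩
  have hf : ∀ m : ℕ, ∀ a : A, (((f ^ m) a : A) : G) = x ^ m * a * (x ^ m)⁻¹ := by
    intro m
    induction m with
    | zero =>
      intro a
      change (a : G) = _
      simp
    | succ m ih =>
      intro a
      rw [pow_succ']
      change x * ((f ^ m) a : A) * x⁻¹ = _
      rw [ih, pow_succ']
      group
  have h1 : f ^ p ^ k = 1 := by
    funext a
    apply Subtype.ext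
    rw [hf, hx]
    change _ = (a : G)
    simp
  have h2 := Equiv.Perm.card_fixedPoints_modEq h1
  rw [← Nat.card_eq_fintype_card, ← Nat.card_eq_fintype_card] at h2
  have h3 : Nat.card (Function.fixedPoints f) = Nat.card ↥(A ⊓ Subgroup.centralizer ({x} : Set G)) := by
    refine Nat.card_congr ⟨fun a => ⟨a.1.1, a.1.2, ?_⟩, fun a => ⟨⟨a.1, a.2.1⟩, ?_⟩, fun a => rfl, fun a => rfl⟩
    · have h4 := congrArg Subtype.val a.2
      change x * a.1.1 * x⁻¹ = a.1.1 at h4
      rw [mul_inv_eq_iff_eq_mul] at h4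
      exact Subgroup.mem_centralizer_singleton_iff.2 h4.symm
    · have h4 := Subgroup.mem_centralizer_singleton_iff.1 a.2.2
      apply Subtype.ext
      change x * a.1 * x⁻¹ = a.1
      rw [mul_inv_eq_iff_eq_mul]
      exact h4.symm
  rwa [h3] at h2

/-- **The dichotomy.** -/
theorem dich {G : Type*} [Group G] [Finite G] {K : Type u} [Field K] [Fintype K] {n p k : ℕ} [Fact p.Prime]
    (hpK : ¬ p ∣ Fintype.card K) (Ψ : Multiplicative ((Fin n → K) × K) →* G) {x : G} (hx : x ^ p ^ k = 1)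
    (h0 : ∀ s : K, Commute x (Ψ (Multiplicative.ofAdd (0, s))))
    (hn : ∀ w, ∃ w', x * Ψ w * x⁻¹ = Ψ w')
    (hs : ∀ c : K, c ≠ 0 → ∃ h, Commute x h ∧ ∀ v : Fin n → K, ∃ s : K,
      h * Ψ (Multiplicative.ofAdd (v, 0)) * h⁻¹ = Ψ (Multiplicative.ofAdd (c • v, s))) :
    ∃ f ≤ n, orderOf (Fintype.card K : ZMod p) ∣ n - f ∧ (f = n → ∀ w, Commute x (Ψ w)) ∧
      (f = 0 → ∀ w, Commute x (Ψ w) → w.toAdd.1 = 0) := by
  classical
  have hsplit : ∀ (v : Fin n → K) (s : K), Ψ (Multiplicative.ofAdd (v, s)) =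
      Ψ (Multiplicative.ofAdd (v, 0)) * Ψ (Multiplicative.ofAdd (0, s)) := by
    intro v s
    rw [← map_mul, ← ofAdd_add, Prod.mk_add_mk, add_zero, zero_add]
  have hcomm : ∀ (v : Fin n → K) (s : K), Commute x (Ψ (Multiplicative.ofAdd (v, s))) ↔
      Commute x (Ψ (Multiplicative.ofAdd (v, 0))) := by
    intro v s
    rw [hsplit]
    constructor
    · intro h
      have h1 := h.mul_right (h0 s).inv_right
      rwa [mul_inv_cancel_right] at h1
    · intro h
      exact h.mul_right (h0 s)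
  let F : Submodule K (Fin n → K) :=
    { carrier := {v | Commute x (Ψ (Multiplicative.ofAdd (v, 0)))}
      zero_mem' := h0 0
      add_mem' := by
        intro a b ha hb
        have h1 : Ψ (Multiplicative.ofAdd (a + b, (0 : K))) =
            Ψ (Multiplicative.ofAdd (a, 0)) * Ψ (Multiplicative.ofAdd (b, 0)) := by
          rw [← map_mul, ← ofAdd_add, Prod.mk_add_mk, add_zero]
        change Commute x (Ψ (Multiplicative.ofAdd (a + b, (0 : K))))
        rw [h1]
        exact Commute.mul_right ha hb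
      smul_mem' := by
        intro c a ha
        by_cases hc : c = 0
        · rw [hc, zero_smul]
          exact h0 0
        · obtain ⟨h, hh, hv⟩ := hs c hc
          obtain ⟨s, hs'⟩ := hv a
          change Commute x (Ψ (Multiplicative.ofAdd (c • a, (0 : K))))
          rw [← hcomm (c • a) s, ← hs']
          exact (hh.mul_right ha).mul_right hh.inv_right }
  have hF : ∀ v, v ∈ F ↔ Commute x (Ψ (Multiplicative.ofAdd (v, 0))) := fun v => Iff.rfl
  -- the subgroup of the fixed vectors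
  obtain ⟨C, hC⟩ : ∃ C : Subgroup (Multiplicative ((Fin n → K) × K)),
      C = (Subgroup.centralizer ({x} : Set G)).comap Ψ := ⟨_, rfl⟩
  have hmemC : ∀ w, w ∈ C ↔ Commute x (Ψ w) := by
    intro w
    rw [hC, Subgroup.mem_comap, Subgroup.mem_centralizer_singleton_iff]
    exact ⟨fun h => h.symm, fun h => h.symm⟩
  have hkerC : Ψ.ker ≤ C := by
    intro w hw
    rw [hmemC, (MonoidHom.mem_ker).1 hw]
    exact Commute.one_right x
  have hcardC : Nat.card C = Fintype.card K ^ (Module.finrank K F) * Fintype.card K := by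
    have h1 : Nat.card C = Nat.card (F × K) := by
      refine Nat.card_congr ⟨fun w => (⟨w.1.toAdd.1, ?_⟩, w.1.toAdd.2),
        fun w => ⟨Multiplicative.ofAdd (w.1.1, w.2), ?_⟩, fun w => rfl, fun w => rfl⟩
      · have h2 := (hmemC w.1).1 w.2
        rw [hF, ← hcomm _ w.1.toAdd.2]
        exact h2
      · rw [hmemC, hcomm]
        exact w.1.2
    rw [h1, Nat.card_prod, Nat.card_eq_fintype_card, Nat.card_eq_fintype_card,
      Module.card_eq_pow_finrank (K := K) (V := F)]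
  have hcardW : Nat.card (Multiplicative ((Fin n → K) × K)) = Fintype.card K ^ n * Fintype.card K := by
    rw [Nat.card_eq_fintype_card, Fintype.card_multiplicative, Fintype.card_prod, Fintype.card_fun, Fintype.card_fin]
  have hk1 : Nat.card Ψ.ker * Nat.card Ψ.range = Nat.card (Multiplicative ((Fin n → K) × K)) := by
    rw [← Subgroup.index_ker, Subgroup.card_mul_index]
  have hk2 : Nat.card Ψ.ker * Nat.card (C.map Ψ) = Nat.card C := by
    rw [← Subgroup.relIndex_ker, ← Nat.card_congr (Subgroup.subgroupOfEquivOfLe hkerC).toEquiv]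
    exact Subgroup.card_mul_index (Ψ.ker.subgroupOf C)
  have hmap : C.map Ψ = Ψ.range ⊓ Subgroup.centralizer ({x} : Set G) := by
    ext y
    constructor
    · rintro ⟨w, hw, rfl⟩
      refine ⟨⟨w, rfl⟩, ?_⟩
      rw [hC] at hw
      exact hw
    · rintro ⟨⟨w, rfl⟩, hw⟩
      refine ⟨w, ?_, rfl⟩
      rw [hC]
      exact hw
  have hmod := card_fix_modEq hx Ψ.range (by
    rintro _ ⟨w, rfl⟩
    obtain ⟨w', hw'⟩ := hn w
    exact ⟨w', hw'.symm⟩)
  rw [← hmap] at hmod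
  have hmod2 := (Nat.ModEq.mul_left (Nat.card Ψ.ker) hmod)
  rw [hk1, hk2, hcardW, hcardC] at hmod2
  have hfle : Module.finrank K F ≤ n := by
    have := Submodule.finrank_le F
    rwa [Module.finrank_fin_fun] at this
  refine ⟨Module.finrank K F, hfle, ?_, ?_, ?_⟩
  · rw [orderOf_dvd_iff_pow_eq_one]
    have h1 := (ZMod.natCast_eq_natCast_iff _ _ p).2 hmod2
    push_cast at h1
    have hq : (Fintype.card K : ZMod p) ≠ 0 := by
      intro h
      exact hpK ((ZMod.natCast_eq_zero_iff _ _).1 h)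
    have h2 : (Fintype.card K : ZMod p) ^ n = (Fintype.card K : ZMod p) ^ Module.finrank K F :=
      mul_right_cancel₀ hq h1
    have h3 : (Fintype.card K : ZMod p) ^ Module.finrank K F * (Fintype.card K : ZMod p) ^ (n - Module.finrank K F) =
        (Fintype.card K : ZMod p) ^ Module.finrank K F * 1 := by
      rw [← pow_add, Nat.add_sub_cancel' hfle, h2, mul_one]
    exact mul_left_cancel₀ (pow_ne_zero _ hq) h3
  · intro hf w
    have h1 : F = ⊤ := by
      apply Submodule.eq_top_of_finrank_eq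
      rw [hf, Module.finrank_fin_fun]
    have h2 : w.toAdd.1 ∈ F := by rw [h1]; trivial
    rw [hF, ← hcomm _ w.toAdd.2] at h2
    exact h2
  · intro hf w hw
    have h1 : F = ⊥ := Submodule.finrank_eq_zero.1 hf
    have h2 : w.toAdd.1 ∈ F := by
      rw [hF, ← hcomm _ w.toAdd.2]
      exact hw
    rw [h1] at h2
    exact h2

end Cfsg.Agent.H441.FPR
end

-- part: H441/FPR/Even
section
/-!
# Characteristic two: commutative sections, scalars
-/

set_option autoImplicit false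
set_option maxRecDepth 100000

namespace Cfsg.Agent.H441.FPR

open Cfsg.Lie Cfsg.Agent.ChevalleyStructure Cfsg.Agent.ChevalleyStructure.Elts Cfsg.Agent.H79.SimpleGen Matrix
open Cfsg.Agent.H398.FPR Cfsg.Agent.TitsThree.KExcRT Cfsg.Agent.ChevalleyStructure.RootVec Cfsg.Agent.Nodes.RGDChev
open Cfsg.Agent.KFacts.RgdChevCoord
open Cfsg.Agent.FixBN.FieldRGD (uu vv dd ww)

universe u

variable {K : Type u} [Field K] {D : ChevalleyDatum} (hD : InList D)

theorem xS_eq_one {r : ℕ} (hr : r < D.nroots) {t : K} (h : xS hD r t = 1) : t = 0 := by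
  rw [← Cfsg.Agent.S1024.result (F := K) D hD r hr t]
  have h1 := congrArg (fun y : ↥(D.group K) => ((y : GL D.Idx K) : Matrix D.Idx D.Idx K)) h
  exact h1

/-- the two root subgroups commute in characteristic `2` -/
def EvC (D : ChevalleyDatum) (r s : ℕ) : Prop :=
  r < D.nroots ∧ s < D.nroots ∧ (s = r ∨ (s ≠ r ∧ s ≠ D.neg r ∧ ∀ c ∈ D.commTerms r s, c.2.1 % 2 = 0))

instance (r s : ℕ) : Decidable (EvC D r s) := by
  unfold EvC; infer_instance

theorem cast_even (h2 : (2 : K) = 0) {N : ℤ} (h : N % 2 = 0) : (N : K) = 0 := by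
  obtain ⟨m, rfl⟩ := Int.dvd_of_emod_eq_zero h
  rw [Int.cast_mul, Int.cast_ofNat, h2, zero_mul]

theorem cast_odd (h2 : (2 : K) = 0) {N : ℤ} (h : N % 2 = 1) : (N : K) = 1 := by
  have h1 : (N - 1) % 2 = 0 := by omega
  have h3 := cast_even h2 h1
  rw [Int.cast_sub, Int.cast_one, sub_eq_zero] at h3
  exact h3

theorem wd_even (h2 : (2 : K) = 0) {l : List (ℕ × ℤ × ℕ × ℕ)} (h : ∀ c ∈ l, c.2.1 % 2 = 0) (t u : K) :
    wd hD l t u = 1 := by
  apply List.prod_eq_one
  intro x hx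
  obtain ⟨c, hc, rfl⟩ := List.mem_map.1 hx
  rw [cast_even h2 (h c hc), zero_mul, zero_mul, xS_zero]

theorem EvC.comm (h2 : (2 : K) = 0) {r s : ℕ} (h : EvC D r s) (t u : K) : Commute (xS hD r t) (xS hD s u) := by
  obtain ⟨h3, h4, h5⟩ := h
  rcases h5 with rfl | ⟨h5, h6, h7⟩
  · change xS hD s t * xS hD s u = xS hD s u * xS hD s t
    rw [xS_mul, xS_mul, add_comm]
  · have h8 := xS_word hD h3 h4 h5 h6 t u
    rw [wd_even hD h2 h7, mul_one] at h8
    exact h8.symm

/-- a word modulo the even terms -/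
theorem wd_mem_of (h2 : (2 : K) = 0) {M : Subgroup ↥(D.group K)} {l : List (ℕ × ℤ × ℕ × ℕ)}
    (h : ∀ c ∈ l, c.2.1 % 2 = 0 ∨ ∀ t : K, xS hD c.1 t ∈ M) (t u : K) : wd hD l t u ∈ M := by
  apply Subgroup.list_prod_mem
  intro x hx
  obtain ⟨c, hc, rfl⟩ := List.mem_map.1 hx
  rcases h c hc with h | h
  · rw [cast_even h2 h, zero_mul, zero_mul, xS_zero]
    exact one_mem _
  · exact h _

/-! ### Torus elements -/

section Tor

variable {l : ℕ} {M : CoxeterMatrix (Fin l)} (hp : IsType D l M)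

/-- the element of the torus for a list of exponents -/
theorem exists_tor {c : K} (hc : c ≠ 0) (L : List (ℕ × ℤ)) (hL : ∀ a ∈ L, a.1 < D.rank) :
    ∃ y : ↥(D.group K), ∀ s < D.nroots, ∀ t : K,
      y * xS hp.inList s t * y⁻¹ = xS hp.inList s (c ^ ((L.map fun a => a.2 * D.cartan a.1 s).sum) * t) := by
  induction L with
  | nil =>
    refine ⟨1, fun s _ t => ?_⟩
    rw [List.map_nil, List.sum_nil, zpow_zero, one_mul]
    group
  | cons a L ih =>
    obtain ⟨y, hy⟩ := ih fun b hb => hL b (List.mem_cons_of_mem _ hb)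
    have ha := hL a List.mem_cons_self
    obtain ⟨φ, -, -, -, hφh, -⟩ := Cfsg.Agent.OddHalf.NI.ModelChev.exists_sl hp (K := K) (simple_lt hp.inList ha)
    have hcm : c ^ a.2 ≠ 0 := zpow_ne_zero _ hc
    refine ⟨φ (dd (c ^ a.2) hcm) * y, fun s hs t => ?_⟩
    have h1 : φ (dd (c ^ a.2) hcm) * y * xS hp.inList s t * (φ (dd (c ^ a.2) hcm) * y)⁻¹ =
        φ (dd (c ^ a.2) hcm) * (y * xS hp.inList s t * y⁻¹) * (φ (dd (c ^ a.2) hcm))⁻¹ := by group
    rw [h1, hy s hs, List.map_cons, List.sum_cons]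
    apply Subtype.ext
    have h3 := BruhatSplit.hG_simple_conj (F := K) hp.inList ha hs hcm
      (c ^ ((L.map fun a => a.2 * D.cartan a.1 s).sum) * t)
    rw [← hφh (c ^ a.2) hcm] at h3
    refine h3.trans ?_
    change xG hp.inList _ _ = xG hp.inList _ _
    rw [← _root_.zpow_mul, ← mul_assoc, ← zpow_add₀ hc]

end Tor

/-! ### Sections -/

/-- generators commute with an element -/
theorem UG_comm {L : List ℕ} {x y : ↥(D.group K)} (hx : x ∈ UG hD K L) (h : ∀ k ∈ L, ∀ t : K, Commute (xS hD k t) y) :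
    Commute x y := by
  have h1 : UG hD K L ≤ Subgroup.centralizer {y} := by
    apply UG_le
    intro k hk t
    exact Subgroup.mem_centralizer_singleton_iff.2 (h k hk t)
  exact Subgroup.mem_centralizer_singleton_iff.1 (h1 hx)

theorem UG_conj {L Γ : List ℕ} {x : ↥(D.group K)} [Finite K] (hx : x ∈ UG hD K L) (h : ∀ k ∈ L, Inv D Γ k) :
    ∀ y ∈ UG hD K Γ, x * y * x⁻¹ ∈ UG hD K Γ := by
  have h1 : UG hD K L ≤ Subgroup.normalizer (UG hD K Γ : Set ↥(D.group K)) := by
    apply UG_le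
    intro k hk t
    exact mem_norm_of_conj fun y hy => (h k hk).conj_mem hD t hy
  intro y hy
  exact (Subgroup.mem_normalizer_iff.1 (h1 hx) y).1 hy

/-- the table of a section: `g` the roots, `z` the central root, `L` the roots acting, `χ` a cocharacter -/
structure SecOK (D : ChevalleyDatum) {n : ℕ} (g : Fin n → ℕ) (z : ℕ) (L : List ℕ) (χ : List (ℕ × ℤ)) : Prop where
  comm : ∀ i j, EvC D (g i) (g j)
  commz : ∀ i, EvC D z (g i)
  inv : ∀ k ∈ L, Inv D (List.ofFn g ++ [z]) k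
  cz : ∀ k ∈ L, EvC D k z
  rk : ∀ a ∈ χ, a.1 < D.rank
  sc : ∀ i, (χ.map fun a => a.2 * D.cartan a.1 (g i)).sum = 1
  tr : ∀ k ∈ L, k < D.nroots ∧ (χ.map fun a => a.2 * D.cartan a.1 k).sum = 0

section Sec

variable {n : ℕ} {g : Fin n → ℕ} {z : ℕ} {L : List ℕ} {χ : List (ℕ × ℤ)}

theorem SecOK.pw (T : SecOK D g z L χ) (h2 : (2 : K) = 0) :
    Pairwise fun i j => ∀ (x y : Multiplicative K), Commute (rootHom hD (g i) (1 : K) x) (rootHom hD (g j) (1 : K) y) :=
  fun i j _ _ _ => (T.comm i j).comm hD h2 _ _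

/-- the product map of the section -/
noncomputable def sev (T : SecOK D g z L χ) (h2 : (2 : K) = 0) : (Fin n → Multiplicative K) →* ↥(D.group K) :=
  MonoidHom.noncommPiCoprod (fun i => rootHom hD (g i) (1 : K)) (T.pw hD h2)

theorem sev_single (T : SecOK D g z L χ) (h2 : (2 : K) = 0) (i : Fin n) (t : K) :
    sev hD T h2 (Pi.mulSingle i (Multiplicative.ofAdd t)) = xS hD (g i) t := by
  unfold sev
  rw [MonoidHom.noncommPiCoprod_mulSingle]
  change xS hD (g i) (1 * t) = _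
  rw [one_mul]

theorem sev_induction {P : (Fin n → Multiplicative K) → Prop} (h0 : P 1) (ha : ∀ v w, P v → P w → P (v * w))
    (hs : ∀ i t, P (Pi.mulSingle i t)) (v : Fin n → Multiplicative K) : P v := by
  have h1 : v = ∏ i, Pi.mulSingle i (v i) := (Finset.univ_prod_mulSingle v).symm
  rw [h1]
  exact Finset.prod_induction _ P ha h0 fun i _ => hs i _

theorem sev_comm (T : SecOK D g z L χ) (h2 : (2 : K) = 0) (s : K) (v : Fin n → Multiplicative K) :
    Commute (xS hD z s) (sev hD T h2 v) := by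
  refine sev_induction (P := fun v => Commute (xS hD z s) (sev hD T h2 v)) ?_ ?_ ?_ v
  · rw [map_one]; exact Commute.one_right _
  · intro v w hv hw
    rw [map_mul]
    exact hv.mul_right hw
  · intro i t
    have h3 := sev_single hD T h2 i t.toAdd
    rw [ofAdd_toAdd] at h3
    rw [h3]
    exact (T.commz i).comm hD h2 _ _

/-- the parametrization of the section -/
noncomputable def spsi (T : SecOK D g z L χ) (h2 : (2 : K) = 0) :
    Multiplicative ((Fin n → K) × K) →* ↥(D.group K) :=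
  MonoidHom.mk' (fun w => sev hD T h2 (fun i => Multiplicative.ofAdd (w.toAdd.1 i)) * xS hD z w.toAdd.2) (by
    intro a b
    have h1 : (fun i => Multiplicative.ofAdd ((a * b).toAdd.1 i)) =
        (fun i => Multiplicative.ofAdd (a.toAdd.1 i)) * fun i => Multiplicative.ofAdd (b.toAdd.1 i) := by
      funext i
      rfl
    change sev hD T h2 (fun i => Multiplicative.ofAdd ((a * b).toAdd.1 i)) * xS hD z (a.toAdd.2 + b.toAdd.2) = _
    rw [h1, map_mul, ← xS_mul]
    have h3 := (sev_comm hD T h2 a.toAdd.2 (fun i => Multiplicative.ofAdd (b.toAdd.1 i))).eq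
    simp only [mul_assoc]
    rw [← mul_assoc (xS hD z a.toAdd.2), h3, mul_assoc])

theorem spsi_def (T : SecOK D g z L χ) (h2 : (2 : K) = 0) (v : Fin n → K) (s : K) :
    spsi hD T h2 (Multiplicative.ofAdd (v, s)) = sev hD T h2 (fun i => Multiplicative.ofAdd (v i)) * xS hD z s := rfl

theorem spsi_zero (T : SecOK D g z L χ) (h2 : (2 : K) = 0) (s : K) :
    spsi hD T h2 (Multiplicative.ofAdd (0, s)) = xS hD z s := by
  rw [spsi_def]
  have h1 : (fun i : Fin n => Multiplicative.ofAdd ((0 : Fin n → K) i)) = 1 := rfl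
  rw [h1, map_one, one_mul]

theorem spsi_single (T : SecOK D g z L χ) (h2 : (2 : K) = 0) (i : Fin n) (t : K) :
    spsi hD T h2 (Multiplicative.ofAdd (Pi.single i t, 0)) = xS hD (g i) t := by
  rw [spsi_def, xS_zero, mul_one, ← sev_single hD T h2 i t]
  congr 1

theorem spsi_range (T : SecOK D g z L χ) (h2 : (2 : K) = 0) :
    (spsi hD T h2).range = UG hD K (List.ofFn g ++ [z]) := by
  apply le_antisymm
  · rintro _ ⟨w, rfl⟩
    have h1 : spsi hD T h2 w = sev hD T h2 (fun i => Multiplicative.ofAdd (w.toAdd.1 i)) * xS hD z w.toAdd.2 := rfl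
    rw [h1]
    refine mul_mem ?_ (xS_mem_UG hD (List.mem_append_right _ (List.mem_singleton.2 rfl)) _)
    refine sev_induction (P := fun v => sev hD T h2 v ∈ UG hD K (List.ofFn g ++ [z])) ?_ ?_ ?_ _
    · rw [map_one]; exact one_mem _
    · intro v w hv hw
      rw [map_mul]
      exact mul_mem hv hw
    · intro i t
      have h3 := sev_single hD T h2 i t.toAdd
      rw [ofAdd_toAdd] at h3
      rw [h3]
      exact xS_mem_UG hD (List.mem_append_left _ (List.mem_ofFn.2 ⟨i, rfl⟩)) _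
  · apply UG_le
    intro k hk t
    rcases List.mem_append.1 hk with hk | hk
    · obtain ⟨i, rfl⟩ := List.mem_ofFn.1 hk
      exact ⟨_, spsi_single hD T h2 i t⟩
    · rw [List.mem_singleton.1 hk]
      exact ⟨_, spsi_zero hD T h2 t⟩

end Sec

/-! ### The action of a `p`-element of the Levi subgroup -/

section Act

variable {n : ℕ} {g : Fin n → ℕ} {z : ℕ} {L : List ℕ} {χ : List (ℕ × ℤ)}

/-- `x` centralises the section -/
def Dead (hD : InList D) (x : ↥(D.group K)) (Γ : List ℕ) : Prop := ∀ k ∈ Γ, ∀ t : K, Commute x (xS hD k t)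

/-- modulo the centre `x` has no fixed points -/
def Alive (hD : InList D) (x : ↥(D.group K)) (Γ : List ℕ) (z : ℕ) : Prop :=
  ∀ y ∈ UG hD K Γ, ∃ m ∈ ⁅UG hD K Γ, Subgroup.zpowers x⁆, ∃ s : K, y = m * xS hD z s

theorem SecOK.dichotomy {l : ℕ} {Mx : CoxeterMatrix (Fin l)} (hp : IsType D l Mx) (T : SecOK D g z L χ)
    (h2 : (2 : K) = 0) [Fintype K] {p k : ℕ} (hp' : p.Prime) (hpK : ¬ p ∣ Fintype.card K)
    (hpn : ¬ n < orderOf (Fintype.card K : ZMod p) → n = orderOf (Fintype.card K : ZMod p))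
    {x : ↥(D.group K)} (hx : x ^ p ^ k = 1) (hxL : x ∈ UG hp.inList K L) :
    Dead hp.inList x (List.ofFn g ++ [z]) ∨ Alive hp.inList x (List.ofFn g ++ [z]) z := by
  have hfin : Finite ↥(D.group K) := inferInstance
  have : Fact p.Prime := ⟨hp'⟩
  have hrange := spsi_range hp.inList T h2 (K := K)
  have hzc : ∀ s : K, Commute x (xS hp.inList z s) := fun s =>
    UG_comm hp.inList hxL fun k hk t => (T.cz k hk).comm hp.inList h2 t s
  obtain ⟨f, hf, hdvd, hn, h0⟩ := dich hpK (spsi hp.inList T h2) hx (fun s => by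
      rw [spsi_zero]; exact hzc s) (fun w => by
      have h3 := UG_conj hp.inList hxL T.inv (spsi hp.inList T h2 w) (by rw [← hrange]; exact ⟨w, rfl⟩)
      rw [← hrange] at h3
      obtain ⟨w', hw'⟩ := h3
      exact ⟨w', hw'.symm⟩) (fun c hc => by
      obtain ⟨y, hy⟩ := exists_tor hp hc χ T.rk
      refine ⟨y, ?_, fun v => ⟨0, ?_⟩⟩
      · refine UG_comm hp.inList hxL fun k hk t => ?_
        obtain ⟨h3, h4⟩ := T.tr k hk
        have h5 := hy k h3 t
        rw [h4, zpow_zero, one_mul, mul_inv_eq_iff_eq_mul] at h5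
        exact h5.symm
      · have h6 : ∀ v : Fin n → Multiplicative K, y * sev hp.inList T h2 v * y⁻¹ =
            sev hp.inList T h2 (fun i => Multiplicative.ofAdd (c * (v i).toAdd)) := by
          intro v
          refine sev_induction (P := fun v => y * sev hp.inList T h2 v * y⁻¹ =
            sev hp.inList T h2 (fun i => Multiplicative.ofAdd (c * (v i).toAdd))) ?_ ?_ ?_ v
          · have h7 : (fun i : Fin n => Multiplicative.ofAdd (c * ((1 : Fin n → Multiplicative K) i).toAdd)) = 1 := by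
              funext i
              change Multiplicative.ofAdd (c * 0) = 1
              rw [mul_zero]
              rfl
            rw [h7, map_one]
            group
          · intro v w hv hw
            have h7 : (fun i : Fin n => Multiplicative.ofAdd (c * ((v * w) i).toAdd)) =
                (fun i => Multiplicative.ofAdd (c * (v i).toAdd)) * fun i => Multiplicative.ofAdd (c * (w i).toAdd) := by
              funext i
              change Multiplicative.ofAdd (c * ((v i).toAdd + (w i).toAdd)) = _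
              rw [mul_add]
              rfl
            rw [h7, map_mul, map_mul, ← hv, ← hw]
            group
          · intro i t
            have h7 : (fun j : Fin n => Multiplicative.ofAdd (c * ((Pi.mulSingle i t : Fin n → Multiplicative K) j).toAdd)) =
                Pi.mulSingle i (Multiplicative.ofAdd (c * t.toAdd)) := by
              funext j
              by_cases hj : j = i
              · subst hj; simp
              · rw [Pi.mulSingle_eq_of_ne hj, Pi.mulSingle_eq_of_ne hj]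
                change Multiplicative.ofAdd (c * 0) = 1
                rw [mul_zero]
                rfl
            have h3 := sev_single hp.inList T h2 i t.toAdd
            rw [ofAdd_toAdd] at h3
            rw [h7, sev_single, h3]
            have h5 := hy (g i) (T.comm i i).1 t.toAdd
            rw [T.sc i, zpow_one] at h5
            exact h5
        rw [spsi_def, spsi_def, xS_zero, mul_one, mul_one, h6]
        rfl)
  have hcase : f = n ∨ (f = 0 ∧ n = orderOf (Fintype.card K : ZMod p)) := by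
    by_cases h3 : f = n
    · exact Or.inl h3
    · right
      have h4 : orderOf (Fintype.card K : ZMod p) ≤ n - f := Nat.le_of_dvd (by omega) hdvd
      have h5 := hpn (by omega)
      omega
  rcases hcase with hfn | ⟨hf0, -⟩
  · left
    intro k hk t
    have h3 : xS hp.inList k t ∈ (spsi hp.inList T h2).range := by
      rw [hrange]
      exact xS_mem_UG hp.inList hk t
    obtain ⟨w, hw⟩ := h3
    rw [← hw]
    exact hn hfn w
  · right
    intro y hy
    have hcop : ¬ p ∣ Nat.card ↥(UG hp.inList K (List.ofFn g ++ [z])) := by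
      rw [← hrange]
      intro h3
      have h4 := h3.trans (Subgroup.card_range_dvd (spsi hp.inList T h2))
      rw [Nat.card_eq_fintype_card, Fintype.card_multiplicative, Fintype.card_prod, Fintype.card_fun] at h4
      rcases (hp'.dvd_mul).1 h4 with h4 | h4
      · exact hpK (hp'.dvd_of_dvd_pow h4)
      · exact hpK h4
    have hzp : IsPGroup p (Subgroup.zpowers x) := by
      rw [IsPGroup.iff_card]
      obtain ⟨i, -, hi⟩ := (Nat.dvd_prime_pow hp').1 (orderOf_dvd_of_pow_eq_one hx)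
      exact ⟨i, by rw [Nat.card_zpowers, hi]⟩
    have hnorm : Subgroup.zpowers x ≤ Subgroup.normalizer (UG hp.inList K (List.ofFn g ++ [z]) : Set ↥(D.group K)) := by
      rw [Subgroup.zpowers_le]
      exact mem_norm_of_conj (UG_conj hp.inList hxL T.inv)
    obtain ⟨m, hm, c, ⟨hc1, hc2⟩, hy2⟩ :=
      Cfsg.Agent.Lib.CoprimeCommutator.exists_commutator_mul_fixed_of_isPGroup p (Subgroup.zpowers x)
        (UG hp.inList K (List.ofFn g ++ [z])) hzp hnorm hcop y hy
    refine ⟨m, hm, ?_⟩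
    rw [← hrange] at hc1
    obtain ⟨w, hw⟩ := hc1
    have hcx : Commute x c := by
      have h3 := (Subgroup.mem_centralizer_iff.1 hc2) x (Subgroup.mem_zpowers x)
      exact h3
    have h4 := h0 hf0 w (by rw [hw]; exact hcx)
    refine ⟨w.toAdd.2, ?_⟩
    rw [hy2, ← hw]
    have h5 : w = Multiplicative.ofAdd ((0 : Fin n → K), w.toAdd.2) := by
      rw [← h4]
      rfl
    rw [h5, spsi_zero]
    rfl

/-- the table of a pairing -/
def PairOK (D : ChevalleyDatum) (a : ℕ) (Γ : List ℕ) (ζ : ℕ) : Prop :=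
  a < D.nroots ∧ ζ < D.nroots ∧ ∀ c ∈ Γ, (c < D.nroots ∧ c ≠ a ∧ c ≠ D.neg a ∧ ∀ e ∈ D.commTerms a c, e.2.1 % 2 = 0 ∨ e.1 = ζ) ∧
    EvC D ζ c

instance (a : ℕ) (Γ : List ℕ) (ζ : ℕ) : Decidable (PairOK D a Γ ζ) := by
  unfold PairOK; infer_instance

/-- a dead root and a live section commute -/
theorem pair_dead (h2 : (2 : K) = 0) [Finite K] {a ζ z : ℕ} {Γ : List ℕ} (hP : PairOK D a Γ ζ) (hz : EvC D a z)
    {x : ↥(D.group K)} (hζ : ∀ s : K, Commute x (xS hD ζ s)) (hdead : ∀ t : K, Commute x (xS hD a t))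
    (hnorm : ∀ y ∈ UG hD K Γ, x * y * x⁻¹ ∈ UG hD K Γ) (halive : Alive hD x Γ z) {c : ℕ} (hc : c ∈ Γ) (t u : K) :
    Commute (xS hD a t) (xS hD c u) := by
  have hfin : Finite ↥(D.group K) := inferInstance
  have hζc : ∀ w ∈ UG hD K [ζ], ∀ y ∈ UG hD K Γ, Commute w y := by
    intro w hw y hy
    obtain ⟨s, rfl⟩ := (mem_UG_single hD).1 hw
    refine (UG_comm hD hy fun k hk t => ?_).symm
    exact ((hP.2.2 k hk).2.comm hD h2 s t).symm
  have key : ∀ y ∈ UG hD K Γ, ∃ w ∈ UG hD K [ζ], xS hD a t * y * (xS hD a t)⁻¹ = w * y := by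
    intro y hy
    refine Subgroup.closure_induction (p := fun y _ => ∃ w ∈ UG hD K [ζ], xS hD a t * y * (xS hD a t)⁻¹ = w * y)
      ?_ ?_ ?_ ?_ hy
    · rintro _ ⟨k, hk, s, rfl⟩
      obtain ⟨⟨h3, h4, h5, h6⟩, h7⟩ := hP.2.2 k hk
      have h8 : wd hD (D.commTerms a k) (-t) s ∈ UG hD K [ζ] := by
        refine wd_mem_of hD h2 (fun e he => ?_) _ _
        rcases h6 e he with h6 | h6
        · exact Or.inl h6
        · right
          intro t
          rw [h6]
          exact xS_mem_UG hD (List.mem_singleton.2 rfl) t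
      refine ⟨_, h8, ?_⟩
      rw [conj_word hD hP.1 h3 h4 h5]
      exact (hζc _ h8 _ (xS_mem_UG hD hk s)).eq.symm
    · exact ⟨1, one_mem _, by group⟩
    · intro y1 y2 hy1 hy2 h3 h4
      obtain ⟨w1, hw1, e1⟩ := h3
      obtain ⟨w2, hw2, e2⟩ := h4
      refine ⟨w1 * w2, mul_mem hw1 hw2, ?_⟩
      have h5 := (hζc w2 hw2 y1 hy1).eq
      calc xS hD a t * (y1 * y2) * (xS hD a t)⁻¹ = (xS hD a t * y1 * (xS hD a t)⁻¹) * (xS hD a t * y2 * (xS hD a t)⁻¹) := by
            group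
        _ = w1 * (y1 * w2) * y2 := by rw [e1, e2]; group
        _ = _ := by rw [← h5]; group
    · intro y1 hy1 h3
      obtain ⟨w1, hw1, e1⟩ := h3
      refine ⟨w1⁻¹, inv_mem hw1, ?_⟩
      have h5 := (hζc _ (inv_mem hw1) _ (inv_mem hy1)).eq
      calc xS hD a t * y1⁻¹ * (xS hD a t)⁻¹ = (xS hD a t * y1 * (xS hD a t)⁻¹)⁻¹ := by group
        _ = y1⁻¹ * w1⁻¹ := by rw [e1]; group
        _ = _ := h5.symm
  -- commutators with `x` commute with `a`
  have hle : ⁅UG hD K Γ, Subgroup.zpowers x⁆ ≤ Subgroup.centralizer {xS hD a t} := by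
    refine comm_le_of hnorm fun y hy => ?_
    rw [Subgroup.mem_centralizer_singleton_iff]
    obtain ⟨w, hw, e1⟩ := key y hy
    obtain ⟨s, rfl⟩ := (mem_UG_single hD).1 hw
    have h3 := (hζ s).eq
    have h4 := (hdead t).eq
    have e2 : xS hD a t * (x * y * x⁻¹) * (xS hD a t)⁻¹ = xS hD ζ s * (x * y * x⁻¹) := by
      have h5 : (xS hD a t) * x = x * xS hD a t := h4.symm
      have h6 : x⁻¹ * (xS hD a t)⁻¹ = (xS hD a t)⁻¹ * x⁻¹ := by
        rw [← _root_.mul_inv_rev, ← _root_.mul_inv_rev, h4]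
      calc xS hD a t * (x * y * x⁻¹) * (xS hD a t)⁻¹ = (xS hD a t * x) * y * (x⁻¹ * (xS hD a t)⁻¹) := by group
        _ = x * (xS hD a t * y * (xS hD a t)⁻¹) * x⁻¹ := by rw [h5, h6]; group
        _ = (x * xS hD ζ s) * y * x⁻¹ := by rw [e1]; group
        _ = _ := by rw [h3]; group
    have e3 : xS hD a t * (x * y * x⁻¹ * y⁻¹) * (xS hD a t)⁻¹ = x * y * x⁻¹ * y⁻¹ := by
      have h7 : Commute (xS hD ζ s) (x * y * x⁻¹ * y⁻¹) :=
        hζc _ hw _ (mul_mem (hnorm y hy) (inv_mem hy))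
      calc xS hD a t * (x * y * x⁻¹ * y⁻¹) * (xS hD a t)⁻¹ =
          (xS hD a t * (x * y * x⁻¹) * (xS hD a t)⁻¹) * (xS hD a t * y * (xS hD a t)⁻¹)⁻¹ := by group
        _ = (xS hD ζ s * (x * y * x⁻¹ * y⁻¹)) * (xS hD ζ s)⁻¹ := by rw [e1, e2]; group
        _ = _ := by rw [h7.eq]; group
    rw [mul_inv_eq_iff_eq_mul] at e3
    exact e3.symm
  obtain ⟨m, hm, s, hms⟩ := halive _ (xS_mem_UG hD hc u)
  rw [hms]
  have h3 : Commute (xS hD a t) m := (Subgroup.mem_centralizer_singleton_iff.1 (hle hm)).symm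
  exact h3.mul_right (hz.comm hD h2 t s)

end Act

end Cfsg.Agent.H441.FPR
end

private theorem dce_beacd59e3553 : _root_.True := by
  try have : _root_.True := by simp only [_root_.Cfsg.Agent.H441.FPR.sev.congr_simp]
  exact _root_.True.intro
end
end
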