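import Cfsg.Agent.H452.FprCyc
import Cfsg.Agent.H110.Fpr.FamL_m3
import Mathlib
import Cfsg.Agent.H398.FPR.PairMap_m3
import Cfsg.Agent.S0799
import Cfsg.Agent.S0809
import Cfsg.Agent.ClassicalGeometry.PSL2Solvable
import Cfsg.Agent.H398.FPR.Count
import Cfsg.Agent.S0253
import Cfsg.Agent.H436.TTPsl2
import Cfsg.Agent.H398.FPR.PsuThree
import Cfsg.Prelude.Def_LieTypeChar
import Cfsg.Agent.LieClassical.GUOrder
import Cfsg.Agent.LieClassical.QuadCount
import Cfsg.Agent.H441.FPR.Row_m3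
import Cfsg.Agent.H398.FPR.Rad_m3
import Cfsg.Agent.H400.TwoExcTwD
import Cfsg.Agent.H26.UFChev
import Cfsg.Agent.H121.TwD4
import Cfsg.Agent.Nodes.RGDFoldSL
import Cfsg.Agent.Nodes.RGDTwNode
import Cfsg.Agent.FastGrp
import Cfsg.Agent.Prune
set_option linter.all false

section
prune_inst 0x7fb0fcfbabf82ddfdfff7e7fa6d1cffc39901fffe6dff94b3fe8a1ef2fdf230209e52b858de040fe0ec2621410b87853f9fffabfe26bdc7ffffd5ff45ffbee0fa5e7bd0851d688340fbc0ff603f0778e7f3fffffffffffffffffffffffffffbeffbdffffffff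

-- part: H110/Fpr/Cls_mg
section
prune_inst 0xc00000000000000000000c0004810000000000200d008000010001014000000000000000004400000000000000000000000000000000000010000000000096000000000000000000000000000000000000000000000000000
set_option linter.all false
open scoped Cfsg.Agent.FastGrp

-- part: H435/Fpr/Real
section
/-!
# Fixed points of an element inverting an element of odd order
-/

set_option autoImplicit false
open Subgroup MulAction
open scoped Pointwise

namespace Cfsg.Agent.H435.Fpr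

/-- If `x` inverts an element `g` of odd order without fixed points on `Ω`, then `x` fixes at most
a third of the points. -/
theorem real_bound {G Ω : Type*} [Group G] [Finite G] [MulAction G Ω] [Finite Ω] {x g : G}
    (hx : x * g * x⁻¹ = g⁻¹) (ho : Odd (orderOf g)) (hno : ∀ ω : Ω, g • ω ≠ ω) :
    3 * Nat.card (fixedBy Ω x) ≤ Nat.card Ω := by
  classical
  have hpow : ∀ k : ℤ, x * g ^ k * x⁻¹ = (g ^ k)⁻¹ := by
    intro k
    have h1 := conj_zpow (i := k) (a := x) (b := g)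
    rw [← h1, hx, inv_zpow]
  have hn : ∀ y ∈ zpowers g, x * y * x⁻¹ ∈ zpowers g := by
    rintro y ⟨k, rfl⟩
    change x * g ^ k * x⁻¹ ∈ _
    rw [hpow]
    exact inv_mem (zpow_mem (mem_zpowers g) k)
  have hC : ∀ y ∈ zpowers g, x * y = y * x → y = 1 := by
    rintro y ⟨k, rfl⟩ h
    change x * g ^ k = g ^ k * x at h
    change g ^ k = 1
    have h1 := hpow k
    rw [h, mul_inv_cancel_right] at h1
    have h2 : (g ^ k) ^ 2 = 1 := by
      rw [pow_two]
      nth_rewrite 1 [h1]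
      exact inv_mul_cancel _
    have h3 : orderOf (g ^ k) ∣ orderOf g := orderOf_dvd_of_mem_zpowers ⟨k, rfl⟩
    have h4 : orderOf (g ^ k) ∣ 2 := orderOf_dvd_of_pow_eq_one h2
    have h5 : orderOf (g ^ k) = 1 := by
      have h6 := Nat.dvd_gcd h4 h3
      have h7 : Nat.gcd 2 (orderOf g) = 1 := (Nat.coprime_two_left).2 ho
      rwa [h7, Nat.dvd_one] at h6
    exact orderOf_eq_one_iff.1 h5
  have hm : ∀ ω : Ω, x • ω = ω → (∃ y ∈ zpowers g, y • ω ≠ ω) →
      3 ≤ Nat.card (orbit (zpowers g) ω) := by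
    intro ω _ _
    have h1 : Nat.card (orbit (zpowers g) ω) ∣ Nat.card (zpowers g) := by
      rw [Nat.card_congr (orbitEquivQuotientStabilizer (zpowers g) ω)]
      exact Subgroup.card_quotient_dvd_card _
    rw [Nat.card_zpowers] at h1
    have h2 : Odd (Nat.card (orbit (zpowers g) ω)) := ho.of_dvd_nat h1
    have h3 : Nat.card (orbit (zpowers g) ω) ≠ 1 := by
      intro h4
      rw [Nat.card_eq_one_iff_unique] at h4
      have h5 : (⟨(⟨g, mem_zpowers g⟩ : zpowers g) • ω, mem_orbit _ _⟩ : orbit (zpowers g) ω) =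
          ⟨ω, mem_orbit_self _⟩ := h4.1.elim _ _
      exact hno ω (congrArg Subtype.val h5)
    obtain ⟨j, hj⟩ := h2
    omega
  have h := Cfsg.Agent.H409.one_rad (Ω := Ω) hn hC hm
  have h1 : {ω : Ω | x • ω = ω ∧ ∃ y ∈ zpowers g, y • ω ≠ ω} = fixedBy Ω x := by
    ext ω
    simp only [Set.mem_ofPred_eq, mem_fixedBy]
    exact ⟨fun h => h.1, fun h => ⟨h, g, mem_zpowers g, hno ω⟩⟩
  rw [h1, ← Nat.card_coe_set_eq (fixedBy Ω x)] at h
  omega

/-- The version for coset spaces. -/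
theorem real_row {G : Type*} [Group G] [Finite G] {x g : G} (hx : x * g * x⁻¹ = g⁻¹)
    (ho : Odd (orderOf g)) {H : Subgroup G} (hno : ∀ c : G, c⁻¹ * g * c ∉ H) :
    3 * Nat.card (fixedBy (G ⧸ H) x) ≤ 1 * Nat.card (G ⧸ H) := by
  rw [one_mul]
  refine real_bound hx ho ?_
  intro ω h
  obtain ⟨c, rfl⟩ := QuotientGroup.mk_surjective ω
  have h1 : ((g * c : G) : G ⧸ H) = (c : G) := h
  rw [eq_comm, QuotientGroup.eq] at h1
  exact hno c (by simpa only [mul_assoc] using h1)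

end Cfsg.Agent.H435.Fpr
end

-- part: H435/Fpr/AltReal
section
/-!
# Real cycles of odd length in alternating groups
-/

set_option autoImplicit false
open Subgroup MulAction
open scoped Pointwise

namespace Cfsg.Agent.H435.Fpr

/-- `g` fixes the points of `F` and permutes the others transitively. -/
def Cyc {n : ℕ} (g : Equiv.Perm (Fin n)) (F : Finset (Fin n)) : Prop :=
  (∀ i ∈ F, g i = i) ∧ ∀ i ∉ F, ∀ j ∉ F, ∃ k : ℕ, (g ^ k) i = j

theorem sign_neg_five : Equiv.Perm.sign (Equiv.neg (ZMod 5)) = 1 := by decide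

theorem real_elt {n ℓ d : ℕ} (hn : n = ℓ + d) (hℓ : Odd ℓ) (hd : 2 ≤ d ∨ ℓ = 5) :
    ∃ g x : alternatingGroup (Fin n), x * g * x⁻¹ = g⁻¹ ∧ x * x = 1 ∧ Odd (orderOf g) ∧
      ∃ F : Finset (Fin n), F.card = d ∧ Cyc (g : Equiv.Perm (Fin n)) F := by
  classical
  have hℓ0 : NeZero ℓ := ⟨by rintro rfl; simp at hℓ⟩
  let e : (ZMod ℓ ⊕ Fin d) ≃ Fin n :=
    (Equiv.sumCongr (ZMod.finEquiv ℓ).toEquiv.symm (Equiv.refl _)).trans
      (finSumFinEquiv.trans (finCongr hn.symm))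
  let σ : Equiv.Perm (ZMod ℓ ⊕ Fin d) := Equiv.Perm.sumCongr (Equiv.addRight 1) 1
  have hρ : ∃ ρ : Equiv.Perm (Fin d), ρ * ρ = 1 ∧
      Equiv.Perm.sign (Equiv.neg (ZMod ℓ)) * Equiv.Perm.sign ρ = 1 := by
    rcases Int.units_eq_one_or (Equiv.Perm.sign (Equiv.neg (ZMod ℓ))) with h | h
    · exact ⟨1, by simp, by simp [h]⟩
    · rcases hd with h2 | h5
      · refine ⟨Equiv.swap ⟨0, by omega⟩ ⟨1, by omega⟩, Equiv.swap_mul_self _ _, ?_⟩
        rw [h, Equiv.Perm.sign_swap (by simp)]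
        rfl
      · subst h5
        exfalso
        have h5 : Equiv.Perm.sign (Equiv.neg (ZMod 5)) = 1 := sign_neg_five
        have h6 : (1 : ℤˣ) = -1 := h5.symm.trans h
        exact absurd h6 (by decide)
  obtain ⟨ρ, hρ2, hρs⟩ := hρ
  let τ : Equiv.Perm (ZMod ℓ ⊕ Fin d) := Equiv.Perm.sumCongr (Equiv.neg (ZMod ℓ)) ρ
  have hσl : ∀ k : ℕ, σ ^ k = Equiv.Perm.sumCongr (Equiv.addRight (k : ZMod ℓ)) 1 := by
    intro k
    induction k with
    | zero =>
      ext a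
      rcases a with a | a <;> simp only [_root_.pow_zero, _root_.Equiv.Perm.coe_one, _root_.id_eq, _root_.Nat.cast_zero, _root_.Equiv.addRight_zero, _root_.Equiv.Perm.sumCongr_one]
    | succ k ih =>
      rw [pow_succ, ih]
      ext a
      rcases a with a | a
      · simp only [σ, add_comm, _root_.Equiv.Perm.sumCongr_mul, _root_.mul_one, _root_.Equiv.sumCongr_apply, _root_.Equiv.Perm.coe_mul, _root_.Equiv.coe_addRight, _root_.comp_add_right, _root_.Equiv.Perm.coe_one, _root_.Sum.map_inl, _root_.Nat.cast_add, _root_.Nat.cast_one, _root_.Equiv.addRight_add]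
      · simp only [σ, _root_.Equiv.Perm.sumCongr_mul, _root_.mul_one, _root_.Equiv.sumCongr_apply, _root_.Equiv.Perm.coe_mul, _root_.Equiv.coe_addRight, _root_.comp_add_right, _root_.Equiv.Perm.coe_one, _root_.Sum.map_inr, _root_.id_eq, _root_.Nat.cast_add, _root_.Nat.cast_one, _root_.Equiv.addRight_add]
  have hσo : σ ^ ℓ = 1 := by
    rw [hσl]
    ext a
    rcases a with a | a <;> simp
  have hconj : τ * σ * τ⁻¹ = σ⁻¹ := by
    rw [mul_inv_eq_iff_eq_mul]
    have h1 : σ * (τ * σ) = τ := by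
      ext a
      rcases a with a | a
      · simp [σ, τ]
      · simp [σ, τ]
    calc τ * σ = σ⁻¹ * (σ * (τ * σ)) := by group
      _ = σ⁻¹ * τ := by rw [h1]
  have hττ : τ * τ = 1 := by
    ext a
    rcases a with a | a
    · simp [τ]
    · have := congrArg (fun f : Equiv.Perm (Fin d) => f a) hρ2
      simp only [Equiv.Perm.mul_apply, Equiv.Perm.one_apply] at this
      simp [τ, this]
  let E := e.permCongrHom
  have hσs : Equiv.Perm.sign σ = 1 := by
    have h1 : Equiv.Perm.sign σ ^ ℓ = 1 := by rw [← map_pow, hσo, map_one]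
    rcases Int.units_eq_one_or (Equiv.Perm.sign σ) with h | h
    · exact h
    · rw [h, hℓ.neg_one_pow] at h1
      exact absurd h1 (by decide)
  have hτs : Equiv.Perm.sign τ = 1 := by
    change Equiv.Perm.sign (Equiv.Perm.sumCongr (Equiv.neg (ZMod ℓ)) ρ) = 1
    rw [Equiv.Perm.sign_sumCongr]
    exact hρs
  have hEs : ∀ f : Equiv.Perm (ZMod ℓ ⊕ Fin d), Equiv.Perm.sign (E f) = Equiv.Perm.sign f := by
    intro f
    exact Equiv.Perm.sign_permCongr e f
  refine ⟨⟨E σ, Equiv.Perm.mem_alternatingGroup.2 (by rw [hEs, hσs])⟩,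
    ⟨E τ, Equiv.Perm.mem_alternatingGroup.2 (by rw [hEs, hτs])⟩, ?_, ?_, ?_, ?_⟩
  · apply Subtype.ext
    change E τ * E σ * (E τ)⁻¹ = (E σ)⁻¹
    rw [← map_inv, ← map_mul, ← map_mul, hconj, map_inv]
  · apply Subtype.ext
    change E τ * E τ = 1
    rw [← map_mul, hττ, map_one]
  · refine hℓ.of_dvd_nat (orderOf_dvd_of_pow_eq_one ?_)
    apply Subtype.ext
    change E σ ^ ℓ = 1
    rw [← map_pow, hσo, map_one]
  · refine ⟨(Finset.univ : Finset (Fin d)).map ⟨fun j => e (Sum.inr j), ?_⟩, ?_, ?_, ?_⟩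
    · intro a b h
      exact Sum.inr_injective (e.injective h)
    · simp only [_root_.Finset.card_map, _root_.Finset.card_univ, _root_.Fintype.card_fin]
    · intro i hi
      rw [Finset.mem_map] at hi
      obtain ⟨j, -, rfl⟩ := hi
      change e (σ (e.symm (e (Sum.inr j)))) = e (Sum.inr j)
      rw [e.symm_apply_apply]
      simp [σ]
    · intro i hi j hj
      have hI : ∀ i : Fin n, i ∉ (Finset.univ : Finset (Fin d)).map
          ⟨fun j => e (Sum.inr j), fun a b h => Sum.inr_injective (e.injective h)⟩ →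
          ∃ a : ZMod ℓ, e (Sum.inl a) = i := by
        intro i hi
        obtain ⟨a, rfl⟩ := e.surjective i
        rcases a with a | a
        · exact ⟨a, rfl⟩
        · exact absurd (Finset.mem_map.2 ⟨a, Finset.mem_univ _, rfl⟩) hi
      obtain ⟨a, rfl⟩ := hI i hi
      obtain ⟨b, rfl⟩ := hI j hj
      refine ⟨(b - a).val, ?_⟩
      change (E σ ^ (b - a).val) (e (Sum.inl a)) = e (Sum.inl b)
      rw [← map_pow]
      change e ((σ ^ (b - a).val) (e.symm (e (Sum.inl a)))) = e (Sum.inl b)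
      rw [e.symm_apply_apply, hσl]
      simp

theorem Cyc.conj {n : ℕ} {g : Equiv.Perm (Fin n)} {F : Finset (Fin n)} (h : Cyc g F)
    (c : Equiv.Perm (Fin n)) : Cyc (c⁻¹ * g * c) (F.map c⁻¹.toEmbedding) := by
  have hpow : ∀ k : ℕ, (c⁻¹ * g * c) ^ k = c⁻¹ * g ^ k * c := by
    intro k
    have := conj_pow (i := k) (a := c⁻¹) (b := g)
    simpa using this
  constructor
  · intro i hi
    rw [Finset.mem_map] at hi
    obtain ⟨j, hj, rfl⟩ := hi
    change c⁻¹ (g (c (c⁻¹ j))) = c⁻¹ j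
    have h1 : c (c⁻¹ j) = j := by simp
    rw [h1, h.1 j hj]
  · intro i hi j hj
    have hI : ∀ i : Fin n, i ∉ F.map c⁻¹.toEmbedding → c i ∉ F := by
      intro i hi h'
      apply hi
      rw [Finset.mem_map]
      exact ⟨c i, h', by simp⟩
    obtain ⟨k, hk⟩ := h.2 _ (hI i hi) _ (hI j hj)
    refine ⟨k, ?_⟩
    rw [hpow]
    change c⁻¹ ((g ^ k) (c i)) = j
    rw [hk]
    simp

theorem Cyc.support {n : ℕ} {g : Equiv.Perm (Fin n)} {F : Finset (Fin n)} (h : Cyc g F)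
    (hF : F.card + 1 < n) : g.support = Fᶜ := by
  classical
  ext i
  rw [Equiv.Perm.mem_support, Finset.mem_compl]
  constructor
  · intro h1 h2
    exact h1 (h.1 i h2)
  · intro h1 h2
    have h3 : 1 < Fᶜ.card := by
      rw [Finset.card_compl, Fintype.card_fin]
      omega
    obtain ⟨j, hj, hne⟩ := Finset.exists_mem_ne h3 i
    rw [Finset.mem_compl] at hj
    obtain ⟨k, hk⟩ := h.2 i h1 j hj
    apply hne
    rw [← hk]
    clear hk
    induction k with
    | zero => simp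
    | succ k ih => rw [pow_succ, Equiv.Perm.mul_apply, h2, ih]

end Cfsg.Agent.H435.Fpr
end

-- part: H435/Fpr/AltTrans
section
/-!
# Transitive proper subgroups of the alternating group: a real element without fixed points
-/

set_option autoImplicit false
open Subgroup MulAction
open scoped Pointwise

namespace Cfsg.Agent.H435.Fpr

variable {n : ℕ} {H : Subgroup (alternatingGroup (Fin n))}

theorem row_of_cyc {ℓ d : ℕ} (hn : n = ℓ + d) (hℓ : Odd ℓ) (hd : 2 ≤ d ∨ ℓ = 5)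
    (hno : ∀ g ∈ H, ∀ F : Finset (Fin n), F.card = d → ¬ Cyc (g : Equiv.Perm (Fin n)) F) :
    ∃ x : alternatingGroup (Fin n), (∃ k : ℕ, orderOf x = 2 ^ k) ∧
      3 * Nat.card (fixedBy (alternatingGroup (Fin n) ⧸ H) x) ≤
        1 * Nat.card (alternatingGroup (Fin n) ⧸ H) := by
  obtain ⟨g, x, hx, hx2, ho, F, hF, hc⟩ := real_elt hn hℓ hd
  refine ⟨x, ?_, real_row hx ho ?_⟩
  · have h1 : orderOf x ∣ 2 ^ 1 := orderOf_dvd_of_pow_eq_one (by rw [pow_one, pow_two, hx2])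
    obtain ⟨k, -, hk⟩ := (Nat.dvd_prime_pow Nat.prime_two).1 h1
    exact ⟨k, hk⟩
  · intro c hcH
    refine hno _ hcH (F.map (c : Equiv.Perm (Fin n))⁻¹.toEmbedding) ?_ ?_
    · rw [Finset.card_map, hF]
    · exact hc.conj (c : Equiv.Perm (Fin n))

theorem eq_top_of_prim (hn : 5 ≤ n) (hp : IsPreprimitive H (Fin n))
    {g : alternatingGroup (Fin n)} (hg : g ∈ H) {F : Finset (Fin n)} (hF : F.card = n - 3)
    (hc : Cyc (g : Equiv.Perm (Fin n)) F) : H = ⊤ := by
  classical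
  have h3 : (g : Equiv.Perm (Fin n)).IsThreeCycle := by
    rw [← card_support_eq_three_iff, hc.support (by omega), Finset.card_compl,
      Fintype.card_fin, hF]
    omega
  let K := H.map (alternatingGroup (Fin n)).subtype
  let φ : H → K := fun h => ⟨(h : alternatingGroup (Fin n)), ⟨h.1, h.2, rfl⟩⟩
  let f : Fin n →ₑ[φ] Fin n := ⟨id, fun h i => rfl⟩
  have hK : IsPreprimitive K (Fin n) := IsPreprimitive.of_surjective (f := f) Function.surjective_id
  have h1 := Equiv.Perm.alternatingGroup_le_of_isPreprimitive_of_isThreeCycle_mem hK h3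
    (⟨g, hg, rfl⟩ : (g : Equiv.Perm (Fin n)) ∈ K)
  rw [eq_top_iff]
  rintro y -
  obtain ⟨z, hz, hzy⟩ := h1 y.2
  have : z = y := Subtype.ext hzy
  rwa [← this]

/-- The block containing a fixed point of the cycle consists of fixed points. -/
theorem block_in_fixed [IsPretransitive H (Fin n)] {B : Set (Fin n)} (hB : IsBlock H B)
    (hBn : B.Nonempty) (hB2 : 2 * B.ncard ≤ n) {g : alternatingGroup (Fin n)} (hg : g ∈ H)
    {F : Finset (Fin n)} (hc : Cyc (g : Equiv.Perm (Fin n)) F) (hF : 2 * F.card < n)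
    {z : Fin n} (hz : z ∈ F) : ∃ h : H, z ∈ h • B ∧ h • B ⊆ F := by
  classical
  obtain ⟨b, hb⟩ := hBn
  obtain ⟨h, hh⟩ := _root_.MulAction.exists_smul_eq H b z
  have hzB : z ∈ h • B := ⟨b, hb, hh⟩
  refine ⟨h, hzB, ?_⟩
  have hB' : IsBlock H (h • B) := hB.translate h
  have hgB : (⟨g, hg⟩ : H) • (h • B) = h • B := by
    refine isBlock_iff_smul_eq_of_mem.1 hB' hzB ?_
    change (g : Equiv.Perm (Fin n)) z ∈ h • B
    rw [hc.1 z hz]
    exact hzB
  have hpow : ∀ (k : ℕ) (w : Fin n), w ∈ h • B → ((g : Equiv.Perm (Fin n)) ^ k) w ∈ h • B := by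
    intro k
    induction k with
    | zero => intro w hw; simpa using hw
    | succ k ih =>
      intro w hw
      rw [pow_succ, Equiv.Perm.mul_apply]
      apply ih
      rw [← hgB]
      exact ⟨w, hw, rfl⟩
  intro w hw
  by_contra hwF
  have hwF' : w ∉ F := hwF
  have hsub : ((insert z Fᶜ : Finset (Fin n)) : Set (Fin n)) ⊆ h • B := by
    intro j hj
    rw [Finset.mem_coe, Finset.mem_insert, Finset.mem_compl] at hj
    rcases hj with rfl | hj
    · exact hzB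
    · obtain ⟨k, hk⟩ := hc.2 w hwF' j hj
      rw [← hk]
      exact hpow k w hw
  have h1 := Set.ncard_le_ncard hsub (Set.toFinite _)
  rw [Set.ncard_coe_finset, Finset.card_insert_of_notMem (by simpa using hz), Finset.card_compl,
    Fintype.card_fin, Set.ncard_smul_set] at h1
  omega

/-- Two blocks inside the fixed point set. -/
theorem two_blocks [IsPretransitive H (Fin n)] {B : Set (Fin n)} (hB : IsBlock H B)
    (hBn : B.Nonempty) (hB2 : 2 * B.ncard ≤ n) {g : alternatingGroup (Fin n)} (hg : g ∈ H)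
    {F : Finset (Fin n)} (hc : Cyc (g : Equiv.Perm (Fin n)) F) (hF : 2 * F.card < n)
    (hF0 : F.Nonempty) : B.ncard ≤ F.card ∧ (B.ncard < F.card → 2 * B.ncard ≤ F.card) := by
  classical
  obtain ⟨z, hz⟩ := hF0
  obtain ⟨h, hzB, hBF⟩ := block_in_fixed hB hBn hB2 hg hc hF hz
  have h1 : B.ncard ≤ F.card := by
    have := Set.ncard_le_ncard hBF (Set.toFinite _)
    rwa [Set.ncard_coe_finset, Set.ncard_smul_set] at this
  refine ⟨h1, fun hlt => ?_⟩
  obtain ⟨w, hw, hwB⟩ : ∃ w ∈ (F : Set (Fin n)), w ∉ h • B := by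
    by_contra hcon
    push Not at hcon
    have := Set.ncard_le_ncard (show (F : Set (Fin n)) ⊆ h • B from hcon) (Set.toFinite _)
    rw [Set.ncard_coe_finset, Set.ncard_smul_set] at this
    omega
  obtain ⟨h', hwB', hBF'⟩ := block_in_fixed hB hBn hB2 hg hc hF (z := w) hw
  have hdisj : Disjoint (h • B) (h' • B) := by
    refine hB ?_
    intro heq
    rw [heq] at hwB
    exact hwB hwB'
  have h2 := Set.ncard_le_ncard (Set.union_subset hBF hBF') (Set.toFinite _)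
  rw [Set.ncard_union_eq hdisj (Set.toFinite _) (Set.toFinite _), Set.ncard_coe_finset,
    Set.ncard_smul_set, Set.ncard_smul_set] at h2
  omega

theorem row_trans (hn : 5 ≤ n) (hH : H ≠ ⊤) [IsPretransitive H (Fin n)] :
    ∃ x : alternatingGroup (Fin n), (∃ k : ℕ, orderOf x = 2 ^ k) ∧
      3 * Nat.card (fixedBy (alternatingGroup (Fin n) ⧸ H) x) ≤
        1 * Nat.card (alternatingGroup (Fin n) ⧸ H) := by
  classical
  by_cases hp : IsPreprimitive H (Fin n)
  · refine row_of_cyc (ℓ := 3) (d := n - 3) (by omega) (by decide) (Or.inl (by omega)) ?_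
    intro g hg F hF hc
    exact hH (eq_top_of_prim hn hp hg hF hc)
  · obtain ⟨B, hB, hBt⟩ : ∃ B : Set (Fin n), IsBlock H B ∧ ¬ IsTrivialBlock B := by
      by_contra hcon
      push Not at hcon
      exact hp ⟨fun {B} hB => hcon B hB⟩
    have hBn : B.Nonempty := by
      rw [Set.nonempty_iff_ne_empty]
      rintro rfl
      exact hBt (Or.inl Set.subsingleton_empty)
    have hdvd : B.ncard ∣ n := by
      have := hB.ncard_dvd_card hBn
      rwa [Nat.card_eq_fintype_card, Fintype.card_fin] at this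
    have h1 : 1 < B.ncard := by
      rw [Set.one_lt_ncard_iff_nontrivial]
      rw [← Set.not_subsingleton_iff]
      exact fun h => hBt (Or.inl h)
    have h2 : 2 * B.ncard ≤ n := by
      obtain ⟨k, hk⟩ := hdvd
      have hk1 : k ≠ 1 := by
        rintro rfl
        apply hBt
        right
        rw [Set.eq_univ_iff_ncard, Nat.card_eq_fintype_card, Fintype.card_fin]
        omega
      have hk0 : k ≠ 0 := by rintro rfl; omega
      have hk2 : 2 ≤ k := by omega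
      nlinarith only [hk, hk2]
    have key : ∀ d, d ≠ 0 → Odd (n - d) → (2 ≤ d ∨ n - d = 5) → 2 * d < n →
        ¬ (B.ncard ≤ d ∧ (B.ncard < d → 2 * B.ncard ≤ d)) →
        ∃ x : alternatingGroup (Fin n), (∃ k : ℕ, orderOf x = 2 ^ k) ∧
          3 * Nat.card (fixedBy (alternatingGroup (Fin n) ⧸ H) x) ≤
            1 * Nat.card (alternatingGroup (Fin n) ⧸ H) := by
      intro d hd0 hodd hd hdn hnot
      refine row_of_cyc (ℓ := n - d) (d := d) (by omega) hodd hd ?_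
      intro g hg F hF hc
      have := two_blocks hB hBn h2 hg hc (by omega) (by
        rw [← Finset.card_pos]; omega)
      rw [hF] at this
      exact hnot this
    rcases Nat.even_or_odd n with he | ho
    · obtain ⟨m, hm⟩ := he
      by_cases h6 : n = 6
      · refine key 1 (by omega) ⟨2, by omega⟩ (Or.inr (by omega)) (by omega) (by omega)
      · by_cases h3 : B.ncard = 3
        · have h12 : 12 ≤ n := by
            obtain ⟨k, hk⟩ := hdvd
            rw [h3] at hk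
            omega
          refine key 5 (by omega) ⟨m - 3, by omega⟩ (Or.inl (by omega)) (by omega) (by omega)
        · refine key 3 (by omega) ⟨m - 2, by omega⟩ (Or.inl (by omega)) (by omega) (by omega)
    · obtain ⟨m, hm⟩ := ho
      have h3 : B.ncard ≠ 2 := by
        intro h3
        rw [h3] at hdvd
        omega
      exact key 2 (by omega) ⟨m - 1, by omega⟩ (Or.inl (by omega)) (by omega) (by omega)

end Cfsg.Agent.H435.Fpr
end

-- part: H435/Fpr/AltTwo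
section
/-!
# The row of the alternating groups for `p = 2`
-/

set_option autoImplicit false
open Subgroup MulAction
open scoped Pointwise

namespace Cfsg.Agent.H435.Fpr

/-- Every proper subgroup `H` of `A_n` (`n ≥ 5`) admits a 2-element fixing at most one third of
the cosets of `H`. -/
theorem fprRow_alternating_two {n : ℕ} (hn : 5 ≤ n) :
    Cfsg.Agent.H409.FprRow 3 1 2 (alternatingGroup (Fin n)) := by
  classical
  intro H hH
  by_cases ht : IsPretransitive H (Fin n)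
  · exact row_trans hn hH
  · have hn0 : 0 < n := by omega
    let p : Fin n := ⟨0, hn0⟩
    obtain ⟨A, hA⟩ : ∃ A : Finset (Fin n), (A : Set (Fin n)) = orbit H p :=
      ⟨(Set.toFinite (orbit H p)).toFinset, by simp⟩
    have hA1 : 1 ≤ A.card := by
      rw [Nat.one_le_iff_ne_zero, ← Nat.pos_iff_ne_zero, Finset.card_pos]
      refine ⟨p, ?_⟩
      rw [← Finset.mem_coe, hA]
      exact mem_orbit_self _
    have hAn : A.card < n := by
      by_contra hcon
      have h1 : A = Finset.univ := by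
        rw [← Finset.card_eq_iff_eq_univ, Fintype.card_fin]
        have := Finset.card_le_univ A
        rw [Fintype.card_fin] at this
        omega
      apply ht
      rw [MulAction.isPretransitive_iff_base p]
      intro j
      have h2 : j ∈ (A : Set (Fin n)) := by rw [h1]; simp only [_root_.Finset.coe_univ, _root_.Set.mem_univ]
      rw [hA] at h2
      obtain ⟨h, hh⟩ := h2
      exact ⟨h, hh⟩
    obtain ⟨x, hx, hle⟩ := row_sets hn hA1 hAn
    refine ⟨x, hx, ?_⟩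
    let A0 : Set.powersetCard (Fin n) A.card := ⟨A, rfl⟩
    have hstab : ∀ h : alternatingGroup (Fin n), h ∈ H → h • A0 = A0 := by
      intro h hh
      apply Subtype.ext
      change h • A = A
      apply Finset.coe_injective
      rw [Finset.coe_smul_finset, hA]
      exact smul_orbit (⟨h, hh⟩ : H) p
    let φ : (alternatingGroup (Fin n) ⧸ H) → Set.powersetCard (Fin n) A.card :=
      Quotient.lift (fun g => g • A0) (by
        intro g g' hg
        have h1 : g⁻¹ * g' ∈ H := QuotientGroup.leftRel_apply.1 hg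
        have h2 := hstab _ h1
        rw [mul_smul, inv_smul_eq_iff] at h2
        exact h2.symm)
    have : IsPretransitive (alternatingGroup (Fin n)) (Set.powersetCard (Fin n) A.card) :=
      Set.powersetCard.isPretransitive_alternatingGroup (by
        rw [Nat.card_eq_fintype_card, Fintype.card_fin]; omega)
    refine Cfsg.Agent.H409.fix_le_of_map (MonoidHom.id _) Function.surjective_id φ ?_ x hle
    intro g ω
    obtain ⟨w, rfl⟩ := QuotientGroup.mk_surjective ω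
    change (g * w) • A0 = g • w • A0
    rw [mul_smul]

end Cfsg.Agent.H435.Fpr
end

-- part: H398/FPR/PslTwo
section
/-!
# Fixed point ratios of 2-elements of `PSL₂(q)`, `q` odd
-/

set_option autoImplicit false
open Subgroup MulAction Matrix

namespace Cfsg.Agent.H398.FPR.PslTwo

open Cfsg.Agent.H409 Cfsg.Agent.ClassicalGeometry

/-- The number of involutions. -/
noncomputable def inv2 (H : Type*) [Group H] : ℕ := Nat.card {y : H // orderOf y = 2}

theorem inv2_lt {H : Type*} [Group H] [Finite H] : inv2 H < Nat.card H := by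
  classical
  have := Fintype.ofFinite H
  rw [inv2, Nat.card_eq_fintype_card, Nat.card_eq_fintype_card]
  refine Fintype.card_subtype_lt (x := 1) ?_
  rw [orderOf_one]
  norm_num

theorem inv2_le_of_injective {H K : Type*} [Group H] [Group K] [Finite K] {f : H →* K}
    (hf : Function.Injective f) : inv2 H ≤ inv2 K := by
  refine Nat.card_le_card_of_injective (fun y : {y : H // orderOf y = 2} =>
    (⟨f y.1, by rw [orderOf_injective f hf, y.2]⟩ : {y : K // orderOf y = 2})) ?_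
  intro a b h
  exact Subtype.ext (hf (congrArg Subtype.val h))

theorem inv2_A4 : inv2 (alternatingGroup (Fin 4)) ≤ 15 := by
  have h := inv2_lt (H := alternatingGroup (Fin 4))
  rw [nat_card_alternatingGroup, Nat.card_fin] at h
  have : (4).factorial / 2 = 12 := by decide
  omega

theorem inv2_le_sq {H : Type*} [Group H] [Fintype H] [DecidableEq H] {n : ℕ}
    (h : (Finset.univ.filter fun y : H => y * y = 1).card ≤ n + 1) : inv2 H ≤ n := by
  rw [inv2, Nat.card_eq_fintype_card, Fintype.card_subtype]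
  have h1 : (Finset.univ.filter fun y : H => orderOf y = 2) ⊆
      (Finset.univ.filter fun y : H => y * y = 1).erase 1 := by
    intro y hy
    rw [Finset.mem_filter] at hy
    rw [Finset.mem_erase, Finset.mem_filter]
    refine ⟨?_, Finset.mem_univ _, ?_⟩
    · rintro rfl
      rw [orderOf_one] at hy
      omega
    · rw [← pow_two, ← hy.2, pow_orderOf_eq_one]
  have h2 := Finset.card_le_card h1
  rw [Finset.card_erase_of_mem (by simp only [_root_.Finset.mem_filter, _root_.Finset.mem_univ, _root_.mul_one, _root_.and_self])] at h2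
  omega

theorem inv2_S4 : inv2 (Equiv.Perm (Fin 4)) ≤ 15 := by
  apply inv2_le_sq
  decide +kernel

theorem inv2_A5 : inv2 (alternatingGroup (Fin 5)) ≤ 15 := by
  apply inv2_le_sq
  decide +kernel

section Mat

variable {F : Type*} [Field F] [Fintype F]

open SLTwoFour

local notation "SL2" => Matrix.SpecialLinearGroup (Fin 2) F
local notation "π₂" => QuotientGroup.mk' (Subgroup.center (Matrix.SpecialLinearGroup (Fin 2) F))

omit [Fintype F] in
theorem pi_eq_one {a : SL2} : π₂ a = 1 ↔ a = 1 ∨ a = -1 := by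
  rw [← MonoidHom.mem_ker, QuotientGroup.ker_mk']
  exact PSL2Basic.mem_center_SL2_iff

/-- The involutions of the Borel subgroup. -/
theorem inv2_borel (hodd : Odd (Fintype.card F)) :
    inv2 ↥((PSL2Solvable.borel F).map π₂) ≤ Fintype.card F := by
  classical
  have h2 : (2 : F) ≠ 0 := (PSL2Basic.two_ne_zero_iff_odd F).2 hodd
  have key : ∀ t ∈ (PSL2Solvable.borel F).map π₂, orderOf t = 2 →
      ∃ b : SL2, π₂ b = t ∧ b 1 0 = 0 ∧ b 0 0 ^ 2 = -1 ∧ b 1 1 = -b 0 0 := by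
    rintro t ⟨b, hb, rfl⟩ ht
    rw [SetLike.mem_coe, PSL2Solvable.mem_borel_iff] at hb
    have h3 : π₂ (b * b) = 1 := by
      have h := pow_orderOf_eq_one (π₂ b)
      rw [ht, pow_two, ← map_mul] at h
      exact h
    have h4 : π₂ b ≠ 1 := by
      intro h
      rw [h, orderOf_one] at ht
      omega
    have h5 : b * b = -1 := by
      refine (pi_eq_one.1 h3).resolve_left fun h => ?_
      exact h4 (pi_eq_one.2 (eq_one_or_neg_one_of_mul_self h2 b h))
    have h6 := trace_of_mul_self b h5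
    have h7 : b 1 1 = -b 0 0 := by linear_combination h6
    have h8 := det2 b
    rw [hb, h7] at h8
    exact ⟨b, rfl, hb, by linear_combination -h8, h7⟩
  by_cases hi : ∃ i : F, i ^ 2 = -1
  · obtain ⟨i, hi⟩ := hi
    let f : F → Matrix.ProjectiveSpecialLinearGroup (Fin 2) F := fun z =>
      π₂ ⟨!![i, z; 0, -i], by rw [Matrix.det_fin_two]; simp; linear_combination -hi⟩
    have h1 : inv2 ↥((PSL2Solvable.borel F).map π₂) ≤ (Set.range f).ncard := by
      rw [inv2, ← Nat.card_coe_set_eq]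
      refine Nat.card_le_card_of_injective (fun y => (⟨y.1.1, ?_⟩ : Set.range f)) ?_
      · obtain ⟨b, hb1, hb2, hb3, hb4⟩ := key y.1.1 y.1.2 (by rw [orderOf_coe, y.2])
        have h5 : (b 0 0 - i) * (b 0 0 + i) = 0 := by linear_combination hb3 - hi
        rcases mul_eq_zero.1 h5 with h6 | h6
        · refine ⟨b 0 1, ?_⟩
          rw [← hb1]
          show π₂ _ = _
          congr 1
          refine ext2 ?_ rfl ?_ ?_
          · show i = _
            linear_combination -h6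
          · exact hb2.symm
          · show -i = _
            rw [hb4]
            linear_combination h6
        · refine ⟨-b 0 1, ?_⟩
          rw [← hb1]
          have h7 : π₂ b = π₂ (-b) := by
            have : (-b : SL2) = (-1) * b := by rw [neg_one_mul]
            rw [this, map_mul, pi_eq_one.2 (Or.inr rfl), one_mul]
          rw [h7]
          show π₂ _ = _
          congr 1
          refine ext2 ?_ ?_ ?_ ?_
          · show i = _
            rw [neg_ij]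
            linear_combination h6
          · show -b 0 1 = _
            rw [neg_ij]
          · show 0 = _
            rw [neg_ij, hb2, neg_zero]
          · show -i = _
            rw [neg_ij, hb4]
            linear_combination -h6
      · intro y z hyz
        have h9 : y.1.1 = z.1.1 := congrArg (fun v : Set.range f => v.1) hyz
        exact Subtype.ext (Subtype.ext h9)
    refine h1.trans ?_
    rw [← Set.image_univ]
    refine (Set.ncard_image_le).trans ?_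
    rw [Set.ncard_univ, Nat.card_eq_fintype_card]
  · have h1 : inv2 ↥((PSL2Solvable.borel F).map π₂) = 0 := by
      rw [inv2, Nat.card_eq_zero]
      left
      refine ⟨fun y => hi ?_⟩
      obtain ⟨b, -, -, hb3, -⟩ := key y.1.1 y.1.2 (by rw [orderOf_coe, y.2])
      exact ⟨_, hb3⟩
    omega

/-- The involutions of the normalizer of a Sylow subgroup in the defining characteristic. -/
theorem inv2_of_normalizer (hodd : Odd (Fintype.card F)) (p : ℕ) [Fact p.Prime] [CharP F p]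
    (P : Sylow p (Matrix.ProjectiveSpecialLinearGroup (Fin 2) F))
    {K : Subgroup (Matrix.ProjectiveSpecialLinearGroup (Fin 2) F)}
    (hK : K ≤ Subgroup.normalizer ((P : Subgroup (Matrix.ProjectiveSpecialLinearGroup (Fin 2) F)) :
        Set (Matrix.ProjectiveSpecialLinearGroup (Fin 2) F))) : inv2 K ≤ Fintype.card F := by
  obtain ⟨g, hg⟩ := PSL2Solvable.exists_le_map_borel p P
  refine (inv2_le_of_injective (Subgroup.inclusion_injective (hK.trans hg))).trans ?_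
  refine le_trans ?_ (inv2_borel hodd)
  exact inv2_le_of_injective (f := (Subgroup.equivMapOfInjective _ _
    (MulAut.conj g).injective).symm.toMonoidHom) (MulEquiv.injective _)

/-- The centralizer of an involution. -/
theorem exists_involution {q : ℕ} (hq : Fintype.card F = q) (hodd : Odd q) :
    ∃ x : Matrix.ProjectiveSpecialLinearGroup (Fin 2) F, orderOf x = 2 ∧
      (q % 4 = 1 → Nat.card (centralizer ({x} : Set _)) ≤ q - 1) ∧
      (q % 4 = 3 → Nat.card (centralizer ({x} : Set _)) ≤ q + 1) := by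
  classical
  have h2 : (2 : F) ≠ 0 := (PSL2Basic.two_ne_zero_iff_odd F).2 (hq ▸ hodd)
  have ho : orderOf (w : SL2) = 4 := orderOf_of_mul_self h2 w w_mul_self
  have hA : Nat.card (zpowers (w : SL2)) = 4 := by rw [Nat.card_zpowers, ho]
  obtain ⟨-, h3, h4, -⟩ := S0809.result hq hodd (zpowers (w : SL2)) hA
  have hsurj : Function.Surjective π₂ := QuotientGroup.mk'_surjective _
  have h5 : (centralizer ({π₂ w} : Set _)).comap π₂ ≤ normalizer (zpowers (w : SL2) : Set SL2) := by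
    intro c hc
    rw [mem_comap, mem_centralizer_singleton_iff] at hc
    have h6 : π₂ (c * w * c⁻¹ * w⁻¹) = 1 := by
      rw [map_mul, map_mul, map_mul, map_inv, map_inv, hc, mul_assoc, mul_assoc]
      simp only [_root_.QuotientGroup.mk'_apply, _root_.mul_inv_cancel_left, _root_.mul_inv_cancel]
    have h7 : c * w * c⁻¹ ∈ zpowers (w : SL2) := by
      rcases pi_eq_one.1 h6 with h | h
      · rw [mul_inv_eq_one] at h
        rw [h]
        exact mem_zpowers _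
      · have h8 : c * w * c⁻¹ = (w * w) * w := by
          rw [w_mul_self, ← h, inv_mul_cancel_right]
        rw [h8]
        exact mul_mem (mul_mem (mem_zpowers _) (mem_zpowers _)) (mem_zpowers _)
    refine Subgroup.mem_normalizer_fintype fun y hy => ?_
    obtain ⟨k, rfl⟩ := mem_zpowers_iff.1 hy
    have h9 : c * w ^ k * c⁻¹ = (c * w * c⁻¹) ^ k := (conj_zpow).symm
    rw [h9]
    exact zpow_mem h7 k
  have h6 : Nat.card (centralizer ({π₂ w} : Set _)) * 2 ≤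
      Nat.card (normalizer (zpowers (w : SL2) : Set SL2)) := by
    refine le_trans (le_of_eq ?_) (Subgroup.card_le_of_le h5)
    have h7 := Subgroup.index_comap_of_surjective (centralizer ({π₂ w} : Set _)) hsurj
    have h8 := ((centralizer ({π₂ w} : Set _)).comap π₂).card_mul_index
    have h9 := (centralizer ({π₂ w} : Set _)).card_mul_index
    have h10 := PSL2Basic.card_center_SL2_odd h2
    have h11 := Subgroup.card_eq_card_quotient_mul_card_subgroup
      (center (Matrix.SpecialLinearGroup (Fin 2) F))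
    rw [h10] at h11
    rw [h7, h11] at h8
    have h12 : 0 < (centralizer ({π₂ w} : Set _)).index := Nat.pos_of_ne_zero index_ne_zero_of_finite
    apply Nat.eq_of_mul_eq_mul_right h12
    rw [h8, mul_right_comm, h9]
  refine ⟨π₂ w, ?_, fun h => ?_, fun h => ?_⟩
  · apply orderOf_eq_prime
    · rw [← map_pow, pow_two, w_mul_self, pi_eq_one]
      exact Or.inr rfl
    · intro h
      rcases pi_eq_one.1 h with h | h
      · exact w_ne_one h
      · exact w_ne_neg_one h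
  · exact Nat.le_of_mul_le_mul_right (c := 2) (h6.trans (by rw [h3 h]; omega)) (by norm_num)
  · exact Nat.le_of_mul_le_mul_right (c := 2) (h6.trans (by rw [h4 h]; omega)) (by norm_num)

theorem row_main {q : ℕ} (hq : Fintype.card F = q) (hodd : Odd q) (h11 : 11 ≤ q) (h8 : q % 8 ≠ 1) :
    FprRow 3 1 2 (Matrix.ProjectiveSpecialLinearGroup (Fin 2) F) := by
  classical
  obtain ⟨x, hx, hC1, hC3⟩ := exists_involution hq hodd
  have hcard := PSL2Basic.card_PSL2_odd (F := F) (hq ▸ hodd)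
  rw [hq] at hcard
  have hq2 : q ^ 2 - 1 = (q + 1) * (q - 1) := by
    have := Nat.sq_sub_sq q 1
    rwa [one_pow] at this
  rw [hq2] at hcard
  intro H hH
  refine ⟨x, ⟨1, by rw [hx, pow_one]⟩, ?_⟩
  have h2 : Nat.card {y : H // orderOf y = orderOf x} = inv2 H := by rw [hx]; rfl
  -- it is enough to bound the number of involutions
  suffices hi : 6 * inv2 H ≤ q * (q - 1) by
    have h4 : q % 4 = 1 ∨ q % 4 = 3 := by
      obtain ⟨m, hm⟩ := hodd
      omega
    rcases h4 with h4 | h4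
    · refine ratio_of_bound H (hC1 h4) h2.le ?_
      have h6 : 2 * (3 * ((q - 1) * inv2 H)) ≤
          2 * Nat.card (Matrix.ProjectiveSpecialLinearGroup (Fin 2) F) := by
        calc 2 * (3 * ((q - 1) * inv2 H)) = (q - 1) * (6 * inv2 H) := by ring
          _ ≤ (q - 1) * (q * (q - 1)) := Nat.mul_le_mul_left _ hi
          _ ≤ (q - 1) * (q * (q + 1)) := by
              apply Nat.mul_le_mul_left
              apply Nat.mul_le_mul_left
              omega
          _ = q * ((q + 1) * (q - 1)) := by ring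
          _ = 2 * Nat.card (Matrix.ProjectiveSpecialLinearGroup (Fin 2) F) := by
              rw [← hcard, mul_comm]
      omega
    · refine ratio_of_bound H (hC3 h4) h2.le ?_
      have h6 : 2 * (3 * ((q + 1) * inv2 H)) ≤
          2 * Nat.card (Matrix.ProjectiveSpecialLinearGroup (Fin 2) F) := by
        calc 2 * (3 * ((q + 1) * inv2 H)) = (q + 1) * (6 * inv2 H) := by ring
          _ ≤ (q + 1) * (q * (q - 1)) := Nat.mul_le_mul_left _ hi
          _ = q * ((q + 1) * (q - 1)) := by ring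
          _ = 2 * Nat.card (Matrix.ProjectiveSpecialLinearGroup (Fin 2) F) := by
              rw [← hcard, mul_comm]
      omega
  set g := Nat.card (Matrix.ProjectiveSpecialLinearGroup (Fin 2) F)
  set h := Nat.card H
  set i := inv2 H
  have hpos : 0 < h := Nat.card_pos
  have hbig : 6 * q ≤ q * (q - 1) := by
    rw [mul_comm]
    apply Nat.mul_le_mul_left
    omega
  have hlt : i < h := inv2_lt
  obtain ⟨p, hp⟩ := CharP.exists F
  have hpp : Fact p.Prime := ⟨CharP.char_is_prime F p⟩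
  have hgcd : Nat.gcd 2 (q - 1) = 2 := by
    obtain ⟨m, hm⟩ := hodd
    have : 2 ∣ q - 1 := ⟨m, by omega⟩
    exact Nat.gcd_eq_left this
  rcases S0799.result hq p H with ⟨k, hk, hk2⟩ | ⟨P, M, hM, ⟨e⟩⟩ | ⟨⟨e⟩⟩ | ⟨⟨e⟩⟩ | ⟨⟨e⟩⟩ |
    ⟨K₀, i1, i2, m, hm, hK⟩
  · -- cyclic or dihedral
    rw [hgcd] at hk
    have hk3 : 2 * k ≤ q + 1 := by
      have hk4 : 0 < (q - 1) / 2 := by omega
      rcases hk with hk | hk
      · have := Nat.le_of_dvd (by omega) hk
        omega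
      · have := Nat.le_of_dvd hk4 hk
        omega
    have hh : h ≤ q + 1 := by
      rcases hk2 with ⟨-, hk2⟩ | ⟨⟨e⟩⟩
      · have : h = k := hk2
        omega
      · have : h = 2 * k := by
          show Nat.card H = 2 * k
          rw [Nat.card_congr e.toEquiv, DihedralGroup.nat_card]
        omega
    refine le_trans ?_ hbig
    omega
  · refine le_trans ?_ hbig
    have h3 : i ≤ inv2 M := inv2_le_of_injective (f := e.toMonoidHom) e.injective
    have h4 := inv2_of_normalizer (hq ▸ hodd) p P hM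
    rw [hq] at h4
    omega
  · have h3 : i ≤ 15 := (inv2_le_of_injective (f := e.toMonoidHom) e.injective).trans inv2_A4
    nlinarith only [h11, h3, Nat.sub_add_cancel (show 1 ≤ q by omega)]
  · have h3 : i ≤ 15 := (inv2_le_of_injective (f := e.toMonoidHom) e.injective).trans inv2_S4
    nlinarith only [h11, h3, Nat.sub_add_cancel (show 1 ≤ q by omega)]
  · have h3 : i ≤ 15 := (inv2_le_of_injective (f := e.toMonoidHom) e.injective).trans inv2_A5
    nlinarith only [h11, h3, Nat.sub_add_cancel (show 1 ≤ q by omega)]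
  · -- subfield groups
    set q₀ := Fintype.card K₀ with hq₀
    have hq₀2 : 1 < q₀ := Fintype.one_lt_card
    have hcK : h ∣ q₀ * (q₀ ^ 2 - 1) ∧ (m = 1 → h = g ∨ h = 2 * g) := by
      rcases hK with ⟨⟨e⟩⟩ | ⟨⟨e⟩⟩
      · have h3 : h = Nat.card (Matrix.ProjectiveSpecialLinearGroup (Fin 2) K₀) :=
          Nat.card_congr e.toEquiv
        have h4 := PSL2Basic.card_PSL2_gcd (F := K₀)
        refine ⟨?_, fun hm1 => ?_⟩
        · rw [h3, hq₀, ← h4]
          exact dvd_mul_right _ _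
        · left
          rw [hm1, pow_one] at hm
          rw [← h3, ← hq₀, hm, hgcd, hq2] at h4
          omega
      · have h3 : h = Nat.card (Matrix.ProjGenLinGroup (Fin 2) K₀) := Nat.card_congr e.toEquiv
        rw [PSL2Basic.card_PGL2] at h3
        refine ⟨h3 ▸ dvd_refl _, fun hm1 => ?_⟩
        right
        rw [hm1, pow_one] at hm
        rw [← hq₀, hm, hq2, ← hcard] at h3
        omega
    have hm0 : m ≠ 0 := by
      rintro rfl
      rw [pow_zero] at hm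
      omega
    have hm1 : m ≠ 1 := by
      intro hm1
      have hg : 0 < g := Nat.card_pos
      rcases hcK.2 hm1 with h3 | h3
      · exact hH (Subgroup.eq_top_of_card_eq H h3)
      · have h4 : h ∣ g := Subgroup.card_subgroup_dvd_card H
        have := Nat.le_of_dvd hg h4
        omega
    have hm2 : m ≠ 2 := by
      rintro rfl
      apply h8
      have h3 : Odd q₀ := by
        rw [← hm] at hodd
        exact (Nat.odd_pow_iff (by norm_num)).1 hodd
      rw [← hm]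
      obtain ⟨r, hr⟩ := h3
      rw [hr]
      obtain ⟨t, ht⟩ := Nat.even_mul_succ_self r
      have h4 : (2 * r + 1) ^ 2 = 8 * t + 1 := by
        have : (2 * r + 1) ^ 2 = 4 * (r * (r + 1)) + 1 := by ring
        rw [this, ht]
        ring
      omega
    have hm3 : q₀ ^ 3 ≤ q := by
      rw [← hm]
      exact Nat.pow_le_pow_right (by omega) (by omega)
    have h5 : q₀ * (q₀ ^ 2 - 1) ≤ q := by
      refine le_trans ?_ hm3
      calc q₀ * (q₀ ^ 2 - 1) ≤ q₀ * q₀ ^ 2 := Nat.mul_le_mul_left _ (Nat.sub_le _ _)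
        _ = q₀ ^ 3 := by ring
    have h6 : 0 < q₀ * (q₀ ^ 2 - 1) := by
      have : 2 ^ 2 ≤ q₀ ^ 2 := Nat.pow_le_pow_left hq₀2 2
      apply Nat.mul_pos <;> omega
    have h7 := Nat.le_of_dvd h6 hcK.1
    refine le_trans ?_ hbig
    omega

theorem i4_bound {H : Type*} [Group H] [Fintype H] [DecidableEq H] {n : ℕ}
    (h : (Finset.univ.filter fun y : H => y * y * (y * y) = 1 ∧ y * y ≠ 1).card ≤ n) :
    Nat.card {y : H // orderOf y = 4} ≤ n := by
  rw [Nat.card_eq_fintype_card, Fintype.card_subtype]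
  refine le_trans (Finset.card_le_card ?_) h
  intro y hy
  rw [Finset.mem_filter] at hy
  rw [Finset.mem_filter]
  have h4 : y ^ 4 = 1 := by rw [← hy.2, pow_orderOf_eq_one]
  refine ⟨Finset.mem_univ _, ?_, fun h2 => ?_⟩
  · rw [← pow_two, ← pow_two, ← pow_mul]
    exact h4
  · have h5 : orderOf y ∣ 2 := orderOf_dvd_of_pow_eq_one (by rw [pow_two, h2])
    rw [hy.2] at h5
    norm_num at h5

theorem i4_congr {H K : Type*} [Group H] [Group K] (e : H ≃* K) :
    Nat.card {y : H // orderOf y = 4} = Nat.card {y : K // orderOf y = 4} :=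
  Nat.card_congr (e.toEquiv.subtypeEquiv fun y => by
    show orderOf y = 4 ↔ orderOf (e y) = 4
    rw [MulEquiv.orderOf_eq])

theorem row_seven (hq : Fintype.card F = 7) :
    FprRow 3 1 2 (Matrix.ProjectiveSpecialLinearGroup (Fin 2) F) := by
  classical
  have hodd : Odd 7 := by decide
  obtain ⟨x, hx, -, hC3⟩ := exists_involution hq hodd
  have hC := hC3 (by norm_num)
  -- an element of order 4
  have h7 : (7 : F) = 0 := by
    have h1 : ((Fintype.card F : ℕ) : F) = 0 := Nat.cast_card_eq_zero F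
    rw [hq] at h1
    exact_mod_cast h1
  have h2 : (2 : F) ≠ 0 := (PSL2Basic.two_ne_zero_iff_odd F).2 (hq ▸ hodd)
  let s : SL2 := ⟨!![2, 2; -2, 2], by rw [Matrix.det_fin_two]; simp only [_root_.Fin.isValue, _root_.Matrix.of_apply, _root_.Matrix.cons_val', _root_.Matrix.cons_val_zero, _root_.Matrix.cons_val_fin_one, _root_.Matrix.cons_val_one, _root_.mul_neg, _root_.sub_neg_eq_add]; linear_combination h7⟩
  have hs : s * s = w := by
    refine ext2 ?_ ?_ ?_ ?_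
    · rw [mul00, w00]
      show (2 : F) * 2 + 2 * (-2) = 0
      ring
    · rw [mul01, w01]
      show (2 : F) * 2 + 2 * 2 = 1
      linear_combination h7
    · rw [mul10, w10]
      show (-2 : F) * 2 + 2 * (-2) = -1
      linear_combination -h7
    · rw [mul11, w11]
      show (-2 : F) * 2 + 2 * 2 = 0
      ring
  have hw : orderOf (π₂ w) = 2 := by
    apply orderOf_eq_prime
    · rw [← map_pow, pow_two, w_mul_self, pi_eq_one]
      exact Or.inr rfl
    · intro h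
      rcases pi_eq_one.1 h with h | h
      · exact w_ne_one h
      · exact w_ne_neg_one h
  have hs2 : (π₂ s) ^ 2 = π₂ w := by rw [← map_pow, pow_two, hs]
  have hs4 : orderOf (π₂ s) = 4 := by
    have h1 : orderOf (π₂ s) = 2 ^ (1 + 1) := by
      apply orderOf_eq_prime_pow
      · rw [pow_one, hs2]
        intro h
        rw [h, orderOf_one] at hw
        omega
      · rw [pow_add, pow_one, pow_mul, hs2]
        have := pow_orderOf_eq_one (π₂ (w : SL2))
        rwa [hw] at this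
    rw [h1]; norm_num
  obtain ⟨-, -, -, hcj⟩ := S0809.result hq hodd (zpowers (w : SL2)) (by
    rw [Nat.card_zpowers, orderOf_of_mul_self h2 w w_mul_self])
  obtain ⟨c, hc⟩ := isConj_iff.1 (hcj (π₂ w) x hw hx)
  have hCs : Nat.card (centralizer ({π₂ s} : Set (Matrix.ProjectiveSpecialLinearGroup (Fin 2) F))) ≤ 8 := by
    refine le_trans ?_ hC
    refine Nat.card_le_card_of_injective
      (fun y : centralizer ({π₂ s} : Set (Matrix.ProjectiveSpecialLinearGroup (Fin 2) F)) =>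
        (⟨c * y.1 * c⁻¹, ?_⟩ :
          centralizer ({x} : Set (Matrix.ProjectiveSpecialLinearGroup (Fin 2) F)))) ?_
    · have h3 := mem_centralizer_singleton_iff.1 y.2
      have h4 : y.1 * π₂ w = π₂ w * y.1 := by
        rw [← hs2, pow_two, ← mul_assoc, h3, mul_assoc, h3, mul_assoc]
      rw [mem_centralizer_singleton_iff, ← hc]
      calc c * y.1 * c⁻¹ * (c * π₂ w * c⁻¹) = c * (y.1 * π₂ w) * c⁻¹ := by group
        _ = c * (π₂ w * y.1) * c⁻¹ := by rw [h4]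
        _ = c * π₂ w * c⁻¹ * (c * y.1 * c⁻¹) := by group
    · intro y z hyz
      have h9 : c * y.1 * c⁻¹ = c * z.1 * c⁻¹ := congrArg Subtype.val hyz
      exact Subtype.ext (mul_left_cancel (mul_right_cancel h9))
  have hcard := PSL2Basic.card_PSL2_odd (F := F) (hq ▸ hodd)
  rw [hq] at hcard
  have hG : Nat.card (Matrix.ProjectiveSpecialLinearGroup (Fin 2) F) = 168 := by omega
  intro H hH
  refine ⟨π₂ s, ⟨2, by rw [hs4]; norm_num⟩, ?_⟩
  suffices hi : Nat.card {y : H // orderOf y = 4} ≤ 7 by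
    refine ratio_of_bound H hCs (i := 7) (by rw [hs4]; exact hi) ?_
    rw [hG]
  have hdvd : Nat.card H ∣ 168 := hG ▸ Subgroup.card_subgroup_dvd_card H
  have hlt : Nat.card {y : H // orderOf y = 4} < Nat.card H := by
    have := Fintype.ofFinite H
    rw [Nat.card_eq_fintype_card, Nat.card_eq_fintype_card]
    refine Fintype.card_subtype_lt (x := 1) ?_
    rw [orderOf_one]
    norm_num
  obtain ⟨p, hp⟩ := CharP.exists F
  have hpp : Fact p.Prime := ⟨CharP.char_is_prime F p⟩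
  rcases S0799.result hq p H with ⟨k, hk, hk2⟩ | ⟨P, M, hM, ⟨e⟩⟩ | ⟨⟨e⟩⟩ | ⟨⟨e⟩⟩ | ⟨⟨e⟩⟩ |
    ⟨K₀, i1, i2, m, hm, hK⟩
  · have hk3 : k ≤ 4 := by
      rcases hk with hk | hk
      · exact Nat.le_of_dvd (by norm_num) hk
      · exact (Nat.le_of_dvd (by norm_num) hk).trans (by norm_num)
    rcases hk2 with ⟨-, hk2⟩ | ⟨⟨e⟩⟩
    · omega
    · have : Nat.card H = 2 * k := by rw [Nat.card_congr e.toEquiv, DihedralGroup.nat_card]
      omega
  · obtain ⟨g, hg⟩ := PSL2Solvable.exists_le_map_borel p P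
    have h1 : Nat.card H ∣ 21 := by
      rw [Nat.card_congr e.toEquiv]
      refine (Subgroup.card_dvd_of_le (hM.trans hg)).trans ?_
      rw [Subgroup.card_map_of_injective (MulAut.conj g).injective]
      have h2 := H436.TT.index_borel (F := F)
      have h3 := ((PSL2Solvable.borel F).map π₂).card_mul_index
      have h4 : Nat.card ↥((PSL2Solvable.borel F).map π₂) * 8 = 21 * 8 := by
        refine Eq.trans ?_ (h3.trans hG)
        rw [h2, hq]
      rw [Nat.eq_of_mul_eq_mul_right (by norm_num) h4]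
    have h2 : Nat.card {y : H // orderOf y = 4} = 0 := by
      rw [Nat.card_eq_zero]
      left
      refine ⟨fun y => ?_⟩
      have h3 : orderOf y.1 ∣ 21 := (_root_.orderOf_dvd_natCard y.1).trans h1
      rw [y.2] at h3
      norm_num at h3
    omega
  · rw [i4_congr e]
    apply i4_bound
    decide +kernel
  · rw [i4_congr e]
    apply i4_bound
    decide +kernel
  · exfalso
    have h1 : Nat.card H = 60 := by
      rw [Nat.card_congr e.toEquiv, nat_card_alternatingGroup, Nat.card_fin]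
      rfl
    rw [h1] at hdvd
    norm_num at hdvd
  · exfalso
    have hm1 : m = 1 := by
      have h1 : Fintype.card K₀ ∣ 7 := by
        rw [← hm]
        refine dvd_pow_self _ ?_
        rintro rfl
        norm_num at hm
      have h2 : Fintype.card K₀ = 7 := by
        rcases (Nat.dvd_prime (by norm_num)).1 h1 with h | h
        · exact absurd h (Fintype.one_lt_card).ne'
        · exact h
      rw [h2] at hm
      have h3 : (7 : ℕ) ^ m = 7 ^ 1 := by rw [hm, pow_one]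
      exact Nat.pow_right_injective (by norm_num) h3
    rw [hm1, pow_one] at hm
    rcases hK with ⟨⟨e⟩⟩ | ⟨⟨e⟩⟩
    · have h1 := PSL2Basic.card_PSL2_odd (F := K₀) (hm ▸ hodd)
      rw [hm, ← Nat.card_congr e.toEquiv] at h1
      have h2 : Nat.card H = Nat.card (Matrix.ProjectiveSpecialLinearGroup (Fin 2) F) := by
        rw [hG]
        omega
      exact hH (Subgroup.eq_top_of_card_eq H h2)
    · have h1 := PSL2Basic.card_PGL2 (F := K₀)
      rw [hm, ← Nat.card_congr e.toEquiv] at h1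
      rw [h1] at hdvd
      norm_num at hdvd

end Mat

section One

variable {F : Type*} [Field F] [Fintype F]

open LieClassical.SLTwoUnipotent

local notation "SL2" => Matrix.SpecialLinearGroup (Fin 2) F

/-- The diagonal matrix `diag (a, a⁻¹)`. -/
def dg (a : Fˣ) : SL2 := ⟨!![(a : F), 0; 0, (a⁻¹ : Fˣ)], by rw [Matrix.det_fin_two]; simp⟩

omit [Fintype F] in
theorem dg_mul (a b : Fˣ) : dg a * dg b = dg (a * b) := by
  apply ext_coe
  show !![(a : F), 0; 0, (a⁻¹ : Fˣ)] * !![(b : F), 0; 0, (b⁻¹ : Fˣ)] =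
    !![((a * b : Fˣ) : F), 0; 0, ((a * b)⁻¹ : Fˣ)]
  simp only [mul_comm, _root_.Units.val_inv_eq_inv_val, _root_.Matrix.cons_mul, _root_.Nat.succ_eq_add_one, _root_.Nat.reduceAdd, _root_.Matrix.vecMul_cons, _root_.Matrix.head_cons, _root_.Matrix.smul_cons, _root_.smul_eq_mul, _root_.MulZeroClass.mul_zero, _root_.Matrix.smul_empty, _root_.Matrix.tail_cons, _root_.zero_smul, _root_.Matrix.empty_vecMul, _root_.add_zero, _root_.zero_add, _root_.Matrix.empty_mul, _root_.Equiv.symm_apply_apply, _root_.Units.val_mul, _root_.mul_inv_rev]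

omit [Fintype F] in
theorem dg_one : dg (1 : Fˣ) = 1 := by
  apply ext_coe
  rw [LieClassical.SLTwoUnipotent.coe_one]
  show !![((1 : Fˣ) : F), 0; 0, ((1 : Fˣ)⁻¹ : Fˣ)] = _
  simp

omit [Fintype F] in
theorem dg_pow (a : Fˣ) (n : ℕ) : dg a ^ n = dg (a ^ n) := by
  induction n with
  | zero => rw [pow_zero, pow_zero, dg_one]
  | succ n ih => rw [pow_succ, pow_succ, ih, dg_mul]

omit [Fintype F] in
theorem dg_u (a : Fˣ) (x : F) : dg a * u x * (dg a)⁻¹ = u ((a : F) ^ 2 * x) := by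
  rw [mul_inv_eq_iff_eq_mul]
  apply ext_coe
  show !![(a : F), 0; 0, (a⁻¹ : Fˣ)] * !![1, x; 0, 1] =
    !![1, (a : F) ^ 2 * x; 0, 1] * !![(a : F), 0; 0, (a⁻¹ : Fˣ)]
  have ha : (a : F) ≠ 0 := a.ne_zero
  ext i j
  (revert i j; simp only [_root_.Fin.forall_fin_succ, _root_.Units.val_inv_eq_inv_val, _root_.Matrix.cons_mul, _root_.Nat.succ_eq_add_one, Nat.reduceAdd, _root_.Matrix.vecMul_cons, _root_.Matrix.head_cons, _root_.Matrix.smul_cons, _root_.smul_eq_mul, _root_.mul_one, _root_.Matrix.smul_empty, _root_.Matrix.tail_cons, _root_.zero_smul, _root_.Matrix.empty_vecMul, _root_.add_zero, _root_.MulZeroClass.mul_zero, _root_.zero_add, _root_.Matrix.empty_mul, _root_.Equiv.symm_apply_apply, _root_.Matrix.of_apply, _root_.Matrix.cons_val', _root_.Matrix.cons_val_fin_one, _root_.one_smul, _root_.Matrix.add_cons, _root_.Matrix.empty_add_empty, Fin.isValue, _root_.Matrix.cons_val_zero, _root_.Matrix.cons_val_succ, _root_.forall_const,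 _root_.implies_true, _root_.and_true, _root_.true_and]) <;> (repeat' with_reducible apply And.intro)
  field_simp

omit [Fintype F] in
theorem dg_l (a : Fˣ) (x : F) : dg a * l x * (dg a)⁻¹ = l (((a⁻¹ : Fˣ) : F) ^ 2 * x) := by
  rw [mul_inv_eq_iff_eq_mul]
  apply ext_coe
  show !![(a : F), 0; 0, (a⁻¹ : Fˣ)] * !![1, 0; x, 1] =
    !![1, 0; ((a⁻¹ : Fˣ) : F) ^ 2 * x, 1] * !![(a : F), 0; 0, (a⁻¹ : Fˣ)]
  have ha : (a : F) ≠ 0 := a.ne_zero
  ext i j
  (revert i j; simp only [_root_.Fin.forall_fin_succ, _root_.Units.val_inv_eq_inv_val, _root_.Matrix.cons_mul, _root_.Nat.succ_eq_add_one, Nat.reduceAdd, _root_.Matrix.vecMul_cons, _root_.Matrix.head_cons, _root_.Matrix.smul_cons, _root_.smul_eq_mul, _root_.mul_one, _root_.MulZeroClass.mul_zero, _root_.Matrix.smul_empty, _root_.Matrix.tail_cons, _root_.zero_smul, _root_.Matrix.empty_vecMul, _root_.add_zero, _root_.zero_add, _root_.Matrix.empty_mul, _root_.Equiv.symm_apply_apply,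 _root_.Matrix.of_apply, _root_.Matrix.cons_val', _root_.Matrix.cons_val_fin_one, _root_.inv_pow, _root_.one_smul, _root_.Matrix.add_cons, _root_.Matrix.empty_add_empty, Fin.isValue, _root_.Matrix.cons_val_zero, _root_.Matrix.cons_val_succ, _root_.implies_true, _root_.forall_const, _root_.and_true, _root_.true_and]) <;> (repeat' with_reducible apply And.intro)
  field_simp

/-- The two root subgroups. -/
def uu : Multiplicative F →* SL2 where
  toFun x := u x.toAdd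
  map_one' := u_zero
  map_mul' _ _ := u_add _ _

def ll : Multiplicative F →* SL2 where
  toFun x := l x.toAdd
  map_one' := l_zero
  map_mul' _ _ := l_add _ _

omit [Fintype F] in
theorem uu_inj : Function.Injective (uu (F := F)) := by
  intro x y h
  exact congrArg (fun g : SL2 => (g : Matrix (Fin 2) (Fin 2) F) 0 1) h

omit [Fintype F] in
theorem ll_inj : Function.Injective (ll (F := F)) := by
  intro x y h
  exact congrArg (fun g : SL2 => (g : Matrix (Fin 2) (Fin 2) F) 1 0) h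

omit [Fintype F] in
/-- Root subgroups with a torus element. -/
theorem pair_aux {G : Type*} [Group G] [Finite G] {p j : ℕ} {x : G} (f : Multiplicative F →* G)
    (hf : Function.Injective f) {c d : F}
    (hc : ∀ z, x * f z * x⁻¹ = f (Multiplicative.ofAdd (c * z.toAdd)))
    (hd : ∀ z, x ^ p ^ j * f z * (x ^ p ^ j)⁻¹ = f (Multiplicative.ofAdd (d * z.toAdd)))
    (hd1 : d ≠ 1) : Pair p j x f.range := by
  refine Pair.of_free ?_ ?_ ?_
  · exact Group.nilpotent_of_surjective f.rangeRestrict f.rangeRestrict_surjective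
  · refine Subgroup.mem_normalizer_fintype ?_
    rintro _ ⟨z, rfl⟩
    exact ⟨_, (hc z).symm⟩
  · rintro _ ⟨z, rfl⟩ h
    rw [hd] at h
    have h1 := hf h
    have h3 : d * z.toAdd = z.toAdd := congrArg Multiplicative.toAdd h1
    have h4 : (d - 1) * z.toAdd = 0 := by linear_combination h3
    have h5 : z.toAdd = 0 := (mul_eq_zero.1 h4).resolve_left (sub_ne_zero.2 hd1)
    have h6 : z = 1 := h5
    rw [h6, map_one]

theorem pair_u {p j : ℕ} {a : Fˣ} (ha : a ^ (2 * p ^ j) ≠ 1) :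
    Pair p j (dg a) (uu (F := F)).range := by
  refine pair_aux (c := (a : F) ^ 2) (d := ((a ^ p ^ j : Fˣ) : F) ^ 2) uu uu_inj
    (fun z => dg_u a _) (fun z => ?_) ?_
  · rw [dg_pow]
    exact dg_u _ _
  · rw [← Units.val_pow_eq_pow_val, ← pow_mul, Ne, Units.val_eq_one, mul_comm]
    exact ha

theorem pair_l {p j : ℕ} {a : Fˣ} (ha : a ^ (2 * p ^ j) ≠ 1) :
    Pair p j (dg a) (ll (F := F)).range := by
  refine pair_aux (c := ((a⁻¹ : Fˣ) : F) ^ 2) (d := (((a ^ p ^ j)⁻¹ : Fˣ) : F) ^ 2) ll ll_inj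
    (fun z => dg_l a _) (fun z => ?_) ?_
  · rw [dg_pow]
    exact dg_l _ _
  · rw [← Units.val_pow_eq_pow_val, inv_pow, ← pow_mul, Ne, Units.val_eq_one, mul_comm, inv_eq_one]
    exact ha

/-- `T3` in `SL₂(q)`. -/
theorem good_sl {p j k : ℕ} (hp : p.Prime) {a : Fˣ} (ha : a ^ (2 * p ^ j) ≠ 1)
    (hak : a ^ p ^ k = 1) : UGood 2 (p ^ (j + 1) + 2) (dg a) := by
  classical
  apply T3_uGood (k := k) hp (by rw [dg_pow, hak, dg_one]) (pair_u ha) (pair_l ha)
  apply eq_top_of_u_mem_of_l_mem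
  · intro x
    exact _root_.Subgroup.subset_closure (Or.inl (Or.inr ⟨Multiplicative.ofAdd x, rfl⟩))
  · intro x
    exact _root_.Subgroup.subset_closure (Or.inr ⟨Multiplicative.ofAdd x, rfl⟩)

theorem row_one (h8 : Fintype.card F % 8 = 1) :
    FprRow 3 1 2 (Matrix.ProjectiveSpecialLinearGroup (Fin 2) F) := by
  classical
  have h1 : 8 ∣ Fintype.card F - 1 := ⟨Fintype.card F / 8, by omega⟩
  have h2 : Fintype.card F - 1 = Nat.card Fˣ := by rw [Nat.card_eq_fintype_card, Fintype.card_units]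
  obtain ⟨g, hg⟩ := IsCyclic.exists_generator (α := Fˣ)
  have hog : orderOf g = Fintype.card F - 1 := by rw [h2, orderOf_eq_card_of_forall_mem_zpowers hg]
  obtain ⟨m, hm⟩ := h1
  have hm0 : m ≠ 0 := by
    rintro rfl
    have := Fintype.one_lt_card (α := F)
    omega
  have ho : orderOf (g ^ m) = 8 := by
    rw [orderOf_pow_of_dvd hm0 (by rw [hog, hm]; exact dvd_mul_left _ _), hog, hm,
      Nat.mul_div_cancel _ (Nat.pos_of_ne_zero hm0)]
  have h3 : UGood 2 (2 ^ (1 + 1) + 2) (dg (g ^ m)) := by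
    apply good_sl (k := 3) Nat.prime_two
    · intro h
      have := orderOf_dvd_of_pow_eq_one h
      rw [ho] at this
      norm_num at this
    · rw [show 2 ^ 3 = orderOf (g ^ m) by rw [ho]; norm_num]
      exact pow_orderOf_eq_one _
  have h4 : Good 1 3 2 (Matrix.SpecialLinearGroup (Fin 2) F) := by
    refine (h3.mono (by norm_num) (by norm_num)).good ?_
    have h5 : dg (g ^ m) ^ 2 ^ 3 = 1 := by
      rw [dg_pow, show 2 ^ 3 = orderOf (g ^ m) by rw [ho]; norm_num, pow_orderOf_eq_one, dg_one]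
    obtain ⟨i, -, hi⟩ := (Nat.dvd_prime_pow Nat.prime_two).1 (orderOf_dvd_of_pow_eq_one h5)
    exact ⟨i, hi⟩
  exact h4.of_surjective Nat.prime_two (f := QuotientGroup.mk' (Subgroup.center SL2))
    (QuotientGroup.mk'_surjective _)

end One

/-- **The row of `PSL₂(q)`, `q` odd, at the prime 2.** -/
theorem row_psl_two {F : Type*} [Field F] [Fintype F] (hodd : Odd (Fintype.card F))
    (h5 : 5 ≤ Fintype.card F) : FprRow 3 1 2 (Matrix.ProjectiveSpecialLinearGroup (Fin 2) F) := by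
  by_cases h8 : Fintype.card F % 8 = 1
  · exact row_one h8
  by_cases h7 : Fintype.card F = 7
  · exact row_seven h7
  by_cases h55 : Fintype.card F = 5
  · obtain ⟨e⟩ := S0253.result h55
    have h1 : Good 1 3 2 (alternatingGroup (Fin 5)) := H435.Fpr.fprRow_alternating_two le_rfl
    exact h1.of_surjective Nat.prime_two (f := e.symm.toMonoidHom) e.symm.surjective
  · refine row_main rfl hodd ?_ h8
    obtain ⟨m, hm⟩ := hodd
    omega

end Cfsg.Agent.H398.FPR.PslTwo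
end

-- part: H110/Fpr/Cls
section
/-!
# All classical groups, cross characteristic
-/

set_option autoImplicit false

namespace Cfsg.Agent.H110.Fpr

open Cfsg Cfsg.Agent.H409

universe u

theorem sylow_transfer {p : ℕ} [Fact p.Prime] {G H : Type*} [Group G] [Group H] [Finite G]
    (e : G ≃* H) (h : ∃ P : Sylow p G, ¬ IsCyclic P) : ∃ P : Sylow p H, ¬ IsCyclic P := by
  obtain ⟨P, hP⟩ := h
  have : Finite H := Finite.of_equiv G e.toEquiv
  refine ⟨P.mapSurjective (f := e.toMonoidHom) e.surjective, fun hc => hP ?_⟩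
  have e1 : P ≃* ((P : Subgroup G).map e.toMonoidHom) :=
    (P : Subgroup G).equivMapOfInjective e.toMonoidHom e.injective
  have hc' : IsCyclic ((P : Subgroup G).map e.toMonoidHom) := hc
  exact isCyclic_of_surjective e1.symm e1.symm.surjective

theorem charP_of {p : ℕ} (hp : p.Prime) {F : Type*} [Field F] (h : (p : F) = 0) : CharP F p := by
  obtain ⟨r, hr⟩ := CharP.exists F
  have hrp := CharP.char_is_prime_or_zero F r
  have h1 : r ∣ p := (CharP.cast_eq_zero_iff F r p).1 h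
  rcases (Nat.dvd_prime hp).1 h1 with h2 | h2
  · subst h2
    rcases hrp with h3 | h3
    · exact absurd h3 Nat.not_prime_one
    · omega
  · rw [← h2]; exact hr

/-- **The classical rows of S3569.** -/
theorem row_classical {p : ℕ} (hp : p.Prime) {G : Type u} [Group G] [Finite G]
    (h : IsPSL G ∨ IsPSp G ∨ IsPSU G ∨ IsPOmegaOdd G ∨ IsPOmegaPlus G ∨ IsPOmegaMinus G)
    (hchar : ¬ IsLieTypeChar p G) (hE : p = 2 ∨ ∃ P : Sylow p G, ¬ IsCyclic P) :
    FprRow (2 * p - 1) (p - 1) p G := by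
  have hpf : Fact p.Prime := ⟨hp⟩
  have tr : ∀ {H : Type} [Group H], (e : G ≃* H) → p = 2 ∨ ∃ P : Sylow p H, ¬ IsCyclic P := by
    intro H _ e
    rcases hE with h | h
    · exact Or.inl h
    · exact Or.inr (sylow_transfer e h)
  rcases h with h | h | h | h | h | h
  · obtain ⟨F, i1, i2, n, hn, hn2, ⟨e⟩⟩ := h
    have hpF : (p : F) ≠ 0 := fun h0 => hchar (Or.inl
      ⟨F, i1, i2, charP_of hp h0, n, hn, hn2, ⟨e⟩⟩)
    have : Finite (Matrix.ProjectiveSpecialLinearGroup (Fin n) F) := Finite.of_equiv G e.toEquiv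
    rcases Nat.lt_or_ge n 3 with h3 | h3
    · have h2 : n = 2 := by omega
      subst h2
      by_cases hp2 : p = 2
      · subst hp2
        have hodd : Odd (Fintype.card F) := by
          have h1 := not_dvd_card hp hpF
          rw [Nat.card_eq_fintype_card] at h1
          exact Nat.odd_iff.2 (by omega)
        have h4 := hn2 rfl
        have h5 : 5 ≤ Fintype.card F := by
          rcases Nat.lt_or_ge (Fintype.card F) 5 with h6 | h6
          · have h7 : Fintype.card F = 4 := by omega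
            rw [h7] at hodd
            exact absurd hodd (by decide)
          · exact h6
        have hrow : FprRow (2 * 2 - 1) (2 - 1) 2 (Matrix.ProjectiveSpecialLinearGroup (Fin 2) F) :=
          H398.FPR.PslTwo.row_psl_two hodd h5
        exact hrow.of_mulEquiv hp e.symm
      · -- `p` odd: the rank two argument
        have hfin0 : Finite ((Fin 2 → F) ≃ₗ[F] (Fin 2 → F)) := instFin
        have hfin : Finite (SpecialLinearGroup F (Fin 2 → F)) := inferInstance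
        let e' : SpecialLinearGroup F (Fin 2 → F) ≃* Matrix.SpecialLinearGroup (Fin 2) F :=
          Matrix.SpecialLinearGroup.toLin'_equiv.symm
        let f : SpecialLinearGroup F (Fin 2 → F) →* Matrix.ProjectiveSpecialLinearGroup (Fin 2) F :=
          (QuotientGroup.mk' (Subgroup.center (Matrix.SpecialLinearGroup (Fin 2) F))).comp
            e'.toMonoidHom
        have hf : Function.Surjective f := (QuotientGroup.mk'_surjective _).comp e'.surjective
        obtain ⟨P, hP⟩ := (tr e).resolve_left hp2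
        obtain ⟨a, b, hab, ha, hb, hb1, hind⟩ := exists_rank_two hp2 f hf P hP
        exact (FprRow.of_surjective hp f hf
          (row_lin_E hp hp2 hpF hab ha hb hb1 hind)).of_mulEquiv hp e.symm
    · exact (row_PSL h3 hp hpF (tr e)).of_mulEquiv hp e.symm
  · obtain ⟨F, i1, i2, m, hm, hm2, ⟨e⟩⟩ := h
    have hpF : (p : F) ≠ 0 := fun h0 => hchar (Or.inr (Or.inl
      ⟨F, i1, i2, charP_of hp h0, m, hm, hm2, ⟨e⟩⟩))
    have : Finite (PSp m F) := Finite.of_equiv G e.toEquiv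
    exact (row_PSp hm (by rw [Nat.card_eq_fintype_card]; exact hm2) hp hpF (tr e)).of_mulEquiv
      hp e.symm
  · obtain ⟨F, i1, i2, n, q, hF, hn, hn3, ⟨e⟩⟩ := h
    have hpF : (p : F) ≠ 0 := fun h0 => hchar (Or.inr (Or.inr (Or.inl
      ⟨F, i1, i2, charP_of hp h0, n, q, hF, hn, hn3, ⟨e⟩⟩)))
    have : Finite (PSU n F q) := Finite.of_equiv G e.toEquiv
    rcases Nat.lt_or_ge n 4 with h4 | h4
    · have h3 : n = 3 := by omega
      subst h3
      have hq2 : 2 ≤ q := by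
        have h1 := Fintype.one_lt_card (α := F)
        rw [hF] at h1
        by_contra hlt
        push Not at hlt
        interval_cases q <;> omega
      have hq3 : 3 ≤ q := by
        rcases Nat.lt_or_ge q 3 with h6 | h6
        · exact absurd ⟨rfl, by omega⟩ hn3
        · exact h6
      have hpq : ¬ p ∣ q := by
        intro h
        have h1 := not_dvd_card hp hpF
        apply h1
        rw [Nat.card_eq_fintype_card, hF]
        exact dvd_pow h two_ne_zero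
      refine (H398.FPR.PsuThree.row_psu_three hF hq3 hpq ?_).of_mulEquiv hp e.symm
      intro hp2 P hP
      obtain ⟨Q, hQ⟩ := (tr e).resolve_left hp2
      exact hQ (isCyclic_of_surjective (P.equiv Q) (P.equiv Q).surjective)
    · exact (row_PSU hF h4 hp hpF (tr e)).of_mulEquiv hp e.symm
  · obtain ⟨F, i1, i2, m, hm, hodd, ⟨e⟩⟩ := h
    have hpF : (p : F) ≠ 0 := fun h0 => hchar (Or.inr (Or.inr (Or.inr (Or.inl
      ⟨F, i1, i2, charP_of hp h0, m, hm, hodd, ⟨e⟩⟩))))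
    have : Finite (POmega F (quadFormOdd m F)) := Finite.of_equiv G e.toEquiv
    exact (row_POmegaOdd hm hodd hp hpF (tr e)).of_mulEquiv hp e.symm
  · obtain ⟨F, i1, i2, m, hm, ⟨e⟩⟩ := h
    have hpF : (p : F) ≠ 0 := fun h0 => hchar (Or.inr (Or.inr (Or.inr (Or.inr (Or.inl
      ⟨F, i1, i2, charP_of hp h0, m, hm, ⟨e⟩⟩)))))
    have : Finite (POmega F (quadFormPlus m F)) := Finite.of_equiv G e.toEquiv
    exact (row_POmegaPlus hm hp hpF (tr e)).of_mulEquiv hp e.symm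
  · obtain ⟨F, i1, i2, m, a, b, hm, hab, ⟨e⟩⟩ := h
    have hpF : (p : F) ≠ 0 := fun h0 => hchar (Or.inr (Or.inr (Or.inr (Or.inr (Or.inr (Or.inl
      ⟨F, i1, i2, charP_of hp h0, m, a, b, hm, hab, ⟨e⟩⟩))))))
    have : Finite (POmega F (quadFormMinus (m - 1) F a b)) := Finite.of_equiv G e.toEquiv
    exact (row_POmegaMinus hm hab hp hpF (tr e)).of_mulEquiv hp e.symm

end Cfsg.Agent.H110.Fpr
end

-- part: H110/Fpr/SharpU
section
/-!
# The rows of S3578: unitary groups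
-/

set_option autoImplicit false

namespace Cfsg.Agent.H110.Fpr

open Cfsg Cfsg.Agent.LieClassical.HermBasic Cfsg.Agent.LieClassical.HermSiegel
open Cfsg.Agent.LieClassical.HermGen
open Cfsg.Agent.TitsThree.Siegel Cfsg.Agent.TitsThree.SiegelGen Cfsg.Agent.TitsThree.KSideU
open Cfsg.Agent.H398.FPR Cfsg.Agent.H409

/-- powers of the Frobenius map acting trivially -/
theorem frob_fix {F : Type*} [Field F] [Finite F] {r N n : ℕ} (hr : r.Prime)
    (hN : Nat.card F = r ^ N) (h : ∀ c : F, c ^ r ^ n = c) : N ∣ n := by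
  have := Fintype.ofFinite F
  classical
  obtain ⟨g, hg⟩ := IsCyclic.exists_generator (α := Fˣ)
  have ho : orderOf g = r ^ N - 1 := by
    rw [orderOf_eq_card_of_forall_mem_zpowers hg, Nat.card_eq_fintype_card, Fintype.card_units,
      ← Nat.card_eq_fintype_card, hN]
  have h1 : r ^ N - 1 ∣ r ^ n - 1 := by
    rw [← ho]
    apply orderOf_dvd_of_pow_eq_one
    apply Units.ext
    have h2 := h g
    have h3 : (g : F) ^ (r ^ n - 1) * g = 1 * g := by
      rw [← pow_succ, Nat.sub_add_cancel (Nat.one_le_pow _ _ hr.pos), h2, one_mul]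
    rw [Units.val_pow_eq_pow_val, Units.val_one]
    exact mul_right_cancel₀ g.ne_zero h3
  have h2 := Nat.mod_eq_zero_of_dvd h1
  rw [Nat.pow_sub_one_mod_pow_sub_one] at h2
  apply Nat.dvd_of_mod_eq_zero
  by_contra h3
  have h4 : 1 < r ^ (n % N) := Nat.one_lt_pow h3 hr.one_lt
  omega

theorem frob_eq {F : Type*} [Field F] [Finite F] {r N i j : ℕ} (hr : r.Prime)
    (hN : Nat.card F = r ^ N) [CharP F r] (h : ∀ c : F, c ^ r ^ i = c ^ r ^ j) (hij : i ≤ j) :
    N ∣ j - i := by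
  have := Fact.mk hr
  apply frob_fix hr hN
  intro c
  have h1 := h c
  have h2 : (c ^ r ^ (j - i)) ^ r ^ i = c ^ r ^ i := by
    rw [← pow_mul, ← pow_add, Nat.sub_add_cancel hij, h1]
  have h3 : Function.Injective (iterateFrobenius F r i) := iterateFrobenius_inj F r i
  exact h3 h2

variable {F : Type*} [Field F] [Fintype F] {q N : ℕ}

theorem mem_SG_of_pow (hF : Fintype.card F = q ^ 2) (hN : 3 ≤ N) {p : ℕ} (hp : p.Prime)
    (hpq : ¬ p ∣ q + 1) {y : (Fin N → F) ≃ₗ[F] (Fin N → F)} (hy : (HU hF N).IsIso y)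
    (hyp : y ^ p = 1) : y ∈ SG (PU hF N) := by
  rw [SG_PU hF hN]
  obtain ⟨M, hM⟩ : ∃ M, M = LinearMap.toMatrix' (y : (Fin N → F) →ₗ[F] (Fin N → F)) := ⟨_, rfl⟩
  have hMv : ∀ v, Matrix.mulVec M v = y v := by
    intro v
    rw [hM, LinearMap.toMatrix'_mulVec]
    rfl
  have hiso : ∀ u v : Fin N → F, hermForm N F q (Matrix.mulVec M u) (Matrix.mulVec M v) =
      hermForm N F q u v := by
    intro u v
    rw [hMv, hMv]
    exact hy u v
  have h1 := Cfsg.Agent.LieClassical.GUOrder.det_mul_frob_det hF M hiso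
  have hpow : M ^ p = 1 := by
    have h2 : ∀ n : ℕ, M ^ n = LinearMap.toMatrix' ((y ^ n : (Fin N → F) ≃ₗ[F] (Fin N → F)) :
        (Fin N → F) →ₗ[F] (Fin N → F)) := by
      intro n
      induction n with
      | zero =>
        rw [pow_zero, pow_zero]
        exact LinearMap.toMatrix'_one.symm
      | succ n ih =>
        rw [pow_succ, ih, hM, ← LinearMap.toMatrix'_mul, pow_succ]
        rfl
    rw [h2, hyp]
    exact LinearMap.toMatrix'_one
  have h2 : M.det ^ p = 1 := by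
    rw [← Matrix.det_pow, hpow, Matrix.det_one]
  have hdet : M.det = 1 := by
    have h3 : orderOf M.det ∣ p := orderOf_dvd_of_pow_eq_one h2
    have h4 : orderOf M.det ∣ q + 1 := orderOf_dvd_of_pow_eq_one h1
    rcases (Nat.dvd_prime hp).1 h3 with h5 | h5
    · exact orderOf_eq_one_iff.1 h5
    · rw [h5] at h4
      exact absurd h4 hpq
  refine ⟨mkSU M hdet hiso, ?_⟩
  apply LinearEquiv.ext
  intro v
  rw [toLin_apply, act_def, mat_mkSU]
  exact hMv v

/-- parity of the dimension -/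
theorem odd_of_conj (hF : Fintype.card F = q ^ 2) {r : ℕ} [hrp : Fact r.Prime] [CharP F r]
    {p : ℕ} {n : ℕ} (hn : p ∣ r ^ n + 1)
    (hc : ∀ c : F, c ^ q = c ^ r ^ n) : Odd (orderOf ((Nat.card F : ℕ) : ZMod p)) := by
  obtain ⟨a, ha⟩ : ∃ a, q = r ^ a := by
    obtain ⟨k, -, hk⟩ := FiniteField.card F r
    have h1 : q ∣ r ^ (k : ℕ) := by
      rw [← hk, hF]
      exact dvd_pow_self q (by norm_num)
    obtain ⟨a, -, ha⟩ := (Nat.dvd_prime_pow hrp.out).1 h1
    exact ⟨a, ha⟩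
  have hcF : Nat.card F = q ^ 2 := by rw [Nat.card_eq_fintype_card, hF]
  have hcF' : Nat.card F = r ^ (2 * a) := by rw [hcF, ha, ← pow_mul, mul_comm]
  have ha0 : a ≠ 0 := by
    rintro rfl
    have h1 : 1 < Nat.card F := Finite.one_lt_card
    rw [hcF', mul_zero, pow_zero] at h1
    exact lt_irrefl _ h1
  -- `n ≡ a` modulo `2 a`
  obtain ⟨k, hk⟩ : ∃ k, n = a * (2 * k + 1) ∨ (n < a ∧ 2 * a ∣ a - n) := by
    rcases le_total a n with h1 | h1
    · have h2 := frob_eq (r := r) hrp.out hcF' (i := a) (j := n)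
        (fun c => by rw [← ha]; exact hc c) h1
      obtain ⟨k, hk⟩ := h2
      refine ⟨k, Or.inl ?_⟩
      have : n = 2 * a * k + a := by omega
      rw [this]; ring
    · have h2 := frob_eq (r := r) hrp.out hcF' (i := n) (j := a)
        (fun c => by rw [← ha]; exact (hc c).symm) h1
      rcases Nat.eq_or_lt_of_le h1 with h3 | h3
      · exact ⟨0, Or.inl (by rw [h3]; ring)⟩
      · exact ⟨0, Or.inr ⟨h3, h2⟩⟩
  have hk' : n = a * (2 * k + 1) := by
    rcases hk with h | ⟨h1, h2⟩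
    · exact h
    · have := Nat.le_of_dvd (by omega) h2
      omega
  have h1 : ((Nat.card F : ℕ) : ZMod p) ^ (2 * k + 1) = 1 := by
    have h2 := dvd_pow_add_one_iff.1 hn
    rw [hk', pow_mul] at h2
    rw [hcF', Nat.cast_pow, mul_comm 2 a, pow_mul, ← pow_mul, mul_comm 2, pow_mul, h2, neg_one_sq]
  exact Odd.of_dvd_nat ⟨k, rfl⟩ (orderOf_dvd_of_pow_eq_one h1)

/-- **The row of S3578 for the unitary groups**, Siegel form. -/
theorem sharp_SGU (hF : Fintype.card F = q ^ 2) (hN : 4 ≤ N) {r : ℕ}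
    [hrp : Fact r.Prime] [hr : CharP F r] {p : ℕ} (hp : p.Prime)
    (hp2 : p ≠ 2) (hpF : (p : F) ≠ 0)
    (hM : ∀ t : ℕ, t ≠ 0 → r ^ t ≡ 1 [MOD p] → 2 * p + 1 ≤ r ^ t)
    (hdvd : p ∣ Nat.card (SG (PU hF N))) :
    FprRow (p + 1) 1 p (SG (PU hF N)) ∨ ∃ e, Odd e ∧ (N = e ∨ N = e + 1) ∧
      ∀ k, p ∣ Nat.card F ^ k - 1 → e ∣ k := by
  have hfin : Finite ((Fin N → F) ≃ₗ[F] (Fin N → F)) := instFin
  have hcardF := not_dvd_card hp hpF
  have hcF : Nat.card F = q ^ 2 := by rw [Nat.card_eq_fintype_card, hF]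
  have hq1 : 1 ≤ q := q_pos hF
  have hpq : ¬ p ∣ q := by
    intro h
    apply hcardF
    rw [hcF]
    exact dvd_pow h two_ne_zero
  by_cases hd : p ∣ q ^ 2 - 1
  · left
    rcases Nat.lt_or_ge N 5 with h5 | h5
    · have h4 : N = 4 := by omega
      subst h4
      obtain ⟨t', j, k, hj, hj0, ht'⟩ := exists_good2' (F := fixF hF) hp (by
        intro h
        apply hpF
        have := congrArg (fun z : fixF hF => (z : F)) h
        simpa only [_root_.SubringClass.coe_natCast, _root_.ZeroMemClass.coe_zero] using this) (by rw [card_fixF]; exact hd)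
      obtain rfl := hj0 hp2
      have ht := ht'.map (fixF hF).subtype
      obtain ⟨t, htdef⟩ : ∃ t, t = (fixF hF).subtype t' := ⟨_, rfl⟩
      rw [← htdef] at ht
      have htq : t ^ q = t := by rw [htdef]; exact t'.2
      obtain ⟨W, hW⟩ := exists_wframe_even hF (N := 4) (m := 2) rfl
      obtain ⟨c, hc0, hc⟩ := exists_trace_zero_ne hF
      have hok : ∀ c : F, (PU hF 4).ok 0 c ↔ c + c ^ q = 0 := by
        intro c
        rw [ok_iff, herm_zero_left, neg_zero]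
      have h2q : (2 : F) ^ q = 2 := by
        have : (2 : F) = 1 + 1 := by norm_num
        rw [this, add_pow_q hF, one_pow]
      refine (data_IV_explicit (r := r) (P := PU hF 4) ht (W.e_sing 0) (W.f_sing 0)
        (by rw [W.ef, if_pos rfl]) (b := (t - 2) / c) (c := c) ?_ ((hok c).2 hc) ?_ (lam_PU hF)
        (T := Submodule.span F {W.e 1}) (T' := Submodule.span F {W.f 1}) ?_ ?_ ?_ ?_ ?_
        ⟨W.e 1, Submodule.mem_span_singleton_self _, W.f 1, Submodule.mem_span_singleton_self _,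
          by rw [W.ef, if_pos rfl]; exact one_ne_zero⟩ (fun v _ hv => nd_HU hF v hv)).sharp
          hp hrp.out (by norm_num) hM
      · rw [hok, div_pow, sub_pow_q hF, htq, h2q]
        have h1 : c ^ q = -c := by linear_combination hc
        rw [h1]
        field_simp
        ring
      · rw [HU_ε, one_mul, div_mul_cancel₀ _ hc0]
      · apply le_antisymm
        · intro v hv
          obtain ⟨a, b, w, hw, hvw⟩ := W.span v
          rw [hW, Submodule.mem_bot] at hw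
          have h1 : (HU hF 4).h v (W.e 0) = 0 := hv _ (by simp)
          have h2 : (HU hF 4).h v (W.f 0) = 0 := hv _ (by simp)
          rw [hw, add_zero, Fin.sum_univ_two, Fin.sum_univ_two] at hvw
          simp only [hvw, HForm.add_left, HForm.smul_left, W.ee, W.fe, W.ef, W.ff, Fin.isValue,
            one_ne_zero, if_false, if_true, mul_zero, add_zero, zero_add, HU_ε, mul_one] at h1 h2
          rw [hvw, h1, h2, zero_smul, zero_smul, zero_add, zero_add]
          exact Submodule.add_mem_sup (Submodule.smul_mem _ _ (Submodule.mem_span_singleton_self _))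
            (Submodule.smul_mem _ _ (Submodule.mem_span_singleton_self _))
        · refine sup_le ?_ ?_
          · rw [Submodule.span_singleton_le_iff_mem]
            rintro u (rfl | rfl)
            · exact W.ee _ _
            · rw [W.ef, if_neg (by decide)]
          · rw [Submodule.span_singleton_le_iff_mem]
            rintro u (rfl | rfl)
            · rw [W.fe, if_neg (by decide)]
            · exact W.ff _ _
      · exact span_sing (by rintro u rfl v rfl; exact W.ee _ _)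
          (by rintro u rfl; exact W.e_sing _)
      · exact span_orth (by rintro u rfl v rfl; exact W.ee _ _)
      · exact span_sing (by rintro u rfl v rfl; exact W.ff _ _)
          (by rintro u rfl; exact W.f_sing _)
      · exact span_orth (by rintro u rfl v rfl; exact W.ff _ _)
    · obtain ⟨j, -, hj0, hD⟩ := data_small (r := r) hp hpF (by
        rw [hcF]
        have := Nat.sub_dvd_pow_sub_pow (q ^ 2) 1 2
        rw [one_pow] at this
        exact hd.trans this) (κ := 2) (by norm_num)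
        (fun A hA => exists_iso_mem hF A hA) (nd_HU hF) (P := PU hF N) (by
          rw [Module.finrank_fintype_fun_eq_card, Fintype.card_fin]; exact h5)
      obtain rfl := hj0 hp2
      exact hD.sharp hp hrp.out (by norm_num) hM
  · have hp5 : 5 ≤ p := by
      by_contra hlt
      push Not at hlt
      exact hd (two_three_dvd hp hlt hpq hq1)
    have hpq1 : ¬ p ∣ q + 1 := by
      intro h
      apply hd
      have h2 : q ^ 2 - 1 = (q - 1) * (q + 1) := by
        obtain ⟨k, hk⟩ := Nat.exists_eq_add_of_le hq1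
        rw [hk]
        have : (1 + k) ^ 2 = k * (1 + k + 1) + 1 := by ring
        rw [this, Nat.add_sub_cancel, Nat.add_sub_cancel_left]
      rw [h2]
      exact Dvd.dvd.mul_left h _
    obtain ⟨x, hxK, hxp, hx1⟩ := exists_order_p hp hdvd
    obtain ⟨hxi, hxok, -⟩ := SG_iso hxK
    obtain ⟨c0, hc0, hc0'⟩ := exists_ok_ne hF (N := N)
    rcases dich (r := r) hp hp2 hpF hxi hxok hxp hx1
      (fun y hy _ hyp => mem_SG_of_pow hF (by omega) hp hpq1 hy hyp) (nd_HU hF)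
      (Or.inr ⟨c0, hc0', hc0⟩) with h | ⟨T, y, hT, hmov, hTnd, hy⟩
    · exact Or.inl (h.sharp hp hrp.out (by norm_num) hM)
    · obtain ⟨n, hn, hσ⟩ := hT.exists_conj (r := r) hp hxi hxp hTnd hmov
      have hdim : 2 ≤ Module.finrank F T := by
        apply hT.le_finrank hp hxp hmov hpF
        intro i hi hi2 h
        have h1 : i = 1 := by omega
        rw [h1, pow_one, hcF] at h
        exact hd h
      by_cases hW : ∃ w ∈ perp (HU hF N) (T : Set (Fin N → F)), w ≠ 0 ∧ (PU hF N).ok w 0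
      · left
        exact (master_N (r := r) hy (by norm_num) (fun A hA => exists_iso_mem hF A hA)
          (lam_PU hF) hdim (nd_HU hF) hW).sharp hp hrp.out (by norm_num)
          (fun t ht h => (num_N hp hp5 hrp.out ⟨n, hn⟩ ht h).1)
      · right
        refine ⟨Module.finrank F T, ?_, ?_, ?_⟩
        · rw [hT.finrank_eq hp hxp hmov hpF]
          exact odd_of_conj hF hn (fun c => by rw [← hσ c, HU_σ])
        · have h2 := finrank_add_perp hy.top hy.nd
          rw [Module.finrank_fintype_fun_eq_card, Fintype.card_fin] at h2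
          have h3 : Module.finrank F (perp (HU hF N) (T : Set (Fin N → F))) < 2 := by
            by_contra h4
            obtain ⟨w, hw, hw0, hws⟩ := exists_iso_mem hF _ (not_lt.1 h4)
            exact hW ⟨w, hw, hw0, hws⟩
          omega
        · intro k hk
          exact hT.finrank_dvd hp hxp hmov hpF hk

/-- **The row of S3578 for `PSU_n(q)`, `n ≥ 4`.** -/
theorem sharp_PSU (hF : Fintype.card F = q ^ 2) (hN : 4 ≤ N) {r : ℕ}
    [hrp : Fact r.Prime] [hr : CharP F r] {p : ℕ} (hp : p.Prime)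
    (hp2 : p ≠ 2) (hpF : (p : F) ≠ 0)
    (hM : ∀ t : ℕ, t ≠ 0 → r ^ t ≡ 1 [MOD p] → 2 * p + 1 ≤ r ^ t)
    (hdvd : p ∣ Nat.card (PSU N F q)) :
    FprRow (p + 1) 1 p (PSU N F q) ∨ ∃ e, Odd e ∧ (N = e ∨ N = e + 1) ∧
      ∀ k, p ∣ Nat.card F ^ k - 1 → e ∣ k := by
  have hfin : Finite ((Fin N → F) ≃ₗ[F] (Fin N → F)) := instFin
  have e : SG (PU hF N) ≃* SU N F q :=
    ((MonoidHom.ofInjective (toLin_injective (F := F) (q := q) (N := N))).trans
      (MulEquiv.subgroupCongr (SG_PU hF (by omega)).symm)).symm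
  let f : SG (PU hF N) →* PSU N F q :=
    (QuotientGroup.mk' (Subgroup.center (SU N F q))).comp e.toMonoidHom
  have hf : Function.Surjective f := (QuotientGroup.mk'_surjective _).comp e.surjective
  refine (sharp_SGU hF hN hp hp2 hpF hM (hdvd.trans ?_)).imp_left
    (FprRow.of_surjective hp f hf)
  exact Subgroup.card_dvd_of_surjective f hf

end Cfsg.Agent.H110.Fpr
end

-- part: H110/Fpr/SharpO
section
/-!
# The rows of S3578: orthogonal groups
-/

set_option autoImplicit false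

namespace Cfsg.Agent.H110.Fpr

open Cfsg.Agent.TitsThree.Siegel Cfsg.Agent.TitsThree.SiegelGen Cfsg.Agent.TitsThree.KSideO
open Cfsg.Agent.LieClassical Cfsg.Agent.LieClassical.OrthCore Cfsg.Agent.LieClassical.OrthFinite
open Cfsg.Agent.LieClassical.OrthForms Cfsg.Agent.LieClassical.OrthTrans
open Cfsg.Agent.H398.FPR Cfsg.Agent.H409 QuadraticMap

section

variable {F V : Type*} [Field F] [AddCommGroup V] [Module F V] {Q : QuadraticForm F V}

/-- squares of isometries -/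
theorem sq_mem_E (hG : OrthTrans.Good Q) {g : V ≃ₗ[F] V} (hg : g ∈ O Q) : g * g ∈ E Q := by
  have : FiniteDimensional F V := Module.finite_of_finrank_pos (by have := hG.dim; omega)
  rw [O_eq_closure hG.nondeg] at hg
  have key : g ∈ O Q ∧ g * g ∈ E Q := by
    induction hg using Subgroup.closure_induction with
    | mem x hx =>
      rcases hx with ⟨v, hv, rfl⟩ | ⟨u, w, hu, hw, rfl⟩
      · refine ⟨refl_mem_O hv, ?_⟩
        rw [refl_mul_self hv]
        exact (E Q).one_mem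
      · have h1 := siegel_mem_E hu hw
        exact ⟨E_le_O h1, (E Q).mul_mem h1 h1⟩
    | one => exact ⟨(O Q).one_mem, by rw [mul_one]; exact (E Q).one_mem⟩
    | mul x y _ _ hx hy =>
      refine ⟨(O Q).mul_mem hx.1 hy.1, ?_⟩
      have h1 : x⁻¹ * y * x * y⁻¹ ∈ E Q := by
        apply hG.commutator_le_E
        have := Subgroup.commutator_mem_commutator ((O Q).inv_mem hx.1) hy.1
        rwa [commutatorElement_def, inv_inv] at this
      have h2 : x * y * (x * y) = x * x * (x⁻¹ * y * x * y⁻¹) * (y * y) := by group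
      rw [h2]
      exact (E Q).mul_mem ((E Q).mul_mem hx.2 h1) hy.2
    | inv x _ hx =>
      refine ⟨(O Q).inv_mem hx.1, ?_⟩
      have h2 : x⁻¹ * x⁻¹ = (x * x)⁻¹ := by group
      rw [h2]
      exact (E Q).inv_mem hx.2
  exact key.2

theorem mem_E_of_pow (hG : OrthTrans.Good Q) {g : V ≃ₗ[F] V} (hg : g ∈ O Q) {p : ℕ}
    (hodd : Odd p) (hp : g ^ p = 1) : g ∈ E Q := by
  obtain ⟨k, hk⟩ := hodd
  have h1 : g = (g * g) ^ (k + 1) := by
    rw [← pow_two, ← pow_mul, mul_add, mul_one]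
    have h2 : 2 * k + 2 = p + 1 := by omega
    rw [h2, pow_succ, hp, one_mul]
  rw [h1]
  exact (E Q).pow_mem (sq_mem_E hG hg) _

/-- counting fixed points of `y` on the singular vectors -/
theorem card_sing_mod [Finite V] {p : ℕ} (hp : p.Prime) {y : V ≃ₗ[F] V} (hy : y ∈ O Q)
    (hyp : y ^ p = 1) (hfix : ∀ v, Q v = 0 → y v = v → v = 0) :
    Nat.card {v : V // Q v = 0} ≡ 1 [MOD p] := by
  classical
  have := Fact.mk hp
  have := Fintype.ofFinite V
  let f : Function.End {v : V // Q v = 0} := fun v => ⟨y v, by rw [mem_O.1 hy]; exact v.2⟩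
  have hf : ∀ n : ℕ, ∀ v, (((f ^ n : Function.End {v : V // Q v = 0}) v :
      {v : V // Q v = 0}) : V) = (y ^ n) v := by
    intro n
    induction n with
    | zero => intro v; rfl
    | succ n ih =>
      intro v
      rw [pow_succ, pow_succ]
      change (((f ^ n : Function.End {v : V // Q v = 0}) (f v) : {v : V // Q v = 0}) : V) =
        (y ^ n) (y v)
      rw [ih]
  have hfp : f ^ p ^ 1 = 1 := by
    funext v
    apply Subtype.ext
    rw [pow_one, hf p v, hyp]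
    rfl
  have h1 := Equiv.Perm.card_fixedPoints_modEq hfp
  rw [Nat.card_eq_fintype_card]
  have h2 : Fintype.card f.fixedPoints = 1 := by
    rw [Fintype.card_eq_one_iff]
    refine ⟨⟨⟨0, QuadraticMap.map_zero _⟩, Subtype.ext (map_zero y)⟩, ?_⟩
    rintro ⟨⟨v, hv⟩, hv'⟩
    have h3 : f ⟨v, hv⟩ = ⟨v, hv⟩ := hv'
    have h4 : v = 0 := hfix v hv (congrArg Subtype.val h3)
    exact Subtype.ext (Subtype.ext h4)
  rwa [h2] at h1

/-- **The row of S3578 for the orthogonal groups, `E Q`.** -/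
theorem sharp_EQ [Finite F] [Finite V] (hQ : Nondeg Q) (hd : 5 ≤ Module.finrank F V) {r : ℕ}
    [hrp : Fact r.Prime] [hr : CharP F r] {p : ℕ} (hp : p.Prime)
    (hp2 : p ≠ 2) (hpF : (p : F) ≠ 0)
    (hM : ∀ t : ℕ, t ≠ 0 → r ^ t ≡ 1 [MOD p] → 2 * p + 1 ≤ r ^ t)
    (hdvd : p ∣ Nat.card (E Q)) :
    FprRow (p + 1) 1 p (E Q) ∨ ∃ s, (Module.finrank F V = 2 * s ∨ Module.finrank F V = 2 * s + 1 ∨
      Module.finrank F V = 2 * s + 2) ∧ (∀ k, p ∣ Nat.card F ^ k - 1 → 2 * s ∣ k) ∧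
      ((Nat.card F : ℕ) : ZMod p) ^ s = -1 ∧ Nat.card {v : V // Q v = 0} ≡ 1 [MOD p] := by
  have hfin : Finite (V ≃ₗ[F] V) := Finite.of_injective (fun f : V ≃ₗ[F] V => (f : V → V))
    DFunLike.coe_injective
  have hG := good_of_finite hQ hd
  have hodd := hp.odd_of_ne_two hp2
  have hND : ∀ v : V, v ≠ 0 → ∃ w, (HO Q).h v w ≠ 0 := by
    intro v hv
    by_contra hcon
    push Not at hcon
    exact hv (hQ v hcon)
  have hκ : ∀ A : Submodule F V, 3 ≤ Module.finrank F A → ∃ w ∈ A, w ≠ 0 ∧ (PO Q).ok w 0 := by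
    intro A hA
    obtain ⟨w, hw, hw0, hQw⟩ := exists_sing_mem (Q := Q) A hA
    exact ⟨w, hw, hw0, (sing_iff Q).2 hQw⟩
  have hlam : ∀ c, (PO Q).ok 0 c → ∃ m, c = m - (HO Q).ε⁻¹ * (HO Q).σ m := by
    intro c hc
    have hc' : c = -Q 0 := hc
    rw [QuadraticMap.map_zero, neg_zero] at hc'
    exact ⟨0, by rw [hc']; simp⟩
  rw [← SG_PO] at hdvd ⊢
  by_cases hd2 : p ∣ (Nat.card F) ^ 2 - 1
  · left
    obtain ⟨j, -, hj0, hD⟩ := data_small (r := r) hp hpF hd2 le_rfl hκ hND hd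
    obtain rfl := hj0 hp2
    exact hD.sharp hp hrp.out (by norm_num) hM
  · have hcardF := not_dvd_card hp hpF
    have hp5 : 5 ≤ p := by
      by_contra hlt
      push Not at hlt
      exact hd2 (two_three_dvd hp hlt hcardF Nat.card_pos)
    have hok_iff : ∀ y : V ≃ₗ[F] V, (∀ w c, (PO Q).ok w c → (PO Q).ok (y w) c) → y ∈ O Q := by
      intro y hy
      rw [mem_O]
      intro v
      have h1 : -Q v = -Q (y v) := hy v (-Q v) rfl
      exact (neg_injective h1).symm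
    obtain ⟨x, hxK, hxp, hx1⟩ := exists_order_p hp hdvd
    obtain ⟨hxi, hxok, -⟩ := SG_iso hxK
    rcases dich (r := r) hp hp2 hpF hxi hxok hxp hx1
      (fun y _ hyok hyp => by
        rw [SG_PO]
        exact mem_E_of_pow hG (hok_iff y hyok) hodd hyp) hND
      (Or.inl fun T hT hTU => by
        refine three_le_of_min hp hpF hd2 hxp hT ?_
        obtain ⟨v, hv, hv0⟩ := (Submodule.ne_bot_iff T).1 hT.ne
        exact ⟨v, hv, fun h => hv0 (eq_zero_of_mem hpF (hTU hv) h)⟩)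
      with h | ⟨T, y, hT, hmov, hTnd, hy⟩
    · exact Or.inl (h.sharp hp hrp.out (by norm_num) hM)
    · obtain ⟨n, hn, hσ⟩ := hT.exists_conj (r := r) hp hxi hxp hTnd hmov
      have hdim := three_le_of_min hp hpF hd2 hxp hT hmov
      by_cases hW : ∃ w ∈ perp (HO Q) (T : Set V), w ≠ 0 ∧ (PO Q).ok w 0
      · left
        by_cases h25 : r = 2 ∧ p = 5
        · obtain ⟨rfl, rfl⟩ := h25
          refine sharp_N (r := 2) hp hy ?_ hκ hlam hdim hND
            (fun t ht h => (num_N hp hp5 hrp.out ⟨n, hn⟩ ht h).1) hW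
          intro v
          change polar Q v v = 0
          rw [polar_self']
          have h2 : (2 : F) = 0 := by exact_mod_cast CharP.cast_eq_zero F 2
          rw [h2, zero_mul]
        · exact (master_N (r := r) hy (by norm_num) hκ hlam hdim hND hW).sharp hp hrp.out
            (by norm_num) (fun t ht h => ((num_N hp hp5 hrp.out ⟨n, hn⟩ ht h).2).resolve_right h25)
      · right
        -- the order is even
        have hcF : ∃ N : ℕ, Nat.card F = r ^ N := by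
          have := Fintype.ofFinite F
          obtain ⟨k, -, hk⟩ := FiniteField.card F r
          exact ⟨k, by rw [Nat.card_eq_fintype_card, hk]⟩
        obtain ⟨N, hN⟩ := hcF
        obtain ⟨k, hk⟩ := frob_fix (F := F) hrp.out hN (fun c => (hσ c).symm)
        have h1 : ((Nat.card F : ℕ) : ZMod p) ^ k = -1 := by
          have h2 := dvd_pow_add_one_iff.1 hn
          rw [hN, Nat.cast_pow, ← pow_mul, ← hk]
          exact h2
        obtain ⟨s, hs, hs1⟩ := even_orderOf hp hp2 h1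
        have hfr := hT.finrank_eq hp hxp hmov hpF
        rw [hs] at hfr
        refine ⟨s, ?_, ?_, hs1, ?_⟩
        · have h2 := finrank_add_perp hy.top hy.nd
          have h3 : Module.finrank F (perp (HO Q) (T : Set V)) < 3 := by
            by_contra h4
            obtain ⟨w, hw, hw0, hws⟩ := hκ _ (not_lt.1 h4)
            exact hW ⟨w, hw, hw0, hws⟩
          omega
        · intro k hk
          rw [← hfr]
          exact hT.finrank_dvd hp hxp hmov hpF hk
        · obtain ⟨hyi, hyok, -⟩ := SG_iso hy.mem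
          refine card_sing_mod hp (hok_iff y hyok) hy.pow ?_
          intro v hv hyv
          have hvT : v ∈ T ⊔ perp (HO Q) (T : Set V) := by rw [hy.top]; trivial
          obtain ⟨t, ht, m, hm, rfl⟩ := Submodule.mem_sup.1 hvT
          rw [map_add, hy.fix m hm, add_left_inj] at hyv
          -- `t = 0`
          have ht0 : t = 0 := by
            by_contra ht0
            -- fixed vectors of `y` in `T` are orthogonal to `T`
            obtain ⟨w, hw, htw⟩ := hy.nd t ht ht0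
            obtain ⟨w', hw', rfl⟩ := hy.surj w hw
            apply htw
            rw [(HO Q).sub_right]
            have h3 := hyi t w'
            rw [hyv] at h3
            rw [h3, sub_self]
          rw [ht0, zero_add] at hv ⊢
          by_contra hm0
          exact hW ⟨m, hm, hm0, (sing_iff Q).2 hv⟩

end

section Matrix

variable {ι : Type} [Fintype ι] [DecidableEq ι] {F : Type*} [Field F] [Finite F]
  {Q : QuadraticForm F (ι → F)}

/-- **The row for `PΩ(Q)`**, `Q` nondegenerate in dimension at least five. -/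
theorem sharp_POmega (hQ : Nondeg Q) (hd : 5 ≤ Module.finrank F (ι → F)) {r : ℕ}
    [hrp : Fact r.Prime] [hr : CharP F r] {p : ℕ} (hp : p.Prime)
    (hp2 : p ≠ 2) (hpF : (p : F) ≠ 0)
    (hM : ∀ t : ℕ, t ≠ 0 → r ^ t ≡ 1 [MOD p] → 2 * p + 1 ≤ r ^ t)
    (hdvd : p ∣ Nat.card (Cfsg.POmega F ⇑Q)) :
    FprRow (p + 1) 1 p (Cfsg.POmega F ⇑Q) ∨ ∃ s, (Module.finrank F (ι → F) = 2 * s ∨
      Module.finrank F (ι → F) = 2 * s + 1 ∨ Module.finrank F (ι → F) = 2 * s + 2) ∧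
      (∀ k, p ∣ Nat.card F ^ k - 1 → 2 * s ∣ k) ∧
      ((Nat.card F : ℕ) : ZMod p) ^ s = -1 ∧ Nat.card {v : ι → F // Q v = 0} ≡ 1 [MOD p] := by
  have hG := good_of_finite hQ hd
  have : Finite ((ι → F) ≃ₗ[F] (ι → F)) := instFin
  refine (sharp_EQ hQ hd hp hp2 hpF hM (hdvd.trans ?_)).imp_left
    (FprRow.of_surjective hp (toPOmega hG) (toPOmega_surjective hG))
  exact Subgroup.card_dvd_of_surjective _ (toPOmega_surjective hG)

end Matrix

/-- **The row of S3578 for `PΩ_{2m+1}(q)`**. -/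
theorem sharp_POmegaOdd {F : Type} [Field F] [Fintype F] {m : ℕ} (hm : 3 ≤ m)
    (hodd : Odd (Fintype.card F)) {r : ℕ}
    [hrp : Fact r.Prime] [hr : CharP F r] {p : ℕ} (hp : p.Prime)
    (hp2 : p ≠ 2) (hpF : (p : F) ≠ 0)
    (hM : ∀ t : ℕ, t ≠ 0 → r ^ t ≡ 1 [MOD p] → 2 * p + 1 ≤ r ^ t)
    (hdvd : p ∣ Nat.card (Cfsg.POmega F (Cfsg.quadFormOdd m F))) :
    FprRow (p + 1) 1 p (Cfsg.POmega F (Cfsg.quadFormOdd m F)) ∨
      ∀ k, p ∣ Nat.card F ^ k - 1 → 2 * m ∣ k := by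
  rw [← coe_oddForm] at hdvd ⊢
  have h2 : (2 : F) ≠ 0 := by
    intro h
    have h3 : CharP F 2 := by
      have := CharTwo.of_one_ne_zero_of_two_eq_zero (R := F) one_ne_zero h
      exact this
    have h4 := (FiniteField.even_card_iff_char_two (F := F)).1 (ringChar.eq F 2)
    rw [← Nat.even_iff] at h4
    exact (Nat.not_even_iff_odd.2 hodd) h4
  have hfr : Module.finrank F (Unit ⊕ (Fin m ⊕ Fin m) → F) = 2 * m + 1 := by
    rw [Module.finrank_fintype_fun_eq_card, Fintype.card_sum, Fintype.card_sum, Fintype.card_fin,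
      Fintype.card_unit]
    omega
  rcases sharp_POmega (nondeg_oddForm m F h2) (by omega) hp hp2 hpF hM hdvd with h |
    ⟨s, hs, hk, -, -⟩
  · exact Or.inl h
  · right
    rw [hfr] at hs
    have : s = m := by omega
    rwa [this] at hk

theorem not_of_pow {p q s : ℕ} (hp : p.Prime) (hp2 : p ≠ 2) (hq : 1 ≤ q) (hs : 1 ≤ s)
    (hk : ∀ k, p ∣ q ^ k - 1 → 2 * s ∣ k) : (q : ZMod p) ≠ 1 ∧ (2 : ZMod p) ≠ 0 := by
  have := Fact.mk hp
  refine ⟨fun h => ?_, fun h => ?_⟩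
  · have h1 := hk 1 ((dvd_pow_sub_one_iff hq).2 (by rw [pow_one, h]))
    have := Nat.le_of_dvd one_pos h1
    omega
  · have h1 : ((2 : ℕ) : ZMod p) = 0 := by exact_mod_cast h
    rw [ZMod.natCast_eq_zero_iff] at h1
    exact hp2 ((Nat.prime_dvd_prime_iff_eq hp Nat.prime_two).1 h1)

/-- **The row of S3578 for `PΩ⁺_{2m}(q)`**. -/
theorem sharp_POmegaPlus {F : Type} [Field F] [Fintype F] {m : ℕ} (hm : 4 ≤ m) {r : ℕ}
    [hrp : Fact r.Prime] [hr : CharP F r] {p : ℕ} (hp : p.Prime)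
    (hp2 : p ≠ 2) (hpF : (p : F) ≠ 0)
    (hM : ∀ t : ℕ, t ≠ 0 → r ^ t ≡ 1 [MOD p] → 2 * p + 1 ≤ r ^ t)
    (hdvd : p ∣ Nat.card (Cfsg.POmega F (Cfsg.quadFormPlus m F))) :
    FprRow (p + 1) 1 p (Cfsg.POmega F (Cfsg.quadFormPlus m F)) ∨
      ∀ k, p ∣ Nat.card F ^ k - 1 → 2 * m - 2 ∣ k := by
  classical
  rw [← coe_plusForm] at hdvd ⊢
  have hfr : Module.finrank F (Fin m ⊕ Fin m → F) = 2 * m := finrank_sp
  rcases sharp_POmega (nondeg_plusForm m F) (by omega) hp hp2 hpF hM hdvd with h |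
    ⟨s, hs, hk, hs1, hc⟩
  · exact Or.inl h
  · right
    rw [hfr] at hs
    have := Fact.mk hp
    obtain ⟨hq1, h20⟩ := not_of_pow hp hp2 Nat.card_pos (by omega) hk
    have hsm : s ≠ m := by
      rintro rfl
      have h1 := Cfsg.Agent.LieClassical.QuadCount.card_plus (F := F) s 0
      rw [if_pos rfl, ← Nat.card_eq_fintype_card, ← coe_plusForm] at h1
      have h2 : ((Nat.card {v : Fin s ⊕ Fin s → F // (plusForm s F) v = 0} : ℕ) : ZMod p) = 1 := by
        have := (ZMod.natCast_eq_natCast_iff _ _ _).2 hc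
        rwa [Nat.cast_one] at this
      have h3 := congrArg (Nat.cast : ℕ → ZMod p) h1
      push_cast at h3
      rw [h2, mul_comm 2 s, pow_mul, pow_succ _ s, hs1] at h3
      apply hq1
      have h4 : (2 : ZMod p) * ((Nat.card F : ℕ) - 1) = 0 := by linear_combination h3
      rcases mul_eq_zero.1 h4 with h5 | h5
      · exact absurd h5 h20
      · exact sub_eq_zero.1 h5
    have h2s : 2 * s = 2 * m - 2 := by omega
    rwa [h2s] at hk

/-- **The row of S3578 for `PΩ⁻_{2m}(q)`**. -/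
theorem sharp_POmegaMinus {F : Type} [Field F] [Fintype F] {m : ℕ} (hm : 4 ≤ m) {a b : F}
    (hab : ∀ z₁ z₂ : F, z₁ ^ 2 + a * z₁ * z₂ + b * z₂ ^ 2 = 0 → z₁ = 0 ∧ z₂ = 0) {r : ℕ}
    [hrp : Fact r.Prime] [hr : CharP F r] {p : ℕ} (hp : p.Prime)
    (hp2 : p ≠ 2) (hpF : (p : F) ≠ 0)
    (hM : ∀ t : ℕ, t ≠ 0 → r ^ t ≡ 1 [MOD p] → 2 * p + 1 ≤ r ^ t)
    (hdvd : p ∣ Nat.card (Cfsg.POmega F (Cfsg.quadFormMinus (m - 1) F a b))) :
    FprRow (p + 1) 1 p (Cfsg.POmega F (Cfsg.quadFormMinus (m - 1) F a b)) ∨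
      ∀ k, p ∣ Nat.card F ^ k - 1 → 2 * m ∣ k := by
  classical
  rw [← coe_minusForm] at hdvd ⊢
  have hfr : Module.finrank F ((Fin (m - 1) ⊕ Fin (m - 1)) ⊕ Fin 2 → F) = 2 * m := by
    rw [Module.finrank_fintype_fun_eq_card, Fintype.card_sum, Fintype.card_sum, Fintype.card_fin,
      Fintype.card_fin]
    omega
  rcases sharp_POmega (nondeg_minusForm (m - 1) F a b hab) (by omega) hp hp2 hpF hM hdvd with h |
    ⟨s, hs, hk, hs1, hc⟩
  · exact Or.inl h
  · right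
    rw [hfr] at hs
    have := Fact.mk hp
    obtain ⟨hq1, h20⟩ := not_of_pow hp hp2 Nat.card_pos (by omega) hk
    have hsm : s ≠ m - 1 := by
      intro hsm
      rw [← hsm] at hc
      have h1 := Cfsg.Agent.LieClassical.QuadCount.card_sum (F := F) s
        (fun z : Fin 2 → F => z 0 ^ 2 + a * z 0 * z 1 + b * z 1 ^ 2)
      have h0 : Nat.card {w : Fin 2 → F // w 0 ^ 2 + a * w 0 * w 1 + b * w 1 ^ 2 = 0} = 1 := by
        rw [Nat.card_eq_one_iff_unique]
        refine ⟨⟨fun u v => ?_⟩, ⟨0, by simp⟩⟩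
        have key : ∀ u : {w : Fin 2 → F // w 0 ^ 2 + a * w 0 * w 1 + b * w 1 ^ 2 = 0},
            (u : Fin 2 → F) = 0 := by
          intro u
          obtain ⟨h3, h4⟩ := hab _ _ u.2
          funext i
          fin_cases i
          · exact h3
          · exact h4
        exact Subtype.ext ((key u).trans (key v).symm)
      have hN : Nat.card {p : (Fin s ⊕ Fin s → F) × (Fin 2 → F) // Cfsg.quadFormPlus s F p.1 +
          (p.2 0 ^ 2 + a * p.2 0 * p.2 1 + b * p.2 1 ^ 2) = 0} =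
          Nat.card {v : (Fin s ⊕ Fin s) ⊕ Fin 2 → F // (minusForm s F a b) v = 0} := by
        symm
        refine Nat.card_congr ((Equiv.sumArrowEquivProdArrow (Fin s ⊕ Fin s) (Fin 2) F).subtypeEquiv
          ?_)
        intro v
        rw [coe_minusForm]
        rfl
      rw [h0, hN, one_mul, ← Nat.card_eq_fintype_card, ← Nat.card_eq_fintype_card,
        Nat.card_fun, Nat.card_fin] at h1
      have h2 : ((Nat.card {v : (Fin s ⊕ Fin s) ⊕ Fin 2 → F // (minusForm s F a b) v = 0} : ℕ) :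
          ZMod p) = 1 := by
        have := (ZMod.natCast_eq_natCast_iff _ _ _).2 hc
        rwa [Nat.cast_one] at this
      have h3 := congrArg (Nat.cast : ℕ → ZMod p) h1
      push_cast at h3
      rw [h2, mul_comm 2 s, pow_mul, pow_succ _ s, hs1] at h3
      have hq0 : ((Nat.card F : ℕ) : ZMod p) ≠ 0 := by
        rw [Ne, ZMod.natCast_eq_zero_iff]
        exact not_dvd_card hp hpF
      apply hq1
      have h4 : (2 : ZMod p) * (((Nat.card F : ℕ) : ZMod p) * ((Nat.card F : ℕ) - 1)) = 0 := by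
        linear_combination -h3
      rcases mul_eq_zero.1 h4 with h5 | h5
      · exact absurd h5 h20
      · exact sub_eq_zero.1 ((mul_eq_zero.1 h5).resolve_left hq0)
    have h2s : s = m := by (clear * - hs hsm; omega)
    rwa [h2s] at hk

end Cfsg.Agent.H110.Fpr
end

-- part: H452/FprSpFour
section
/-!
# `PSp_{2m}(q)`, `q ≥ 8` even, `3 ∣ q + 1`, `p = 3`
-/

set_option autoImplicit false

namespace Cfsg.Agent.H452.FprSpFour

open Cfsg Cfsg.Agent.H398.FPR Cfsg.Agent.H110.Fpr Cfsg.Agent.H409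
open Cfsg.Agent.TitsThree.Siegel Cfsg.Agent.TitsThree.SiegelGen
open Cfsg.Agent.TitsThree.SpIdent Cfsg.Agent.TitsThree.SpGen Cfsg.Agent.H452.FprJ1
open Cfsg.Agent.H452.FprTTRow

section

variable {F : Type*} [Field F] {V : Type*} [AddCommGroup V] [Module F V]
variable {H : HForm F V} {e f : V}

/-- The matrix `A` on the plane `⟨e, f⟩`. -/
def phiL (H : HForm F V) (e f : V) (A : Matrix (Fin 2) (Fin 2) F) : V →ₗ[F] V where
  toFun v := v + ((A 0 0 - 1) * H.h v f + A 0 1 * H.h v e) • e +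
    (A 1 0 * H.h v f + (A 1 1 - 1) * H.h v e) • f
  map_add' v w := by
    rw [H.add_left, H.add_left]; module
  map_smul' c v := by
    rw [H.smul_left, H.smul_left, RingHom.id_apply]; module

theorem phiL_apply (A : Matrix (Fin 2) (Fin 2) F) (v : V) : phiL H e f A v =
    v + ((A 0 0 - 1) * H.h v f + A 0 1 * H.h v e) • e +
    (A 1 0 * H.h v f + (A 1 1 - 1) * H.h v e) • f := rfl

theorem phiL_one : phiL H e f 1 = 1 := by
  ext v
  rw [phiL_apply]
  simp

theorem phiL_mul (hA : Alt2 H) (hef : H.h e f = 1) (A B : Matrix (Fin 2) (Fin 2) F) :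
    phiL H e f (A * B) = phiL H e f A * phiL H e f B := by
  have hfe : H.h f e = 1 := by rw [hA.comm e f, hef]
  ext v
  change _ = phiL H e f A (phiL H e f B v)
  rw [phiL_apply, phiL_apply A, phiL_apply B]
  simp only [H.add_left, H.smul_left, hA.alt, hef, hfe, Matrix.mul_apply, Fin.sum_univ_two,
    mul_zero, add_zero, mul_one]
  module

/-- The homomorphism to linear endomorphisms. -/
def phiE (hA : Alt2 H) (hef : H.h e f = 1) :
    Matrix.SpecialLinearGroup (Fin 2) F →* (V →ₗ[F] V) where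
  toFun A := phiL H e f A
  map_one' := by
    rw [Matrix.SpecialLinearGroup.coe_one]
    exact phiL_one
  map_mul' A B := by
    rw [Matrix.SpecialLinearGroup.coe_mul]
    exact phiL_mul hA hef _ _

/-- The homomorphism to linear automorphisms. -/
def phi (hA : Alt2 H) (hef : H.h e f = 1) :
    Matrix.SpecialLinearGroup (Fin 2) F →* (V ≃ₗ[F] V) :=
  (LinearMap.GeneralLinearGroup.generalLinearEquiv F V).toMonoidHom.comp
    (phiE hA hef).toHomUnits

theorem phi_apply (hA : Alt2 H) (hef : H.h e f = 1) (A : Matrix.SpecialLinearGroup (Fin 2) F)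
    (v : V) : phi hA hef A v = v + ((A 0 0 - 1) * H.h v f + A 0 1 * H.h v e) • e +
    (A 1 0 * H.h v f + (A 1 1 - 1) * H.h v e) • f := rfl

theorem phi_e (hA : Alt2 H) (hef : H.h e f = 1) (A : Matrix.SpecialLinearGroup (Fin 2) F) :
    phi hA hef A e = A 0 0 • e + A 1 0 • f := by
  rw [phi_apply, hA.alt, hef]
  module

theorem phi_f (hA : Alt2 H) (hef : H.h e f = 1) (A : Matrix.SpecialLinearGroup (Fin 2) F) :
    phi hA hef A f = A 0 1 • e + A 1 1 • f := by
  have hfe : H.h f e = 1 := by rw [hA.comm e f, hef]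
  rw [phi_apply, hA.alt, hfe]
  module

theorem phi_iso (hA : Alt2 H) (hef : H.h e f = 1) (A : Matrix.SpecialLinearGroup (Fin 2) F) :
    H.IsIso (phi hA hef A) := by
  have hfe : H.h f e = 1 := by rw [hA.comm e f, hef]
  have hdet : A 0 0 * A 1 1 - A 0 1 * A 1 0 = 1 := by
    have := A.2
    rw [Matrix.det_fin_two] at this
    exact this
  intro v w
  rw [phi_apply, phi_apply]
  simp only [H.add_left, H.add_right, H.smul_left, H.smul_right, hA.alt, hef, hfe, hA.sig,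
    hA.comm w e, hA.comm w f, mul_zero, add_zero, mul_one, zero_add]
  linear_combination (H.h v f * H.h w e + H.h v e * H.h w f) * hdet +
    ((H.h v f * H.h w e + H.h v e * H.h w f) * A 0 1 * A 1 0 +
      A 0 0 * A 1 0 * H.h v f * H.h w f + A 0 1 * A 1 1 * H.h v e * H.h w e) * hA.two

theorem phi_injective (hA : Alt2 H) (hef : H.h e f = 1) : Function.Injective (phi hA hef) := by
  have hfe : H.h f e = 1 := by rw [hA.comm e f, hef]
  intro A B hAB
  have h1 := phi_e hA hef A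
  have h2 := phi_f hA hef A
  rw [hAB, phi_e] at h1
  rw [hAB, phi_f] at h2
  have g1 := congrArg (fun v => H.h v f) h1
  have g2 := congrArg (fun v => H.h v e) h1
  have g3 := congrArg (fun v => H.h v f) h2
  have g4 := congrArg (fun v => H.h v e) h2
  simp only [H.add_left, H.smul_left, hA.alt, hef, hfe, mul_zero, mul_one, add_zero,
    zero_add] at g1 g2 g3 g4
  apply Matrix.SpecialLinearGroup.ext
  intro i j
  fin_cases i <;> fin_cases j
  · exact g1.symm
  · exact g3.symm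
  · exact g2.symm
  · exact g4.symm

end

/-- an element of order three -/
def a3 (F : Type*) [Field F] : Matrix.SpecialLinearGroup (Fin 2) F :=
  ⟨!![0, 1; -1, -1], by rw [Matrix.det_fin_two_of]; ring⟩

theorem a3_order {F : Type*} [Field F] : orderOf (a3 F) = 3 := by
  apply orderOf_eq_prime
  · apply Subtype.ext
    rw [Matrix.SpecialLinearGroup.coe_pow, Matrix.SpecialLinearGroup.coe_one]
    change (!![0, 1; -1, -1] : Matrix (Fin 2) (Fin 2) F) ^ 3 = 1
    rw [pow_succ, pow_succ, pow_one]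
    ext i j
    (revert i j; simp only [_root_.Fin.forall_fin_succ, _root_.Matrix.cons_mul, _root_.Nat.succ_eq_add_one, Nat.reduceAdd, _root_.Matrix.vecMul_cons, _root_.Matrix.head_cons, _root_.zero_smul, _root_.Matrix.tail_cons, _root_.one_smul, _root_.Matrix.empty_vecMul, _root_.add_zero, _root_.zero_add, _root_.neg_smul, _root_.Matrix.neg_cons, _root_.neg_zero, _root_.Matrix.neg_empty, _root_.neg_neg, _root_.Matrix.add_cons, _root_.neg_add_cancel, _root_.Matrix.empty_add_empty, _root_.Matrix.empty_mul, _root_.Equiv.symm_apply_apply, _root_.Matrix.of_apply, _root_.Matrix.cons_val', _root_.Matrix.cons_val_fin_one, Fin.isValue, _root_.Matrix.cons_val_zero, _root_.Matrix.cons_val_succ, _root_.IsEmpty.forall_iff, _root_.and_true, _root_.Matrix.one_apply_eq, _root_.Fin.succ_zero_eq_one, _root_.ne_eq, _root_.zero_ne_one, _root_.not_false_eq_true, _root_.Matrix.one_apply_ne, _root_.and_self, _root_.Fin.succ_ne_zero, _root_.true_and])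
  · intro h
    have h1 := congrArg (fun A : Matrix.SpecialLinearGroup (Fin 2) F => A 0 0) h
    have h2 : (0 : F) = 1 := h1
    exact zero_ne_one h2

/-- a diagonal element -/
def dg {F : Type*} [Field F] (l : F) (hl : l ≠ 0) : Matrix.SpecialLinearGroup (Fin 2) F :=
  ⟨!![l, 0; 0, l⁻¹], by rw [Matrix.det_fin_two_of, mul_inv_cancel₀ hl]; ring⟩

theorem dg_pow {F : Type*} [Field F] (l : F) (hl : l ≠ 0) (n : ℕ) (h : l ^ n = 1) :
    dg l hl ^ n = 1 := by
  have key : ∀ k : ℕ, ((dg l hl ^ k : Matrix.SpecialLinearGroup (Fin 2) F) :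
      Matrix (Fin 2) (Fin 2) F) = !![l ^ k, 0; 0, l⁻¹ ^ k] := by
    intro k
    induction k with
    | zero =>
      rw [pow_zero, Matrix.SpecialLinearGroup.coe_one]
      ext i j
      (revert i j; simp only [_root_.Fin.forall_fin_succ, _root_.pow_zero, _root_.Matrix.of_apply, _root_.Matrix.cons_val', _root_.Matrix.cons_val_fin_one, Fin.isValue, _root_.Matrix.cons_val_zero, _root_.Matrix.cons_val_succ, _root_.IsEmpty.forall_iff, _root_.and_true, _root_.Matrix.one_apply_eq, Nat.reduceAdd, _root_.Fin.succ_zero_eq_one, _root_.ne_eq, _root_.zero_ne_one, _root_.not_false_eq_true, _root_.Matrix.one_apply_ne, _root_.and_self, _root_.Fin.succ_ne_zero, _root_.true_and])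
    | succ k ih =>
      rw [pow_succ, Matrix.SpecialLinearGroup.coe_mul, ih]
      change !![l ^ k, 0; 0, l⁻¹ ^ k] * !![l, 0; 0, l⁻¹] = _
      ext i j
      (revert i j; simp [pow_succ, _root_.Fin.forall_fin_succ])
  apply Subtype.ext
  rw [key, inv_pow, h, inv_one, Matrix.SpecialLinearGroup.coe_one]
  ext i j
  (revert i j; simp only [_root_.Fin.forall_fin_succ, _root_.Matrix.of_apply, _root_.Matrix.cons_val', _root_.Matrix.cons_val_fin_one, Fin.isValue, _root_.Matrix.cons_val_zero, _root_.Matrix.cons_val_succ, _root_.IsEmpty.forall_iff, _root_.and_true, _root_.Matrix.one_apply_eq, Nat.reduceAdd, _root_.Fin.succ_zero_eq_one, _root_.ne_eq, _root_.zero_ne_one, _root_.not_false_eq_true, _root_.Matrix.one_apply_ne, _root_.and_self, _root_.Fin.succ_ne_zero, _root_.true_and])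

/-- **`PSp_{2m}(q)`, `m ≥ 2`, `q ≥ 8` even, `3 ∣ q + 1`.** -/
theorem row_PSp_minus {F : Type*} [Field F] [Finite F] {m : ℕ} (hm : 2 ≤ m)
    (heven : Even (Nat.card F)) (h8 : 8 ≤ Nat.card F) (h3 : 3 ∣ Nat.card F + 1) :
    FprRow 4 1 3 (PSp m F) := by
  classical
  have := Fintype.ofFinite F
  apply sp_of_SG Nat.prime_three
  have h2 : (2 : F) = 0 := two_eq_zero heven
  have hch : CharP F 2 := charP_two h2
  have hfin : Finite ((Fin m ⊕ Fin m → F) ≃ₗ[F] (Fin m ⊕ Fin m → F)) := instFin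
  have hA := alt_form (m := m) h2
  obtain ⟨i0, hi0⟩ : ∃ i : Fin m, i = ⟨0, by omega⟩ := ⟨_, rfl⟩
  obtain ⟨i1, hi1⟩ : ∃ i : Fin m, i = ⟨1, by omega⟩ := ⟨_, rfl⟩
  have h01 : i1 ≠ i0 := by rw [hi0, hi1]; simp
  have hef : (form m F).h (e m F i0) (f m F i0) = 1 := by rw [form_h, ef, if_pos rfl]
  obtain ⟨φ, hφ⟩ : ∃ φ, φ = phi hA hef := ⟨_, rfl⟩
  have hφS : ∀ A, φ A ∈ SG (pq m F) := by
    intro A
    rw [SG_pq, hφ]
    exact phi_iso hA hef A
  let ψ : Matrix.SpecialLinearGroup (Fin 2) F →* SG (pq m F) := φ.codRestrict _ hφS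
  have hψ : Function.Injective ψ := by
    intro A B hAB
    have h1 := congrArg Subtype.val hAB
    have h2 : φ A = φ B := h1
    rw [hφ] at h2
    exact phi_injective hA hef h2
  -- the subgroup
  have hxK : ψ (a3 F) ∈ ψ.range := ⟨_, rfl⟩
  have hK : UGood 1 7 (⟨ψ (a3 F), hxK⟩ : ψ.range) := by
    refine UGood.of_mulEquiv (MonoidHom.ofInjective hψ).symm ?_
    have h1 : (MonoidHom.ofInjective hψ).symm ⟨ψ (a3 F), hxK⟩ = a3 F := by
      rw [MulEquiv.symm_apply_eq]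
      rfl
    rw [h1]
    exact sl_ugood (by rwa [Nat.card_eq_fintype_card] at h8)
      (by rwa [Nat.card_eq_fintype_card] at h3) a3_order
  -- the second prime
  obtain ⟨r, hr, hrq⟩ := Nat.exists_prime_and_dvd (n := Nat.card F - 1) (by omega)
  obtain ⟨lam, hl1, hlr⟩ := exists_order (F := F) hr hrq
  have hl0 : lam ≠ 0 := by
    rintro rfl
    rw [zero_pow hr.ne_zero] at hlr
    exact zero_ne_one hlr
  have hr2 : r ≠ 2 := by
    rintro rfl
    obtain ⟨k, hk⟩ := heven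
    obtain ⟨l, hl⟩ := hrq
    omega
  have hl2 : lam * lam ≠ 1 := by
    intro h
    apply hl1
    have h3 : orderOf lam ∣ 2 := orderOf_dvd_of_pow_eq_one (by rw [pow_two]; exact h)
    have h4 : orderOf lam ∣ r := orderOf_dvd_of_pow_eq_one hlr
    have h5 : Nat.Coprime 2 r := (Nat.coprime_primes Nat.prime_two hr).2 hr2.symm
    exact orderOf_eq_one_iff.1 (Nat.eq_one_of_dvd_coprimes h5 h3 h4)
  have hM : ∀ t : ℕ, t ≠ 0 → 2 ^ t ≡ 1 [MOD r] → 8 ≤ 2 ^ t := by
    intro t ht h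
    by_contra hcon
    push Not at hcon
    have ht3 : t < 3 := by
      by_contra h4
      push Not at h4
      have := Nat.pow_le_pow_right (n := 2) (by norm_num) h4
      omega
    have h5 : r ∣ 2 ^ t - 1 := (Nat.modEq_iff_dvd' Nat.one_le_two_pow).1 h.symm
    have hr1 := hr.one_lt
    interval_cases t
    · exact ht rfl
    · have := Nat.le_of_dvd (by norm_num) h5
      omega
    · have h6 : r = 3 := (Nat.prime_dvd_prime_iff_eq hr Nat.prime_three).1 h5
      rw [h6] at hrq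
      omega
  obtain ⟨y, hy⟩ : ∃ y, y = φ (dg lam hl0) := ⟨_, rfl⟩
  have hyS : y ∈ SG (pq m F) := hy ▸ hφS _
  have hye : y (e m F i0) = lam • e m F i0 := by
    rw [hy, hφ, phi_e]
    change lam • e m F i0 + (0 : F) • f m F i0 = _
    rw [zero_smul, add_zero]
  have hyf : y (f m F i0) = lam⁻¹ • f m F i0 := by
    rw [hy, hφ, phi_f]
    change (0 : F) • e m F i0 + lam⁻¹ • f m F i0 = _
    rw [zero_smul, zero_add]
  have hyM : ∀ v, (form m F).h v (e m F i0) = 0 → (form m F).h v (f m F i0) = 0 → y v = v := by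
    intro v h1 h2
    rw [hy, hφ, phi_apply, h1, h2]
    simp
  have hyr : y ^ r ^ 1 = 1 := by
    rw [pow_one, hy, ← map_pow, dg_pow lam hl0 r hlr, map_one]
  have hyG : UGood 1 8 (⟨y, hyS⟩ : SG (pq m F)) := by
    refine uGood_one (m := e m F i1) (m' := f m F i1) h2 hr hM nd_form trivial trivial hef trivial
      hl0 hl2 hyS hyr hye hyf hyM ?_ ?_ ?_ ?_ ?_
    · exact ee _ _
    · rw [form_h, ef, if_neg h01]
    · rw [form_h, fe, if_neg h01]
    · exact ff _ _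
    · rw [form_h, ef, if_pos rfl]
      exact one_ne_zero
  have hyK : (⟨y, hyS⟩ : SG (pq m F)) ∈ ψ.range := ⟨dg lam hl0, Subtype.ext hy.symm⟩
  have hg := growth_uGood hxK hyK (by norm_num) hK hyG
  intro D hD
  refine ⟨ψ (a3 F), ⟨1, ?_⟩, ?_⟩
  · rw [orderOf_injective ψ hψ, a3_order, pow_one]
  · have := hg D hD
    omega

end Cfsg.Agent.H452.FprSpFour
end

-- part: H452/FprSpSix
section
/-!
# `PSp_{2m}(2)`, `m ≥ 3`, `p = 3`
-/

set_option autoImplicit false
open Subgroup MulAction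

namespace Cfsg.Agent.H452.FprSpSix

open Cfsg Cfsg.Agent.H398.FPR Cfsg.Agent.H452.FprHeis Cfsg.Agent.H452.FprTT
open Cfsg.Agent.H452.FprPsuN Cfsg.Agent.H110.Fpr Cfsg.Agent.H409
open Cfsg.Agent.TitsThree.Siegel Cfsg.Agent.TitsThree.SiegelGen

section abstract

variable {G X : Type*} [Group G] [MulAction G X] {x : G} {Q Z : Subgroup G}

/-- The group `S W`, `W` central in `Q`. -/
def SW {W : Subgroup G} (hc : ∀ w ∈ W, ∀ g ∈ Q, w * g = g * w) (S : Subgroup G) (hS : S ≤ Q) :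
    Subgroup G where
  carrier := {g | ∃ s ∈ S, ∃ z ∈ W, g = s * z}
  one_mem' := ⟨1, one_mem _, 1, one_mem _, (one_mul 1).symm⟩
  mul_mem' := by
    rintro _ _ ⟨a, ha, z, hz, rfl⟩ ⟨b, hb, w, hw, rfl⟩
    refine ⟨a * b, mul_mem ha hb, z * w, mul_mem hz hw, ?_⟩
    have h2 := hc z hz b (hS hb)
    calc a * z * (b * w) = a * (z * b) * w := by group
      _ = a * (b * z) * w := by rw [h2]
      _ = a * b * (z * w) := by group
  inv_mem' := by
    rintro _ ⟨a, ha, z, hz, rfl⟩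
    refine ⟨a⁻¹, inv_mem ha, z⁻¹, inv_mem hz, ?_⟩
    rw [mul_inv_rev]
    exact hc _ (inv_mem hz) _ (inv_mem (hS ha))

/-- The index of `S Z` in `Q` is at least `8` if `S ∩ W = 1`. -/
theorem eight_le_W [Finite G] (h : Heis x Q Z) {W : Subgroup G} (hWQ : W ≤ Q)
    (hc : ∀ w ∈ W, ∀ g ∈ Q, w * g = g * w) (hcard : 4 * Nat.card Z ≤ Nat.card W)
    (hnc : ∃ a ∈ Q, ∃ b ∈ Q, a * b ≠ b * a) {S : Subgroup G} {hS : S ≤ Q}
    (hSW : ∀ w ∈ W, w ∈ S → w = 1) (hZW : Z ≤ W) :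
    8 * Nat.card (SZ h S hS) ≤ Nat.card Q := by
  classical
  have h1 : Nat.card (SW hc S hS) = Nat.card S * Nat.card W := by
    rw [← Nat.card_prod]
    refine (Nat.card_congr (Equiv.ofBijective (fun y : S × W =>
      (⟨y.1 * y.2, y.1, y.1.2, y.2, y.2.2, rfl⟩ : SW hc S hS)) ⟨?_, ?_⟩)).symm
    · rintro ⟨s, w⟩ ⟨s', w'⟩ hsw
      have h2 : (s : G) * w = s' * w' := congrArg Subtype.val hsw
      have h3 : (s' : G)⁻¹ * s = w' * (w : G)⁻¹ := by
        rw [inv_mul_eq_iff_eq_mul, ← mul_assoc, eq_mul_inv_iff_mul_eq]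
        exact h2
      have h4 : (s' : G)⁻¹ * s = 1 := by
        apply hSW
        · rw [h3]; exact mul_mem w'.2 (inv_mem w.2)
        · exact mul_mem (inv_mem s'.2) s.2
      have h5 : (w' : G) * (w : G)⁻¹ = 1 := by rw [← h3, h4]
      have h6 : s = s' := Subtype.ext (inv_mul_eq_one.1 h4).symm
      have h7 : w = w' := Subtype.ext (mul_inv_eq_one.1 h5).symm
      rw [h6, h7]
    · rintro ⟨_, s, hs, w, hw, rfl⟩
      exact ⟨(⟨s, hs⟩, ⟨w, hw⟩), rfl⟩
  have h2 : Nat.card (SZ h S hS) ≤ Nat.card S * Nat.card Z := by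
    rw [← Nat.card_prod]
    refine Nat.card_le_card_of_surjective (fun y : S × Z =>
      (⟨y.1 * y.2, y.1, y.1.2, y.2, y.2.2, rfl⟩ : SZ h S hS)) ?_
    rintro ⟨_, s, hs, w, hw, rfl⟩
    exact ⟨(⟨s, hs⟩, ⟨w, hw⟩), rfl⟩
  have h3 : SW hc S hS ≤ Q := by
    rintro _ ⟨s, hs, w, hw, rfl⟩
    exact mul_mem (hS hs) (hWQ hw)
  have hcommS : ∀ a ∈ S, ∀ b ∈ S, a * b = b * a := by
    intro a ha b hb
    have h2 := hSW _ (hZW (h.der a (hS ha) b (hS hb)))
      (mul_mem (mul_mem (mul_mem ha hb) (inv_mem ha)) (inv_mem hb))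
    rw [mul_inv_eq_one, mul_inv_eq_iff_eq_mul] at h2
    exact h2
  have h4 : SW hc S hS < Q := by
    refine lt_of_le_of_ne h3 ?_
    intro heq
    obtain ⟨a, ha, b, hb, hab⟩ := hnc
    rw [← heq] at ha hb
    obtain ⟨s, hs, z1, hz1, rfl⟩ := ha
    obtain ⟨t, ht, z2, hz2, rfl⟩ := hb
    apply hab
    have e1 := hc z1 hz1 t (hS ht)
    have e2 := hc z2 hz2 s (hS hs)
    have e3 := hc z1 hz1 z2 (hWQ hz2)
    calc s * z1 * (t * z2) = s * (z1 * t) * z2 := by group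
      _ = (s * t) * (z1 * z2) := by rw [e1]; group
      _ = (t * s) * (z2 * z1) := by rw [hcommS s hs t ht, e3]
      _ = t * (s * z2) * z1 := by group
      _ = t * z2 * (s * z1) := by rw [← e2]; group
  have h5 := two_mul_card_le h4
  rw [h1] at h5
  calc 8 * Nat.card (SZ h S hS) ≤ 8 * (Nat.card S * Nat.card Z) := Nat.mul_le_mul_left _ h2
    _ = 2 * (Nat.card S * (4 * Nat.card Z)) := by ring
    _ ≤ 2 * (Nat.card S * Nat.card W) := by gcongr
    _ ≤ _ := h5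

theorem eight_le_wt_W [Finite G] [Finite X] (h : Heis x Q Z) {W : Subgroup G} (hWQ : W ≤ Q)
    (hc : ∀ w ∈ W, ∀ g ∈ Q, w * g = g * w) (hcard : 4 * Nat.card Z ≤ Nat.card W)
    (hnc : ∃ a ∈ Q, ∃ b ∈ Q, a * b ≠ b * a) (hZW : Z ≤ W) {ω : X}
    (hSW : ∀ w ∈ W, w ∈ stabilizer G ω → w = 1) : 8 ≤ wt Q Z ω := by
  obtain ⟨S, hS⟩ : ∃ S : Subgroup G, S = Q ⊓ stabilizer G ω := ⟨_, rfl⟩
  have hSQ : S ≤ Q := by rw [hS]; exact inf_le_left
  have hcard := eight_le_W h hWQ hc hcard hnc (S := S) (hS := hSQ) (fun z hz hzS => by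
    rw [hS] at hzS
    exact hSW z hz hzS.2) hZW
  have h2 := card_orbit_mul (T := Q) hS hSQ le_rfl
  have h3 := card_orbit_mul (T := SZ h S hSQ) hS le_SZ SZ_le
  rw [orbit_SZ (by rw [hS]; exact inf_le_right)] at h3
  rw [← h2, ← h3] at hcard
  have h4 : 8 * (orbit Z ω).ncard ≤ (orbit Q ω).ncard := by
    have h5 : 0 < Nat.card S := Nat.card_pos
    apply Nat.le_of_mul_le_mul_right _ h5
    calc 8 * (orbit Z ω).ncard * Nat.card S = 8 * ((orbit Z ω).ncard * Nat.card S) := by ring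
      _ ≤ _ := hcard
  rw [wt, le_div_iff₀ (by exact_mod_cast orbit_ncard_pos Z ω)]
  exact_mod_cast h4

/-- **The ratio `1 / 4`**, third version. -/
theorem heis_quarter_W [Finite G] {x : G} {Q1 Q2 Z1 Z2 W1 W2 : Subgroup G} {k : ℕ}
    (hx : x ^ 3 ^ k = 1) (h1 : Heis x Q1 Z1) (h2 : Heis x Q2 Z2)
    (hcomm1 : ∀ z ∈ Z1, ∃ a ∈ Q1, ∃ b ∈ Q1, z = a * b * a⁻¹ * b⁻¹)
    (hcomm2 : ∀ z ∈ Z2, ∃ a ∈ Q2, ∃ b ∈ Q2, z = a * b * a⁻¹ * b⁻¹)
    (hW1 : W1 ≤ Q1) (hW2 : W2 ≤ Q2) (hZW1 : Z1 ≤ W1) (hZW2 : Z2 ≤ W2)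
    (hc1 : ∀ w ∈ W1, ∀ g ∈ Q1, w * g = g * w) (hc2 : ∀ w ∈ W2, ∀ g ∈ Q2, w * g = g * w)
    (hcard1 : 4 * Nat.card Z1 ≤ Nat.card W1) (hcard2 : 4 * Nat.card Z2 ≤ Nat.card W2)
    (hnc1 : ∃ a ∈ Q1, ∃ b ∈ Q1, a * b ≠ b * a) (hnc2 : ∃ a ∈ Q2, ∃ b ∈ Q2, a * b ≠ b * a)
    (hg1 : ∀ H : Subgroup G, Q1 ≤ H → x ∈ H → ∀ z ∈ W2, z ≠ 1 → z ∈ H → H = ⊤)
    (hg2 : ∀ H : Subgroup G, Q2 ≤ H → x ∈ H → ∀ z ∈ W1, z ≠ 1 → z ∈ H → H = ⊤) :
    UGood 1 4 x := by
  classical
  intro H hH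
  have := Fintype.ofFinite (G ⧸ H)
  have a1 := h1.sum_wt (X := G ⧸ H)
  have a2 := h2.sum_wt (X := G ⧸ H)
  have hw : ∀ ω ∈ Finset.univ.filter (fun ω : G ⧸ H => x • ω = ω),
      (8 : ℚ) ≤ wt Q1 Z1 ω + wt Q2 Z2 ω := by
    intro ω hω
    have hxω : x • ω = ω := (Finset.mem_filter.1 hω).2
    have hst := stabilizer_ne_top' hH ω
    have w1 := one_le_wt h1.le ω
    have w2 := one_le_wt h2.le ω
    by_cases b1 : Q1 ≤ stabilizer G ω
    · have := eight_le_wt_W h2 hW2 hc2 hcard2 hnc2 hZW2 (ω := ω) (fun z hz hzH => by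
        by_contra hz1
        exact hst (hg1 _ b1 hxω z hz hz1 hzH))
      linarith only [w1, this]
    · by_cases b2 : Q2 ≤ stabilizer G ω
      · have := eight_le_wt_W h1 hW1 hc1 hcard1 hnc1 hZW1 (ω := ω) (fun z hz hzH => by
          by_contra hz1
          exact hst (hg2 _ b2 hxω z hz hz1 hzH))
        linarith only [w2, this]
      · have c1 := h1.four_le_wt hx hcomm1 hxω b1
        have c2 := h2.four_le_wt hx hcomm2 hxω b2
        linarith only [c1, c2]
  have h3 := Finset.sum_le_sum hw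
  rw [Finset.sum_add_distrib, Finset.sum_const, nsmul_eq_mul] at h3
  have h4 : (Finset.univ.filter (fun ω : G ⧸ H => x • ω = ω)).card =
      Nat.card (fixedBy (G ⧸ H) x) := by
    rw [Nat.card_coe_set_eq, Set.ncard_eq_toFinset_card']
    congr 1
    ext y
    simp [mem_fixedBy]
  rw [h4] at h3
  rw [← Nat.card_eq_fintype_card] at a1 a2
  have h5 : (Nat.card (fixedBy (G ⧸ H) x) : ℚ) * 8 ≤ 2 * (Nat.card (G ⧸ H) : ℚ) := by linarith only [a1, a2, h3]
  have h6 : Nat.card (fixedBy (G ⧸ H) x) * 8 ≤ 2 * Nat.card (G ⧸ H) := by exact_mod_cast h5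
  omega

end abstract

variable {F : Type*} [Field F] {V : Type*} [AddCommGroup V] [Module F V]
variable {H : HForm F V} {P : PQ H} {e1 e2 f1 f2 : V}

/-- Generation by the radical and an element with invertible block. -/
theorem genD (hA : Alt2 H) (h : Fr P e1 e2 f1 f2) (hND : ∀ v : V, v ≠ 0 → ∃ w, H.h v w ≠ 0)
    {m m' : V} (hm : InM H e1 e2 f1 f2 m) (hm' : InM H e1 e2 f1 f2 m') (hmm : H.h m m' ≠ 0)
    (D : Subgroup (V ≃ₗ[F] V)) (hQ : QT hA P e1 e2 f1 f2 ≤ D) {z : V ≃ₗ[F] V} (hzS : z ∈ SG P)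
    (hzD : z ∈ D) {a b c d : F} (hz : Dat H f1 f2 e1 e2 z 0 0 a b c d) (hdet : a * d - b * c ≠ 0) :
    SG P ≤ D := by
  obtain ⟨hzi, hzok, hzok'⟩ := SG_iso hzS
  have hz_e1 : z e1 = e1 + a • f1 + b • f2 := by rw [hz.gf1, add_zero]
  have hz_e2 : z e2 = e2 + c • f1 + d • f2 := by rw [hz.gf2, add_zero]
  have hz_m : ∀ n, InM H e1 e2 f1 f2 n → z n = n := by
    intro n hn
    rw [hz.gm n hn.symm, H.zero_right]
    module
  obtain ⟨T, hT⟩ : ∃ T, T = Submodule.span F ({e1, e2} : Set V) := ⟨_, rfl⟩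
  obtain ⟨T', hT'⟩ : ∃ T', T' = Submodule.span F ({z e1, z e2} : Set V) := ⟨_, rfl⟩
  obtain ⟨M, hM⟩ : ∃ M, M = perp H ({e1, e2, f1, f2} : Set V) := ⟨_, rfl⟩
  have memT : ∀ v, v ∈ T ↔ ∃ a b : F, a • e1 + b • e2 = v := by
    intro v; rw [hT, Submodule.mem_span_pair]
  have memT' : ∀ v, v ∈ T' ↔ ∃ a b : F, a • z e1 + b • z e2 = v := by
    intro v; rw [hT', Submodule.mem_span_pair]
  have memM : ∀ v, v ∈ M ↔ InM H e1 e2 f1 f2 v := by
    intro v
    rw [hM, mem_perp]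
    simp only [Set.mem_insert_iff, Set.mem_singleton_iff, forall_eq_or_imp, forall_eq]
    rfl
  have hTs : ∀ u ∈ T, P.ok u 0 := by
    intro u hu
    obtain ⟨a, b, rfl⟩ := (memT u).1 hu
    exact okT hA h a b
  have hTT : ∀ u ∈ T, ∀ u' ∈ T, H.h u u' = 0 := by
    intro u hu u' hu'
    obtain ⟨a, b, rfl⟩ := (memT u).1 hu
    obtain ⟨c, d, rfl⟩ := (memT u').1 hu'
    simp only [H.add_left, H.add_right, H.smul_left, H.smul_right, P.iso h.se1, P.iso h.se2,
      h.hee, sw hA e1 e2, mul_zero, add_zero]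
  have hTM : ∀ u ∈ T, ∀ w ∈ M, H.h u w = 0 := by
    intro u hu w hw
    obtain ⟨a, b, rfl⟩ := (memT u).1 hu
    have hw' := (memM w).1 hw
    simp only [H.add_left, H.smul_left, hw'.le1 hA, hw'.le2 hA, mul_zero, add_zero]
  have himg : ∀ u ∈ T', ∃ u0 ∈ T, z u0 = u := by
    intro u hu
    obtain ⟨a, b, rfl⟩ := (memT' u).1 hu
    exact ⟨a • e1 + b • e2, (memT _).2 ⟨a, b, rfl⟩, by rw [map_add, map_smul, map_smul]⟩
  have himgW : ∀ w ∈ T' ⊔ M, ∃ w0 ∈ T ⊔ M, z w0 = w := by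
    intro w hw
    obtain ⟨u, hu, n, hn, rfl⟩ := Submodule.mem_sup.1 hw
    obtain ⟨u0, hu0, rfl⟩ := himg u hu
    exact ⟨u0 + n, Submodule.add_mem_sup hu0 hn, by rw [map_add, hz_m n ((memM n).1 hn)]⟩
  have hrad : rad P T (T ⊔ M) ≤ D := by
    apply rad_le
    intro u w c hu hw huT hwW hc
    apply hQ
    refine ⟨sie_mem_SG P _ _ (hTs u huT) hc, ?_⟩
    obtain ⟨a, b, hab⟩ := (memT u).1 huT
    obtain ⟨v, hv, n, hn, hvn⟩ := Submodule.mem_sup.1 hwW
    obtain ⟨a', b', hab'⟩ := (memT v).1 hv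
    exact ⟨_, _, _, _, _, _, dat_sie hA h a b a' b' c ((memM n).1 hn) hab.symm
      (by rw [← hvn, ← hab']; abel) hu hw⟩
  have hrad' : rad P T' (T' ⊔ M) ≤ D := by
    apply rad_le
    intro u w c hu hw huT hwW hc
    obtain ⟨u0, hu0, rfl⟩ := himg u huT
    obtain ⟨w0, hw0, rfl⟩ := himgW w hwW
    have h1 : H.h u0 u0 = 0 := hTT u0 hu0 u0 hu0
    have h2 : H.h u0 w0 = 0 := by rw [← hzi, hw]
    have hc0 : P.ok w0 c := by
      have := hzok' _ c hc
      have e : z⁻¹ (z w0) = w0 := z.symm_apply_apply w0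
      rwa [e] at this
    exact conj_mem hzD hzi h1 h2 (hrad (sie_mem_rad h1 h2 hu0 hw0 hc0)) hu hw rfl rfl
  -- the vectors `f₁`, `f₂`
  have hsol : ∀ s t : F, s • f1 + t • f2 ∈ T ⊔ M ⊔ T' := by
    intro s t
    obtain ⟨D0, hD0⟩ : ∃ D0, D0 = a * d - b * c := ⟨_, rfl⟩
    rw [← hD0] at hdet
    have e : s • f1 + t • f2 = ((s * d - t * c) / D0) • (z e1 - e1) +
        ((t * a - s * b) / D0) • (z e2 - e2) := by
      rw [hz_e1, hz_e2]
      have e1' : e1 + a • f1 + b • f2 - e1 = a • f1 + b • f2 := by abel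
      have e2' : e2 + c • f1 + d • f2 - e2 = c • f1 + d • f2 := by abel
      rw [e1', e2', smul_add, smul_add, smul_smul, smul_smul, smul_smul, smul_smul]
      have k1 : (s * d - t * c) / D0 * a + (t * a - s * b) / D0 * c = s := by
        field_simp
        rw [hD0]; ring
      have k2 : (s * d - t * c) / D0 * b + (t * a - s * b) / D0 * d = t := by
        field_simp
        rw [hD0]; ring
      calc s • f1 + t • f2 = ((s * d - t * c) / D0 * a + (t * a - s * b) / D0 * c) • f1 +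
            ((s * d - t * c) / D0 * b + (t * a - s * b) / D0 * d) • f2 := by rw [k1, k2]
        _ = _ := by module
    rw [e]
    have he1 : e1 ∈ T ⊔ M ⊔ T' := (le_sup_left.trans le_sup_left : T ≤ _) ((memT _).2
      ⟨1, 0, by module⟩)
    have he2 : e2 ∈ T ⊔ M ⊔ T' := (le_sup_left.trans le_sup_left : T ≤ _) ((memT _).2
      ⟨0, 1, by module⟩)
    exact Submodule.add_mem _
      (Submodule.smul_mem _ _ (Submodule.sub_mem _ ((le_sup_right : T' ≤ _) ((memT' _).2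
        ⟨1, 0, by module⟩)) he1))
      (Submodule.smul_mem _ _ (Submodule.sub_mem _ ((le_sup_right : T' ≤ _) ((memT' _).2
        ⟨0, 1, by module⟩)) he2))
  have hpair : ∃ p ∈ T, ∃ r ∈ T', H.h r p ≠ 0 := by
    by_contra hcon
    push Not at hcon
    have k : ∀ i j : F, H.h (z e1) (i • e1 + j • e2) = 0 ∧ H.h (z e2) (i • e1 + j • e2) = 0 := by
      intro i j
      exact ⟨hcon _ ((memT _).2 ⟨i, j, rfl⟩) _ ((memT' _).2 ⟨1, 0, by module⟩),
        hcon _ ((memT _).2 ⟨i, j, rfl⟩) _ ((memT' _).2 ⟨0, 1, by module⟩)⟩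
    have k1 := k 1 0
    have k2 := k 0 1
    have e1' : (1 : F) • e1 + (0 : F) • e2 = e1 := by module
    have e2' : (0 : F) • e1 + (1 : F) • e2 = e2 := by module
    rw [e1', hz_e1, hz_e2] at k1
    rw [e2', hz_e1, hz_e2] at k2
    simp only [H.add_left, H.smul_left, P.iso h.se1, P.iso h.se2, h.hee, sw hA e1 e2, sw hA e1 f1,
      sw hA e1 f2, sw hA e2 f1, sw hA e2 f2, h.h11, h.h12, h.h21, h.h22, mul_zero, mul_one,
      zero_add, add_zero] at k1 k2
    apply hdet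
    rw [k1.1, k2.1]
    ring
  refine radI_gen hrad hrad' ?_ hTs hTT ?_ ?_ hTM ?_ ⟨m, (memM m).2 hm, m', (memM m').2 hm', hmm⟩
    hpair (fun v _ hv => hND v hv)
  · rw [eq_top_iff]
    intro v _
    obtain ⟨n, hn, hv⟩ := h.proj hA v
    rw [hv]
    have he1 : e1 ∈ T ⊔ M ⊔ T' := (le_sup_left.trans le_sup_left : T ≤ _) ((memT _).2
      ⟨1, 0, by module⟩)
    have he2 : e2 ∈ T ⊔ M ⊔ T' := (le_sup_left.trans le_sup_left : T ≤ _) ((memT _).2
      ⟨0, 1, by module⟩)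
    refine Submodule.add_mem _ ((le_sup_right.trans le_sup_left : M ≤ _) ((memM n).2 hn)) ?_
    rw [add_assoc (_ • e1 + _ • e2)]
    exact Submodule.add_mem _ (Submodule.add_mem _ 
      (Submodule.smul_mem _ _ he1) (Submodule.smul_mem _ _ he2)) (hsol _ _)
  · intro u hu
    obtain ⟨u0, hu0, rfl⟩ := himg u hu
    exact hzok _ _ (hTs u0 hu0)
  · intro u hu u' hu'
    obtain ⟨u0, hu0, rfl⟩ := himg u hu
    obtain ⟨u0', hu0', rfl⟩ := himg u' hu'
    rw [hzi]
    exact hTT u0 hu0 u0' hu0'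
  · intro u hu w hw
    obtain ⟨u0, hu0, rfl⟩ := himg u hu
    rw [← hz_m w ((memM w).1 hw), hzi]
    exact hTM u0 hu0 w hw

/-- Subgroup version. -/
theorem heis_quarter_W_sub {A : Type*} [Group A] [Finite A] {K : Subgroup A} {x : A}
    (hxK : x ∈ K) {Q1 Q2 Z1 Z2 W1 W2 : Subgroup A} {k : ℕ} (hx : x ^ 3 ^ k = 1)
    (h1 : Heis x Q1 Z1) (h2 : Heis x Q2 Z2)
    (hcomm1 : ∀ z ∈ Z1, ∃ a ∈ Q1, ∃ b ∈ Q1, z = a * b * a⁻¹ * b⁻¹)
    (hcomm2 : ∀ z ∈ Z2, ∃ a ∈ Q2, ∃ b ∈ Q2, z = a * b * a⁻¹ * b⁻¹)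
    (hW1 : W1 ≤ Q1) (hW2 : W2 ≤ Q2) (hZW1 : Z1 ≤ W1) (hZW2 : Z2 ≤ W2)
    (hc1 : ∀ w ∈ W1, ∀ g ∈ Q1, w * g = g * w) (hc2 : ∀ w ∈ W2, ∀ g ∈ Q2, w * g = g * w)
    (hcard1 : 4 * Nat.card Z1 ≤ Nat.card W1) (hcard2 : 4 * Nat.card Z2 ≤ Nat.card W2)
    (hnc1 : ∃ a ∈ Q1, ∃ b ∈ Q1, a * b ≠ b * a) (hnc2 : ∃ a ∈ Q2, ∃ b ∈ Q2, a * b ≠ b * a)
    (hQ1 : Q1 ≤ K) (hQ2 : Q2 ≤ K)
    (hg1 : ∀ D : Subgroup A, Q1 ≤ D → x ∈ D → ∀ z ∈ W2, z ≠ 1 → z ∈ D → K ≤ D)
    (hg2 : ∀ D : Subgroup A, Q2 ≤ D → x ∈ D → ∀ z ∈ W1, z ≠ 1 → z ∈ D → K ≤ D) :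
    UGood 1 4 (⟨x, hxK⟩ : K) := by
  have hh : ∀ Q Z : Subgroup A, Heis x Q Z → Heis (⟨x, hxK⟩ : K) (Q.subgroupOf K)
      (Z.subgroupOf K) := by
    intro Q Z h
    exact {
      le := fun z hz => h.le hz
      cent := fun z hz g hg => Subtype.ext (h.cent z hz g hg)
      der := fun a ha b hb => h.der a ha b hb
      norm := by
        rw [mem_normalizer_iff]
        intro g
        rw [mem_subgroupOf, mem_subgroupOf]
        exact mem_normalizer_iff.1 h.norm g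
      fixZ := fun z hz => Subtype.ext (h.fixZ z hz)
      free := fun r hr hr2 => h.free r hr hr2 }
  have cc : ∀ Q Z : Subgroup A, Q ≤ K → (∀ z ∈ Z, ∃ a ∈ Q, ∃ b ∈ Q, z = a * b * a⁻¹ * b⁻¹) →
      ∀ z ∈ Z.subgroupOf K, ∃ a ∈ Q.subgroupOf K, ∃ b ∈ Q.subgroupOf K,
        z = a * b * a⁻¹ * b⁻¹ := by
    intro Q Z hQ h z hz
    obtain ⟨a, ha, b, hb, hab⟩ := h z hz
    exact ⟨⟨a, hQ ha⟩, ha, ⟨b, hQ hb⟩, hb, Subtype.ext hab⟩
  have cn : ∀ Q : Subgroup A, Q ≤ K → (∃ a ∈ Q, ∃ b ∈ Q, a * b ≠ b * a) →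
      ∃ a ∈ Q.subgroupOf K, ∃ b ∈ Q.subgroupOf K, a * b ≠ b * a := by
    rintro Q hQ ⟨a, ha, b, hb, hab⟩
    exact ⟨⟨a, hQ ha⟩, ha, ⟨b, hQ hb⟩, hb, fun h => hab (congrArg Subtype.val h)⟩
  have cb : ∀ Q Z W : Subgroup A, Q ≤ K → Z ≤ Q → W ≤ Q → 4 * Nat.card Z ≤ Nat.card W →
      4 * Nat.card (Z.subgroupOf K) ≤ Nat.card (W.subgroupOf K) := by
    intro Q Z W hQ hZ hW h
    rw [Nat.card_congr (Subgroup.subgroupOfEquivOfLe (hZ.trans hQ)).toEquiv,
      Nat.card_congr (Subgroup.subgroupOfEquivOfLe (hW.trans hQ)).toEquiv]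
    exact h
  have aux : ∀ Q W : Subgroup A, Q ≤ K →
      (∀ D : Subgroup A, Q ≤ D → x ∈ D → ∀ z ∈ W, z ≠ 1 → z ∈ D → K ≤ D) →
      ∀ H : Subgroup K, Q.subgroupOf K ≤ H → (⟨x, hxK⟩ : K) ∈ H →
        ∀ z ∈ W.subgroupOf K, z ≠ 1 → z ∈ H → H = ⊤ := by
    intro Q Z hQ hg H hQH hxH z hz hz1 hzH
    have h3 := hg (H.map K.subtype) (by
      intro a ha
      exact ⟨⟨a, hQ ha⟩, hQH ha, rfl⟩) ⟨_, hxH, rfl⟩ z hz (fun h => hz1 (Subtype.ext h))
        ⟨z, hzH, rfl⟩
    rw [eq_top_iff]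
    intro a _
    obtain ⟨b, hb, hba⟩ := h3 a.2
    have : b = a := Subtype.ext hba
    rwa [← this]
  exact heis_quarter_W (k := k) (Subtype.ext hx) (hh _ _ h1) (hh _ _ h2) (cc _ _ hQ1 hcomm1)
    (cc _ _ hQ2 hcomm2) (fun w hw => hW1 hw) (fun w hw => hW2 hw) (fun w hw => hZW1 hw)
    (fun w hw => hZW2 hw) (fun w hw g hg => Subtype.ext (hc1 w hw g hg))
    (fun w hw g hg => Subtype.ext (hc2 w hw g hg)) (cb _ _ _ hQ1 h1.le hW1 hcard1)
    (cb _ _ _ hQ2 h2.le hW2 hcard2) (cn _ hQ1 hnc1) (cn _ hQ2 hnc2) (aux Q1 W2 hQ1 hg1)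
    (aux Q2 W1 hQ2 hg2)

theorem WT_central (hA : Alt2 H) (h : Fr P e1 e2 f1 f2) : ∀ w ∈ WT hA P e1 e2 f1 f2,
    ∀ g ∈ QT hA P e1 e2 f1 f2, w * g = g * w := by
  rintro w ⟨-, a, b, c, d, hd⟩ g ⟨-, m1, m2, a', b', c', d', hd'⟩
  rw [comm_formula hA h hd hd']
  have e1' : (H.h m1 0 + H.h 0 m2) = 0 := by rw [H.zero_left, H.zero_right, add_zero]
  have e2' : H.sie e1 ((H.h m1 0 + H.h 0 m2) • e2) 0 (P.iso h.se1) (hz hA h _) = 1 := by
    rw [← H.sie_zero e1 (P.iso h.se1)]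
    apply H.sie_congr _ _ _ _ rfl _ rfl
    rw [e1', zero_smul]
  rw [e2', one_mul]

theorem WT_le (hA : Alt2 H) : WT hA P e1 e2 f1 f2 ≤ QT hA P e1 e2 f1 f2 :=
  fun _ hg => hg.1

theorem QT_le (hA : Alt2 H) : QT hA P e1 e2 f1 f2 ≤ SG P :=
  fun _ hg => hg.1

theorem ZT_le_WT (hA : Alt2 H) (h : Fr P e1 e2 f1 f2) : ZT hA h ≤ WT hA P e1 e2 f1 f2 := by
  intro z hz
  obtain ⟨t, rfl⟩ := hz
  exact ⟨ZT_le hA h ⟨t, rfl⟩, _, _, _, _, dat_z hA h t⟩

theorem card_WT [Finite F] [Finite (V ≃ₗ[F] V)] (hA : Alt2 H) (h : Fr P e1 e2 f1 f2)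
    (hlam : ∀ c, P.ok 0 c) : 4 * Nat.card (ZT hA h) ≤ Nat.card (WT hA P e1 e2 f1 f2) := by
  have hq2 : 2 ≤ Nat.card F := by
    have := Finite.one_lt_card (α := F)
    omega
  have k1 : ∀ c : F, Dat H e1 e2 f1 f2 (H.sie e1 0 c (P.iso h.se1) (H.zero_right e1))
      0 0 c 0 0 0 := by
    intro c
    have h1 := dat_sie hA h 1 0 0 0 c (m := 0) (u := e1) (w := 0) InM.zero (by module)
      (by module) (P.iso h.se1) (H.zero_right e1)
    rw [smul_zero, smul_zero] at h1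
    have e1 : c * 1 * 1 = c := by ring
    have e2 : (1 : F) * 0 + 0 * 0 + c * 1 * 0 = 0 := by ring
    have e3 : (0 : F) * 0 + 0 * 1 + c * 0 * 1 = 0 := by ring
    have e4 : c * 0 * 0 = 0 := by ring
    rwa [e1, e2, e3, e4] at h1
  have k2 : ∀ c : F, Dat H e1 e2 f1 f2 (H.sie e2 0 c (P.iso h.se2) (H.zero_right e2))
      0 0 0 0 0 c := by
    intro c
    have h1 := dat_sie hA h 0 1 0 0 c (m := 0) (u := e2) (w := 0) InM.zero (by module)
      (by module) (P.iso h.se2) (H.zero_right e2)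
    rw [smul_zero, smul_zero] at h1
    have e1 : c * 0 * 0 = 0 := by ring
    have e2 : (0 : F) * 0 + 0 * 1 + c * 0 * 1 = 0 := by ring
    have e3 : (1 : F) * 0 + 0 * 0 + c * 1 * 0 = 0 := by ring
    have e4 : c * 1 * 1 = c := by ring
    rwa [e1, e2, e3, e4] at h1
  have w1 : ∀ c : F, H.sie e1 0 c (P.iso h.se1) (H.zero_right e1) ∈ WT hA P e1 e2 f1 f2 :=
    fun c => ⟨⟨sie_mem_SG P _ _ h.se1 (hlam c), _, _, _, _, _, _, k1 c⟩, _, _, _, _, k1 c⟩
  have w2 : ∀ c : F, H.sie e2 0 c (P.iso h.se2) (H.zero_right e2) ∈ WT hA P e1 e2 f1 f2 :=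
    fun c => ⟨⟨sie_mem_SG P _ _ h.se2 (hlam c), _, _, _, _, _, _, k2 c⟩, _, _, _, _, k2 c⟩
  calc 4 * Nat.card (ZT hA h) ≤ (Nat.card F * Nat.card F) * Nat.card (ZT hA h) := by
        gcongr
        nlinarith
    _ = Nat.card ((F × F) × ZT hA h) := by rw [Nat.card_prod, Nat.card_prod]
    _ ≤ _ := by
      refine Nat.card_le_card_of_injective (fun y : (F × F) × ZT hA h =>
        (⟨H.sie e1 0 y.1.1 (P.iso h.se1) (H.zero_right e1) *
          H.sie e2 0 y.1.2 (P.iso h.se2) (H.zero_right e2) * y.2,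
          mul_mem (mul_mem (w1 _) (w2 _)) (ZT_le_WT hA h y.2.2)⟩ : WT hA P e1 e2 f1 f2)) ?_
      rintro ⟨⟨a, d⟩, z, t, rfl⟩ ⟨⟨a', d'⟩, z', t', rfl⟩ heq
      have h1 := congrArg Subtype.val heq
      have h2 := ((k1 a).mul (k2 d)).mul (dat_z hA h t)
      have h3 := ((k1 a').mul (k2 d')).mul (dat_z hA h t')
      simp only at h1
      rw [h1] at h2
      obtain ⟨-, -, j1, j2, j3, j4⟩ := h2.uniq hA h h3
      simp only [H.zero_right, add_zero, zero_add] at j1 j2 j3 j4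
      subst j1 j2 j4
      rfl

theorem nc_QT (hA : Alt2 H) (h : Fr P e1 e2 f1 f2) {m m' : V} (hm : InM H e1 e2 f1 f2 m)
    (hm' : InM H e1 e2 f1 f2 m') (hmm : H.h m m' ≠ 0) :
    ∃ a ∈ QT hA P e1 e2 f1 f2, ∃ b ∈ QT hA P e1 e2 f1 f2, a * b ≠ b * a := by
  obtain ⟨a, ha, b, hb, hab⟩ := commT hA h hm hm' hmm _ ⟨1, rfl⟩
  refine ⟨a, ha, b, hb, fun hcon => ?_⟩
  have h1 : a * b * a⁻¹ * b⁻¹ = 1 := by rw [hcon]; group
  rw [h1] at hab
  have h2 := dat_z hA h 1
  rw [hab] at h2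
  obtain ⟨-, -, -, k, -, -⟩ := h2.uniq hA h Dat.one
  exact one_ne_zero k

/-- Generation over the field of two elements. -/
theorem genW (hA : Alt2 H) (hF2 : ∀ t : F, t = 0 ∨ t = 1) (h : Fr P e1 e2 f1 f2)
    (hND : ∀ v : V, v ≠ 0 → ∃ w, H.h v w ≠ 0)
    {m m' : V} (hm : InM H e1 e2 f1 f2 m) (hm' : InM H e1 e2 f1 f2 m') (hmm : H.h m m' ≠ 0)
    (D : Subgroup (V ≃ₗ[F] V)) (hQ : QT hA P e1 e2 f1 f2 ≤ D) (hx : xT hA h ∈ D) :
    ∀ z ∈ WT hA P f2 f1 e2 e1, z ≠ 1 → z ∈ D → SG P ≤ D := by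
  obtain ⟨h', hh'⟩ : ∃ h' : Fr P f2 f1 e2 e1, h' = (h.symm hA).swp hA := ⟨_, rfl⟩
  have hxx : xT hA h' = xT hA h := by rw [hh', xT_opp hA h]
  -- change of frame
  have sw' : ∀ {g : V ≃ₗ[F] V} {a b c d : F}, Dat H f2 f1 e2 e1 g 0 0 a b c d →
      Dat H f1 f2 e1 e2 g 0 0 d c b a := by
    intro g a b c d hg
    refine ⟨InM.zero, InM.zero, hg.ge2, hg.ge1, ?_, ?_, ?_⟩
    · rw [hg.gf2]; abel
    · rw [hg.gf1]; abel
    · intro n hn
      rw [hg.gm n hn.swp]; abel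
  rintro z ⟨⟨hzS, -⟩, a, b, c, d, hzd⟩ hz1 hzD
  by_cases hdet : a * d - b * c ≠ 0
  · exact genD hA h hND hm hm' hmm D hQ hzS hzD (sw' hzd) (by
      intro h0
      apply hdet
      linear_combination h0)
  push Not at hdet
  -- isometry
  obtain ⟨hzi, -, -⟩ := SG_iso hzS
  have h3 := hzi e2 e1
  rw [hzd.gf1, hzd.gf2] at h3
  simp only [H.add_left, H.add_right, H.smul_left, H.smul_right, H.zero_left, H.zero_right,
      h'.hff, P.iso h'.se1, P.iso h'.se2, h'.hee, sw hA f2 f1, sw hA f2 e2, sw hA f1 e2, h'.h11,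
      h'.h21, h'.h12, h'.h22, hA.sig, mul_zero, mul_one, add_zero, zero_add] at h3
  have hbc : c = b := by
    have := hA.add_self b
    linear_combination h3 - this
  subst hbc
  have hz2 := dat_conj hA h' hzd
  rw [hxx] at hz2
  have hz3 := hzd.mul hz2
  rw [add_zero, add_zero] at hz3
  have hgD : z * (xT hA h * z * (xT hA h)⁻¹) ∈ D :=
    mul_mem hzD (mul_mem (mul_mem hx hzD) (inv_mem hx))
  have hgS : z * (xT hA h * z * (xT hA h)⁻¹) ∈ SG P :=
    mul_mem hzS (mul_mem (mul_mem (xT_mem hA h) hzS) (inv_mem (xT_mem hA h)))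
  refine genD hA h hND hm hm' hmm D hQ hgS hgD (sw' hz3) ?_
  simp only [H.zero_right, add_zero]
  have ca := hA.add_self (1 : F)
  have ca2 := hA.two
  rcases hF2 a with rfl | rfl <;> rcases hF2 d with rfl | rfl <;> rcases hF2 c with rfl | rfl
  · exfalso
    apply hz1
    exact hzd.ext hA h' Dat.one
  · exfalso
    apply one_ne_zero (α := F)
    linear_combination -hdet
  · intro h0
    apply one_ne_zero (α := F)
    linear_combination h0
  · exfalso
    apply one_ne_zero (α := F)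
    linear_combination -hdet
  · intro h0
    apply one_ne_zero (α := F)
    linear_combination h0
  · exfalso
    apply one_ne_zero (α := F)
    linear_combination -hdet
  · exfalso
    apply one_ne_zero (α := F)
    linear_combination hdet
  · intro h0
    apply one_ne_zero (α := F)
    linear_combination h0

/-- **The ratio `1 / 4`** over the field of two elements. -/
theorem uGood_two [Finite F] [Finite V] (hA : Alt2 H) (hF2 : ∀ t : F, t = 0 ∨ t = 1)
    (hlam : ∀ c, P.ok 0 c) (h : Fr P e1 e2 f1 f2)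
    (hND : ∀ v : V, v ≠ 0 → ∃ w, H.h v w ≠ 0)
    {m m' : V} (hm : InM H e1 e2 f1 f2 m) (hm' : InM H e1 e2 f1 f2 m') (hmm : H.h m m' ≠ 0) :
    UGood 1 4 (⟨xT hA h, xT_mem hA h⟩ : SG P) := by
  have hfin : Finite (V ≃ₗ[F] V) := instFin
  obtain ⟨h', hh'⟩ : ∃ h' : Fr P f2 f1 e2 e1, h' = (h.symm hA).swp hA := ⟨_, rfl⟩
  have hxx : xT hA h' = xT hA h := by rw [hh', xT_opp hA h]
  have hx2 : Heis (xT hA h) (QT hA P f2 f1 e2 e1) (ZT hA h') := by
    have := heisT hA h'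
    rwa [hxx] at this
  refine heis_quarter_W_sub (k := 1) (xT_mem hA h) (by rw [pow_one]; exact xT_three hA h)
    (heisT hA h) hx2 (commT hA h hm hm' hmm) (commT hA h' hm.symm.swp hm'.symm.swp hmm)
    (WT_le hA) (WT_le hA) (ZT_le_WT hA h) (ZT_le_WT hA h') (WT_central hA h)
    (WT_central hA h') (card_WT hA h hlam) (card_WT hA h' hlam) (nc_QT hA h hm hm' hmm)
    (nc_QT hA h' hm.symm.swp hm'.symm.swp hmm) (QT_le hA) (QT_le hA)
    (genW hA hF2 h hND hm hm' hmm) ?_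
  intro D hD hxD
  exact genW hA hF2 h' hND hm.symm.swp hm'.symm.swp hmm D hD (by rw [hxx]; exact hxD)

open Cfsg.Agent.TitsThree.SpIdent Cfsg.Agent.TitsThree.SpGen

/-- **`PSp_{2m}(2)`, `m ≥ 3`.** -/
theorem row_PSp_two {F : Type*} [Field F] [Finite F] {m : ℕ} (hF : Nat.card F = 2)
    (hm : 3 ≤ m) : FprRow 4 1 3 (PSp m F) := by
  classical
  have := Fintype.ofFinite F
  have h2 : (2 : F) = 0 := FprTTRow.two_eq_zero (by rw [hF]; exact even_two)
  have hfin : Finite ((Fin m ⊕ Fin m → F) ≃ₗ[F] (Fin m ⊕ Fin m → F)) := instFin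
  have hA := alt_form (m := m) h2
  have hF2 : ∀ t : F, t = 0 ∨ t = 1 := by
    intro t
    by_contra hcon
    push Not at hcon
    have h3 : ({0, 1, t} : Finset F).card = 3 := by
      rw [Finset.card_insert_of_notMem, Finset.card_insert_of_notMem, Finset.card_singleton]
      · rw [Finset.mem_singleton]
        exact hcon.2.symm
      · simp only [Finset.mem_insert, Finset.mem_singleton, not_or]
        exact ⟨zero_ne_one, hcon.1.symm⟩
    have h4 := Finset.card_le_univ ({0, 1, t} : Finset F)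
    rw [h3, ← Nat.card_eq_fintype_card, hF] at h4
    omega
  obtain ⟨i0, hi0⟩ : ∃ i : Fin m, i = ⟨0, by omega⟩ := ⟨_, rfl⟩
  obtain ⟨i1, hi1⟩ : ∃ i : Fin m, i = ⟨1, by omega⟩ := ⟨_, rfl⟩
  obtain ⟨i2, hi2⟩ : ∃ i : Fin m, i = ⟨2, by omega⟩ := ⟨_, rfl⟩
  have h01 : i0 ≠ i1 := by rw [hi0, hi1]; simp
  have h02 : i0 ≠ i2 := by rw [hi0, hi2]; simp
  have h12 : i1 ≠ i2 := by rw [hi1, hi2]; simp
  have hfr : Fr (pq m F) (e m F i0) (e m F i1) (f m F i0) (f m F i1) := by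
    refine ⟨trivial, trivial, trivial, trivial, ?_, ?_, ?_, ?_, ?_, ?_⟩
    · rw [form_h, ef, if_pos rfl]
    · rw [form_h, ef, if_pos rfl]
    · rw [form_h, ef, if_neg h01]
    · rw [form_h, ef, if_neg h01.symm]
    · exact ee _ _
    · exact ff _ _
  have hm1 : InM (form m F) (e m F i0) (e m F i1) (f m F i0) (f m F i1) (e m F i2) := by
    refine ⟨ee _ _, ee _ _, ?_, ?_⟩
    · rw [form_h, ef, if_neg h02.symm]
    · rw [form_h, ef, if_neg h12.symm]
  have hm2 : InM (form m F) (e m F i0) (e m F i1) (f m F i0) (f m F i1) (f m F i2) := by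
    refine ⟨?_, ?_, ff _ _, ff _ _⟩
    · rw [form_h, fe, if_neg h02.symm]
    · rw [form_h, fe, if_neg h12.symm]
  let e : SG (pq m F) ≃* isos (form m F) := MulEquiv.subgroupCongr SG_pq
  let f : SG (pq m F) →* PSp m F := toPSp.comp e.toMonoidHom
  have hf : Function.Surjective f := toPSp_surjective.comp e.surjective
  refine FprRow.of_surjective Nat.prime_three f hf ?_
  have hU := uGood_two hA hF2 (fun _ => trivial) hfr nd_form hm1 hm2 (by
    rw [form_h, ef, if_pos rfl]; exact one_ne_zero)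
  intro D hD
  refine ⟨_, ?_, hU D hD⟩
  have h4 : orderOf (⟨xT hA hfr, xT_mem hA hfr⟩ : SG (pq m F)) ∣ 3 ^ 1 := by
    rw [pow_one]
    exact orderOf_dvd_of_pow_eq_one (Subtype.ext (xT_three hA hfr))
  obtain ⟨k, -, hk⟩ := (Nat.dvd_prime_pow Nat.prime_three).1 h4
  exact ⟨k, hk⟩

end Cfsg.Agent.H452.FprSpSix
end

-- part: H452/FprSpAll
section
/-!
# All rows `p = 3` of `PSp_{2m}(q)`, `q` even
-/

set_option autoImplicit false

namespace Cfsg.Agent.H452.FprSpAll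

open Cfsg Cfsg.Agent.H398.FPR Cfsg.Agent.H409

/-- **`PSp_{2m}(q)`, `q` even, `p = 3`, `(m, q) ≠ (2, 2)`.** -/
theorem row_PSp_three {F : Type*} [Field F] [Finite F] {m : ℕ} (hm : 2 ≤ m)
    (heven : Even (Nat.card F)) (hmq : ¬ (m = 2 ∧ Nat.card F = 2)) :
    FprRow 4 1 3 (PSp m F) := by
  have := Fintype.ofFinite F
  by_cases hd : 3 ∣ Nat.card F - 1
  · exact psp_eone hm (FprTTRow.two_eq_zero heven) Nat.prime_three (by norm_num) hd
  have hq1 : 1 < Nat.card F := Finite.one_lt_card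
  have hn3 : ¬ 3 ∣ Nat.card F := by
    intro h
    obtain ⟨p, -, n, hpn, hn⟩ := FiniteField.card' F
    rw [Nat.card_eq_fintype_card, hn] at h heven
    have h3 := (Nat.prime_dvd_prime_iff_eq Nat.prime_three hpn).1 (Nat.prime_three.dvd_of_dvd_pow h)
    have h2 := (Nat.prime_dvd_prime_iff_eq Nat.prime_two hpn).1
      (Nat.prime_two.dvd_of_dvd_pow (even_iff_two_dvd.1 heven))
    omega
  have h3q : 3 ∣ Nat.card F + 1 := by
    have h : Nat.card F % 3 = 0 ∨ Nat.card F % 3 = 1 ∨ Nat.card F % 3 = 2 := by omega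
    rcases h with h | h | h
    · exact absurd (Nat.dvd_of_mod_eq_zero h) hn3
    · exact absurd (by omega) hd
    · omega
  have hq4 : Nat.card F ≠ 4 := by
    intro h
    apply hd
    rw [h]
  have hq6 : Nat.card F ≠ 6 := by
    intro h
    apply hn3
    rw [h]; norm_num
  obtain ⟨k, hk⟩ := heven
  rcases Nat.lt_or_ge m 3 with h3 | h3
  · have hm2 : m = 2 := by omega
    refine FprSpFour.row_PSp_minus hm ⟨k, hk⟩ ?_ h3q
    have : Nat.card F ≠ 2 := fun h => hmq ⟨hm2, h⟩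
    omega
  · rcases Nat.lt_or_ge (Nat.card F) 4 with h4 | h4
    · exact FprSpSix.row_PSp_two (by omega) h3
    · exact FprTTRow.row_PSp ⟨k, hk⟩ (Or.inr ⟨h3, h4⟩)

end Cfsg.Agent.H452.FprSpAll
end

private theorem dce_8c1dbc276cbc : _root_.True := by
  try have : _root_.True := by simp only [_root_.Cfsg.Agent.H452.FprSpFour.dg.congr_simp]
  try have : _root_.True := by simp only [_root_.Cfsg.Agent.H398.FPR.PslTwo.inv2.eq_1]
  exact _root_.True.intro
end

-- part: H400/FprD4H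
section
prune_inst 0x4d01001404d00000000000580010000043400009000400000000000000008804000000000000010020008800000000000001000800200000000000000000004010000020000400000000000000000000000000000000000000000000000000004200000000
set_option linter.all false
open scoped Cfsg.Agent.FastGrp

-- part: H400/FprD4A
section
/-!
# Fixed point ratios of `p`-elements: `³D₄(q)`, the radical of the long parabolic (helper400, TEAM FPR)
-/

set_option autoImplicit false
set_option linter.unusedSectionVars false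
set_option linter.unusedVariables false

namespace Cfsg.Agent.H400.Fpr

open scoped commutatorElement

theorem commutator_iSup_le {Y : Type*} [Group Y] {ι : Type*} (V : ι → Subgroup Y) (Z : Subgroup Y)
    (hn : ∀ i, V i ≤ Subgroup.normalizer (Z : Set Y)) (h : ∀ i j, ∀ a ∈ V i, ∀ b ∈ V j, ⁅a, b⁆ ∈ Z) :
    ⁅⨆ i, V i, ⨆ i, V i⁆ ≤ Z := by
  have hN : (⨆ i, V i) ≤ Subgroup.normalizer (Z : Set Y) := iSup_le hn
  have cj : ∀ a ∈ Subgroup.normalizer (Z : Set Y), ∀ z ∈ Z, a * z * a⁻¹ ∈ Z := fun a ha z hz =>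
    (Subgroup.mem_normalizer_iff.1 ha z).1 hz
  -- first variable
  let S : Y → Subgroup Y := fun b =>
    { carrier := {a | a ∈ Subgroup.normalizer (Z : Set Y) ∧ ⁅a, b⁆ ∈ Z}
      one_mem' := ⟨one_mem _, by rw [commutatorElement_one_left]; exact one_mem _⟩
      mul_mem' := by
        rintro a a' ⟨ha, ha'⟩ ⟨hb, hb'⟩
        refine ⟨mul_mem ha hb, ?_⟩
        have e : ⁅a * a', b⁆ = (a * ⁅a', b⁆ * a⁻¹) * ⁅a, b⁆ := by
          simp only [commutatorElement_def]; group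
        rw [e]
        exact mul_mem (cj a ha _ hb') ha'
      inv_mem' := by
        rintro a ⟨ha, ha'⟩
        refine ⟨inv_mem ha, ?_⟩
        have e : ⁅a⁻¹, b⁆ = a⁻¹ * ⁅a, b⁆⁻¹ * a⁻¹⁻¹ := by
          simp only [commutatorElement_def]; group
        rw [e]
        exact cj _ (inv_mem ha) _ (inv_mem ha') }
  have h1 : ∀ j, ∀ b ∈ V j, ∀ a ∈ (⨆ i, V i), ⁅a, b⁆ ∈ Z := by
    intro j b hb a ha
    have h2 : (⨆ i, V i) ≤ S b := iSup_le fun i a ha => ⟨hn i ha, h i j a ha b hb⟩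
    exact (h2 ha).2
  rw [Subgroup.commutator_le]
  intro a ha b hb
  have haN := hN ha
  have h2 : (⨆ i, V i) ≤ S a := iSup_le fun j b hb => ⟨hn j hb, by
    rw [← commutatorElement_inv]
    exact inv_mem (h1 j b hb a ha)⟩
  rw [← commutatorElement_inv]
  exact inv_mem (h2 hb).2

namespace D4

open CoxeterSystem Cfsg.Agent.ChevalleyStructure.CoxeterGeom Cfsg.Agent.Tits.Roots Cfsg.Agent.Tits.Core
  Cfsg.Agent.Nodes.Reps Cfsg.Agent.Nodes.BNOf Cfsg.Agent.Nodes.RGDTwGen Cfsg.Agent.Nodes.RGDChev Cfsg.Agent.Nodes.RGDFold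
  Cfsg.Agent.Nodes.KindChev Cfsg.Agent.Nodes.Coroot Cfsg.Agent.Nodes.PosPair Cfsg.Agent.Nodes.LeviDec
  Cfsg.Agent.Nodes.StabComb Cfsg.Agent.Nodes.Bruhat
open Cfsg.Lie Cfsg.Agent.ChevalleyStructure
open Cfsg.Agent.ChevalleyStructure.TwistedU Cfsg.Agent.ChevalleyStructure.D4U
  Cfsg.Agent.ChevalleyStructure.D4Comm Cfsg.Agent.ChevalleyStructure.D4RGD Cfsg.Agent.ChevalleyStructure.D4Twisted
open Cfsg.Agent.ChevalleyStructure.D4NConj (nR nR_def nG nG_def nG_conj)
open Cfsg.Agent.ChevalleyStructure.D4NCheck (rfl' eta)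
open Cfsg.Agent.Nodes.RGDTwD4 (A isCartan foldData hp)
open Cfsg.Agent.Hexagon.TwD4Par Cfsg.Agent.Hexagon.TwD4Rel
open Cfsg.Agent.SplitTwo
open Cfsg.Agent.Omega.EH3.Kf
open Cfsg.Agent.H400.TwoExc Cfsg.Agent.H400.TwoExc.TwD
open Cfsg.Agent.H398.FPR (CommFull UGood Pair)
open scoped commutatorElement

universe u

section Hex

variable {E : Type*} [Field E] {σ : E ≃+* E} {G : Type*} [Group G] {XX : ZMod (2 * 6) → Subgroup G}
  {x1 x2 x3 x4 x5 x6 : E → G} (P : HexPar σ XX x1 x2 x3 x4 x5 x6)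

include P

/-- the centre of the radical -/
def Z0 (XX : ZMod (2 * 6) → Subgroup G) : Subgroup G := XX 2 ⊔ XX 3 ⊔ XX 4

omit P in
theorem X2_le : XX 2 ≤ Z0 XX := le_sup_left.trans le_sup_left
omit P in
theorem X3_le : XX 3 ≤ Z0 XX := le_sup_right.trans le_sup_left
omit P in
theorem X4_le : XX 4 ≤ Z0 XX := le_sup_right

theorem com13 (a b : E) : ⁅x1 a, x3 b⁆ = x2 (trc σ a b) := by
  have hz : ∀ t, x1 (-t) = (x1 t)⁻¹ := by
    intro t
    have := P.rel.add1 (-t) t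
    rw [neg_add_cancel, x1_zero P] at this
    exact eq_inv_of_mul_eq_one_left this.symm
  have h1 := P.rel.c13 (-a) (-b)
  rw [FamD4.kk_eq, x3_neg P, hz, inv_inv, inv_inv] at h1
  rw [h1]
  unfold trc
  rw [neg_mul_neg]

theorem x1_neg (t : E) : x1 (-t) = (x1 t)⁻¹ := by
  have := P.rel.add1 (-t) t
  rw [neg_add_cancel, x1_zero P] at this
  exact eq_inv_of_mul_eq_one_left this.symm

omit P in
theorem map_nrm (hc : ∀ a, σ (σ (σ a)) = a) (a : E) : σ (nrm σ a) = nrm σ a := by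
  simp only [nrm, map_mul, hc]; ring

theorem conj_x6 {t : E} (ht : σ t = t) (a : E) : ∃ z ∈ Z0 XX, x6 t * x1 a * (x6 t)⁻¹ = x1 a * z * x5 (t * a) := by
  have h1 := P.rel.c16 a (-t) (by rw [map_neg, ht])
  unfold kk at h1
  rw [x6_neg P ht, inv_inv] at h1
  refine ⟨x2 (-(-t * nrm σ a)) * x3 (-t * shp σ a) * x4 ((-t) ^ 2 * nrm σ a), ?_, ?_⟩
  · have hc := P.rel.cube
    have hn := map_nrm hc a
    refine mul_mem (mul_mem (X2_le ((P.mem2 _).2 ⟨_, ?_, rfl⟩)) (X3_le ((P.mem3 _).2 ⟨_, rfl⟩)))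
      (X4_le ((P.mem4 _).2 ⟨_, ?_, rfl⟩))
    · rw [map_neg, map_mul, map_neg, ht, hn]
    · rw [map_mul, map_pow, map_neg, ht, hn]
  · have h2 : x6 t * x1 a * (x6 t)⁻¹ = x1 a * ((x1 a)⁻¹ * x6 t * x1 a * (x6 t)⁻¹) := by group
    have h3 : -(-t * a) = t * a := by ring
    rw [h2, h1, h3]
    simp only [mul_assoc]

/-- the radical -/
def Vr (XX : ZMod (2 * 6) → Subgroup G) : Subgroup G := ⨆ i : Fin 5, ![XX 1, XX 2, XX 3, XX 4, XX 5] i

omit P in
theorem V1 : XX 1 ≤ Vr XX := le_iSup (fun i : Fin 5 => ![XX 1, XX 2, XX 3, XX 4, XX 5] i) 0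
omit P in
theorem V2 : XX 2 ≤ Vr XX := le_iSup (fun i : Fin 5 => ![XX 1, XX 2, XX 3, XX 4, XX 5] i) 1
omit P in
theorem V3 : XX 3 ≤ Vr XX := le_iSup (fun i : Fin 5 => ![XX 1, XX 2, XX 3, XX 4, XX 5] i) 2
omit P in
theorem V4 : XX 4 ≤ Vr XX := le_iSup (fun i : Fin 5 => ![XX 1, XX 2, XX 3, XX 4, XX 5] i) 3
omit P in
theorem V5 : XX 5 ≤ Vr XX := le_iSup (fun i : Fin 5 => ![XX 1, XX 2, XX 3, XX 4, XX 5] i) 4

omit P in
theorem Z0_le_Vr : Z0 XX ≤ Vr XX := sup_le (sup_le V2 V3) V4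

omit P in
theorem norm_Z0 [Finite G] {A : Subgroup G} (h2 : ∀ a ∈ A, ∀ b ∈ XX 2, a * b * a⁻¹ ∈ Z0 XX)
    (h3 : ∀ a ∈ A, ∀ b ∈ XX 3, a * b * a⁻¹ ∈ Z0 XX) (h4 : ∀ a ∈ A, ∀ b ∈ XX 4, a * b * a⁻¹ ∈ Z0 XX) :
    A ≤ Subgroup.normalizer (Z0 XX : Set G) := by
  intro a ha
  refine norm_iff.2 ?_
  have h5 : Z0 XX ≤ (Z0 XX).comap (MulAut.conj a).toMonoidHom :=
    sup_le (sup_le (fun b hb => h2 a ha b hb) (fun b hb => h3 a ha b hb)) (fun b hb => h4 a ha b hb)
  exact fun y hy => h5 hy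

omit P in
theorem conj_of_comm {A B C : Subgroup G} {a b : G} (h : ⁅a, b⁆ ∈ C) (hb : b ∈ C) : a * b * a⁻¹ ∈ C := by
  have : a * b * a⁻¹ = ⁅a, b⁆ * b := by rw [commutatorElement_def]; group
  rw [this]
  exact mul_mem h hb

omit P in
theorem conj_of_eq {C : Subgroup G} {a b : G} (h : a * b = b * a) (hb : b ∈ C) : a * b * a⁻¹ ∈ C := by
  rw [h, mul_inv_cancel_right]
  exact hb

omit P in
theorem comm_of_eq {C : Subgroup G} {a b : G} (h : a * b = b * a) : ⁅a, b⁆ ∈ C := by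
  rw [commutatorElement_def, h]
  have : b * a * a⁻¹ * b⁻¹ = 1 := by group
  rw [this]
  exact one_mem _

omit P in
theorem comm_symm {C : Subgroup G} {a b : G} (h : ⁅a, b⁆ ∈ C) : ⁅b, a⁆ ∈ C := by
  rw [← commutatorElement_inv]
  exact inv_mem h

theorem Vr_norm_Z0 [Finite G] (i : Fin 5) : ![XX 1, XX 2, XX 3, XX 4, XX 5] i ≤ Subgroup.normalizer (Z0 XX : Set G) := by
  fin_cases i
  · refine norm_Z0 (fun a ha b hb => conj_of_eq (nil12 P ha hb) (X2_le hb)) (fun a ha b hb => ?_)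
      (fun a ha b hb => conj_of_eq (nil14 P ha hb) (X4_le hb))
    obtain ⟨s, rfl⟩ := (P.mem1 a).1 ha
    obtain ⟨t, rfl⟩ := (P.mem3 b).1 hb
    refine conj_of_comm (A := ⊥) (B := ⊥) ?_ (X3_le hb)
    rw [com13 P]
    exact X2_le ((P.mem2 _).2 ⟨_, map_trc P.rel.cube _ _, rfl⟩)
  · exact norm_Z0 (fun a ha b hb => conj_of_eq (nil22 P ha hb) (X2_le hb))
      (fun a ha b hb => conj_of_eq (nil23 P ha hb) (X3_le hb))
      (fun a ha b hb => conj_of_eq (nil24 P ha hb) (X4_le hb))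
  · exact norm_Z0 (fun a ha b hb => conj_of_eq (nil23 P hb ha).symm (X2_le hb))
      (fun a ha b hb => conj_of_eq (nil33 P ha hb) (X3_le hb))
      (fun a ha b hb => conj_of_eq (nil34 P ha hb) (X4_le hb))
  · exact norm_Z0 (fun a ha b hb => conj_of_eq (nil24 P hb ha).symm (X2_le hb))
      (fun a ha b hb => conj_of_eq (nil34 P hb ha).symm (X3_le hb))
      (fun a ha b hb => conj_of_eq (nil44 P ha hb) (X4_le hb))
  · refine norm_Z0 (fun a ha b hb => conj_of_eq (nil25 P hb ha).symm (X2_le hb)) (fun a ha b hb => ?_)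
      (fun a ha b hb => conj_of_eq (nil45 P hb ha).symm (X4_le hb))
    exact conj_of_comm (A := ⊥) (B := ⊥) (X4_le (cen_symm (fun u hu v hv => cen35 P hu hv) ha hb)) (X3_le hb)

theorem com15_mem {a b : E} : ⁅x1 a, x5 b⁆ ∈ Z0 XX := by
  have h1 := P.rel.c15 (-a) (-b)
  rw [FamD4.kk_eq, x1_neg P, x5_neg P, inv_inv, inv_inv] at h1
  rw [h1]
  refine mul_mem (mul_mem (X2_le ((P.mem2 _).2 ⟨_, ?_, rfl⟩)) (X3_le ((P.mem3 _).2 ⟨_, rfl⟩)))
    (X4_le ((P.mem4 _).2 ⟨_, ?_, rfl⟩))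
  · rw [map_neg, map_trc P.rel.cube]
  · rw [map_trc P.rel.cube]

theorem comm_Vr_le [Finite G] : ⁅Vr XX, Vr XX⁆ ≤ Z0 XX := by
  refine commutator_iSup_le _ _ (Vr_norm_Z0 P) ?_
  intro i j a ha b hb
  have h15 : ∀ a ∈ XX 1, ∀ b ∈ XX 5, ⁅a, b⁆ ∈ Z0 XX := by
    intro a ha b hb
    obtain ⟨s, rfl⟩ := (P.mem1 a).1 ha
    obtain ⟨t, rfl⟩ := (P.mem5 b).1 hb
    exact com15_mem P
  have h13 : ∀ a ∈ XX 1, ∀ b ∈ XX 3, ⁅a, b⁆ ∈ Z0 XX := by
    intro a ha b hb
    obtain ⟨s, rfl⟩ := (P.mem1 a).1 ha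
    obtain ⟨t, rfl⟩ := (P.mem3 b).1 hb
    rw [com13 P]
    exact X2_le ((P.mem2 _).2 ⟨_, map_trc P.rel.cube _ _, rfl⟩)
  have h35 : ∀ a ∈ XX 3, ∀ b ∈ XX 5, ⁅a, b⁆ ∈ Z0 XX := fun a ha b hb => X4_le (cen35 P ha hb)
  fin_cases i <;> fin_cases j
  · exact comm_of_eq (nil11 P ha hb)
  · exact comm_of_eq (nil12 P ha hb)
  · exact h13 a ha b hb
  · exact comm_of_eq (nil14 P ha hb)
  · exact h15 a ha b hb
  · exact comm_of_eq (nil12 P hb ha).symm
  · exact comm_of_eq (nil22 P ha hb)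
  · exact comm_of_eq (nil23 P ha hb)
  · exact comm_of_eq (nil24 P ha hb)
  · exact comm_of_eq (nil25 P ha hb)
  · exact comm_symm (h13 b hb a ha)
  · exact comm_of_eq (nil23 P hb ha).symm
  · exact comm_of_eq (nil33 P ha hb)
  · exact comm_of_eq (nil34 P ha hb)
  · exact h35 a ha b hb
  · exact comm_of_eq (nil14 P hb ha).symm
  · exact comm_of_eq (nil24 P hb ha).symm
  · exact comm_of_eq (nil34 P hb ha).symm
  · exact comm_of_eq (nil44 P ha hb)
  · exact comm_of_eq (nil45 P ha hb)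
  · exact comm_symm (h15 b hb a ha)
  · exact comm_of_eq (nil25 P hb ha).symm
  · exact comm_symm (h35 b hb a ha)
  · exact comm_of_eq (nil45 P hb ha).symm
  · exact comm_of_eq (nil55 P ha hb)

/-- `Z₀` is the derived subgroup of the radical. -/
theorem Z0_le_comm (hB : ∃ B, σ B ≠ B) : Z0 XX ≤ ⁅Vr XX, Vr XX⁆ := by
  have hc := P.rel.cube
  have h2 : XX 2 ≤ ⁅Vr XX, Vr XX⁆ := by
    intro g hg
    obtain ⟨c, hc', rfl⟩ := (P.mem2 g).1 hg
    obtain ⟨b, hb⟩ := exists_tr hc hB (a := 1) (c := c) one_ne_zero hc'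
    rw [← hb, ← com13 P]
    exact Subgroup.commutator_mem_commutator (V1 ((P.mem1 _).2 ⟨_, rfl⟩)) (V3 ((P.mem3 _).2 ⟨_, rfl⟩))
  have h4 : XX 4 ≤ ⁅Vr XX, Vr XX⁆ := by
    intro g hg
    obtain ⟨c, hc', rfl⟩ := (P.mem4 g).1 hg
    obtain ⟨b, hb⟩ := exists_tr hc hB (a := 1) (c := c) one_ne_zero hc'
    rw [← hb, ← com35 P]
    exact Subgroup.commutator_mem_commutator (V3 ((P.mem3 _).2 ⟨_, rfl⟩)) (V5 ((P.mem5 _).2 ⟨_, rfl⟩))
  refine sup_le (sup_le h2 ?_) h4
  intro g hg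
  obtain ⟨c, rfl⟩ := (P.mem3 g).1 hg
  by_cases hc0 : c = 0
  · rw [hc0, x3_zero P]
    exact one_mem _
  obtain ⟨B, hB⟩ := hB
  set a : E := c⁻¹ * (B - σ B) with ha
  have ha0 : a ≠ 0 := mul_ne_zero (inv_ne_zero hc0) (sub_ne_zero.2 (Ne.symm hB))
  have hσa : σ a ≠ 0 := fun h => ha0 ((map_eq_zero σ).1 h)
  have hσσa : σ (σ a) ≠ 0 := fun h => hσa ((map_eq_zero σ).1 h)
  have hca : c * a = B - σ B := by rw [ha, mul_inv_cancel_left₀ hc0]
  have htr : c * a + σ c * σ a + σ (σ c) * σ (σ a) = 0 := by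
    rw [← map_mul, ← map_mul, ← map_mul, hca, map_sub, map_sub, hc]
    ring
  set N := a * σ a * σ (σ a) with hN
  have hN0 : N ≠ 0 := mul_ne_zero (mul_ne_zero ha0 hσa) hσσa
  have hσN : σ N = N := by rw [hN, map_mul, map_mul, hc]; ring
  set b : E := -(c * a ^ 2 / N) with hb
  have hσb : σ b = -(σ c * σ a ^ 2 / N) := by
    rw [hb, map_neg, map_div₀, map_mul, map_pow, hσN]
  have hσσb : σ (σ b) = -(σ (σ c) * σ (σ a) ^ 2 / N) := by
    rw [hσb, map_neg, map_div₀, map_mul, map_pow, hσN]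
  have hcrs : crs σ a b = c := by
    unfold crs
    rw [hσσb, hσb]
    have h5 : a * (σ a * -(σ (σ c) * σ (σ a) ^ 2 / N) + σ (σ a) * -(σ c * σ a ^ 2 / N)) = a * c := by
      have h6 : σ (σ c) * σ (σ a) = -(c * a) - σ c * σ a := by linear_combination htr
      have h7 : a * (σ a * -(σ (σ c) * σ (σ a) ^ 2 / N) + σ (σ a) * -(σ c * σ a ^ 2 / N)) =
          -(N * (σ (σ c) * σ (σ a)) + N * (σ c * σ a)) / N := by
        rw [hN]; field_simp; ring
      rw [h7, h6]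
      field_simp
      ring
    exact mul_left_cancel₀ ha0 h5
  have h5 := P.rel.c15 (-a) (-b)
  rw [FamD4.kk_eq, x1_neg P, x5_neg P, inv_inv, inv_inv] at h5
  have h6 : crs σ (-a) (-b) = c := by
    rw [← hcrs]
    unfold crs
    simp only [map_neg]
    ring
  rw [h6] at h5
  have h7 : ⁅x1 a, x5 b⁆ ∈ ⁅Vr XX, Vr XX⁆ :=
    Subgroup.commutator_mem_commutator (V1 ((P.mem1 _).2 ⟨_, rfl⟩)) (V5 ((P.mem5 _).2 ⟨_, rfl⟩))
  rw [h5] at h7
  have h8 : x2 (-trc σ (shp σ (-a)) (-b)) ∈ ⁅Vr XX, Vr XX⁆ := h2 ((P.mem2 _).2 ⟨_, by rw [map_neg, map_trc hc], rfl⟩)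
  have h9 : x4 (trc σ (-a) (shp σ (-b))) ∈ ⁅Vr XX, Vr XX⁆ := h4 ((P.mem4 _).2 ⟨_, by rw [map_trc hc], rfl⟩)
  have h10 := mul_mem (mul_mem (inv_mem h8) h7) (inv_mem h9)
  have h11 : (x2 (-trc σ (shp σ (-a)) (-b)))⁻¹ * (x2 (-trc σ (shp σ (-a)) (-b)) * x3 c * x4 (trc σ (-a) (shp σ (-b)))) *
      (x4 (trc σ (-a) (shp σ (-b))))⁻¹ = x3 c := by group
  rwa [h11] at h10

theorem comm_Vr [Finite G] (hB : ∃ B, σ B ≠ B) : ⁅Vr XX, Vr XX⁆ = Z0 XX :=
  le_antisymm (comm_Vr_le P) (Z0_le_comm P hB)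

end Hex

end D4

end Cfsg.Agent.H400.Fpr
end

-- part: H400/FprD4B
section
/-!
# Fixed point ratios of `p`-elements: `³D₄(q)`, primes dividing `q² - 1` (helper400, TEAM FPR)
-/

set_option autoImplicit false
set_option linter.unusedSectionVars false
set_option linter.unusedVariables false

namespace Cfsg.Agent.H400.Fpr.D4

open CoxeterSystem Cfsg.Agent.ChevalleyStructure.CoxeterGeom Cfsg.Agent.Tits.Roots Cfsg.Agent.Tits.Core
  Cfsg.Agent.Nodes.Reps Cfsg.Agent.Nodes.BNOf Cfsg.Agent.Nodes.RGDTwGen Cfsg.Agent.Nodes.RGDChev Cfsg.Agent.Nodes.RGDFold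
  Cfsg.Agent.Nodes.KindChev Cfsg.Agent.Nodes.Coroot Cfsg.Agent.Nodes.PosPair Cfsg.Agent.Nodes.LeviDec
  Cfsg.Agent.Nodes.StabComb Cfsg.Agent.Nodes.Bruhat Cfsg.Agent.Nodes.Unique
open Cfsg.Lie Cfsg.Agent.ChevalleyStructure
open Cfsg.Agent.ChevalleyStructure.TwistedU Cfsg.Agent.ChevalleyStructure.D4U
  Cfsg.Agent.ChevalleyStructure.D4Comm Cfsg.Agent.ChevalleyStructure.D4RGD Cfsg.Agent.ChevalleyStructure.D4Twisted
open Cfsg.Agent.ChevalleyStructure.D4NConj (nR nR_def nG nG_def nG_conj)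
open Cfsg.Agent.ChevalleyStructure.D4NCheck (rfl' eta)
open Cfsg.Agent.Nodes.RGDTwD4 (A isCartan foldData hp)
open Cfsg.Agent.Hexagon.TwD4Par Cfsg.Agent.Hexagon.TwD4Rel
open Cfsg.Agent.SplitTwo
open Cfsg.Agent.Omega.EH3.Kf
open Cfsg.Agent.H400.TwoExc Cfsg.Agent.H400.TwoExc.TwD
open Cfsg.Agent.H398.FPR (CommFull UGood Pair)
open scoped commutatorElement

universe u

variable {W : Type*} [Group W] [Finite W] {cs : CoxeterSystem CoxeterMatrix.G₂ W}

section Roots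

theorem r01 : IsRoot cs isCartan (toV [0, 1]) :=
  (pr cs).1.isRoot (List.mem_map.2 ⟨([0, 1], [-3, 2], 3), by decide +kernel, rfl⟩)
theorem r13 : IsRoot cs isCartan (toV [1, 3]) :=
  (pr cs).1.isRoot (List.mem_map.2 ⟨([1, 3], [-3, 3], 1), by decide +kernel, rfl⟩)
theorem r12 : IsRoot cs isCartan (toV [1, 2]) :=
  (pr cs).1.isRoot (List.mem_map.2 ⟨([1, 2], [0, 1], 3), by decide +kernel, rfl⟩)
theorem r11 : IsRoot cs isCartan (toV [1, 1]) :=
  (pr cs).1.isRoot (List.mem_map.2 ⟨([1, 1], [3, -1], 3), by decide +kernel, rfl⟩)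
theorem r23 : IsRoot cs isCartan (toV [2, 3]) :=
  (pr cs).1.isRoot (List.mem_map.2 ⟨([2, 3], [3, 0], 1), by decide +kernel, rfl⟩)
theorem r10 : IsRoot cs isCartan (toV [1, 0]) :=
  (pr cs).1.isRoot (List.mem_map.2 ⟨([1, 0], [6, -3], 1), by decide +kernel, rfl⟩)

/-- the roots of the radical -/
def s5 : Finset (Fin 2 → ℤ) := {toV [0, 1], toV [1, 3], toV [1, 2], toV [2, 3], toV [1, 1]}
/-- the roots of its derived subgroup -/
def s3 : Finset (Fin 2 → ℤ) := {toV [1, 3], toV [1, 2], toV [2, 3]}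

theorem mem_s5 {z : Fin 2 → ℤ} : z ∈ s5 ↔ z = toV [0, 1] ∨ z = toV [1, 3] ∨ z = toV [1, 2] ∨ z = toV [2, 3] ∨
    z = toV [1, 1] := by
  simp [s5]

theorem mem_s3 {z : Fin 2 → ℤ} : z ∈ s3 ↔ z = toV [1, 3] ∨ z = toV [1, 2] ∨ z = toV [2, 3] := by
  simp [s3]

theorem s5_pos : ∀ z ∈ s5, 0 ≤ z ∧ 0 < z 1 := by
  have h : ∀ z ∈ s5, (∀ i, 0 ≤ z i) ∧ 0 < z 1 := by decide +kernel
  exact fun z hz => ⟨fun i => (h z hz).1 i, (h z hz).2⟩
theorem s3_pos : ∀ z ∈ s3, 0 ≤ z ∧ 3 * z 0 ≤ 2 * z 1 ∧ z 1 ≤ 3 * z 0 := by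
  have h : ∀ z ∈ s3, (∀ i, 0 ≤ z i) ∧ 3 * z 0 ≤ 2 * z 1 ∧ z 1 ≤ 3 * z 0 := by decide +kernel
  exact fun z hz => ⟨fun i => (h z hz).1 i, (h z hz).2⟩

theorem s5_root {z : Fin 2 → ℤ} (hz : z ∈ s5) : IsRoot cs isCartan z := by
  rcases mem_s5.1 hz with rfl | rfl | rfl | rfl | rfl
  · exact r01
  · exact r13
  · exact r12
  · exact r23
  · exact r11

theorem s3_sub {z : Fin 2 → ℤ} (hz : z ∈ s3) : z ∈ s5 := by revert z; decide +kernel

theorem s5_iff {z : Fin 2 → ℤ} (hz : IsRoot cs isCartan z) : z ∈ s5 ↔ 0 ≤ z ∧ 0 < z 1 := by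
  refine ⟨s5_pos z, fun h0 => mem_s5.2 ?_⟩
  rcases six hz h0.1 with h1 | h1 | h1 | h1 | h1 | h1
  · exact Or.inl h1
  · exact Or.inr (Or.inl h1)
  · exact Or.inr (Or.inr (Or.inl h1))
  · exact Or.inr (Or.inr (Or.inr (Or.inl h1)))
  · exact Or.inr (Or.inr (Or.inr (Or.inr h1)))
  · exfalso
    have h2 : ¬ 0 < (toV [1, 0] : Fin 2 → ℤ) 1 := by decide +kernel
    rw [h1] at h0
    exact h2 h0.2

theorem s3_iff {z : Fin 2 → ℤ} (hz : IsRoot cs isCartan z) :
    z ∈ s3 ↔ 0 ≤ z ∧ 3 * z 0 ≤ 2 * z 1 ∧ z 1 ≤ 3 * z 0 := by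
  refine ⟨s3_pos z, fun h0 => mem_s3.2 ?_⟩
  rcases six hz h0.1 with h1 | h1 | h1 | h1 | h1 | h1
  · exfalso
    have h2 : ¬ (toV [0, 1] : Fin 2 → ℤ) 1 ≤ 3 * (toV [0, 1] : Fin 2 → ℤ) 0 := by decide +kernel
    rw [h1] at h0
    exact h2 h0.2.2
  · exact Or.inl h1
  · exact Or.inr (Or.inl h1)
  · exact Or.inr (Or.inr h1)
  · exfalso
    have h2 : ¬ 3 * (toV [1, 1] : Fin 2 → ℤ) 0 ≤ 2 * (toV [1, 1] : Fin 2 → ℤ) 1 := by decide +kernel
    rw [h1] at h0
    exact h2 h0.2.1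
  · exfalso
    have h2 : ¬ 3 * (toV [1, 0] : Fin 2 → ℤ) 0 ≤ 2 * (toV [1, 0] : Fin 2 → ℤ) 1 := by decide +kernel
    rw [h1] at h0
    exact h2 h0.2.1

theorem notJ_eq : NotJ cs isCartan {(0 : Fin 2)} = (s5 : Set (Fin 2 → ℤ)) := by
  ext z
  constructor
  · rintro ⟨hz, h0, k, hk, hk'⟩
    refine (s5_iff hz).2 ⟨h0, ?_⟩
    have h1 : k ≠ 0 := fun h => hk (by rw [h]; rfl)
    have h2 : k = 1 := by omega
    rwa [h2] at hk'
  · intro hz
    have h1 := s5_root (cs := cs) (Finset.mem_coe.1 hz)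
    obtain ⟨h2, h3⟩ := (s5_iff h1).1 (Finset.mem_coe.1 hz)
    exact ⟨h1, h2, 1, by simp, h3⟩

theorem pos_of_btwn {x y z : Fin 2 → ℤ} (hz : Btwn cs isCartan x y z) (hx : 0 ≤ x) (hy : 0 ≤ y) : 0 ≤ z := by
  obtain ⟨-, m, a, b, hm, ha, hb, e⟩ := hz
  intro i
  have h1 := congrFun e i
  simp only [Pi.smul_apply, Pi.add_apply, smul_eq_mul] at h1
  have h2 : 0 ≤ a * x i := mul_nonneg ha.le (hx i)
  have h3 : 0 ≤ b * y i := mul_nonneg hb.le (hy i)
  rw [Pi.zero_apply]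
  by_contra h4
  push Not at h4
  have := mul_neg_of_pos_of_neg hm h4
  omega

theorem s5_closed : Closed cs isCartan (s5 : Set (Fin 2 → ℤ)) := by
  intro x hx y hy z hz
  obtain ⟨hx0, hx1⟩ := s5_pos x hx
  obtain ⟨hy0, hy1⟩ := s5_pos y hy
  refine (s5_iff hz.1).2 ⟨pos_of_btwn hz hx0 hy0, ?_⟩
  obtain ⟨-, m, a, b, hm, ha, hb, e⟩ := hz
  have h1 := congrFun e 1
  simp only [Pi.smul_apply, Pi.add_apply, smul_eq_mul] at h1
  have h2 : 0 < a * x 1 := mul_pos ha hx1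
  have h3 : 0 < b * y 1 := mul_pos hb hy1
  by_contra h4
  push Not at h4
  have := mul_nonpos_of_nonneg_of_nonpos hm.le h4
  omega

theorem s3_closed : Closed cs isCartan (s3 : Set (Fin 2 → ℤ)) := by
  intro x hx y hy z hz
  obtain ⟨hx0, hx1, hx2⟩ := s3_pos x hx
  obtain ⟨hy0, hy1, hy2⟩ := s3_pos y hy
  refine (s3_iff hz.1).2 ⟨pos_of_btwn hz hx0 hy0, ?_⟩
  obtain ⟨-, m, a, b, hm, ha, hb, e⟩ := hz
  have h0 := congrFun e 0
  have h1 := congrFun e 1
  simp only [Pi.smul_apply, Pi.add_apply, smul_eq_mul] at h0 h1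
  constructor
  · by_contra h4
    push Not at h4
    have h5 : 0 ≤ a * (2 * x 1 - 3 * x 0) := mul_nonneg ha.le (by linarith)
    have h6 : 0 ≤ b * (2 * y 1 - 3 * y 0) := mul_nonneg hb.le (by linarith)
    have h7 := mul_neg_of_pos_of_neg hm (show 2 * z 1 - 3 * z 0 < 0 by linarith)
    linarith only [h0, h1, h5, h6, h7]
  · by_contra h4
    push Not at h4
    have h5 : 0 ≤ a * (3 * x 0 - x 1) := mul_nonneg ha.le (by linarith)
    have h6 : 0 ≤ b * (3 * y 0 - y 1) := mul_nonneg hb.le (by linarith)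
    have h7 := mul_neg_of_pos_of_neg hm (show 3 * z 0 - z 1 < 0 by linarith)
    linarith only [h0, h1, h5, h6, h7]

end Roots

section Group

variable {K : Type u} [Field K] [Fintype K] {q p : ℕ} {φ : K →+* K} [Fact p.Prime] [CharP K p]
  (hK : Fintype.card K = q ^ 3) (hφ : ∀ x, φ x = x ^ q)

include hK hφ

theorem Vr_eq : Vr (Hexagon.TwD4RGD.X K q) = VJ cs isCartan (Nodes.RGDTwD4.X φ q) {(0 : Fin 2)} := by
  have hle := D4Fixed.twisted_le_fix hK hφ
  unfold VJ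
  rw [notJ_eq]
  apply le_antisymm
  · refine iSup_le fun i => ?_
    fin_cases i
    · show Hexagon.TwD4RGD.X K q 1 ≤ _
      rw [← X1' hle]; exact RGD.le_Sup (Finset.mem_coe.2 (by decide +kernel))
    · show Hexagon.TwD4RGD.X K q 2 ≤ _
      rw [← X2' hle]; exact RGD.le_Sup (Finset.mem_coe.2 (by decide +kernel))
    · show Hexagon.TwD4RGD.X K q 3 ≤ _
      rw [← X3' hle]; exact RGD.le_Sup (Finset.mem_coe.2 (by decide +kernel))
    · show Hexagon.TwD4RGD.X K q 4 ≤ _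
      rw [← X4' hle]; exact RGD.le_Sup (Finset.mem_coe.2 (by decide +kernel))
    · show Hexagon.TwD4RGD.X K q 5 ≤ _
      rw [← X5' hle]; exact RGD.le_Sup (Finset.mem_coe.2 (by decide +kernel))
  · refine RGD.Sup_le fun z hz => ?_
    rcases mem_s5.1 (Finset.mem_coe.1 hz) with rfl | rfl | rfl | rfl | rfl
    · rw [X1' hle]; exact V1
    · rw [X2' hle]; exact V2
    · rw [X3' hle]; exact V3
    · rw [X4' hle]; exact V4
    · rw [X5' hle]; exact V5

theorem Z0_eq : Z0 (Hexagon.TwD4RGD.X K q) = RGD.Sup (Nodes.RGDTwD4.X φ q) (s3 : Set (Fin 2 → ℤ)) := by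
  have hle := D4Fixed.twisted_le_fix hK hφ
  apply le_antisymm
  · refine sup_le (sup_le ?_ ?_) ?_
    · rw [← X2' hle]; exact RGD.le_Sup (Finset.mem_coe.2 (by decide +kernel))
    · rw [← X3' hle]; exact RGD.le_Sup (Finset.mem_coe.2 (by decide +kernel))
    · rw [← X4' hle]; exact RGD.le_Sup (Finset.mem_coe.2 (by decide +kernel))
  · refine RGD.Sup_le fun z hz => ?_
    rcases mem_s3.1 (Finset.mem_coe.1 hz) with rfl | rfl | rfl
    · rw [X2' hle]; exact X2_le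
    · rw [X3' hle]; exact X3_le
    · rw [X4' hle]; exact X4_le

theorem card_Vr (hq1 : 1 < q) : Nat.card (Vr (Hexagon.TwD4RGD.X K q)) = q ^ 11 := by
  obtain ⟨p, hp'⟩ := CharP.exists K
  have : Fact p.Prime := ⟨CharP.char_is_prime K p⟩
  have hW : Finite CoxeterMatrix.G₂.Group := Nodes.RGDFold.finite_W (hp := Nodes.RGDTwD4.hp)
    CoxeterMatrix.G₂.toCoxeterSystem isCartan foldData
  have h1 := Nodes.CardSup.card_sup (Nodes.RGDTwD4.rgd CoxeterMatrix.G₂.toCoxeterSystem hK hφ p) (s := s5)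
    (fun z hz => ⟨s5_root (Finset.mem_coe.1 hz), (s5_pos z (Finset.mem_coe.1 hz)).1⟩)
    (s5_closed (cs := CoxeterMatrix.G₂.toCoxeterSystem))
  rw [Vr_eq (cs := CoxeterMatrix.G₂.toCoxeterSystem) hK hφ]
  unfold VJ
  rw [notJ_eq, h1,
    Finset.prod_congr rfl (fun z hz => card_X p hK hφ hq1 (s5_root (cs := CoxeterMatrix.G₂.toCoxeterSystem) hz)),
    Finset.prod_pow_eq_pow_sum]
  congr 1

theorem card_Z0 (hq1 : 1 < q) : Nat.card (Z0 (Hexagon.TwD4RGD.X K q)) = q ^ 5 := by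
  obtain ⟨p, hp'⟩ := CharP.exists K
  have : Fact p.Prime := ⟨CharP.char_is_prime K p⟩
  have hW : Finite CoxeterMatrix.G₂.Group := Nodes.RGDFold.finite_W (hp := Nodes.RGDTwD4.hp)
    CoxeterMatrix.G₂.toCoxeterSystem isCartan foldData
  have h1 := Nodes.CardSup.card_sup (Nodes.RGDTwD4.rgd CoxeterMatrix.G₂.toCoxeterSystem hK hφ p) (s := s3)
    (fun z hz => ⟨s5_root (s3_sub (Finset.mem_coe.1 hz)), (s5_pos z (s3_sub (Finset.mem_coe.1 hz))).1⟩)
    (s3_closed (cs := CoxeterMatrix.G₂.toCoxeterSystem))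
  rw [Z0_eq hK hφ, h1,
    Finset.prod_congr rfl (fun z hz => card_X p hK hφ hq1
      (s5_root (cs := CoxeterMatrix.G₂.toCoxeterSystem) (s3_sub hz))),
    Finset.prod_pow_eq_pow_sum]
  congr 1

omit hK hφ in
theorem isPGroup_of_card {Y : Type*} [Group Y] {R : Subgroup Y} {p f m : ℕ} (hp : p.Prime)
    (h : Nat.card R = (p ^ f) ^ m) : IsPGroup p R := by
  rw [← pow_mul] at h
  exact IsPGroup.of_card h

end Group

end Cfsg.Agent.H400.Fpr.D4
end

-- part: H400/FprD4C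
section
/-!
# Fixed point ratios of `p`-elements: `³D₄(q)`, primes dividing `q² - 1` (helper400, TEAM FPR)
-/

set_option autoImplicit false
set_option linter.unusedSectionVars false
set_option linter.unusedVariables false

namespace Cfsg.Agent.H400.Fpr.D4

open CoxeterSystem Cfsg.Agent.ChevalleyStructure.CoxeterGeom Cfsg.Agent.Tits.Roots Cfsg.Agent.Tits.Core
  Cfsg.Agent.Nodes.Reps Cfsg.Agent.Nodes.BNOf Cfsg.Agent.Nodes.RGDTwGen Cfsg.Agent.Nodes.RGDChev Cfsg.Agent.Nodes.RGDFold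
  Cfsg.Agent.Nodes.KindChev Cfsg.Agent.Nodes.Coroot Cfsg.Agent.Nodes.PosPair Cfsg.Agent.Nodes.LeviDec
  Cfsg.Agent.Nodes.StabComb Cfsg.Agent.Nodes.Bruhat Cfsg.Agent.Nodes.Unique
open Cfsg.Lie Cfsg.Agent.ChevalleyStructure
open Cfsg.Agent.ChevalleyStructure.TwistedU Cfsg.Agent.ChevalleyStructure.D4U
  Cfsg.Agent.ChevalleyStructure.D4Comm Cfsg.Agent.ChevalleyStructure.D4RGD Cfsg.Agent.ChevalleyStructure.D4Twisted
open Cfsg.Agent.ChevalleyStructure.D4NConj (nR nR_def nG nG_def nG_conj)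
open Cfsg.Agent.ChevalleyStructure.D4NCheck (rfl' eta)
open Cfsg.Agent.Nodes.RGDTwD4 (A isCartan foldData hp)
open Cfsg.Agent.Hexagon.TwD4Par Cfsg.Agent.Hexagon.TwD4Rel
open Cfsg.Agent.SplitTwo
open Cfsg.Agent.Omega.EH3.Kf
open Cfsg.Agent.H400.TwoExc Cfsg.Agent.H400.TwoExc.TwD
open Cfsg.Agent.H398.FPR (CommFull UGood Pair)
open Cfsg.Agent.TitsThree.RankTwoZ (Maps)
open scoped commutatorElement MatrixGroups

universe u

section Hex

variable {E : Type*} [Field E] {σ : E ≃+* E} {G : Type*} [Group G] {XX : ZMod (2 * 6) → Subgroup G}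
  {x1 x2 x3 x4 x5 x6 : E → G}

/-- coordinates of the radical modulo its derived subgroup -/
def Em (x1 x5 : E → G) (v : Fin 2 → E) : G := x1 (v 0) * x5 (v 1)

/-- the fixed field -/
def Fk (σ : E ≃+* E) : Subfield E := (σ.toRingHom).eqLocusField (RingHom.id E)

theorem mem_Fk {a : E} : a ∈ Fk σ ↔ σ a = a := Iff.rfl

variable (P : HexPar σ XX x1 x2 x3 x4 x5 x6)

include P

theorem isMod [Finite G] [Finite E]
    (hc : Nat.card (Vr XX) = Nat.card (Z0 XX) * Nat.card E ^ 2) : IsMod (Z0 XX) (Vr XX) (Em x1 x5) := by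
  have hN : Vr XX ≤ Subgroup.normalizer (Z0 XX : Set G) := iSup_le (Vr_norm_Z0 P)
  refine IsMod.of_card Z0_le_Vr (fun r hr z hz => (Subgroup.mem_normalizer_iff.1 (hN hr) z).1 hz) ?_ ?_ ?_ ?_ hc
  · intro v
    exact mul_mem (V1 ((P.mem1 _).2 ⟨_, rfl⟩)) (V5 ((P.mem5 _).2 ⟨_, rfl⟩))
  · show x1 0 * x5 0 ∈ _
    rw [x1_zero P, x5_zero P, one_mul]
    exact one_mem _
  · intro u v
    have h1 : ⁅x5 (u 1), x1 (v 0)⁆ ∈ Z0 XX := comm_symm (com15_mem P)
    have hx1 : x1 (u 0) ∈ Vr XX := V1 ((P.mem1 _).2 ⟨_, rfl⟩)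
    refine ⟨x1 (u 0) * ⁅x5 (u 1), x1 (v 0)⁆ * (x1 (u 0))⁻¹, (Subgroup.mem_normalizer_iff.1 (hN hx1) _).1 h1, ?_⟩
    show x1 (u 0) * x5 (u 1) * (x1 (v 0) * x5 (v 1)) = _ * (x1 ((u + v) 0) * x5 ((u + v) 1))
    rw [Pi.add_apply, Pi.add_apply, P.rel.add1, P.rel.add5, commutatorElement_def]
    group
  · refine iSup_le fun i => ?_
    fin_cases i
    · intro g hg
      obtain ⟨a, rfl⟩ := (P.mem1 g).1 hg
      refine Subgroup.mem_sup_right (Subgroup.subset_closure ⟨![a, 0], ?_⟩)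
      show x1 a * x5 0 = x1 a
      rw [x5_zero P, mul_one]
    · exact X2_le.trans le_sup_left
    · exact X3_le.trans le_sup_left
    · exact X4_le.trans le_sup_left
    · intro g hg
      obtain ⟨a, rfl⟩ := (P.mem5 g).1 hg
      refine Subgroup.mem_sup_right (Subgroup.subset_closure ⟨![0, a], ?_⟩)
      show x1 0 * x5 a = x5 a
      rw [x1_zero P, one_mul]

omit P in
theorem iff_of_norm {Z : Subgroup G} {g : G} (h : g ∈ Subgroup.normalizer (Z : Set G)) :
    ∀ z, z ∈ Z ↔ g * z * g⁻¹ ∈ Z := Subgroup.mem_normalizer_iff.1 h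

theorem x6_norm [Finite G] : XX 6 ≤ Subgroup.normalizer (Z0 XX : Set G) := by
  refine norm_Z0 (fun a ha b hb => ?_) (fun a ha b hb => conj_of_eq (nil36 P hb ha).symm (X3_le hb))
    (fun a ha b hb => conj_of_eq (nil46 P hb ha).symm (X4_le hb))
  exact conj_of_comm (A := ⊥) (B := ⊥) (X4_le (cen_symm (fun u hu v hv => cen26 P hu hv) ha hb)) (X2_le hb)

/-- the action of `X₆` -/
theorem rel6 [Finite G] (t : Fk σ) :
    (x6 (t : E), Matrix.SpecialLinearGroup.map (Fk σ).subtype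
      (Matrix.SpecialLinearGroup.transvection (show (1 : Fin 2) ≠ 0 by decide) t)) ∈ relSub (Z0 XX) (Em x1 x5) := by
  have ht : σ (t : E) = t := t.2
  have h6 : x6 (t : E) ∈ XX 6 := (P.mem6 _).2 ⟨_, ht, rfl⟩
  refine ⟨iff_of_norm (x6_norm P h6), fun v => ?_⟩
  obtain ⟨z, hz, e⟩ := conj_x6 P ht (v 0)
  have hN : Vr XX ≤ Subgroup.normalizer (Z0 XX : Set G) := iSup_le (Vr_norm_Z0 P)
  have hx1 : x1 (v 0) ∈ Vr XX := V1 ((P.mem1 _).2 ⟨_, rfl⟩)
  refine ⟨x1 (v 0) * z * (x1 (v 0))⁻¹, (Subgroup.mem_normalizer_iff.1 (hN hx1) _).1 hz, ?_⟩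
  have hM : (Matrix.SpecialLinearGroup.map (Fk σ).subtype
      (Matrix.SpecialLinearGroup.transvection (show (1 : Fin 2) ≠ 0 by decide) t)).1.mulVec v =
      ![v 0, t * v 0 + v 1] := by
    rw [map_tr, tr_mulVec]
    funext i
    fin_cases i
    · simp
    · simp [add_comm]
  show x6 (t : E) * (x1 (v 0) * x5 (v 1)) * (x6 (t : E))⁻¹ = _ * Em x1 x5 _
  rw [hM]
  show _ = _ * (x1 (v 0) * x5 (t * v 0 + v 1))
  have h56 : x6 (t : E) * x5 (v 1) * (x6 (t : E))⁻¹ = x5 (v 1) := by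
    rw [← nil56 P ((P.mem5 _).2 ⟨_, rfl⟩) h6, mul_inv_cancel_right]
  have h1 : x6 (t : E) * (x1 (v 0) * x5 (v 1)) * (x6 (t : E))⁻¹ =
      (x6 (t : E) * x1 (v 0) * (x6 (t : E))⁻¹) * (x6 (t : E) * x5 (v 1) * (x6 (t : E))⁻¹) := by group
  rw [h1, h56, e, P.rel.add5]
  group

end Hex

section Group

variable {K : Type u} [Field K] [Fintype K] {q : ℕ} {φ : K →+* K} (hφ : ∀ x, φ x = x ^ q)
  (hle : twistedD4 K q ≤ D4Fixed.fix φ) {σ : K ≃+* K} (hσ : ∀ x, σ x = φ x)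

/-- the element `n_α` -/
def nα : ↥(twistedD4 K q) := ⟨na K, na_mem hφ⟩

include hφ hσ

theorem nα_x1 (a : K) : nα hφ * ev (X1 σ) a * (nα hφ)⁻¹ = ev (X5 σ) a := by
  apply Subtype.ext
  show na K * _ * (na K)⁻¹ = _
  rw [c1 hφ hσ, c5 hφ hσ]
  exact na_X1 σ a

theorem nα_x5 (a : K) : nα hφ * ev (X5 σ) a * (nα hφ)⁻¹ = ev (X1 σ) (-a) := by
  apply Subtype.ext
  show na K * _ * (na K)⁻¹ = _
  rw [c1 hφ hσ, c5 hφ hσ, X1, X5, w3_eq, w3_eq, conj3,
    na_c (s := 19) (s' := 18) (e := -1) (by norm_num) (by decide +kernel),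
    na_c (s := 16) (s' := 13) (e := 1) (by norm_num) (by decide +kernel),
    na_c (s := 15) (s' := 12) (e := 1) (by norm_num) (by decide +kernel)]
  simp

omit hσ in
theorem nα_norm [Finite K] : nα hφ ∈ Subgroup.normalizer (Z0 (Hexagon.TwD4RGD.X K q) : Set ↥(twistedD4 K q)) := by
  have hm := maps_na (q := q) hφ
  have h2 : ∀ k k' : ZMod (2 * 6), ((6 : ℕ) : ZMod (2 * 6)) - k = k' → ∀ y ∈ Hexagon.TwD4RGD.X K q k,
      nα hφ * y * (nα hφ)⁻¹ ∈ Hexagon.TwD4RGD.X K q k' := by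
    intro k k' hk y hy
    have := (hm k y).2 hy
    simp only [hk] at this
    exact this
  refine norm_iff.2 ?_
  have h5 : Z0 (Hexagon.TwD4RGD.X K q) ≤ (Z0 (Hexagon.TwD4RGD.X K q)).comap (MulAut.conj (nα hφ)).toMonoidHom :=
    sup_le (sup_le (fun b hb => (X4_le (h2 2 4 (by decide +kernel) b hb) :))
      (fun b hb => (X3_le (h2 3 3 (by decide +kernel) b hb) :))) (fun b hb => (X2_le (h2 4 2 (by decide +kernel) b hb) :))
  exact fun y hy => h5 hy

omit hφ hσ in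
/-- the Weyl element -/
def wm {k : Type*} [Field k] : Matrix.SpecialLinearGroup (Fin 2) k := ⟨!![0, -1; 1, 0], by
  rw [Matrix.det_fin_two_of]; simp⟩

omit hφ hσ in
theorem wm_tr {k : Type*} [Field k] (c : k) :
    wm * Matrix.SpecialLinearGroup.transvection (show (1 : Fin 2) ≠ 0 by decide) (-c) * wm⁻¹ =
      Matrix.SpecialLinearGroup.transvection (show (0 : Fin 2) ≠ 1 by decide) c := by
  rw [mul_inv_eq_iff_eq_mul]
  apply Subtype.ext
  show !![0, -1; 1, 0] * (1 + Matrix.single 1 0 (-c)) = (1 + Matrix.single 0 1 c) * !![0, -1; 1, 0]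
  ext i j
  (revert i j; simp only [Matrix.mul_apply, Fin.sum_univ_two, Matrix.single, Matrix.one_apply, _root_.Fin.forall_fin_succ, Fin.isValue, _root_.Matrix.of_apply, _root_.Matrix.cons_val', _root_.Matrix.cons_val_fin_one, _root_.Matrix.add_apply, _root_.Matrix.cons_val_zero, _root_.one_ne_zero, _root_.false_and, ↓reduceIte, _root_.add_zero, _root_.mul_ite, _root_.mul_one, _root_.MulZeroClass.mul_zero, _root_.Matrix.cons_val_one, _root_.true_and, _root_.and_false, _root_.ite_mul, _root_.one_mul, _root_.MulZeroClass.zero_mul, _root_.and_true, _root_.zero_add, _root_.mul_neg, _root_.ite_self, _root_.Matrix.cons_val_succ, _root_.Fin.succ_zero_eq_one, _root_.zero_ne_one, _root_.IsEmpty.forall_iff, _root_.neg_mul, _root_.neg_neg, _root_.and_self, _root_.neg_zero, _root_.Fin.succ_ne_zero])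

theorem relα (hK : Fintype.card K = q ^ 3) (P : HexPar σ (Hexagon.TwD4RGD.X K q) (ev (X1 σ)) (ev X2) (ev (X3 σ))
      (ev X4) (ev (X5 σ)) (ev X6)) :
    (nα hφ, Matrix.SpecialLinearGroup.map (Fk σ).subtype wm) ∈
      relSub (Z0 (Hexagon.TwD4RGD.X K q)) (Em (ev (X1 σ)) (ev (X5 σ))) := by
  refine ⟨iff_of_norm (nα_norm hφ), fun v => ?_⟩
  have hM : (Matrix.SpecialLinearGroup.map (Fk σ).subtype wm).1.mulVec v = ![-v 1, v 0] := by
    have h1 : (Matrix.SpecialLinearGroup.map (Fk σ).subtype wm).1 = !![0, -1; 1, 0] := by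
      show (!![0, -1; 1, 0] : Matrix (Fin 2) (Fin 2) (Fk σ)).map (Fk σ).subtype = _
      ext i j
      (revert i j; simp only [_root_.Fin.forall_fin_succ, _root_.Subfield.coe_subtype, _root_.Matrix.map_apply, _root_.Matrix.of_apply, _root_.Matrix.cons_val', _root_.Matrix.cons_val_fin_one, Fin.isValue, _root_.Matrix.cons_val_zero, _root_.Matrix.cons_val_succ, _root_.forall_const, _root_.ZeroMemClass.coe_zero, _root_.NegMemClass.coe_neg, _root_.OneMemClass.coe_one, _root_.and_self, _root_.implies_true])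
    rw [h1]
    funext i
    (revert i; simp only [Matrix.mulVec, dotProduct, Fin.sum_univ_two, _root_.Fin.forall_fin_succ, _root_.Matrix.of_apply, _root_.Matrix.cons_val', _root_.Matrix.cons_val_fin_one, Fin.isValue, _root_.Matrix.cons_val_zero, _root_.Matrix.cons_val_one, _root_.Nat.succ_eq_add_one, Nat.reduceAdd, _root_.MulZeroClass.zero_mul, _root_.neg_mul, _root_.one_mul, _root_.zero_add, _root_.Matrix.cons_val_succ, _root_.add_zero, _root_.implies_true, _root_.and_self])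
  refine ⟨⁅ev (X5 σ) (v 0), ev (X1 σ) (-v 1)⁆, comm_symm (com15_mem P), ?_⟩
  show nα hφ * (ev (X1 σ) (v 0) * ev (X5 σ) (v 1)) * (nα hφ)⁻¹ = _ * Em _ _ _
  rw [hM]
  show _ = _ * (ev (X1 σ) (-v 1) * ev (X5 σ) (v 0))
  have h1 : nα hφ * (ev (X1 σ) (v 0) * ev (X5 σ) (v 1)) * (nα hφ)⁻¹ =
      (nα hφ * ev (X1 σ) (v 0) * (nα hφ)⁻¹) * (nα hφ * ev (X5 σ) (v 1) * (nα hφ)⁻¹) := by group
  rw [h1, nα_x1 hφ hσ, nα_x5 hφ hσ, commutatorElement_def]
  group

omit hσ in
include hle in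
theorem nα_mem : nα hφ ∈ Nodes.RGDTwD4.X φ q (sr 0) ⊔ Nodes.RGDTwD4.X φ q (-sr 0) := by
  have h14 : xG 14 (1 : K) ∈ twistedD4 K q := xG14_mem hφ (map_one φ)
  have h9 : xG 9 (-1 : K) ∈ twistedD4 K q := by
    rw [← xU_eq]
    refine D4Fixed.x9_mem ?_
    have := map_neg φ (1 : K)
    rw [map_one, hφ] at this
    exact this
  have e : nα hφ = ⟨xG 14 1, h14⟩ * (⟨xG 9 (-1), h9⟩ * ⟨xG 14 1, h14⟩) := by
    apply Subtype.ext
    show na K = xG 14 1 * (xG 9 (-1) * xG 14 1)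
    rw [na, nG_def, nR_def, inv_one]
    rfl
  have m14 : (⟨xG 14 1, h14⟩ : ↥(twistedD4 K q)) ∈ Nodes.RGDTwD4.X φ q (sr 0) := by
    show xG 14 (1 : K) ∈ R chevD4 hp K Nodes.RGDTwD4.J (D4Fixed.sig φ) (sr 0)
    rw [Nodes.RGDTwD4.R0]
    exact ⟨mem_rspan xG (S := {k | k ∈ [14]}) (by simp) _, hle h14⟩
  have m9 : (⟨xG 9 (-1), h9⟩ : ↥(twistedD4 K q)) ∈ Nodes.RGDTwD4.X φ q (-sr 0) := by
    show xG 9 (-1 : K) ∈ R chevD4 hp K Nodes.RGDTwD4.J (D4Fixed.sig φ) (-sr 0)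
    rw [Nodes.RGDTwD4.R0']
    exact ⟨mem_rspan xG (S := {k | k ∈ [9]}) (by simp) _, hle h9⟩
  rw [e]
  exact mul_mem (Subgroup.mem_sup_left m14) (mul_mem (Subgroup.mem_sup_right m9) (Subgroup.mem_sup_left m14))

include hle in
theorem lift_top (hK : Fintype.card K = q ^ 3)
    (P : HexPar σ (Hexagon.TwD4RGD.X K q) (ev (X1 σ)) (ev X2) (ev (X3 σ)) (ev X4) (ev (X5 σ)) (ev X6)) :
    liftSub (Nodes.RGDTwD4.X φ q (sr 0) ⊔ Nodes.RGDTwD4.X φ q (-sr 0))
      (fun _ : Unit => Matrix.SpecialLinearGroup.map (n := Fin 2) (Fk σ).subtype)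
      (fun _ => Z0 (Hexagon.TwD4RGD.X K q)) (fun _ => Em (ev (X1 σ)) (ev (X5 σ))) = ⊤ := by
  have h10 : ∀ c : Fk σ, Matrix.SpecialLinearGroup.transvection (show (1 : Fin 2) ≠ 0 by decide) c ∈
      liftSub (Nodes.RGDTwD4.X φ q (sr 0) ⊔ Nodes.RGDTwD4.X φ q (-sr 0))
      (fun _ : Unit => Matrix.SpecialLinearGroup.map (n := Fin 2) (Fk σ).subtype)
      (fun _ => Z0 (Hexagon.TwD4RGD.X K q)) (fun _ => Em (ev (X1 σ)) (ev (X5 σ))) := by
    intro c
    refine ⟨ev X6 (c : K), Subgroup.mem_sup_left ?_, fun _ => rel6 P c⟩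
    rw [FamD4.X_sr0 hle]
    exact (P.mem6 _).2 ⟨_, c.2, rfl⟩
  have hw : wm ∈ liftSub (Nodes.RGDTwD4.X φ q (sr 0) ⊔ Nodes.RGDTwD4.X φ q (-sr 0))
      (fun _ : Unit => Matrix.SpecialLinearGroup.map (n := Fin 2) (Fk σ).subtype)
      (fun _ => Z0 (Hexagon.TwD4RGD.X K q)) (fun _ => Em (ev (X1 σ)) (ev (X5 σ))) :=
    ⟨nα hφ, nα_mem hφ hle, fun _ => relα hφ hσ hK P⟩
  refine liftSub_eq_top le_rfl ?_
  intro i j hij c
  fin_cases i <;> fin_cases j
  · exact absurd rfl hij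
  · show Matrix.SpecialLinearGroup.transvection (show (0 : Fin 2) ≠ 1 by decide) c ∈ _
    rw [← wm_tr]
    exact mul_mem (mul_mem hw (h10 _)) (inv_mem hw)
  · exact h10 c
  · exact absurd rfl hij

end Group

end Cfsg.Agent.H400.Fpr.D4
end

-- part: H400/FprD4D
section
/-!
# Fixed point ratios of `p`-elements: `³D₄(q)`, primes dividing `q² - 1` (helper400, TEAM FPR)
-/

set_option autoImplicit false
set_option linter.unusedSectionVars false
set_option linter.unusedVariables false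

namespace Cfsg.Agent.H400.Fpr.D4

open CoxeterSystem Cfsg.Agent.ChevalleyStructure.CoxeterGeom Cfsg.Agent.Tits.Roots Cfsg.Agent.Tits.Core
  Cfsg.Agent.Nodes.Reps Cfsg.Agent.Nodes.BNOf Cfsg.Agent.Nodes.RGDTwGen Cfsg.Agent.Nodes.RGDChev Cfsg.Agent.Nodes.RGDFold
  Cfsg.Agent.Nodes.KindChev Cfsg.Agent.Nodes.Coroot Cfsg.Agent.Nodes.PosPair Cfsg.Agent.Nodes.LeviDec
  Cfsg.Agent.Nodes.StabComb Cfsg.Agent.Nodes.Bruhat Cfsg.Agent.Nodes.Unique
open Cfsg.Lie Cfsg.Agent.ChevalleyStructure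
open Cfsg.Agent.Nodes.RGDTwD4 (A isCartan foldData hp)
open Cfsg.Agent.Hexagon.TwD4Par Cfsg.Agent.Hexagon.TwD4Rel
open Cfsg.Agent.SplitTwo
open Cfsg.Agent.Omega.EH3.Kf
open Cfsg.Agent.H400.TwoExc Cfsg.Agent.H400.TwoExc.TwD
open Cfsg.Agent.H398.FPR (CommFull UGood Pair)
open Cfsg.Agent.TitsThree.RankTwoZ (Maps)
open scoped commutatorElement MatrixGroups

universe u

variable {W : Type*} [Group W] [Finite W] {cs : CoxeterSystem CoxeterMatrix.G₂ W}

theorem not_root {z : Fin 2 → ℤ} (h : ∀ a ∈ PG2t, (toV a.1 : Fin 2 → ℤ) ≠ z ∧ (toV a.1 : Fin 2 → ℤ) ≠ -z) :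
    ¬ IsRoot cs isCartan z := by
  intro hz
  rcases (pr cs).1.mem_of_root hz with h1 | h1
  · obtain ⟨a, ha, hae⟩ := List.mem_map.1 h1
    exact (h a ha).1 hae
  · obtain ⟨a, ha, hae⟩ := List.mem_map.1 h1
    exact (h a ha).2 hae

theorem sup_comm {Y : Type*} [Group Y] {A B C D : Subgroup Y} (h1 : ∀ a ∈ A, ∀ b ∈ C, a * b = b * a)
    (h2 : ∀ a ∈ A, ∀ b ∈ D, a * b = b * a) (h3 : ∀ a ∈ B, ∀ b ∈ C, a * b = b * a)
    (h4 : ∀ a ∈ B, ∀ b ∈ D, a * b = b * a) {x y : Y} (hx : x ∈ A ⊔ B) (hy : y ∈ C ⊔ D) : x * y = y * x := by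
  have h5 : A ⊔ B ≤ Subgroup.centralizer ((C ⊔ D : Subgroup Y) : Set Y) := by
    have key : ∀ E : Subgroup Y, (∀ a ∈ E, ∀ b ∈ C, a * b = b * a) → (∀ a ∈ E, ∀ b ∈ D, a * b = b * a) →
        E ≤ Subgroup.centralizer ((C ⊔ D : Subgroup Y) : Set Y) := by
      intro E hC hD a ha
      rw [Subgroup.mem_centralizer_iff]
      intro b hb
      have h6 : C ⊔ D ≤ Subgroup.centralizer {a} :=
        sup_le (fun c hc => Subgroup.mem_centralizer_singleton_iff.2 (hC a ha c hc).symm)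
          (fun c hc => Subgroup.mem_centralizer_singleton_iff.2 (hD a ha c hc).symm)
      exact Subgroup.mem_centralizer_singleton_iff.1 (h6 hb)
    exact sup_le (key A h1 h2) (key B h3 h4)
  exact ((Subgroup.mem_centralizer_iff.1 (h5 hx)) y hy).symm

section

variable {K : Type u} [Field K] [Fintype K] {q p : ℕ} {φ : K →+* K} [Fact p.Prime] [CharP K p]
  (hK : Fintype.card K = q ^ 3) (hφ : ∀ x, φ x = x ^ q)

/-- orthogonal root groups commute -/
theorem root_comm (R : Nodes.RGDLib.G1 cs isCartan (Nodes.RGDTwD4.X φ q) = ⊤) (hK : Fintype.card K = q ^ 3)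
    (hφ : ∀ x, φ x = x ^ q) {u v : Fin 2 → ℤ} (hu : IsRoot cs isCartan u) (hv : IsRoot cs isCartan v)
    (h1 : ¬ IsRoot cs isCartan (u + v)) (h2 : ¬ IsRoot cs isCartan (u - v)) (h3 : u ≠ v) (h4 : u ≠ -v)
    {x y : ↥(twistedD4 K q)} (hx : x ∈ Nodes.RGDTwD4.X φ q u ⊔ Nodes.RGDTwD4.X φ q (-u))
    (hy : y ∈ Nodes.RGDTwD4.X φ q v ⊔ Nodes.RGDTwD4.X φ q (-v)) : x * y = y * x := by
  obtain ⟨p, hp'⟩ := CharP.exists K
  have : Fact p.Prime := ⟨CharP.char_is_prime K p⟩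
  have H := (gi (cs := cs) p hK hφ)
  refine sup_comm ?_ ?_ ?_ ?_ hx hy
  · exact H.nil u v hu hv h4 h1
  · refine H.nil u (-v) hu hv.neg (by rwa [neg_neg]) ?_
    rwa [← sub_eq_add_neg]
  · refine H.nil (-u) v hu.neg hv (fun h => h3 (neg_injective h)) ?_
    intro h
    have := h.neg
    rw [neg_add, neg_neg, ← sub_eq_add_neg] at this
    exact h2 this
  · refine H.nil (-u) (-v) hu.neg hv.neg (fun h => h4 (by rw [← neg_neg u, h, neg_neg])) ?_
    intro h
    have := h.neg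
    rw [neg_add, neg_neg, neg_neg] at this
    exact h1 this

end

section Group

variable {K : Type u} [Field K] [Fintype K] {q : ℕ} {φ : K →+* K} (hK : Fintype.card K = q ^ 3)
  (hφ : ∀ x, φ x = x ^ q) {σ : K ≃+* K} (hσ : ∀ x, σ x = φ x)

theorem exists_sigma (hK : Fintype.card K = q ^ 3) (hφ : ∀ x, φ x = x ^ q) :
    ∃ σ : K ≃+* K, (∀ x, σ x = φ x) ∧ (∃ B, σ B ≠ B) ∧
      HexPar σ (Hexagon.TwD4RGD.X K q) (ev (X1 σ)) (ev X2) (ev (X3 σ)) (ev X4) (ev (X5 σ)) (ev X6) := by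
  let σ : K ≃+* K := RingEquiv.ofBijective φ ((Finite.injective_iff_bijective).1 φ.injective)
  have hσ : ∀ x, σ x = φ x := fun x => rfl
  have h3 : ∀ a, σ (σ (σ a)) = a := by
    intro t
    rw [hσ, hσ, hσ, hφ, hφ, hφ, ← pow_mul, ← pow_mul]
    have : q * (q * q) = q ^ 3 := by ring
    rw [this, ← hK]
    exact FiniteField.pow_card t
  exact ⟨σ, hσ, FamD4.exists_moved hK hφ, hexPar hφ (D4Fixed.twisted_le_fix hK hφ) hσ h3⟩

theorem natCard_Fk (hK : Fintype.card K = q ^ 3) (hφ : ∀ x, φ x = x ^ q) (hσ : ∀ x, σ x = φ x) (hq1 : 1 < q) :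
    Nat.card (Fk σ) = q := by
  refine Eq.trans ?_ (ChevalleyStructure.FixedCard.card_fixed hq1 hK)
  refine Nat.card_congr (Equiv.subtypeEquivRight fun a => ?_)
  show σ a = a ↔ _
  rw [hσ, hφ]

include hK hφ hσ in
theorem isMod_Vr (hq1 : 1 < q)
    (P : HexPar σ (Hexagon.TwD4RGD.X K q) (ev (X1 σ)) (ev X2) (ev (X3 σ)) (ev X4) (ev (X5 σ)) (ev X6)) :
    IsMod (Z0 (Hexagon.TwD4RGD.X K q)) (Vr (Hexagon.TwD4RGD.X K q)) (Em (ev (X1 σ)) (ev (X5 σ))) := by
  refine isMod P ?_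
  rw [card_Vr hK hφ hq1, card_Z0 hK hφ hq1, Nat.card_eq_fintype_card (α := K), hK]
  ring

theorem isPGroup_Vr (hK : Fintype.card K = q ^ 3) (hφ : ∀ x, φ x = x ^ q) (hq1 : 1 < q) (p : ℕ) [Fact p.Prime]
    [CharP K p] : IsPGroup p (Vr (Hexagon.TwD4RGD.X K q)) := by
  have hp : p.Prime := Fact.out
  obtain ⟨n, -, hn⟩ := FiniteField.card K p
  have h1 : q ∣ p ^ (n : ℕ) := by
    rw [← hn, hK]; exact dvd_pow_self q (by norm_num)
  obtain ⟨f, -, hf⟩ := (Nat.dvd_prime_pow hp).1 h1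
  refine isPGroup_of_card (f := f) (m := 11) hp ?_
  rw [card_Vr hK hφ hq1, hf]

/-- reflecting the radical -/
theorem VNJ_le {m : ↥(twistedD4 K q)} {r : Fin 2 → ℤ} (hr : IsRoot cs isCartan r)
    (hm : ∀ z, IsRoot cs isCartan z → Cfsg.Agent.Nodes.Reps.cj m (Nodes.RGDTwD4.X φ q z) =
      Nodes.RGDTwD4.X φ q (z - cpr cs isCartan z r • r))
    (ht : ∀ y ∈ s5, ∃ z ∈ s5, (2 * qf AG2t (toV dlG2t) z r = (2 * qf AG2t (toV dlG2t) z r / qf AG2t (toV dlG2t) r r) *
      qf AG2t (toV dlG2t) r r) ∧ z - (2 * qf AG2t (toV dlG2t) z r / qf AG2t (toV dlG2t) r r) • r = -y)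
    (h0 : qf AG2t (toV dlG2t) r r ≠ 0) :
    VNJ cs isCartan (Nodes.RGDTwD4.X φ q) {(0 : Fin 2)} ≤
      cc m (VJ cs isCartan (Nodes.RGDTwD4.X φ q) {(0 : Fin 2)}) := by
  refine RGD.Sup_le fun y hy => ?_
  have hy' : -y ∈ s5 := by
    have h1 : -y ∈ NotJ cs isCartan {(0 : Fin 2)} := hy
    rw [notJ_eq] at h1
    exact Finset.mem_coe.1 h1
  obtain ⟨z, hz, h1, h2⟩ := ht _ hy'
  have hzr : IsRoot cs isCartan z := s5_root hz
  have h3 : cpr cs isCartan z r = 2 * qf AG2t (toV dlG2t) z r / qf AG2t (toV dlG2t) r r :=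
    cpr_val (gr (cs := cs)).hd hr h1 h0
  have h4 := hm z hzr
  rw [h3, h2, neg_neg] at h4
  rw [← h4]
  unfold VJ
  rw [notJ_eq]
  exact cc_mono (RGD.le_Sup (S := (s5 : Set (Fin 2 → ℤ))) (Finset.mem_coe.2 hz))

/-- **The primes dividing `q² - 1`.** -/
theorem twoPair_A (hs : IsSimpleGroup ↥(twistedD4 K q)) (hK : Fintype.card K = q ^ 3) (hφ : ∀ x, φ x = x ^ q)
    (hq1 : 1 < q) (p : ℕ) [Fact p.Prime] [CharP K p] {ℓ j : ℕ} (hℓ : ℓ.Prime)
    (hM : ∃ (b : ℕ) (M : Matrix.SpecialLinearGroup (Fin 2) (Fk (σ := (exists_sigma hK hφ).choose))), M ^ ℓ ^ b = 1 ∧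
      ∀ v : Fin 2 → (Fk (σ := (exists_sigma hK hφ).choose)), (M ^ ℓ ^ j).1.mulVec v = v → v = 0) :
    TwoPair ↥(twistedD4 K q) ℓ j p := by
  obtain ⟨hσ, hB, P⟩ := (exists_sigma hK hφ).choose_spec
  revert hM hσ hB P
  generalize (exists_sigma hK hφ).choose = σ
  rintro ⟨b, M, hMb, hM⟩ hσ hB P
  let cs : CoxeterSystem CoxeterMatrix.G₂ _ := CoxeterMatrix.G₂.toCoxeterSystem
  have hW : Finite CoxeterMatrix.G₂.Group := Nodes.RGDFold.finite_W (hp := Nodes.RGDTwD4.hp) cs isCartan foldData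
  have R := Nodes.RGDTwD4.rgd cs hK hφ p
  have hG1 := Nodes.RGDTwD4.G1_eq_top cs hK hφ
  have hle := D4Fixed.twisted_le_fix hK hφ
  obtain ⟨x, hxL, ⟨k, hxk⟩, hrel⟩ := exists_lift_sl (lift_top hφ hle hσ hK P) hℓ hMb
  have hrel := hrel ()
  have hPG := isPGroup_Vr hK hφ hq1 p
  have hP1 : Pair ℓ j x (Vr (Hexagon.TwD4RGD.X K q)) := by
    refine (isMod_Vr hK hφ hσ hq1 P).pair hrel ?_ hPG.isNilpotent (comm_Vr P hB).ge
    rw [← map_pow]
    exact no_fixed_map _ hM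
  obtain ⟨m, hm, hmX⟩ := exists_refl R (r12 (cs := cs))
  have hmx : m * x = x * m := by
    refine (root_comm (cs := cs) hG1 hK hφ (isRoot_sr cs isCartan 0) r12 ?_ ?_ ?_ ?_ hxL hm).symm
    · exact not_root (by decide +kernel)
    · exact not_root (by decide +kernel)
    · decide +kernel
    · decide +kernel
  have hP2 := pair_cc hP1 hmx
  refine ⟨x, k, _, _, hxk, hP1, hP2, hPG, hPG.map _, ?_⟩
  rw [eq_top_iff, ← VJ_sup_VNJ R hs hG1 (show (1 : Fin 2) ∉ ({(0 : Fin 2)} : Set (Fin 2)) by simp),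
    Vr_eq (cs := cs) hK hφ]
  exact sup_le_sup_left (VNJ_le (r12 (cs := cs)) hmX (by decide +kernel) (by decide +kernel)) _

/-- odd primes dividing `q² - 1` -/
theorem twoPair_odd (hs : IsSimpleGroup ↥(twistedD4 K q)) (hK : Fintype.card K = q ^ 3) (hφ : ∀ x, φ x = x ^ q)
    (hq1 : 1 < q) (p : ℕ) [Fact p.Prime] [CharP K p] {ℓ : ℕ} (hℓ : ℓ.Prime) (hℓ2 : ℓ ≠ 2) (hd : ℓ ∣ q ^ 2 - 1) :
    TwoPair ↥(twistedD4 K q) ℓ 0 p := by
  refine twoPair_A hs hK hφ hq1 p hℓ ?_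
  obtain ⟨hσ, hB, P⟩ := (exists_sigma hK hφ).choose_spec
  have hc := natCard_Fk hK hφ hσ hq1
  have hk : ¬ ℓ ∣ q := by
    intro h
    have h1 : ℓ ∣ q ^ 2 := h.trans (dvd_pow_self q two_ne_zero)
    have h2 : 1 ≤ q ^ 2 := Nat.one_le_pow _ _ (by omega)
    have h3 := Nat.dvd_sub h1 hd
    rw [Nat.sub_sub_self h2] at h3
    exact hℓ.one_lt.ne' (Nat.dvd_one.1 h3)
  obtain ⟨M, h1, h2⟩ := exists_fpf_two (k := Fk (σ := (exists_sigma hK hφ).choose)) hℓ hℓ2 (by rw [hc]; exact hk)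
    (by rw [hc]; exact hd)
  exact ⟨1, M, by rw [pow_one]; exact h1, by rw [pow_zero, pow_one]; exact h2⟩

/-- the prime `2` -/
theorem twoPair_two (hs : IsSimpleGroup ↥(twistedD4 K q)) (hK : Fintype.card K = q ^ 3) (hφ : ∀ x, φ x = x ^ q)
    (hq1 : 1 < q) (p : ℕ) [Fact p.Prime] [CharP K p] (hp2 : p ≠ 2) : TwoPair ↥(twistedD4 K q) 2 1 p := by
  refine twoPair_A hs hK hφ hq1 p Nat.prime_two ?_
  have h2 : (2 : Fk (σ := (exists_sigma hK hφ).choose)) ≠ 0 := by
    have h3 : (2 : K) ≠ 0 := Ring.two_ne_zero (by rw [ringChar.eq K p]; exact hp2)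
    intro h
    exact h3 (congrArg Subtype.val h)
  obtain ⟨M, h1, h3⟩ := exists_fpf_quat h2
  exact ⟨2, M, h1, by rw [pow_one]; exact h3⟩

end Group

end Cfsg.Agent.H400.Fpr.D4
end

-- part: H400/FprSL
section
/-!
# Fixed point ratios of `p`-elements: elements of root `SL₂`s (helper400, TEAM FPR)
-/

set_option autoImplicit false
set_option linter.unusedSectionVars false
set_option linter.unusedVariables false

namespace Cfsg.Agent.H400.Fpr

open scoped MatrixGroups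
open Cfsg.Agent.ChevalleyStructure.SL2Hom (up lo)

theorem sq_eq_one_of_center {F : Type*} [Field F] {z : Matrix.SpecialLinearGroup (Fin 2) F}
    (hz : z ∈ Subgroup.center (Matrix.SpecialLinearGroup (Fin 2) F)) : z ^ 2 = 1 := by
  obtain ⟨r, hr, hz'⟩ := Matrix.SpecialLinearGroup.mem_center_iff.1 hz
  rw [Fintype.card_fin] at hr
  apply Subtype.ext
  show (z ^ 2).1 = 1
  have h1 : (z ^ 2).1 = z.1 ^ 2 := rfl
  rw [h1, ← hz', ← map_pow, hr, map_one]

/-- A homomorphism from `SL₂(F)` which is injective on the root groups. -/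
theorem exists_sl_elt {F : Type*} [Field F] [Finite F] {Y : Type*} [Group Y]
    (s : Matrix.SpecialLinearGroup (Fin 2) F →* Y) (hup : ∀ t, s (up t) = 1 → t = 0)
    (hdis : ∀ a b : F, s (up a) = s (lo b) → a = 0 ∧ b = 0) {ℓ : ℕ} (hℓ : ℓ.Prime) (hℓ2 : ℓ ≠ 2)
    (hk : ¬ ℓ ∣ Nat.card F) (hd : ℓ ∣ Nat.card F ^ 2 - 1) : ∃ M, s M ^ ℓ = 1 ∧ s M ≠ 1 := by
  obtain ⟨M, h1, h2⟩ := exists_fpf_two hℓ hℓ2 hk hd
  refine ⟨M, by rw [← map_pow, h1, map_one], fun h => ?_⟩
  have h3 := sq_eq_one_of_center (Cfsg.Agent.H26.UFChev.ker_le_center s hup hdis h)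
  have h4 : M = 1 := by
    have hc : Nat.Coprime 2 ℓ := (Nat.coprime_primes Nat.prime_two hℓ).2 (Ne.symm hℓ2)
    have h5 : orderOf M ∣ Nat.gcd 2 ℓ := Nat.dvd_gcd (orderOf_dvd_of_pow_eq_one h3) (orderOf_dvd_of_pow_eq_one h1)
    rw [hc.gcd_eq_one] at h5
    exact orderOf_eq_one_iff.1 (Nat.dvd_one.1 h5)
  rw [h4] at h2
  have h5 := h2 ![1, 0] (by show (1 : Matrix (Fin 2) (Fin 2) F).mulVec _ = _; rw [Matrix.one_mulVec])
  have h6 := congrFun h5 0
  simp at h6

end Cfsg.Agent.H400.Fpr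
end

-- part: H400/FprD4E
section
/-!
# Fixed point ratios of `p`-elements: `³D₄(q)`, primes dividing `q² + q + 1` (helper400, TEAM FPR)
-/

set_option autoImplicit false
set_option linter.unusedSectionVars false
set_option linter.unusedVariables false

namespace Cfsg.Agent.H400.Fpr.D4

open CoxeterSystem Cfsg.Agent.ChevalleyStructure.CoxeterGeom Cfsg.Agent.Tits.Roots Cfsg.Agent.Tits.Core
  Cfsg.Agent.Nodes.Reps Cfsg.Agent.Nodes.BNOf Cfsg.Agent.Nodes.RGDTwGen Cfsg.Agent.Nodes.RGDChev Cfsg.Agent.Nodes.RGDFold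
  Cfsg.Agent.Nodes.KindChev Cfsg.Agent.Nodes.Coroot Cfsg.Agent.Nodes.PosPair Cfsg.Agent.Nodes.LeviDec
  Cfsg.Agent.Nodes.StabComb Cfsg.Agent.Nodes.Bruhat Cfsg.Agent.Nodes.Unique
open Cfsg.Lie Cfsg.Agent.ChevalleyStructure
open Cfsg.Agent.ChevalleyStructure.TwistedU Cfsg.Agent.ChevalleyStructure.D4U
  Cfsg.Agent.ChevalleyStructure.D4Comm Cfsg.Agent.ChevalleyStructure.D4RGD Cfsg.Agent.ChevalleyStructure.D4Twisted
open Cfsg.Agent.ChevalleyStructure.D4NConj (nR nR_def nG nG_def nG_conj hR hR_def)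
open Cfsg.Agent.KFacts.Mult.D4Base (hT hT_conj hT_mem)
open Cfsg.Agent.H121.TwD4 (hT_c)
open Cfsg.Agent.Nodes.RGDTwD4 (A isCartan foldData hp)
open Cfsg.Agent.Hexagon.TwD4Par Cfsg.Agent.Hexagon.TwD4Rel
open Cfsg.Agent.SplitTwo
open Cfsg.Agent.Omega.EH3.Kf
open Cfsg.Agent.H400.TwoExc Cfsg.Agent.H400.TwoExc.TwD
open Cfsg.Agent.H398.FPR (CommFull UGood Pair)
open Cfsg.Agent.TitsThree.RankTwoZ (Maps)
open Cfsg.Agent.Nodes.RGDFoldSL
open Cfsg.Agent.ChevalleyStructure.SL2Hom (up lo mem_closure_SL2)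
open scoped commutatorElement MatrixGroups

universe u

section SL

variable {F : Type*} [Field F]

theorem hS_mul {c d : F} (hc : c ≠ 0) (hd : d ≠ 0) :
    (hS c : Matrix.SpecialLinearGroup (Fin 2) F) * hS d = hS (c * d) := by
  apply Subtype.ext
  change (hS c : Matrix.SpecialLinearGroup (Fin 2) F).1 * (hS d).1 = (hS (c * d)).1
  have h1 : (hS c : Matrix.SpecialLinearGroup (Fin 2) F).1 = !![c, 0; 0, c⁻¹] := coe_hS hc
  have h2 : (hS d : Matrix.SpecialLinearGroup (Fin 2) F).1 = !![d, 0; 0, d⁻¹] := coe_hS hd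
  have h3 : (hS (c * d) : Matrix.SpecialLinearGroup (Fin 2) F).1 = !![c * d, 0; 0, (c * d)⁻¹] :=
    coe_hS (mul_ne_zero hc hd)
  rw [h1, h2, h3]
  ext i j
  (revert i j; simp [mul_comm, _root_.Fin.forall_fin_succ])

theorem hS_one : (hS 1 : Matrix.SpecialLinearGroup (Fin 2) F) = 1 := by
  apply Subtype.ext
  have h1 : (hS 1 : Matrix.SpecialLinearGroup (Fin 2) F).1 = !![1, 0; 0, 1⁻¹] := coe_hS one_ne_zero
  rw [h1, inv_one]
  exact Matrix.one_fin_two.symm

theorem hS_pow {c : F} (hc : c ≠ 0) (i : ℕ) : (hS c : Matrix.SpecialLinearGroup (Fin 2) F) ^ i = hS (c ^ i) := by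
  induction i with
  | zero => rw [pow_zero, pow_zero, hS_one]
  | succ i ih => rw [pow_succ, pow_succ, ih, hS_mul (pow_ne_zero i hc) hc]

end SL

variable {K : Type u} [Field K] [Fintype K] {q : ℕ} {φ : K →+* K}

section Nodes

variable (hφ : ∀ x, φ x = x ^ q) (hle : twistedD4 K q ≤ D4Fixed.fix φ)

theorem hf (φ : K →+* K) (i : Fin 2) : ∀ s ∈ Nodes.RGDTwNode.D4.rep i :: Nodes.RGDTwNode.D4.rest i, ∀ t,
    ((Nodes.RGDTwD4.eps s : ℤ) : K) * φ t = φ t :=
  fun s hs t => by rw [Nodes.RGDTwNode.D4.eps_one i s hs, Int.cast_one, one_mul]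

/-- the homomorphism of the node `i` -/
noncomputable def Ph (i : Fin 2) :
    Matrix.SpecialLinearGroup (Fin 2) (Fx φ ((Nodes.RGDTwNode.D4.rest i).length + 1)) →* ↥(twistedD4 K q) :=
  Phi (Nodes.RGDTwD4.foldGrp hφ hle) (Nodes.RGDTwNode.D4.nodeOK i) (hf φ i)

theorem mem_X_Ph (i : Fin 2) (g : ↥(twistedD4 K q)) : g ∈ Nodes.RGDTwD4.X φ q (sr i) ↔ ∃ a, g = Ph hφ hle i (up a) :=
  mem_X_iff (Nodes.RGDTwD4.foldGrp hφ hle) (Nodes.RGDTwNode.D4.nodeOK i) (hf φ i) g

theorem Ph_wS (i : Fin 2) : Ph hφ hle i (wS 1) = Nodes.RGDTwD4.n hφ i :=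
  Phi_wS (Nodes.RGDTwD4.foldGrp hφ hle) (Nodes.RGDTwNode.D4.nodeOK i) (hf φ i)

theorem Ph_up_lo (hK : Fintype.card K = q ^ 3) (i : Fin 2)
    (t : Fx φ ((Nodes.RGDTwNode.D4.rest i).length + 1)) : Ph hφ hle i (lo t) ∈ Nodes.RGDTwD4.X φ q (-sr i) := by
  obtain ⟨p, hp'⟩ := CharP.exists K
  have : Fact p.Prime := ⟨CharP.char_is_prime K p⟩
  have R := Nodes.RGDTwD4.rgd (K := K) CoxeterMatrix.G₂.toCoxeterSystem hK hφ p
  have hcj : cj (Nodes.RGDTwD4.n hφ i) (Nodes.RGDTwD4.X φ q (sr i)) = Nodes.RGDTwD4.X φ q (-sr i) := by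
    rw [R.conj i _ (isRoot_sr CoxeterMatrix.G₂.toCoxeterSystem Nodes.RGDTwD4.isCartan i), rep_simple_sr]
  rw [lo_eq, map_mul, map_mul, map_inv, Ph_wS, ← hcj]
  exact conj_mem_cj.2 ((mem_X_Ph hφ hle i _).2 ⟨_, rfl⟩)

theorem Ph_mem (hK : Fintype.card K = q ^ 3) (i : Fin 2)
    (g : Matrix.SpecialLinearGroup (Fin 2) (Fx φ ((Nodes.RGDTwNode.D4.rest i).length + 1))) :
    Ph hφ hle i g ∈ Nodes.RGDTwD4.X φ q (sr i) ⊔ Nodes.RGDTwD4.X φ q (-sr i) := by
  have h1 : Subgroup.closure (Set.range (up (F := Fx φ ((Nodes.RGDTwNode.D4.rest i).length + 1))) ∪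
      Set.range (lo (F := Fx φ ((Nodes.RGDTwNode.D4.rest i).length + 1)))) ≤
      (Nodes.RGDTwD4.X φ q (sr i) ⊔ Nodes.RGDTwD4.X φ q (-sr i)).comap (Ph hφ hle i) := by
    refine (Subgroup.closure_le _).2 ?_
    rintro x (⟨t, rfl⟩ | ⟨t, rfl⟩)
    · exact Subgroup.mem_sup_left ((mem_X_Ph hφ hle i _).2 ⟨t, rfl⟩)
    · exact Subgroup.mem_sup_right (Ph_up_lo hφ hle hK i t)
  exact h1 (mem_closure_SL2 g)

theorem up_inj (i : Fin 2) {a b : Fx φ ((Nodes.RGDTwNode.D4.rest i).length + 1)}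
    (h : Ph hφ hle i (up a) = Ph hφ hle i (up b)) : a = b :=
  Phi_up_injective (Nodes.RGDTwD4.foldGrp hφ hle) (Nodes.RGDTwNode.D4.nodeOK i) (hf φ i) h

theorem up_zero {F : Type*} [Field F] : (up 0 : Matrix.SpecialLinearGroup (Fin 2) F) = 1 := by
  apply Subtype.ext
  show !![1, 0; 0, 1] = (1 : Matrix (Fin 2) (Fin 2) F)
  exact Matrix.one_fin_two.symm

theorem Ph_disj (hK : Fintype.card K = q ^ 3) (i : Fin 2) (a b : Fx φ ((Nodes.RGDTwNode.D4.rest i).length + 1))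
    (h : Ph hφ hle i (up a) = Ph hφ hle i (lo b)) : a = 0 ∧ b = 0 := by
  obtain ⟨p, hp'⟩ := CharP.exists K
  have : Fact p.Prime := ⟨CharP.char_is_prime K p⟩
  have hW : Finite CoxeterMatrix.G₂.Group := Nodes.RGDFold.finite_W (hp := Nodes.RGDTwD4.hp)
    CoxeterMatrix.G₂.toCoxeterSystem isCartan foldData
  have R := Nodes.RGDTwD4.rgd (K := K) CoxeterMatrix.G₂.toCoxeterSystem hK hφ p
  have h1 : Ph hφ hle i (lo b) ∈ Nodes.RGDTwD4.X φ q (-sr i) ⊓ RGD.B CoxeterMatrix.G₂.toCoxeterSystem isCartan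
      (Nodes.RGDTwD4.T K q) (Nodes.RGDTwD4.X φ q) := by
    refine ⟨Ph_up_lo hφ hle hK i b, ?_⟩
    rw [← h]
    exact RGD.X_le_B (isRoot_sr _ isCartan i) (sr_nonneg i) ((mem_X_Ph hφ hle i _).2 ⟨a, rfl⟩)
  rw [neg_inf_B R i, Subgroup.mem_bot] at h1
  have ha : a = 0 := by
    apply up_inj hφ hle i
    rw [h, h1, up_zero, map_one]
  refine ⟨ha, ?_⟩
  rw [lo_eq, map_mul, map_mul, map_inv, conj_eq_one_iff] at h1
  have h2 := up_inj hφ hle i (a := -b) (b := 0) (by rw [h1, up_zero, map_one])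
  exact neg_eq_zero.1 h2

include hφ hle in
/-- an element of odd prime order in a rank one group -/
theorem exists_elt (hK : Fintype.card K = q ^ 3) (i : Fin 2) {ℓ : ℕ} (hℓ : ℓ.Prime) (hℓ2 : ℓ ≠ 2)
    (hk : ¬ ℓ ∣ Nat.card (Fx φ ((Nodes.RGDTwNode.D4.rest i).length + 1)))
    (hd : ℓ ∣ Nat.card (Fx φ ((Nodes.RGDTwNode.D4.rest i).length + 1)) ^ 2 - 1) :
    ∃ x ∈ Nodes.RGDTwD4.X φ q (sr i) ⊔ Nodes.RGDTwD4.X φ q (-sr i), x ^ ℓ = 1 ∧ x ≠ 1 := by
  obtain ⟨M, h1, h2⟩ := exists_sl_elt (Ph hφ hle i) (fun t ht => up_inj hφ hle i (by rw [ht, up_zero, map_one]))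
    (Ph_disj hφ hle hK i) hℓ hℓ2 hk hd
  exact ⟨_, Ph_mem hφ hle hK i M, h1, h2⟩

/-! ### The torus of the short node -/

theorem hG_eq {r : ℕ} (hr : r < 24) (t : K) : Elts.hG hp.inList r t = hR r t := by
  rw [Elts.hG_def, Elts.nG_def, Elts.nG_def, hR_def, nR_def, nR_def, Nodes.RGDTwD4.xG_eq, D4NConj.neg_eq hr]

theorem mem_Fx3 (hK : Fintype.card K = q ^ 3) (hφ : ∀ x, φ x = x ^ q) (u : K) :
    u ∈ Fx φ ((Nodes.RGDTwNode.D4.rest 1).length + 1) := by
  rw [mem_Fx]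
  show φ (φ (φ u)) = u
  rw [hφ, hφ, hφ, ← pow_mul, ← pow_mul]
  have : q * (q * q) = q ^ 3 := by ring
  rw [this, ← hK]
  exact FiniteField.pow_card u

/-- the torus element `h_β(u)` -/
noncomputable def hβ (hK : Fintype.card K = q ^ 3) (u : K) : ↥(twistedD4 K q) :=
  Ph hφ hle 1 (hS ⟨u, mem_Fx3 hK hφ u⟩)

theorem coe_hβ (hK : Fintype.card K = q ^ 3) (u : K) :
    ((hβ hφ hle hK u : ↥(twistedD4 K q)) : GL chevD4.Idx K) = hb φ u := by
  show Nodes.RGDFoldSL.Ph hp K (Nodes.RGDTwNode.D4.nodeOK 1) φ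
    (Matrix.SpecialLinearGroup.map (Fx φ ((Nodes.RGDTwNode.D4.rest 1).length + 1)).subtype (hS ⟨u, _⟩)) = _
  rw [map_hS]
  show psi hp.inList K 18 (hS u) * (psi hp.inList K 13 (Matrix.SpecialLinearGroup.map φ (hS u)) *
    (psi hp.inList K 12 (Matrix.SpecialLinearGroup.map φ (Matrix.SpecialLinearGroup.map φ (hS u))) * 1)) = hb φ u
  rw [map_hS, map_hS, psi_hS hp.inList (by decide), psi_hS hp.inList (by decide), psi_hS hp.inList (by decide),
    hG_eq (by norm_num), hG_eq (by norm_num), hG_eq (by norm_num), mul_one, ← mul_assoc]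
  rfl

theorem hβ_pow (hK : Fintype.card K = q ^ 3) {u : K} (hu : u ≠ 0) {i : ℕ} (hi : u ^ i = 1) :
    hβ hφ hle hK u ^ i = 1 := by
  unfold hβ
  rw [← map_pow, hS_pow (fun h => hu (congrArg Subtype.val h))]
  have h1 : (⟨u, mem_Fx3 hK hφ u⟩ : Fx φ ((Nodes.RGDTwNode.D4.rest 1).length + 1)) ^ i = 1 := Subtype.ext hi
  rw [h1, hS_one, map_one]

omit [Fintype K] in
theorem hR_one {r : ℕ} : (hR r 1 : GL chevD4.Idx K) = 1 := by
  rw [D4NConj.hR_eq, mul_inv_cancel]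

omit [Fintype K] in
theorem hb_c {y : K} (hy : y ≠ 0) {r : ℕ} (hr : r < 24) {c1 c2 c3 c4 : ℤ}
    (h : (SparseHDiag.cartanRS chevD4 14 r, SparseHDiag.cartanRS chevD4 18 r, SparseHDiag.cartanRS chevD4 13 r,
      SparseHDiag.cartanRS chevD4 12 r) = (c1, c2, c3, c4)) (u : K) :
    hb φ y * xG r u * (hb φ y)⁻¹ = xG r (y ^ c2 * (φ y ^ c3 * (φ (φ y) ^ c4 * u))) := by
  have h1 := hT_c (φ := φ) one_ne_zero hy hr h u
  unfold hT at h1
  rw [hR_one, one_mul, one_zpow, one_mul] at h1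
  exact h1

variable {σ : K ≃+* K} (hσ : ∀ x, σ x = φ x)

include hσ

theorem hβ_x1 (hK : Fintype.card K = q ^ 3) {y : K} (hy : y ≠ 0) (a : K) :
    hβ hφ hle hK y * ev (X1 σ) a * (hβ hφ hle hK y)⁻¹ = ev (X1 σ) (y ^ 2 * a) := by
  apply Subtype.ext
  rw [Subgroup.coe_mul, Subgroup.coe_mul, Subgroup.coe_inv, coe_hβ, c1 hφ hσ, c1 hφ hσ, X1, X1, w3_eq, w3_eq, conj3,
    hb_c hy (r := 18) (c1 := -1) (c2 := 2) (c3 := 0) (c4 := 0) (by norm_num) (by decide +kernel),
    hb_c hy (r := 13) (c1 := -1) (c2 := 0) (c3 := 2) (c4 := 0) (by norm_num) (by decide +kernel),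
    hb_c hy (r := 12) (c1 := -1) (c2 := 0) (c3 := 0) (c4 := 2) (by norm_num) (by decide +kernel)]
  simp only [pow_zero, one_mul, zpow_ofNat, hσ, map_mul, map_pow]

theorem hβ_x5 (hK : Fintype.card K = q ^ 3) {y : K} (hN : y * φ y * φ (φ y) = 1) (a : K) :
    hβ hφ hle hK y * ev (X5 σ) a * (hβ hφ hle hK y)⁻¹ = ev (X5 σ) (y ^ 2 * a) := by
  have hy : y ≠ 0 := by
    rintro rfl
    simp at hN
  have hy1 : φ y ≠ 0 := (map_ne_zero φ).2 hy
  have hy2 : φ (φ y) ≠ 0 := (map_ne_zero φ).2 hy1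
  apply Subtype.ext
  rw [Subgroup.coe_mul, Subgroup.coe_mul, Subgroup.coe_inv, coe_hβ, c5 hφ hσ, c5 hφ hσ, X5, X5, w3_eq, w3_eq, conj3,
    hb_c hy (r := 19) (c1 := 1) (c2 := 1) (c3 := -1) (c4 := -1) (by norm_num) (by decide +kernel),
    hb_c hy (r := 16) (c1 := 1) (c2 := -1) (c3 := 1) (c4 := -1) (by norm_num) (by decide +kernel),
    hb_c hy (r := 15) (c1 := 1) (c2 := -1) (c3 := -1) (c4 := 1) (by norm_num) (by decide +kernel)]
  simp only [zpow_neg_one, zpow_one, hσ, map_mul, map_pow]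
  congr 2
  · field_simp
    linear_combination (-a) * hN
  · congr 1
    field_simp
    linear_combination (φ a) * hN
  · congr 1
    field_simp
    linear_combination (φ (φ a)) * hN

end Nodes

end Cfsg.Agent.H400.Fpr.D4
end

-- part: H400/FprD4F
section
/-!
# Fixed point ratios of `p`-elements: `³D₄(q)`, primes dividing `q² + q + 1` (helper400, TEAM FPR)
-/

set_option autoImplicit false
set_option linter.unusedSectionVars false
set_option linter.unusedVariables false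

namespace Cfsg.Agent.H400.Fpr.D4

open CoxeterSystem Cfsg.Agent.ChevalleyStructure.CoxeterGeom Cfsg.Agent.Tits.Roots Cfsg.Agent.Tits.Core
  Cfsg.Agent.Nodes.Reps Cfsg.Agent.Nodes.BNOf Cfsg.Agent.Nodes.RGDTwGen Cfsg.Agent.Nodes.RGDChev Cfsg.Agent.Nodes.RGDFold
  Cfsg.Agent.Nodes.KindChev Cfsg.Agent.Nodes.Coroot Cfsg.Agent.Nodes.PosPair Cfsg.Agent.Nodes.LeviDec
  Cfsg.Agent.Nodes.StabComb Cfsg.Agent.Nodes.Bruhat Cfsg.Agent.Nodes.Unique
open Cfsg.Lie Cfsg.Agent.ChevalleyStructure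
open Cfsg.Agent.Nodes.RGDTwD4 (A isCartan foldData hp)
open Cfsg.Agent.Hexagon.TwD4Par Cfsg.Agent.Hexagon.TwD4Rel
open Cfsg.Agent.SplitTwo
open Cfsg.Agent.Omega.EH3.Kf
open Cfsg.Agent.H400.TwoExc Cfsg.Agent.H400.TwoExc.TwD
open Cfsg.Agent.H398.FPR (CommFull UGood Pair)
open Cfsg.Agent.Nodes.RGDFoldSL
open scoped commutatorElement MatrixGroups

universe u

variable {K : Type u} [Field K] [Fintype K] {q : ℕ} {φ : K →+* K}

section

variable {W : Type*} [Group W] [Finite W] {cs : CoxeterSystem CoxeterMatrix.G₂ W}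

/-- reflecting root groups inside a subgroup -/
theorem refl_le (hK : Fintype.card K = q ^ 3) (hφ : ∀ x, φ x = x ^ q) {K0 : Subgroup ↥(twistedD4 K q)}
    {z y w : Fin 2 → ℤ} (hz : IsRoot cs isCartan z) (hy : IsRoot cs isCartan y)
    (h1 : Nodes.RGDTwD4.X φ q z ≤ K0) (h2 : Nodes.RGDTwD4.X φ q (-z) ≤ K0) (h3 : Nodes.RGDTwD4.X φ q y ≤ K0)
    (c : ℤ) (hc : 2 * qf AG2t (toV dlG2t) y z = c * qf AG2t (toV dlG2t) z z) (h0 : qf AG2t (toV dlG2t) z z ≠ 0)
    (hw : y - c • z = w) : Nodes.RGDTwD4.X φ q w ≤ K0 := by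
  obtain ⟨p, hp'⟩ := CharP.exists K
  have : Fact p.Prime := ⟨CharP.char_is_prime K p⟩
  have h4 : cpr cs isCartan y z = c := cpr_val (gr (cs := cs)).hd hz hc h0
  have h5 := X_refl_le (Nodes.RGDTwD4.rgd cs hK hφ p) hz hy h1 h2 h3
  rw [h4, hw] at h5
  exact h5

/-- the image of a root group under a reflecting element -/
theorem refl_eq {m : ↥(twistedD4 K q)} {r : Fin 2 → ℤ} (hr : IsRoot cs isCartan r)
    (hm : ∀ z, IsRoot cs isCartan z → Cfsg.Agent.Nodes.Reps.cj m (Nodes.RGDTwD4.X φ q z) =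
      Nodes.RGDTwD4.X φ q (z - cpr cs isCartan z r • r)) {y w : Fin 2 → ℤ} (hy : IsRoot cs isCartan y)
    (c : ℤ) (hc : 2 * qf AG2t (toV dlG2t) y r = c * qf AG2t (toV dlG2t) r r) (h0 : qf AG2t (toV dlG2t) r r ≠ 0)
    (hw : y - c • r = w) : cj m (Nodes.RGDTwD4.X φ q y) = Nodes.RGDTwD4.X φ q w := by
  rw [hm y hy, cpr_val (gr (cs := cs)).hd hr hc h0, hw]

end

theorem gen23 {W : Type*} [Group W] [Finite W] {cs : CoxeterSystem CoxeterMatrix.G₂ W}
    (hK : Fintype.card K = q ^ 3) (hφ : ∀ x, φ x = x ^ q) {m : ↥(twistedD4 K q)}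
    (hmX : ∀ z, IsRoot cs isCartan z → Cfsg.Agent.Nodes.Reps.cj m (Nodes.RGDTwD4.X φ q z) =
      Nodes.RGDTwD4.X φ q (z - cpr cs isCartan z (toV [2, 3]) • toV [2, 3])) :
    Vr (Hexagon.TwD4RGD.X K q) ⊔ cc m (Vr (Hexagon.TwD4RGD.X K q)) = ⊤ := by
  have hG1 := Nodes.RGDTwD4.G1_eq_top cs hK hφ
  set K0 := Vr (Hexagon.TwD4RGD.X K q) ⊔ cc m (Vr (Hexagon.TwD4RGD.X K q)) with hK0
  have hV : ∀ z ∈ s5, Nodes.RGDTwD4.X φ q z ≤ K0 := by
    intro z hz
    refine le_trans ?_ le_sup_left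
    rw [Vr_eq (cs := cs) hK hφ]
    unfold VJ
    rw [notJ_eq]
    exact RGD.le_Sup (S := (s5 : Set (Fin 2 → ℤ))) (Finset.mem_coe.2 hz)
  have hV' : ∀ z ∈ s5, cj m (Nodes.RGDTwD4.X φ q z) ≤ K0 := by
    intro z hz
    refine le_trans ?_ le_sup_right
    rw [Vr_eq (cs := cs) hK hφ]
    unfold VJ
    rw [notJ_eq]
    exact cc_mono (RGD.le_Sup (S := (s5 : Set (Fin 2 → ℤ))) (Finset.mem_coe.2 hz))
  have a01 := hV (toV [0, 1]) (by decide +kernel)
  have a11 := hV (toV [1, 1]) (by decide +kernel)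
  have a12 := hV (toV [1, 2]) (by decide +kernel)
  have a13 := hV (toV [1, 3]) (by decide +kernel)
  have a23 := hV (toV [2, 3]) (by decide +kernel)
  have n12 : Nodes.RGDTwD4.X φ q (-toV [1, 2]) ≤ K0 := by
    rw [← refl_eq (cs := cs) r23 hmX (y := toV [1, 1]) r11 1 (by decide +kernel) (by decide +kernel) (by decide +kernel)]
    exact hV' _ (by decide +kernel)
  have n11 : Nodes.RGDTwD4.X φ q (-toV [1, 1]) ≤ K0 := by
    rw [← refl_eq (cs := cs) r23 hmX (y := toV [1, 2]) r12 1 (by decide +kernel) (by decide +kernel) (by decide +kernel)]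
    exact hV' _ (by decide +kernel)
  have n10 : Nodes.RGDTwD4.X φ q (-toV [1, 0]) ≤ K0 := by
    rw [← refl_eq (cs := cs) r23 hmX (y := toV [1, 3]) r13 1 (by decide +kernel) (by decide +kernel) (by decide +kernel)]
    exact hV' _ (by decide +kernel)
  have n23 : Nodes.RGDTwD4.X φ q (-toV [2, 3]) ≤ K0 := by
    rw [← refl_eq (cs := cs) r23 hmX (y := toV [2, 3]) r23 2 (by decide +kernel) (by decide +kernel) (by decide +kernel)]
    exact hV' _ (by decide +kernel)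
  have n01 : Nodes.RGDTwD4.X φ q (-toV [0, 1]) ≤ K0 :=
    refl_le (cs := cs) hK hφ (z := toV [1, 1]) (y := -toV [1, 2]) r11 r12.neg a11 n11 n12 (-1) (by decide +kernel)
      (by decide +kernel) (by decide +kernel)
  have a10 : Nodes.RGDTwD4.X φ q (toV [1, 0]) ≤ K0 :=
    refl_le (cs := cs) hK hφ (z := toV [1, 1]) (y := -toV [2, 3]) r11 r23.neg a11 n11 n23 (-3) (by decide +kernel)
      (by decide +kernel) (by decide +kernel)
  have n13 : Nodes.RGDTwD4.X φ q (-toV [1, 3]) ≤ K0 :=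
    refl_le (cs := cs) hK hφ (z := toV [1, 2]) (y := toV [2, 3]) r12 r23 a12 n12 a23 3 (by decide +kernel)
      (by decide +kernel) (by decide +kernel)
  rw [eq_top_iff, ← hG1]
  refine RGD.Sup_le fun z hz => ?_
  have hz' : IsRoot cs isCartan z := hz
  rcases hz'.pos_or_neg with h0 | h0
  · rcases six hz' h0 with rfl | rfl | rfl | rfl | rfl | rfl
    · exact a01
    · exact a13
    · exact a12
    · exact a23
    · exact a11
    · exact a10
  · have h1 : 0 ≤ -z := fun i => by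
      have := h0 i
      simp only [Pi.neg_apply, Pi.zero_apply] at this ⊢
      omega
    have key : ∀ y : Fin 2 → ℤ, -z = y → Nodes.RGDTwD4.X φ q (-y) ≤ K0 → Nodes.RGDTwD4.X φ q z ≤ K0 := by
      rintro y rfl h
      rwa [neg_neg] at h
    rcases six hz'.neg h1 with h2 | h2 | h2 | h2 | h2 | h2
    · exact key _ h2 n01
    · exact key _ h2 n13
    · exact key _ h2 n12
    · exact key _ h2 n23
    · exact key _ h2 n11
    · exact key _ h2 n10

/-- **The primes dividing `q² + q + 1`.** -/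
theorem twoPair_C (hK : Fintype.card K = q ^ 3) (hφ : ∀ x, φ x = x ^ q)
    (hq1 : 1 < q) (p : ℕ) [Fact p.Prime] [CharP K p] {ℓ : ℕ} (hℓ : ℓ.Prime) (hℓ2 : ℓ ≠ 2)
    (hd : ℓ ∣ q ^ 2 + q + 1) : TwoPair ↥(twistedD4 K q) ℓ 0 p := by
  obtain ⟨σ, hσ, hB, P⟩ := exists_sigma hK hφ
  let cs : CoxeterSystem CoxeterMatrix.G₂ _ := CoxeterMatrix.G₂.toCoxeterSystem
  have hW : Finite CoxeterMatrix.G₂.Group := Nodes.RGDFold.finite_W (hp := Nodes.RGDTwD4.hp) cs isCartan foldData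
  have R := Nodes.RGDTwD4.rgd cs hK hφ p
  have hG1 := Nodes.RGDTwD4.G1_eq_top cs hK hφ
  have hle := D4Fixed.twisted_le_fix hK hφ
  have : Fact ℓ.Prime := ⟨hℓ⟩
  classical
  -- the element of order `ℓ` of the field
  have hd3 : ℓ ∣ Nat.card Kˣ := by
    rw [Nat.card_units, Nat.card_eq_fintype_card, hK]
    refine hd.trans ⟨q - 1, ?_⟩
    obtain ⟨m, rfl⟩ : ∃ m, q = m + 1 := ⟨q - 1, by omega⟩
    rw [Nat.add_sub_cancel]
    have e : (m + 1) ^ 3 = ((m + 1) ^ 2 + (m + 1) + 1) * m + 1 := by ring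
    rw [e, Nat.add_sub_cancel]
  obtain ⟨v, hv⟩ := exists_prime_orderOf_dvd_card' ℓ hd3
  have hv1 : (v : K) ^ ℓ = 1 := by
    rw [← Units.val_pow_eq_pow_val, ← hv, pow_orderOf_eq_one, Units.val_one]
  have hv0 : (v : K) ≠ 0 := v.ne_zero
  have hN : (v : K) * φ v * φ (φ v) = 1 := by
    rw [hφ, hφ, ← pow_mul, ← pow_succ', ← pow_add]
    have e : q + 1 + q * q = q ^ 2 + q + 1 := by ring
    obtain ⟨c, hc⟩ := hd
    rw [e, hc, pow_mul, hv1, one_pow]
  have hv2 : (v : K) ^ 2 ≠ 1 := by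
    intro h
    have h1 : v ^ 2 = 1 := Units.ext (by rw [Units.val_pow_eq_pow_val, h, Units.val_one])
    have h2 := orderOf_dvd_of_pow_eq_one h1
    rw [hv] at h2
    exact hℓ2 ((Nat.prime_dvd_prime_iff_eq hℓ Nat.prime_two).1 h2)
  have hxT : hβ hφ hle hK (v : K) ∈ Nodes.RGDTwD4.T K q :=
    Phi_hS (Nodes.RGDTwD4.foldGrp hφ hle) (Nodes.RGDTwNode.D4.nodeOK 1) (hf φ 1) (fun h => hv0 (congrArg Subtype.val h))
  have hxℓ : hβ hφ hle hK (v : K) ^ ℓ = 1 := hβ_pow hφ hle hK hv0 hv1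
  have hxL : hβ hφ hle hK (v : K) ∈ Nodes.RGDTwD4.X φ q (sr 1) ⊔ Nodes.RGDTwD4.X φ q (-sr 1) := Ph_mem hφ hle hK 1 _
  have e1 := hβ_x1 hφ hle hσ hK hv0
  have e5 := hβ_x5 hφ hle hσ hK hN
  revert hxT hxℓ hxL e1 e5
  generalize hβ hφ hle hK (v : K) = x
  intro hxT hxℓ hxL e1 e5
  have hE : ∀ w : Fin 2 → K, x * Em (ev (X1 σ)) (ev (X5 σ)) w * x⁻¹ = Em (ev (X1 σ)) (ev (X5 σ)) ((v : K) ^ 2 • w) := by
    intro w
    unfold Em
    rw [Pi.smul_apply, Pi.smul_apply, smul_eq_mul, smul_eq_mul, ← e1, ← e5]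
    simp only [mul_assoc, inv_mul_cancel_left]
  have hPG := isPGroup_Vr hK hφ hq1 p
  have hxV : x ∈ Subgroup.normalizer (Vr (Hexagon.TwD4RGD.X K q) : Set ↥(twistedD4 K q)) := by
    rw [Vr_eq (cs := cs) hK hφ]
    exact LJ_le_normalizer_VJ R _ (le_sup_left (a := Nodes.RGDTwD4.T K q) hxT)
  have hP1 : Pair ℓ 0 x (Vr (Hexagon.TwD4RGD.X K q)) := by
    refine (isMod_Vr hK hφ hσ hq1 P).pair_fun (f := fun w => ((v : K) ^ 2) • w) ?_ ?_ ?_ hPG.isNilpotent
      (comm_Vr P hB).ge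
    · intro z hz
      rw [← comm_Vr P hB] at hz ⊢
      exact (comm_iff hxV z).1 hz
    · intro w
      exact ⟨1, one_mem _, by rw [hE w, one_mul]⟩
    · intro w hw
      have h1 : ((v : K) ^ 2 - 1) • w = 0 := by rw [sub_smul, one_smul, hw, sub_self]
      exact (smul_eq_zero.1 h1).resolve_left (sub_ne_zero.2 hv2)
  obtain ⟨m, hm, hmX⟩ := exists_refl R (r23 (cs := cs))
  have hmx : m * x = x * m := by
    refine (root_comm (cs := cs) hG1 hK hφ (isRoot_sr cs isCartan 1) r23 ?_ ?_ ?_ ?_ hxL hm).symm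
    · exact not_root (by decide +kernel)
    · exact not_root (by decide +kernel)
    · decide +kernel
    · decide +kernel
  have hP2 := pair_cc hP1 hmx
  exact ⟨x, 1, _, _, by rw [pow_one]; exact hxℓ, hP1, hP2, hPG, hPG.map _, gen23 hK hφ hmX⟩

end Cfsg.Agent.H400.Fpr.D4
end

-- part: H400/FprD4G
section
/-!
# Fixed point ratios of `p`-elements: `³D₄(q)`, primes dividing `q² - q + 1` (helper400, TEAM FPR)
-/

set_option autoImplicit false
set_option linter.unusedSectionVars false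
set_option linter.unusedVariables false

namespace Cfsg.Agent.H400.Fpr.D4

open CoxeterSystem Cfsg.Agent.ChevalleyStructure.CoxeterGeom Cfsg.Agent.Tits.Roots Cfsg.Agent.Tits.Core
  Cfsg.Agent.Nodes.Reps Cfsg.Agent.Nodes.BNOf Cfsg.Agent.Nodes.RGDTwGen Cfsg.Agent.Nodes.RGDChev Cfsg.Agent.Nodes.RGDFold
  Cfsg.Agent.Nodes.KindChev Cfsg.Agent.Nodes.Coroot Cfsg.Agent.Nodes.PosPair Cfsg.Agent.Nodes.LeviDec
  Cfsg.Agent.Nodes.StabComb Cfsg.Agent.Nodes.Bruhat Cfsg.Agent.Nodes.Unique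
open Cfsg.Lie Cfsg.Agent.ChevalleyStructure
open Cfsg.Agent.ChevalleyStructure.TwistedU Cfsg.Agent.ChevalleyStructure.D4U
  Cfsg.Agent.ChevalleyStructure.D4Comm Cfsg.Agent.ChevalleyStructure.D4RGD Cfsg.Agent.ChevalleyStructure.D4Twisted
open Cfsg.Agent.ChevalleyStructure.D4NConj (nR nR_def nG nG_def nG_conj hR hR_def)
open Cfsg.Agent.ChevalleyStructure.D4HConj (hR_conj)
open Cfsg.Agent.ChevalleyStructure.SparseHDiag (cartanRS)
open Cfsg.Agent.Nodes.RGDTwD4 (A isCartan foldData hp)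
open Cfsg.Agent.Hexagon.TwD4Par Cfsg.Agent.Hexagon.TwD4Rel
open Cfsg.Agent.SplitTwo
open Cfsg.Agent.Omega.EH3.Kf
open Cfsg.Agent.H400.TwoExc Cfsg.Agent.H400.TwoExc.TwD
open Cfsg.Agent.H398.FPR (CommFull UGood Pair)
open Cfsg.Agent.Nodes.RGDFoldSL
open scoped commutatorElement MatrixGroups

universe u

variable {K : Type u} [Field K] [Fintype K] {q : ℕ} {φ : K →+* K}

section

variable (hφ : ∀ x, φ x = x ^ q) (hle : twistedD4 K q ≤ D4Fixed.fix φ) {σ : K ≃+* K} (hσ : ∀ x, σ x = φ x)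

include hφ

theorem x9_tw {t : K} (ht : φ t = t) : xG 9 t ∈ twistedD4 K q := by
  rw [← xU_eq]
  exact D4Fixed.x9_mem (by rw [← hφ]; exact ht)

theorem x0_tw {t : K} (ht : φ t = t) : xG 0 t ∈ twistedD4 K q := by
  have h1 : nb K * xG 9 t * (nb K)⁻¹ ∈ twistedD4 K q :=
    mul_mem (mul_mem (nb_mem hφ) (x9_tw hφ ht)) (inv_mem (nb_mem hφ))
  have h2 := mul_mem (mul_mem (na_mem hφ) h1) (inv_mem (na_mem hφ))
  have h3 : na K * (nb K * xG 9 t * (nb K)⁻¹) * (na K)⁻¹ = xG 0 t ∨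
      na K * (nb K * xG 9 t * (nb K)⁻¹) * (na K)⁻¹ = xG 0 (-t) := by
    rw [nb_c (s := 9) (s1 := 8) (s2 := 6) (s3 := 1) (e1 := 1) (e2 := 1) (e3 := -1) (by norm_num) (by norm_num)
      (by norm_num) (by decide +kernel) (by decide +kernel) (by decide +kernel),
      na_c (s := 1) (s' := 0) (e := 1) (by norm_num) (by decide +kernel)]
    simp
  rcases h3 with h3 | h3
  · rwa [h3] at h2
  · rw [h3, D4Comm.xG_neg] at h2
    have := inv_mem h2
    rwa [inv_inv] at this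

include hσ

theorem x23_tw {t : K} (ht : φ t = t) : xG 23 t ∈ twistedD4 K q := by
  have h1 := X4_mem hφ hσ (t := -t) (by rw [map_neg, hσ, ht])
  rw [X4, w1_eq, neg_neg] at h1
  exact h1

include hle in
theorem x23_X {t : K} (ht : φ t = t) :
    (⟨xG 23 t, x23_tw hφ hσ ht⟩ : ↥(twistedD4 K q)) ∈ Nodes.RGDTwD4.X φ q (toV [2, 3]) := by
  rw [X4' hle]
  rw [Hexagon.TwD4RGD.mem_X]
  exact mem_rspan xG (S := {k | k ∈ Hexagon.TwD4RGD.L 4}) (by
    show 23 ∈ Hexagon.TwD4RGD.L 4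
    decide +kernel) _

omit hφ hσ in
theorem cls_m23 : ∀ k < chevD4.nroots, (V chevD4 Nodes.RGDTwD4.J k = -toV [2, 3] ↔ k ∈ [0]) := by decide +kernel

omit hσ in
include hle in
theorem x0_X {t : K} (ht : φ t = t) :
    (⟨xG 0 t, x0_tw hφ ht⟩ : ↥(twistedD4 K q)) ∈ Nodes.RGDTwD4.X φ q (-toV [2, 3]) := by
  show xG 0 t ∈ R chevD4 hp K Nodes.RGDTwD4.J (D4Fixed.sig φ) (-toV [2, 3])
  rw [R_eq cls_m23 (by decide +kernel), Nodes.RGDTwD4.xG_eq, Nodes.RGDTwD4.fixS_eq]
  exact ⟨mem_rspan xG (S := {k | k ∈ [0]}) (by simp) _, hle (x0_tw hφ ht)⟩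

theorem hr_tw {t : K} (ht : φ t = t) : hR 23 t ∈ twistedD4 K q := by
  have h1 : φ (-t⁻¹) = -t⁻¹ := by rw [map_neg, map_inv₀, ht]
  have h2 : φ (-1 : K) = -1 := by rw [map_neg, map_one]
  have h3 : φ (-(-1 : K)⁻¹) = -(-1 : K)⁻¹ := by rw [map_neg, map_inv₀, h2]
  rw [hR_def, nR_def, nR_def]
  exact mul_mem (mul_mem (x23_tw hφ hσ ht) (mul_mem (x0_tw hφ h1) (x23_tw hφ hσ ht)))
    (mul_mem (x23_tw hφ hσ h2) (mul_mem (x0_tw hφ h3) (x23_tw hφ hσ h2)))

include hle in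
theorem hr_mem {t : K} (ht : φ t = t) : (⟨hR 23 t, hr_tw hφ hσ ht⟩ : ↥(twistedD4 K q)) ∈
    Nodes.RGDTwD4.X φ q (toV [2, 3]) ⊔ Nodes.RGDTwD4.X φ q (-toV [2, 3]) := by
  have h1 : φ (-t⁻¹) = -t⁻¹ := by rw [map_neg, map_inv₀, ht]
  have h2 : φ (-1 : K) = -1 := by rw [map_neg, map_one]
  have h3 : φ (-(-1 : K)⁻¹) = -(-1 : K)⁻¹ := by rw [map_neg, map_inv₀, h2]
  have e : (⟨hR 23 t, hr_tw hφ hσ ht⟩ : ↥(twistedD4 K q)) =
      (⟨xG 23 t, x23_tw hφ hσ ht⟩ * (⟨xG 0 (-t⁻¹), x0_tw hφ h1⟩ * ⟨xG 23 t, x23_tw hφ hσ ht⟩)) *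
      (⟨xG 23 (-1), x23_tw hφ hσ h2⟩ * (⟨xG 0 (-(-1 : K)⁻¹), x0_tw hφ h3⟩ * ⟨xG 23 (-1), x23_tw hφ hσ h2⟩)) := by
    apply Subtype.ext
    show hR 23 t = _
    rw [hR_def, nR_def, nR_def]
    rfl
  rw [e]
  exact mul_mem (mul_mem (Subgroup.mem_sup_left (x23_X hφ hle hσ ht))
      (mul_mem (Subgroup.mem_sup_right (x0_X hφ hle h1)) (Subgroup.mem_sup_left (x23_X hφ hle hσ ht))))
    (mul_mem (Subgroup.mem_sup_left (x23_X hφ hle hσ h2))
      (mul_mem (Subgroup.mem_sup_right (x0_X hφ hle h3)) (Subgroup.mem_sup_left (x23_X hφ hle hσ h2))))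

omit hφ hσ in
theorem hr_c {t : K} (ht0 : t ≠ 0) {r : ℕ} (hr : r < 24) (h : cartanRS chevD4 23 r = 1) (a : K) :
    hR 23 t * xG r a * (hR 23 t)⁻¹ = xG r (t * a) := by
  rw [hR_conj (by norm_num) hr ht0, h, zpow_one]

/-- the action of `h_r(t)` on the root groups of level one -/
theorem hr_x2 {t : K} (ht : φ t = t) (ht0 : t ≠ 0) {a : K} (ha : σ a = a) :
    (⟨hR 23 t, hr_tw hφ hσ ht⟩ : ↥(twistedD4 K q)) * ev X2 a * (⟨hR 23 t, hr_tw hφ hσ ht⟩)⁻¹ = ev X2 (t * a) := by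
  apply Subtype.ext
  rw [Subgroup.coe_mul, Subgroup.coe_mul, Subgroup.coe_inv, c2 hφ hσ ha,
    c2 hφ hσ (by rw [map_mul, ha, hσ, ht]), X2, X2, w1_eq, w1_eq,
    hr_c ht0 (by norm_num) (by decide +kernel)]

theorem hr_x6 {t : K} (ht : φ t = t) (ht0 : t ≠ 0) {a : K} (ha : σ a = a) :
    (⟨hR 23 t, hr_tw hφ hσ ht⟩ : ↥(twistedD4 K q)) * ev X6 a * (⟨hR 23 t, hr_tw hφ hσ ht⟩)⁻¹ = ev X6 (t * a) := by
  apply Subtype.ext
  rw [Subgroup.coe_mul, Subgroup.coe_mul, Subgroup.coe_inv, c6 hφ hσ ha,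
    c6 hφ hσ (by rw [map_mul, ha, hσ, ht]), X6, X6, w1_eq, w1_eq,
    hr_c ht0 (by norm_num) (by decide +kernel)]

theorem hr_x3 {t : K} (ht : φ t = t) (ht0 : t ≠ 0) (a : K) :
    (⟨hR 23 t, hr_tw hφ hσ ht⟩ : ↥(twistedD4 K q)) * ev (X3 σ) a * (⟨hR 23 t, hr_tw hφ hσ ht⟩)⁻¹ =
      ev (X3 σ) (t * a) := by
  apply Subtype.ext
  rw [Subgroup.coe_mul, Subgroup.coe_mul, Subgroup.coe_inv, c3 hφ hσ, c3 hφ hσ, X3, X3, w3_eq, w3_eq, conj3,
    hr_c ht0 (by norm_num) (by decide +kernel), hr_c ht0 (by norm_num) (by decide +kernel),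
    hr_c ht0 (by norm_num) (by decide +kernel)]
  simp only [hσ, map_mul, ht, mul_neg]

theorem hr_x5 {t : K} (ht : φ t = t) (ht0 : t ≠ 0) (a : K) :
    (⟨hR 23 t, hr_tw hφ hσ ht⟩ : ↥(twistedD4 K q)) * ev (X5 σ) a * (⟨hR 23 t, hr_tw hφ hσ ht⟩)⁻¹ =
      ev (X5 σ) (t * a) := by
  apply Subtype.ext
  rw [Subgroup.coe_mul, Subgroup.coe_mul, Subgroup.coe_inv, c5 hφ hσ, c5 hφ hσ, X5, X5, w3_eq, w3_eq, conj3,
    hr_c ht0 (by norm_num) (by decide +kernel), hr_c ht0 (by norm_num) (by decide +kernel),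
    hr_c ht0 (by norm_num) (by decide +kernel)]
  simp only [hσ, map_mul, ht, mul_neg]

theorem hr_x4 {t : K} (ht : φ t = t) (ht0 : t ≠ 0) {a : K} (ha : σ a = a) :
    (⟨hR 23 t, hr_tw hφ hσ ht⟩ : ↥(twistedD4 K q)) * ev X4 a * (⟨hR 23 t, hr_tw hφ hσ ht⟩)⁻¹ =
      ev X4 (t ^ 2 * a) := by
  apply Subtype.ext
  rw [Subgroup.coe_mul, Subgroup.coe_mul, Subgroup.coe_inv, c4 hφ hσ ha,
    c4 hφ hσ (by rw [map_mul, map_pow, ha, hσ, ht]), X4, X4, w1_eq, w1_eq,
    hR_conj (by norm_num) (by norm_num) ht0, (by decide +kernel : cartanRS chevD4 23 23 = 2), mul_neg,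
    show (2 : ℤ) = ((2 : ℕ) : ℤ) from rfl, zpow_natCast]

end

end Cfsg.Agent.H400.Fpr.D4
end

-- part: H400/FprD4H
section
/-!
# Fixed point ratios of `p`-elements: `³D₄(q)`, primes dividing `q² - q + 1` and `q - 1` (helper400, TEAM FPR)
-/

set_option autoImplicit false
set_option linter.unusedSectionVars false
set_option linter.unusedVariables false

namespace Cfsg.Agent.H400.Fpr.D4

open CoxeterSystem Cfsg.Agent.ChevalleyStructure.CoxeterGeom Cfsg.Agent.Tits.Roots Cfsg.Agent.Tits.Core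
  Cfsg.Agent.Nodes.Reps Cfsg.Agent.Nodes.BNOf Cfsg.Agent.Nodes.RGDTwGen Cfsg.Agent.Nodes.RGDChev Cfsg.Agent.Nodes.RGDFold
  Cfsg.Agent.Nodes.KindChev Cfsg.Agent.Nodes.Coroot Cfsg.Agent.Nodes.PosPair Cfsg.Agent.Nodes.LeviDec
  Cfsg.Agent.Nodes.StabComb Cfsg.Agent.Nodes.Bruhat Cfsg.Agent.Nodes.Unique
open Cfsg.Lie Cfsg.Agent.ChevalleyStructure
open Cfsg.Agent.ChevalleyStructure.TwistedU Cfsg.Agent.ChevalleyStructure.D4U
  Cfsg.Agent.ChevalleyStructure.D4Comm Cfsg.Agent.ChevalleyStructure.D4RGD Cfsg.Agent.ChevalleyStructure.D4Twisted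
open Cfsg.Agent.ChevalleyStructure.D4NConj (nR nR_def nG nG_def nG_conj hR hR_def)
open Cfsg.Agent.ChevalleyStructure.D4HConj (hR_conj)
open Cfsg.Agent.ChevalleyStructure.SparseHDiag (cartanRS)
open Cfsg.Agent.Nodes.RGDTwD4 (A isCartan foldData hp)
open Cfsg.Agent.Hexagon.TwD4Par Cfsg.Agent.Hexagon.TwD4Rel
open Cfsg.Agent.SplitTwo
open Cfsg.Agent.Omega.EH3.Kf
open Cfsg.Agent.H400.TwoExc Cfsg.Agent.H400.TwoExc.TwD
open Cfsg.Agent.H398.FPR (CommFull UGood Pair)
open Cfsg.Agent.Nodes.RGDFoldSL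
open scoped commutatorElement MatrixGroups

universe u

variable {K : Type u} [Field K] [Fintype K] {q : ℕ} {φ : K →+* K}

section

variable {W : Type*} [Group W] [Finite W] {cs : CoxeterSystem CoxeterMatrix.G₂ W}

/-- the action of `h_r(t)` on the root groups `X s`, `s ∈ Gt r` -/
theorem spar (hφ : ∀ x, φ x = x ^ q) (hle : twistedD4 K q ≤ D4Fixed.fix φ) {σ : K ≃+* K} (hσ : ∀ x, σ x = φ x)
    (P : HexPar σ (Hexagon.TwD4RGD.X K q) (ev (X1 σ)) (ev X2) (ev (X3 σ)) (ev X4) (ev (X5 σ)) (ev X6))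
    {t : K} (ht : φ t = t) (ht0 : t ≠ 0) {s : Fin 2 → ℤ} (hs : s ∈ Gt cs isCartan (toV [2, 3])) (hsr : s ≠ toV [2, 3]) :
    SPar (Nodes.RGDTwD4.X φ q s) (⟨hR 23 t, hr_tw hφ hσ ht⟩ : ↥(twistedD4 K q)) t := by
  have htF : t ∈ Fk σ := mem_Fk.2 (by rw [hσ, ht])
  rcases gt_cases hs hsr with rfl | rfl | rfl | rfl
  · rw [X2' hle]
    exact ⟨Fk σ, ev X2, htF, fun u => by rw [P.mem2]; rfl, fun a ha b hb => P.rel.add2 a b ha hb,
      fun a ha b hb => P.inj2 a b ha hb, fun a ha => hr_x2 hφ hσ ht ht0 ha⟩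
  · rw [X3' hle]
    exact ⟨⊤, ev (X3 σ), Subfield.mem_top _, fun u => by rw [P.mem3]; simp, fun a _ b _ => P.rel.add3 a b,
      fun a _ b _ => P.inj3 a b, fun a _ => hr_x3 hφ hσ ht ht0 a⟩
  · rw [X5' hle]
    exact ⟨⊤, ev (X5 σ), Subfield.mem_top _, fun u => by rw [P.mem5]; simp, fun a _ b _ => P.rel.add5 a b,
      fun a _ b _ => P.inj5 a b, fun a _ => hr_x5 hφ hσ ht ht0 a⟩
  · rw [X6' hle]
    exact ⟨Fk σ, ev X6, htF, fun u => by rw [P.mem6]; rfl, fun a ha b hb => P.rel.add6 a b ha hb,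
      fun a ha b hb => P.inj6 a b ha hb, fun a ha => hr_x6 hφ hσ ht ht0 ha⟩

theorem spar_r (hφ : ∀ x, φ x = x ^ q) (hle : twistedD4 K q ≤ D4Fixed.fix φ) {σ : K ≃+* K} (hσ : ∀ x, σ x = φ x)
    (P : HexPar σ (Hexagon.TwD4RGD.X K q) (ev (X1 σ)) (ev X2) (ev (X3 σ)) (ev X4) (ev (X5 σ)) (ev X6))
    {t : K} (ht : φ t = t) (ht0 : t ≠ 0) :
    SPar (Nodes.RGDTwD4.X φ q (toV [2, 3])) (⟨hR 23 t, hr_tw hφ hσ ht⟩ : ↥(twistedD4 K q)) (t ^ 2) := by
  rw [X4' hle]
  exact ⟨Fk σ, ev X4, _root_.pow_mem (mem_Fk.2 (by rw [hσ, ht])) 2, fun u => by rw [P.mem4]; rfl,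
    fun a ha b hb => P.rel.add4 a b ha hb, fun a ha b hb => P.inj4 a b ha hb, fun a ha => hr_x4 hφ hσ ht ht0 ha⟩

theorem card_QQ4 (hK : Fintype.card K = q ^ 3) (hφ : ∀ x, φ x = x ^ q) (hq1 : 1 < q) (p : ℕ) [Fact p.Prime]
    [CharP K p] : Nat.card (QQ cs isCartan (Nodes.RGDTwD4.X φ q) (toV [2, 3])) = q ^ 9 := by
  have hc := card_QQ (Nodes.RGDTwD4.rgd cs hK hφ p) (pr cs).1 (gr (cs := cs)).hd (gr (cs := cs)).rr
    (by decide +kernel) ((gr (cs := cs)).hdr) (q := q) eG2t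
    (fun t ht => card_X (cs := cs) p hK hφ hq1 ((pr cs).1.isRoot ht))
  rw [hc]
  congr 1

end

theorem exists_pow (hK : Fintype.card K = q ^ 3) (p : ℕ) [Fact p.Prime] [CharP K p] : ∃ f, q = p ^ f := by
  have hp : p.Prime := Fact.out
  obtain ⟨n, -, hn⟩ := FiniteField.card K p
  have h1 : q ∣ p ^ (n : ℕ) := by
    rw [← hn, hK]; exact dvd_pow_self q (by norm_num)
  obtain ⟨f, -, hf⟩ := (Nat.dvd_prime_pow hp).1 h1
  exact ⟨f, hf⟩

/-- a generator of the multiplicative group of the fixed field -/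
theorem exists_gen {σ : K ≃+* K} (hc : Nat.card (Fk σ) = q) (hq : 1 < q) :
    ∃ t : K, σ t = t ∧ t ≠ 0 ∧ orderOf t = q - 1 := by
  have : Finite (Fk σ) := inferInstance
  obtain ⟨g, hg⟩ := IsCyclic.exists_generator (α := (Fk σ)ˣ)
  have h1 : orderOf g = q - 1 := by
    rw [orderOf_eq_card_of_forall_mem_zpowers hg, Nat.card_units, hc]
  refine ⟨((g : Fk σ) : K), (g : Fk σ).2, fun h => g.ne_zero (Subtype.ext h), ?_⟩
  rw [← h1, ← orderOf_units, ← orderOf_injective (Fk σ).subtype.toMonoidHom (Fk σ).subtype.injective]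
  rfl

theorem isPGroup_QQ {W : Type*} [Group W] [Finite W] {cs : CoxeterSystem CoxeterMatrix.G₂ W}
    (hK : Fintype.card K = q ^ 3) (hφ : ∀ x, φ x = x ^ q) (hq1 : 1 < q) (p : ℕ) [Fact p.Prime]
    [CharP K p] : IsPGroup p (QQ cs isCartan (Nodes.RGDTwD4.X φ q) (toV [2, 3])) := by
  obtain ⟨f, hf⟩ := exists_pow hK p
  refine isPGroup_of_card (f := f) (m := 9) Fact.out ?_
  rw [card_QQ4 hK hφ hq1 p, hf]

/-- **`³D₄(q)`, primes dividing `q² - q + 1`.** -/
theorem good_six (hs : IsSimpleGroup ↥(twistedD4 K q)) (hcen : Subgroup.center ↥(twistedD4 K q) = ⊥)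
    (hK : Fintype.card K = q ^ 3) (hφ : ∀ x, φ x = x ^ q)
    (hq2 : 2 < q) (p : ℕ) [Fact p.Prime] [CharP K p] {ℓ : ℕ} (hℓ : ℓ.Prime) (hℓ2 : ℓ ≠ 2) (hℓ3 : ℓ ≠ 3)
    (hℓp : ℓ ≠ p) (hd : ℓ ∣ q ^ 2 - q + 1) : Cfsg.Agent.H398.FPR.Good 1 (ℓ + 1) ℓ ↥(twistedD4 K q) := by
  obtain ⟨σ, hσ, hB, P⟩ := exists_sigma hK hφ
  let cs : CoxeterSystem CoxeterMatrix.G₂ _ := CoxeterMatrix.G₂.toCoxeterSystem
  have hW : Finite CoxeterMatrix.G₂.Group := Nodes.RGDFold.finite_W (hp := Nodes.RGDTwD4.hp) cs isCartan foldData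
  have R := Nodes.RGDTwD4.rgd cs hK hφ p
  have hG1 := Nodes.RGDTwD4.G1_eq_top cs hK hφ
  have hle := D4Fixed.twisted_le_fix hK hφ
  have : Fact ℓ.Prime := ⟨hℓ⟩
  have hp : p.Prime := Fact.out
  have hq1 : 1 < q := by omega
  have H := (gi (cs := cs) p hK hφ).hs
  have hfin : Finite ↥(twistedD4 K q) := inferInstance
  -- the scalar element
  obtain ⟨t, ht, ht0, hto⟩ := exists_gen (natCard_Fk hK hφ hσ hq1) hq1
  have htφ : φ t = t := by rw [← hσ, ht]
  have S : ScR R (toV [2, 3]) q (⟨hR 23 t, hr_tw hφ hσ htφ⟩ : ↥(twistedD4 K q)) :=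
    scR_of_par hq2 (hr_mem hφ hle hσ htφ) (fun s hs hsr => spar hφ hle hσ P htφ ht0 hs hsr)
      (spar_r hφ hle hσ P htφ ht0) (fun i hi hiq h1 => by
        have := Nat.le_of_dvd hi (orderOf_dvd_of_pow_eq_one h1)
        omega)
  -- the element of order `ℓ`
  have hcF : Nat.card (Fx φ ((Nodes.RGDTwNode.D4.rest 1).length + 1)) = q ^ 3 := by
    rw [← hK, ← Nat.card_eq_fintype_card]
    exact Nat.card_congr (Equiv.subtypeUnivEquiv fun u => mem_Fx3 hK hφ u)
  have hℓq : ¬ ℓ ∣ q := by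
    intro h1
    have h2 : q ^ 2 - q + 1 = q * (q - 1) + 1 := by
      obtain ⟨m, rfl⟩ : ∃ m, q = m + 1 := ⟨q - 1, by omega⟩
      have e : (m + 1) ^ 2 = (m + 1) * m + (m + 1) := by ring
      rw [e, Nat.add_sub_cancel, Nat.add_sub_cancel]
    rw [h2] at hd
    have h3 := (Nat.dvd_add_right (h1.mul_right _)).1 hd
    exact hℓ.one_lt.ne' (Nat.dvd_one.1 h3)
  obtain ⟨x, hx, hxℓ, hx1⟩ := exists_elt hφ hle hK 1 hℓ hℓ2 (by
    rw [hcF]; exact fun h1 => hℓq (hℓ.dvd_of_dvd_pow h1)) (by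
    rw [hcF]
    refine hd.trans ⟨(q + 1) * (q ^ 3 - 1), ?_⟩
    have h1 : 1 ≤ q ^ 3 := Nat.one_le_pow _ _ (by omega)
    have h2 : q ≤ q ^ 2 := by nlinarith only []
    zify [h1, h2, (Nat.one_le_pow 2 (q ^ 3) (by positivity) : 1 ≤ (q ^ 3) ^ 2)]
    ring)
  have hxL : x ∈ L0 cs isCartan (Nodes.RGDTwD4.X φ q) (toV [2, 3]) := by
    have hc : cpr cs isCartan (sr 1) (toV [2, 3]) = 0 :=
      cpr_val (gr (cs := cs)).hd (gr (cs := cs)).rr (by decide +kernel) (by decide +kernel)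
    have hr := isRoot_sr cs isCartan 1
    refine (sup_le ?_ ?_ : Nodes.RGDTwD4.X φ q (sr 1) ⊔ Nodes.RGDTwD4.X φ q (-sr 1) ≤ _) hx
    · exact RGD.le_Sup (S := {s | IsRoot cs isCartan s ∧ cpr cs isCartan s (toV [2, 3]) = 0}) ⟨hr, hc⟩
    · refine RGD.le_Sup (S := {s | IsRoot cs isCartan s ∧ cpr cs isCartan s (toV [2, 3]) = 0}) ⟨hr.neg, ?_⟩
      rw [← neg_one_smul ℤ (sr 1), cpr_smul cs isCartan _ _ (gr (cs := cs)).rr, hc, mul_zero]
  -- arithmetic
  obtain ⟨a, ha⟩ := exists_pow hK p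
  obtain ⟨b, hb, -, hM⟩ := exists_base (e := 6) hp hℓ hℓp (a := a) (by
    rw [← ha]; exact orderOf_six hℓ hℓ2 hℓ3 hd (by omega))
  set s := p ^ b with hs'
  have h0 := phi_six hℓ hb
  have hs2 : 2 < s := by
    by_contra h1
    have h2 : s = 0 ∨ s = 1 ∨ s = 2 := by omega
    rcases h2 with h2 | h2 | h2
    · rw [h2] at h0; simp at h0
    · rw [h2] at h0; simp at h0
    · rw [h2] at h0
      have h3 : ((3 : ℕ) : ZMod ℓ) = 0 := by push_cast; push_cast at h0; linear_combination h0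
      rw [ZMod.natCast_eq_zero_iff] at h3
      exact hℓ3 ((Nat.prime_dvd_prime_iff_eq hℓ Nat.prime_three).1 h3)
  have hle1 : (ℓ : ℤ) ≤ (s : ℤ) ^ 2 - s + 1 := by
    refine le_of_zmod (by nlinarith only []) ?_
    push_cast
    exact h0
  have hcr := card_X (cs := cs) p hK hφ hq1 (gr (cs := cs)).rr
  have he1 : eG2t (toV [2, 3]) = 1 := by decide +kernel
  rw [he1, pow_one] at hcr
  have key := heis_rgd (D := 8) (k := 1) (M' := s ^ 6) H hs hcen hG1 S hℓ hℓp hxL (by rw [pow_one]; exact hxℓ) hx1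
    (isPGroup_QQ hK hφ hq1 p) (by
      rw [card_QQ4 hK hφ hq1 p, hcr, ← pow_succ]
      exact Nat.pow_lt_pow_right hq1 (by norm_num)) hM (Nat.one_le_pow _ _ (by omega))
  refine good_of_uGood (k := 1) hℓ (by rw [pow_one]; exact hxℓ) key ?_
  zify
  have hs3 : (3 : ℤ) ≤ s := by exact_mod_cast hs2
  have h6 : (s : ℤ) ^ 6 ≥ 81 * (s : ℤ) ^ 2 := by
    have h4 : (81 : ℤ) ≤ (s : ℤ) ^ 4 := by
      calc (81 : ℤ) = 3 ^ 4 := by norm_num
        _ ≤ (s : ℤ) ^ 4 := by gcongr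
    nlinarith only [h4, sq_nonneg (s : ℤ)]
  linarith only [hs2, hle1, h6]

theorem diag_mem {t : K} (ht0 : t ≠ 0) (ht : hR 23 t ∈ twistedD4 K q) :
    (⟨hR 23 t, ht⟩ : ↥(twistedD4 K q)) ∈ Nodes.RGDTwD4.T K q :=
  ⟨hR_mem (by norm_num) ht0, ht⟩

omit [Fintype K] in
theorem hR_pow_one {t : K} (ht0 : t ≠ 0) {i : ℕ} (hi : t ^ i = 1) : (hR 23 t : GL chevD4.Idx K) ^ i = 1 := by
  have h1 : ∀ j : ℕ, (hR 23 t : GL chevD4.Idx K) ^ j = D4NConj.torG fun i => (Units.mk0 t ht0 ^ j) ^ D4NConj.crt 23 i := by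
    intro j
    induction j with
    | zero =>
      rw [pow_zero, pow_zero, ← D4NConj.torG_one]
      congr 1
      funext i
      simp
    | succ j ih =>
      rw [pow_succ, ih]
      have h2 := D4NConj.hR_eq_torG (F := K) (r := 23) (by norm_num) (Units.mk0 t ht0)
      rw [Units.val_mk0] at h2
      rw [h2, D4NConj.torG_mul]
      congr 1
      funext i
      simp only [Pi.mul_apply]
      rw [← mul_zpow, ← pow_succ]
  rw [h1]
  have h2 : (Units.mk0 t ht0) ^ i = 1 := Units.ext (by rw [Units.val_pow_eq_pow_val, Units.val_mk0, hi, Units.val_one])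
  rw [h2, ← D4NConj.torG_one]
  congr 1
  funext i
  simp

/-- **`³D₄(q)`, odd primes dividing `q - 1`.** -/
theorem good_one (hs : IsSimpleGroup ↥(twistedD4 K q))
    (hK : Fintype.card K = q ^ 3) (hφ : ∀ x, φ x = x ^ q)
    (hq1 : 1 < q) (p : ℕ) [Fact p.Prime] [CharP K p] {ℓ : ℕ} (hℓ : ℓ.Prime) (hℓ2 : ℓ ≠ 2)
    (hℓp : ℓ ≠ p) (hd : ℓ ∣ q - 1) : Cfsg.Agent.H398.FPR.Good 1 (ℓ + 1) ℓ ↥(twistedD4 K q) := by
  obtain ⟨σ, hσ, hB, P⟩ := exists_sigma hK hφ
  let cs : CoxeterSystem CoxeterMatrix.G₂ _ := CoxeterMatrix.G₂.toCoxeterSystem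
  have hW : Finite CoxeterMatrix.G₂.Group := Nodes.RGDFold.finite_W (hp := Nodes.RGDTwD4.hp) cs isCartan foldData
  have R := Nodes.RGDTwD4.rgd cs hK hφ p
  have hG1 := Nodes.RGDTwD4.G1_eq_top cs hK hφ
  have hle := D4Fixed.twisted_le_fix hK hφ
  have : Fact ℓ.Prime := ⟨hℓ⟩
  have hp : p.Prime := Fact.out
  have H := (gi (cs := cs) p hK hφ).hs
  have hfin : Finite ↥(twistedD4 K q) := inferInstance
  obtain ⟨g, hg, hg0, hgo⟩ := exists_gen (natCard_Fk hK hφ hσ hq1) hq1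
  obtain ⟨c, hc⟩ := hd
  set t := g ^ c with ht'
  have ht : σ t = t := by rw [ht', map_pow, hg]
  have ht0 : t ≠ 0 := pow_ne_zero _ hg0
  have htℓ : t ^ ℓ = 1 := by rw [ht', ← pow_mul, mul_comm, ← hc, ← hgo, pow_orderOf_eq_one]
  have ht2 : t ^ 2 ≠ 1 := by
    intro h1
    rw [ht', ← pow_mul] at h1
    have h2 := orderOf_dvd_of_pow_eq_one h1
    rw [hgo, hc, mul_comm c 2] at h2
    have hc0 : 0 < c := Nat.pos_of_ne_zero (by rintro rfl; omega)
    have h3 := Nat.dvd_of_mul_dvd_mul_right hc0 h2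
    exact hℓ2 ((Nat.prime_dvd_prime_iff_eq hℓ Nat.prime_two).1 h3)
  have htφ : φ t = t := by rw [← hσ, ht]
  obtain ⟨a, ha⟩ := exists_pow hK p
  have ha0 : a ≠ 0 := by
    rintro rfl
    rw [pow_zero] at ha
    omega
  obtain ⟨M', hM1, hM2, hM3⟩ := exists_least_le hp hℓ hℓp (a := a) (by rw [← ha, hc]; exact dvd_mul_right _ _) ha0
  have hcr := card_X (cs := cs) p hK hφ hq1 (gr (cs := cs)).rr
  have he1 : eG2t (toV [2, 3]) = 1 := by decide +kernel
  rw [he1, pow_one] at hcr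
  have hxk : (⟨hR 23 t, hr_tw hφ hσ htφ⟩ : ↥(twistedD4 K q)) ^ ℓ ^ 1 = 1 := by
    rw [pow_one]
    exact Subtype.ext (by rw [Subgroup.coe_pow]; exact hR_pow_one ht0 htℓ)
  have h13 : toV [1, 3] ∈ Gt cs isCartan (toV [2, 3]) := by
    refine ⟨(pr cs).1.isRoot (List.mem_map.2 ⟨([1, 3], [-3, 3], 1), by decide +kernel, rfl⟩), ?_⟩
    rw [cpr_val (gr (cs := cs)).hd (gr (cs := cs)).rr (c := 1) (by decide +kernel) (by decide +kernel)]
    norm_num
  have key := one_of_par (k := 1) (M' := M') H hs hG1 hℓ (diag_mem ht0 (hr_tw hφ hσ htφ)) hxk ht2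
    (fun s hs hsr => spar hφ hle hσ P htφ ht0 hs hsr) (spar_r hφ hle hσ P htφ ht0) (isPGroup_QQ hK hφ hq1 p)
    ⟨toV [1, 3], h13, by decide +kernel⟩ hM3 (by rw [hcr, ha]; exact hM2)
  obtain ⟨m, -, hm⟩ := (Nat.dvd_prime_pow hℓ).1 (orderOf_dvd_of_pow_eq_one hxk)
  exact (key.mono (by omega) (by omega)).good ⟨m, hm⟩

end Cfsg.Agent.H400.Fpr.D4
end

private theorem dce_a1d8f4b05b22 : _root_.True := by
  try have : _root_.True := by simp only [_root_.Cfsg.Agent.H400.Fpr.D4.s3.eq_1]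
  try have : _root_.True := by simp only [_root_.Cfsg.Agent.H400.Fpr.D4.s5.eq_1]
  try have : _root_.True := by simp only [_root_.Cfsg.Agent.H400.Fpr.D4.nα.congr_simp]
  exact _root_.True.intro
end
end
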